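import Groth.Agent.H14AlgSt.PointLift

/-!
A point of an algebraic space with values in a field lifts along an etale map from a scheme: the sheaf of finite
opens of an affine piece of an atlas is a scheme, and a closed point of the fibre gives a point of it.
-/

set_option linter.unusedVariables false
set_option backward.isDefEq.respectTransparency false
set_option backward.isDefEq.respectTransparency.types false

universe u

open CategoryTheory CategoryTheory.Limits AlgebraicGeometry Opposite TopologicalSpace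
open AlgSp Groth.Agent.H13AlgSp Groth.Agent.H7Weight Groth.Agent.H12AlgSp

namespace Groth.Agent.H14AlgSt

variable {S : Scheme.{u}}

/-- One family of affine schemes, etale over an algebraic space, lifts all its points with values in fields. -/
theorem exists_etale_family_fieldPoints {X : Sp S} (hX : IsAlgSpace X) :
    ∃ (ι : Type u) (A : ι → Over S) (m : ∀ i, (yon S).obj (A i) ⟶ X),
      (∀ i, IsAffine (A i).left) ∧ (∀ i, RepWith @Etale (m i)) ∧
        ∀ {k : Type u} [Field k] (b : Spec (CommRingCat.of k) ⟶ S) (x : (yon S).obj (Over.mk b) ⟶ X),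
          ∃ (i : ι) (a : Over.mk b ⟶ A i), (yon S).map a ≫ m i = x := by
  classical
  obtain ⟨U₀, p₀, he, hs⟩ := hX.atlas
  have hW : ∀ W : U₀.left.affineOpens, IsAffine (openOver U₀ W.1).left := fun W => W.2
  let p : ∀ W : U₀.left.affineOpens, (yon S).obj (openOver U₀ W.1) ⟶ X :=
    fun W => (yon S).map (openIncl U₀ W.1) ≫ p₀
  have hpe : ∀ W, RepWith @Etale (p W) := fun W =>
    repWith_comp ((repWith_yon_map_iff _ _).2 (inferInstanceAs (Etale W.1.ι))) he
  have hp : ∀ W, RepWith Hilb.goodMor (p W) := fun W =>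
    have : IsAffine (openOver U₀ W.1).left := hW W
    have : IsSeparated (openOver U₀ W.1).hom := inferInstance
    repWith_goodMor_of_etale (hpe W)
  choose Q μ hμ using fun W => Hilb.exists_scheme_H (hp W) fun s _ =>
    ⟨⊤, (have : IsAffine (openOver U₀ W.1).left := hW W; isAffineOpen_top _), fun _ _ => trivial⟩
  refine ⟨Σ W : U₀.left.affineOpens, (Q W).left.affineOpens, fun i => openOver (Q i.1) i.2.1,
    fun i => (yon S).map (openIncl (Q i.1) i.2.1) ≫ μ i.1 ≫ Hilb.toBase (hp i.1).1, fun i => i.2.2,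
    fun i => repWith_comp ((repWith_yon_map_iff _ _).2 (inferInstanceAs (Etale i.2.1.ι)))
      (have := hμ i.1; repWith_comp (repWith_of_isIso (μ i.1)) (Hilb.repWith_etale_toBase (hp i.1))), ?_⟩
  intro k _ b x
  let K : Over S := Over.mk b
  obtain ⟨Y₀, b₀, a₀', sq₀⟩ := Hilb.exists_square he.1 x
  have hsur : Surjective b₀.left := hs.property _ _ _ sq₀
  obtain ⟨y₀, -⟩ := hsur.surj (default : Spec (CommRingCat.of k))
  obtain ⟨W₁, hW₁, hyW, -⟩ := exists_isAffineOpen_mem_and_subset (U := (⊤ : U₀.left.Opens))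
    (x := a₀'.left y₀) (Set.mem_univ _)
  let W : U₀.left.affineOpens := ⟨W₁, hW₁⟩
  let U : Over S := openOver U₀ W.1
  let j : U ⟶ U₀ := openIncl U₀ W.1
  obtain ⟨Y, a, c, sq⟩ := Hilb.exists_square (hp W).1 x
  have hae : Etale a.left := (hpe W).property _ _ _ sq
  -- the fibre over the field point is nonempty
  let W₀ : Y₀.left.Opens := a₀'.left ⁻¹ᵁ W.1
  let P : Over S := openOver Y₀ W₀
  let q : P ⟶ U := Over.homMk (a₀'.left ∣_ W.1) (by
    change (a₀'.left ∣_ W.1) ≫ W.1.ι ≫ U₀.hom = W₀.ι ≫ Y₀.hom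
    rw [morphismRestrict_ι_assoc, Over.w a₀'])
  have hq : q ≫ j = openIncl Y₀ W₀ ≫ a₀' := Over.OverMorphism.ext (morphismRestrict_ι _ _)
  obtain ⟨l, -, -⟩ := sq.exists_lift ((yon S).map q) ((yon S).map (openIncl Y₀ W₀ ≫ b₀)) (by
    rw [show (yon S).map q ≫ p W = ((yon S).map q ≫ (yon S).map j) ≫ p₀ from (Category.assoc _ _ _).symm,
      ← Functor.map_comp, hq, Functor.map_comp, Functor.map_comp, Category.assoc, Category.assoc, sq₀.w])
  obtain ⟨l', -⟩ := (yon S).map_surjective l
  let y : Y.left := l'.left ⟨y₀, hyW⟩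
  -- a point of the fibre is a finite open
  have hqf : LocallyQuasiFinite a.left := lqf_of_etale a.left
  have hsub : Subsingleton K.left := inferInstanceAs (Subsingleton (PrimeSpectrum k))
  have hdisc : DiscreteTopology Y.left := by
    have h := a.left.isDiscrete_preimage_singleton (a.left y)
    rw [show a.left ⁻¹' {a.left y} = Set.univ from Set.eq_univ_of_forall fun z => Subsingleton.elim _ _] at h
    exact isDiscrete_univ_iff.1 h
  let O : Y.left.Opens := ⟨{y}, isOpen_discrete _⟩
  have hO : IsFinOpen a.left O := by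
    have : Subsingleton (O : Scheme.{u}) := ⟨fun u v => Subtype.ext (u.2.trans v.2.symm)⟩
    have : CompactSpace (O : Scheme.{u}) := Finite.compactSpace
    have : QuasiCompact (O.ι ≫ a.left) := by
      rw [quasiCompact_iff_compactSpace]
      infer_instance
    have : LocallyQuasiFinite (O.ι ≫ a.left) := inferInstance
    have : IsLocallyArtinian K.left := inferInstanceAs (IsLocallyArtinian (Spec (CommRingCat.of k)))
    exact ⟨IsFinite.of_locallyQuasiFinite _, ⟨fun t => ⟨⟨y, rfl⟩, Subsingleton.elim _ _⟩⟩⟩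
  let z : Hilb.Pt (p W) K := Hilb.Pt.mkOpen sq hO
  have := hμ W
  obtain ⟨ā, hā⟩ := (yon S).map_surjective ((Hilb.point (hp W).1).symm z ≫ inv (μ W))
  obtain ⟨O₁, hO₁, hO₁m, -⟩ := exists_isAffineOpen_mem_and_subset (U := (⊤ : (Q W).left.Opens))
    (x := ā.left (IsLocalRing.closedPoint k)) (Set.mem_univ _)
  have hr : Set.range ā.left ⊆ Set.range O₁.ι := by
    rw [Scheme.Opens.range_ι]
    rintro _ ⟨w, rfl⟩
    rw [show w = IsLocalRing.closedPoint k from Subsingleton.elim _ _]
    exact hO₁m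
  let a₁ : K ⟶ openOver (Q W) O₁ := Over.homMk (IsOpenImmersion.lift O₁.ι ā.left hr) (by
    change IsOpenImmersion.lift O₁.ι ā.left hr ≫ O₁.ι ≫ (Q W).hom = b
    rw [IsOpenImmersion.lift_fac_assoc]
    exact Over.w ā)
  have ha₁ : a₁ ≫ openIncl (Q W) O₁ = ā := Over.OverMorphism.ext (IsOpenImmersion.lift_fac _ _ _)
  refine ⟨⟨W, ⟨O₁, hO₁⟩⟩, a₁, ?_⟩
  change (yon S).map a₁ ≫ (yon S).map (openIncl (Q W) O₁) ≫ μ W ≫ Hilb.toBase (hp W).1 = x
  rw [← Category.assoc, ← Functor.map_comp, ha₁, hā, Category.assoc, IsIso.inv_hom_id_assoc,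
    Hilb.comp_toBase, Equiv.apply_symm_apply]
  rfl

end Groth.Agent.H14AlgSt
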