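import Groth.Agent.H14AlgSt.Basic
import Mathlib.CategoryTheory.Limits.FunctorCategory.Basic
import Mathlib.CategoryTheory.Limits.Types.Pullbacks

/-!
# Fibre products of categories of presheaves
-/

set_option autoImplicit false
set_option backward.isDefEq.respectTransparency false
set_option backward.isDefEq.respectTransparency.types false

universe w v u

open CategoryTheory Opposite CategoryTheory.Limits

namespace Groth.Agent.H14AlgSt

open H14Fib H14Stk

variable {C : Type u} [Category.{v} C] {W F G H : Cᵒᵖ ⥤ Type w}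
  {fst : W ⟶ F} {snd : W ⟶ G} {a : F ⟶ H} {b : G ⟶ H}

/-- The 2-isomorphism of a commutative square of presheaves. -/
def pshSquareIso (w : fst ≫ a = snd ≫ b) :
    BasedFunctor.comp (Stk.ofPshMap fst) (Stk.ofPshMap a) ≅
      BasedFunctor.comp (Stk.ofPshMap snd) (Stk.ofPshMap b) :=
  eqToIso (congrArg Stk.ofPshMap w)

/-- The comparison with the fibre product over the base. -/
def pshComparison (w : fst ≫ a = snd ≫ b) :
    Stk.ofPsh W ⥤ᵇ FibCat.fp (Stk.ofPshMap a) (Stk.ofPshMap b) :=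
  FibCat.fpLift (Stk.ofPshMap fst) (Stk.ofPshMap snd) (pshSquareIso w)

lemma pshComparison_fst (w : fst ≫ a = snd ≫ b) :
    BasedFunctor.comp (pshComparison w) (FibCat.fpFst _ _) = Stk.ofPshMap fst := rfl

lemma pshComparison_snd (w : fst ≫ a = snd ≫ b) :
    BasedFunctor.comp (pshComparison w) (FibCat.fpSnd _ _) = Stk.ofPshMap snd := rfl

lemma isPullback_app (sq : IsPullback fst snd a b) (U : C) :
    IsPullback (fst.app (op U)) (snd.app (op U)) (a.app (op U)) (b.app (op U)) :=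
  sq.map ((evaluation Cᵒᵖ (Type w)).obj (op U))

/-- The category of a fibre product of presheaves is the fibre product of their categories. -/
lemma pshComparison_isEquivOver (sq : IsPullback fst snd a b) :
    FibCat.IsEquivOver (pshComparison sq.w) := by
  refine (isEquivOver_iff _).2 ⟨⟨⟨fun {x y} m => ?_⟩, ⟨fun {x y} m n h => ?_⟩⟩, fun z => ?_⟩
  · let g : x.base ⟶ y.base := m.hom.fst.hom
    let g' : (⟨x.base, snd.app _ x.sec⟩ : Stk.EltObj G) ⟶ ⟨y.base, snd.app _ y.sec⟩ := m.hom.snd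
    have hlift : (Stk.ofPsh G).p.IsHomLift g g' := FibCat.fp_isHomLift_snd _ _ m
    have hs : g = g'.hom :=
      @IsHomLift.eq_of_isHomLift _ _ _ _ (Stk.ofPsh G).p
        (⟨x.base, snd.app _ x.sec⟩ : Stk.EltObj G) (⟨y.base, snd.app _ y.sec⟩ : Stk.EltObj G) g g' hlift
    have h1 : F.map g.op (fst.app _ y.sec) = fst.app _ x.sec := m.hom.fst.map_sec
    have h2 : G.map g'.hom.op (snd.app _ y.sec) = snd.app _ x.sec := g'.map_sec
    rw [← hs] at h2
    have hsec : W.map g.op y.sec = x.sec :=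
      Types.ext_of_isPullback (isPullback_app sq x.base)
        ((NatTrans.naturality_apply fst g.op y.sec).trans h1)
        ((NatTrans.naturality_apply snd g.op y.sec).trans h2)
    exact ⟨⟨g, hsec⟩, fp_hom_ext (Stk.EltObj.hom_ext rfl) (Stk.EltObj.hom_ext hs)⟩
  · exact Stk.EltObj.hom_ext (congrArg (fun t => t.hom.fst.hom) h)
  · obtain ⟨⟨⟨U, x⟩, y, i⟩, hi⟩ := z
    have hy : U = y.base :=
      (@IsHomLift.codomain_eq _ _ _ _ (Stk.ofPsh H).p _ _ _ _ (𝟙 U) i.hom hi).symm
    have hi' : i.hom.hom = eqToHom hy := by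
      have := @IsHomLift.fac' _ _ _ _ (Stk.ofPsh H).p _ _ _ _ (𝟙 U) i.hom hi
      refine this.trans ?_
      simp
    have hw : a.app (op U) x = b.app (op U) (G.map (eqToHom hy).op y.sec) := by
      rw [NatTrans.naturality_apply, ← hi']
      exact i.hom.map_sec.symm
    obtain ⟨t, h1, h2⟩ := Types.exists_of_isPullback (isPullback_app sq U) _ _ hw
    have hp : F.map (eqToHom (rfl : U = U)).op x = fst.app (op U) t := by simp [h1]
    let e₁ : (⟨U, fst.app (op U) t⟩ : Stk.EltObj F) ≅ ⟨U, x⟩ := eltIso rfl hp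
    let e₂ : (⟨U, snd.app (op U) t⟩ : Stk.EltObj G) ≅ y := eltIso hy h2.symm
    have h₁ : (Stk.ofPsh F).p.IsHomLift (𝟙 U) e₁.hom := homLift_eltIso (P := F) (x := ⟨U, fst.app (op U) t⟩) (y := ⟨U, x⟩) rfl hp rfl
    refine ⟨⟨U, t⟩, fpIsoMk e₁ e₂ ?_, (fp_isHomLift_iff _ _).2 h₁⟩
    apply Stk.EltObj.hom_ext
    have hsq := app_hom_eq (pshSquareIso sq.w).hom (⟨U, t⟩ : Stk.EltObj W)
    change e₁.hom.hom ≫ i.hom.hom = (app (pshSquareIso sq.w).hom ⟨U, t⟩).hom ≫ e₂.hom.hom
    rw [hsq, hi', eltIso_hom_hom, eltIso_hom_hom, eqToHom_trans]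

end Groth.Agent.H14AlgSt
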