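import Groth.Prelude.Def_AlgSpRep
import Groth.Agent.H14AlgSt.Fp

/-!
# Representability by algebraic spaces: invariance, base change, maps of presheaves
-/

set_option autoImplicit false
set_option backward.isDefEq.respectTransparency false
set_option backward.isDefEq.respectTransparency.types false

universe u

open CategoryTheory Opposite AlgebraicGeometry CategoryTheory.Limits

namespace Groth.Agent.H14AlgSt

open H14Fib H14Stk

variable {S : Scheme.{u}} {𝒳 𝒴 𝒵 𝒳' 𝒴' : AlgSt.Cat S} {P : MorphismProperty (AlgSp.Sp S)}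
  {U : Over S}

lemma repByAlgSp1_of_with {f : 𝒳 ⥤ᵇ 𝒴} (h : AlgSt.RepByAlgSpWith P f) : AlgSt.RepByAlgSp1 f :=
  fun U y => RepData.rep P (h U y)

lemma with_top_of_repByAlgSp1 {f : 𝒳 ⥤ᵇ 𝒴} (h : AlgSt.RepByAlgSp1 f) :
    AlgSt.RepByAlgSpWith ⊤ f := fun U y => by
  obtain ⟨F, e, he⟩ := h U y
  exact ⟨F, e, he, trivial⟩

lemma repByAlgSp1_iff_top {f : 𝒳 ⥤ᵇ 𝒴} :
    AlgSt.RepByAlgSp1 f ↔ AlgSt.RepByAlgSpWith ⊤ f :=
  ⟨with_top_of_repByAlgSp1, repByAlgSp1_of_with⟩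

lemma repWith_mono {P' : MorphismProperty (AlgSp.Sp S)}
    (hP : ∀ {F G : AlgSp.Sp S} (a : F ⟶ G), AlgSp.IsAlgSpace F → AlgSp.IsAlgSpace G → P a → P' a)
    {f : 𝒳 ⥤ᵇ 𝒴} (h : AlgSt.RepByAlgSpWith P f) : AlgSt.RepByAlgSpWith P' f :=
  fun U y => RepData.mono P (h U y) hP

/-- The condition at one test functor only depends on it up to isomorphism. -/
lemma repData_congr {f : 𝒳 ⥤ᵇ 𝒴} {y y' : FibCat.overCat U ⥤ᵇ 𝒴} (i : y ≅ y')
    (h : RepData P (FibCat.fpFst y f)) : RepData P (FibCat.fpFst y' f) :=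
  RepData.of_equiv P
    (E := fpMap (BasedFunctor.id (FibCat.overCat U)) (BasedFunctor.id 𝒳) (BasedFunctor.id 𝒴) i
      (Iso.refl (BasedFunctor.comp f (BasedFunctor.id 𝒴))))
    (fpMap_isEquivOver _ _ _ _ _ (essSurjOver_id _) (essSurjOver_id _)) (Iso.refl _) h

lemma repWith_fpFst {f : 𝒳 ⥤ᵇ 𝒴} (g : 𝒵 ⥤ᵇ 𝒴) (h : AlgSt.RepByAlgSpWith P f) :
    AlgSt.RepByAlgSpWith P (FibCat.fpFst g f) := fun U y =>
  RepData.of_equiv' P (pasteBase_isEquivOver g f y) (Iso.refl _) (h U (BasedFunctor.comp y g))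

lemma repWith_square {f : 𝒳 ⥤ᵇ 𝒴} {f' : 𝒳' ⥤ᵇ 𝒴'} {a : 𝒳' ⥤ᵇ 𝒳} {b : 𝒴' ⥤ᵇ 𝒴}
    (ha : FibCat.IsEquivOver a) (hb : FibCat.IsEquivOver b)
    (e : BasedFunctor.comp f' b ≅ BasedFunctor.comp a f) :
    AlgSt.RepByAlgSpWith P f ↔ AlgSt.RepByAlgSpWith P f' := by
  obtain ⟨⟨_, _⟩, ha'⟩ := (isEquivOver_iff a).1 ha
  obtain ⟨⟨_, _⟩, -⟩ := (isEquivOver_iff b).1 hb
  have key : ∀ {U : Over S} (G : FibCat.overCat U ⥤ᵇ 𝒴'),
      RepData P (FibCat.fpFst (BasedFunctor.comp G b) f) ↔ RepData P (FibCat.fpFst G f') := by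
    intro U G
    let E : FibCat.fp G f' ⥤ᵇ FibCat.fp (BasedFunctor.comp G b) f :=
      fpMap (BasedFunctor.id _) a b (Iso.refl _) e
    have hE : FibCat.IsEquivOver E := fpMap_isEquivOver _ _ _ _ _ (essSurjOver_id _) ha'
    exact ⟨RepData.of_equiv' P hE (Iso.refl _), RepData.of_equiv P hE (Iso.refl _)⟩
  constructor
  · exact fun h U G => (key G).1 (h U _)
  · intro h U G
    obtain ⟨b', -, ⟨j⟩⟩ := hb
    exact repData_congr ((Stk.restr G _).mapIso j) ((key (BasedFunctor.comp G b')).2 (h U _))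

lemma rep1_square {f : 𝒳 ⥤ᵇ 𝒴} {f' : 𝒳' ⥤ᵇ 𝒴'} {a : 𝒳' ⥤ᵇ 𝒳} {b : 𝒴' ⥤ᵇ 𝒴}
    (ha : FibCat.IsEquivOver a) (hb : FibCat.IsEquivOver b)
    (e : BasedFunctor.comp f' b ≅ BasedFunctor.comp a f) :
    AlgSt.RepByAlgSp1 f ↔ AlgSt.RepByAlgSp1 f' := by
  rw [repByAlgSp1_iff_top, repByAlgSp1_iff_top]
  exact repWith_square ha hb e

section Psh

variable {W F G : AlgSp.PSp S}

lemma repByAlgSp_ofPsh_iff : AlgSt.RepByAlgSp (Stk.ofPsh F) ↔ AlgSp.IsAlgSpaceP F := by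
  constructor
  · rintro ⟨X, e, he⟩
    have := isIso_of_isEquivOver _ (isEquivOver_of_iso (isoOfPshMap e) he)
    exact ((AlgSp.isAlgSpaceP_obj_iff X.obj).2 X.property).of_iso (asIso (mapOfFun e))
  · rintro ⟨h, hA⟩
    exact repByAlgSp_ofSp (⟨⟨F, h⟩, hA⟩ : AlgSp.Space S)

/-- The test map of presheaves of a test functor. -/
def testMap (y : FibCat.overCat U ⥤ᵇ Stk.ofPsh G) : (AlgSp.pyon S).obj U ⟶ G :=
  mapOfFun (BasedFunctor.comp (AlgSt.toOverCat U) y)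

lemma testMap_ofOverCat (ξ : (AlgSp.pyon S).obj U ⟶ G) :
    testMap (BasedFunctor.comp (AlgSt.ofOverCat U) (Stk.ofPshMap ξ)) = ξ :=
  ofPshMap_injective (isoOfPshMap _).symm

/-- The fibre product of a scheme with the category of a presheaf over that of another. -/
lemma exists_comparison (a : F ⟶ G) (y : FibCat.overCat U ⥤ᵇ Stk.ofPsh G)
    {p : W ⟶ (AlgSp.pyon S).obj U} {q : W ⟶ F} (sq : IsPullback p q (testMap y) a) :
    ∃ E : Stk.ofPsh W ⥤ᵇ FibCat.fp y (Stk.ofPshMap a), FibCat.IsEquivOver E ∧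
      Nonempty (BasedFunctor.comp E (FibCat.fpFst y (Stk.ofPshMap a)) ≅
        BasedFunctor.comp (Stk.ofPshMap p) (AlgSt.toOverCat U)) := by
  obtain ⟨⟨_, _⟩, hs⟩ := (isEquivOver_iff _).1 (toOverCat_isEquivOver U)
  have : (BasedFunctor.id (Stk.ofPsh F)).toFunctor.Full := inferInstanceAs (𝟭 (Stk.EltObj F)).Full
  have : (BasedFunctor.id (Stk.ofPsh F)).toFunctor.Faithful :=
    inferInstanceAs (𝟭 (Stk.EltObj F)).Faithful
  have : (BasedFunctor.id (Stk.ofPsh G)).toFunctor.Full := inferInstanceAs (𝟭 (Stk.EltObj G)).Full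
  have : (BasedFunctor.id (Stk.ofPsh G)).toFunctor.Faithful :=
    inferInstanceAs (𝟭 (Stk.EltObj G)).Faithful
  let i : BasedFunctor.comp (Stk.ofPshMap (testMap y)) (BasedFunctor.id (Stk.ofPsh G)) ≅
      BasedFunctor.comp (AlgSt.toOverCat U) y :=
    (isoOfPshMap (BasedFunctor.comp (AlgSt.toOverCat U) y)).symm
  let M : FibCat.fp (Stk.ofPshMap (testMap y)) (Stk.ofPshMap a) ⥤ᵇ FibCat.fp y (Stk.ofPshMap a) :=
    fpMap (F := y) (G := Stk.ofPshMap a) (AlgSt.toOverCat U) (BasedFunctor.id (Stk.ofPsh F))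
      (BasedFunctor.id (Stk.ofPsh G)) i
      (Iso.refl (BasedFunctor.comp (Stk.ofPshMap a) (BasedFunctor.id (Stk.ofPsh G))))
  have hM : FibCat.IsEquivOver M := fpMap_isEquivOver _ _ _ _ _ hs (essSurjOver_id _)
  exact ⟨BasedFunctor.comp (pshComparison sq.w) M,
    isEquivOver_comp (pshComparison_isEquivOver sq) hM, ⟨Iso.refl _⟩⟩

lemma exists_iso_of_repData {Q : MorphismProperty (AlgSp.Sp S)}
    {p : W ⟶ (AlgSp.pyon S).obj U}
    (hd : RepData Q (BasedFunctor.comp (Stk.ofPshMap p) (AlgSt.toOverCat U))) :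
    ∃ h : Presheaf.IsSheaf (AlgSp.J S) W, AlgSp.IsAlgSpace (⟨W, h⟩ : AlgSp.Sp S) ∧
      ∃ (X : AlgSp.Space S) (m : X.obj ⟶ ⟨W, h⟩), IsIso m ∧
        Q (m ≫ (ObjectProperty.homMk p : (⟨W, h⟩ : AlgSp.Sp S) ⟶ (AlgSp.yon S).obj U)) := by
  obtain ⟨X, e, he, hp⟩ := hd
  have := isIso_of_isEquivOver _ (isEquivOver_of_iso (isoOfPshMap e) he)
  obtain ⟨h, hA⟩ := ((AlgSp.isAlgSpaceP_obj_iff X.obj).2 X.property).of_iso (asIso (mapOfFun e))
  let m : X.obj ⟶ ⟨W, h⟩ := ObjectProperty.homMk (mapOfFun e)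
  have : IsIso ((sheafToPresheaf (AlgSp.J S) (Type (u + 1))).map m) :=
    inferInstanceAs (IsIso (mapOfFun e))
  refine ⟨h, hA, X, m, isIso_of_reflects_iso m (sheafToPresheaf (AlgSp.J S) (Type (u + 1))), ?_⟩
  let π : (⟨W, h⟩ : AlgSp.Sp S) ⟶ (AlgSp.yon S).obj U := ObjectProperty.homMk p
  let T := BasedFunctor.comp (Stk.ofPshMap p) (AlgSt.toOverCat U)
  have k : BasedFunctor.comp e T ≅ BasedFunctor.comp (AlgSt.ofSpMap m)
      (BasedFunctor.comp (AlgSt.ofSpMap π) (AlgSt.toOverCat U)) :=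
    (post (AlgSt.ofSp X.obj) T).mapIso (isoOfPshMap e)
  have hm : AlgSt.spMapOfOver (BasedFunctor.comp e T) = m ≫ π :=
    (spMapOfOver_congr k).trans (by
      rw [spMapOfOver_comp, spMapOfOver_comp, spMapOfOver_toOverCat, Category.comp_id])
  have hp : Q (AlgSt.spMapOfOver (BasedFunctor.comp e T)) := hp
  rw [hm] at hp
  exact hp

lemma repData_ofPsh_iff (Q : MorphismProperty (AlgSp.Sp S)) [Q.RespectsIso]
    (p : W ⟶ (AlgSp.pyon S).obj U) :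
    RepData Q (BasedFunctor.comp (Stk.ofPshMap p) (AlgSt.toOverCat U)) ↔
      ∃ h : Presheaf.IsSheaf (AlgSp.J S) W, AlgSp.IsAlgSpace (⟨W, h⟩ : AlgSp.Sp S) ∧
        Q (ObjectProperty.homMk p : (⟨W, h⟩ : AlgSp.Sp S) ⟶ (AlgSp.yon S).obj U) := by
  constructor
  · intro hd
    obtain ⟨h, hA, X, m, hm, hp⟩ := exists_iso_of_repData hd
    exact ⟨h, hA, (MorphismProperty.cancel_left_of_respectsIso Q m _).1 hp⟩
  · rintro ⟨h, hA, hp⟩
    refine ⟨⟨⟨W, h⟩, hA⟩, BasedFunctor.id _, isEquivOver_id _, ?_⟩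
    convert hp using 1
    exact (spMapOfOver_comp (ObjectProperty.homMk p : (⟨W, h⟩ : AlgSp.Sp S) ⟶ (AlgSp.yon S).obj U)
      (AlgSt.toOverCat U)).trans (by rw [spMapOfOver_toOverCat, Category.comp_id])

lemma repBySp_iff (a : F ⟶ G) :
    AlgSp.RepBySp a ↔ AlgSt.RepByAlgSp1 (Stk.ofPshMap a) := by
  constructor
  · intro h U y
    have sq := IsPullback.of_hasPullback (testMap y) a
    obtain ⟨E, hE, -⟩ := exists_comparison a y sq
    exact repByAlgSp_of_equiv hE (repByAlgSp_ofPsh_iff.2 (h _ _ _ sq.flip))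
  · intro h U ξ F' fst snd sq
    obtain ⟨E, hE, -⟩ := exists_comparison a (BasedFunctor.comp (AlgSt.ofOverCat U) (Stk.ofPshMap ξ))
      (p := snd) (q := fst) (by rw [testMap_ofOverCat]; exact sq.flip)
    exact repByAlgSp_ofPsh_iff.1 (repByAlgSp_of_equiv' hE (h U _))

lemma repBySpWith_iff (Q : MorphismProperty (AlgSp.Sp S)) [Q.RespectsIso] (a : F ⟶ G) :
    AlgSp.RepBySpWith Q a ↔ AlgSt.RepByAlgSpWith Q (Stk.ofPshMap a) := by
  constructor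
  · intro h U y
    have sq := IsPullback.of_hasPullback (testMap y) a
    obtain ⟨E, hE, ⟨i⟩⟩ := exists_comparison a y sq
    exact RepData.of_equiv Q hE i ((repData_ofPsh_iff Q _).2 (h _ _ _ sq.flip))
  · intro h U ξ F' fst snd sq
    obtain ⟨E, hE, ⟨i⟩⟩ := exists_comparison a
      (BasedFunctor.comp (AlgSt.ofOverCat U) (Stk.ofPshMap ξ))
      (p := snd) (q := fst) (by rw [testMap_ofOverCat]; exact sq.flip)
    exact (repData_ofPsh_iff Q snd).1 (RepData.of_equiv' Q hE i (h U _))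

end Psh

end Groth.Agent.H14AlgSt
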