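import Groth.Prelude.Def_AlgSt3
import Groth.Agent.H14AlgSt.Rep
import Groth.Agent.H14Fib.FiberFun
import Groth.Agent.H14Fib.Yoneda

/-!
# Representable by algebraic spaces implies faithful; monomorphisms are fully faithful
-/

set_option autoImplicit false
set_option backward.isDefEq.respectTransparency false
set_option backward.isDefEq.respectTransparency.types false

universe u

open CategoryTheory Opposite AlgebraicGeometry CategoryTheory.Limits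

namespace Groth.Agent.H14AlgSt

open H14Fib H14Stk

variable {S : Scheme.{u}} {𝒳 𝒴 : AlgSt.Cat S}

lemma vertFaithful_of_fibSetoid (h𝒴 : FibCat.IsFibGrpd 𝒴.p) (f : 𝒳 ⥤ᵇ 𝒴)
    (hf : ∀ (U : Over S) (y : FibCat.overCat U ⥤ᵇ 𝒴), FibCat.IsFibSetoid (FibCat.fp y f).p) :
    VertFaithful f := by
  intro U a b φ ψ hφ hψ h
  have := isFibered_of_fibGrpd h𝒴
  have hb : 𝒳.p.obj b = U := IsHomLift.codomain_eq 𝒳.p (𝟙 U) φ
  have ha : 𝒳.p.obj a = U := IsHomLift.domain_eq 𝒳.p (𝟙 U) φ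
  obtain ⟨y, e, -, he⟩ := exists_fromOver (x := f.obj b) ((f.w_obj b).trans hb)
  have hfφ : 𝒴.p.IsHomLift (𝟙 U) (f.map φ) := BasedFunctor.preserves_isHomLift f (𝟙 U) φ
  have := isIso_of_fibGrpd h𝒴 (𝟙 U) (f.map φ)
  have hinv : 𝒴.p.IsHomLift (𝟙 U) (asIso (f.map φ)).inv :=
    @IsHomLift.lift_id_inv _ _ _ _ 𝒴.p U _ _ (asIso (f.map φ)) hfφ
  let zb : (FibCat.fp y f).obj := fpObj (topObj U) b e rfl he
  let za : (FibCat.fp y f).obj := fpObj (topObj U) a (e ≪≫ (asIso (f.map φ)).symm) rfl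
    (homLift_id_comp he hinv)
  let m : za ⟶ zb := fpHom (𝟙 _) φ (by
    change y.map (𝟙 _) ≫ e.hom = (e.hom ≫ inv (f.map φ)) ≫ f.map φ
    simp)
  let n : za ⟶ zb := fpHom (𝟙 _) ψ (by
    change y.map (𝟙 _) ≫ e.hom = (e.hom ≫ inv (f.map φ)) ≫ f.map ψ
    rw [← h]
    simp)
  have hm : (FibCat.fp y f).p.IsHomLift (𝟙 U) m := (fp_isHomLift_iff _ _).2 (IsHomLift.id rfl)
  have hn : (FibCat.fp y f).p.IsHomLift (𝟙 U) n := (fp_isHomLift_iff _ _).2 (IsHomLift.id rfl)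
  have := faithful_of_fibSetoid (hf U y)
  exact congrArg (fun t => t.hom.snd) (homLift_unique (p := (FibCat.fp y f).p) (𝟙 U) m n)

lemma faithful_of_repByAlgSp1 (h𝒳 : FibCat.IsFibGrpd 𝒳.p) (h𝒴 : FibCat.IsFibGrpd 𝒴.p)
    {f : 𝒳 ⥤ᵇ 𝒴} (hf : AlgSt.RepByAlgSp1 f) : f.toFunctor.Faithful :=
  have := isFibered_of_fibGrpd h𝒳
  faithful_of_vertFaithful (MapSC.of_fibGrpd f h𝒴)
    (vertFaithful_of_fibSetoid h𝒴 f fun U y => isFibSetoid_of_rep (hf U y))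

lemma app_injective_of_mono {F G : AlgSp.Sp S} (a : F ⟶ G) [Mono a] (T : Over S) :
    Function.Injective (a.hom.app (op T)) := by
  have : Mono a.hom := inferInstanceAs (Mono ((sheafToPresheaf _ _).map a))
  have : Mono (a.hom.app (op T)) := inferInstance
  exact (mono_iff_injective _).1 this

/-- For a monomorphism, objects with vertically isomorphic images are vertically isomorphic. -/
lemma exists_iso_of_monoData {𝒲 : AlgSt.Cat S} {U T : Over S}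
    {q : 𝒲 ⥤ᵇ FibCat.overCat U}
    (h : RepData (MorphismProperty.monomorphisms (AlgSp.Sp S)) q) {z z' : 𝒲.obj}
    (hz : 𝒲.p.obj z = T) (hz' : 𝒲.p.obj z' = T) (i : q.obj z ≅ q.obj z')
    (hi : (FibCat.overCat U).p.IsHomLift (𝟙 T) i.hom) :
    ∃ k : z ≅ z', 𝒲.p.IsHomLift (𝟙 T) k.hom := by
  obtain ⟨F, e, he, hmono⟩ := h
  have : Mono (AlgSt.spMapOfOver (BasedFunctor.comp e q)) := hmono
  obtain ⟨x, d, hd⟩ := essSurjOver_of_isEquivOver he z
  obtain ⟨x', d', hd'⟩ := essSurjOver_of_isEquivOver he z'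
  have hx : x.base = T := (EssSurjOver.obj_eq d.hom).trans hz
  have hx' : x'.base = T := (EssSurjOver.obj_eq d'.hom).trans hz'
  rw [hz] at hd
  rw [hz'] at hd'
  have hd'i : 𝒲.p.IsHomLift (𝟙 T) d'.inv := @IsHomLift.lift_id_inv _ _ _ _ 𝒲.p T _ _ d' hd'
  let j : q.obj (e.obj x) ≅ q.obj (e.obj x') :=
    q.toFunctor.mapIso d ≪≫ i ≪≫ (q.toFunctor.mapIso d').symm
  have hj : (FibCat.overCat U).p.IsHomLift (𝟙 T) j.hom :=
    homLift_id_comp (BasedFunctor.preserves_isHomLift q _ d.hom)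
      (homLift_id_comp hi (BasedFunctor.preserves_isHomLift q _ d'.inv))
  let Φ := BasedFunctor.comp e q
  have hbase : x.base = x'.base := hx.trans hx'.symm
  let x'' : (AlgSt.ofSp F.obj).obj := ⟨x.base, F.obj.obj.map (eqToHom hbase).op x'.sec⟩
  have hsec : AlgSt.secHom Φ x = eqToHom hbase ≫ AlgSt.secHom Φ x' := by
    have h1 : j.hom.left ≫ (Φ.obj x').hom = (Φ.obj x).hom := Over.w j.hom
    have h2 := IsHomLift.fac' (FibCat.overCat U).p (𝟙 T) j.hom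
    change j.hom.left = _ at h2
    rw [h2] at h1
    simp only [AlgSt.secHom, ← h1]
    simp
  have h2 : AlgSt.secHom Φ x'' = eqToHom hbase ≫ AlgSt.secHom Φ x' :=
    (AlgSt.secHom_comp Φ (⟨eqToHom hbase, rfl⟩ : x'' ⟶ x')).symm
  have hs : x.sec = F.obj.obj.map (eqToHom hbase).op x'.sec :=
    app_injective_of_mono (AlgSt.spMapOfOver Φ) x.base (ULift.ext _ _ (hsec.trans h2.symm))
  let k₀ : x ≅ x' := eltIso hbase hs.symm
  have hk₀ : (AlgSt.ofSp F.obj).p.IsHomLift (𝟙 T) k₀.hom := homLift_eltIso hbase hs.symm hx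
  exact ⟨d.symm ≪≫ e.toFunctor.mapIso k₀ ≪≫ d',
    homLift_id_comp (@IsHomLift.lift_id_inv _ _ _ _ 𝒲.p T _ _ d hd)
      (homLift_id_comp (BasedFunctor.preserves_isHomLift e _ k₀.hom) hd')⟩

lemma full_of_isMono (h𝒳 : FibCat.IsFibGrpd 𝒳.p) (h𝒴 : FibCat.IsFibGrpd 𝒴.p)
    {f : 𝒳 ⥤ᵇ 𝒴} (hf : AlgSt.RepByAlgSpWith (MorphismProperty.monomorphisms (AlgSp.Sp S)) f) :
    f.toFunctor.Full := by
  have := isFibered_of_fibGrpd h𝒳
  refine full_of_vertFull (MapSC.of_fibGrpd f h𝒴) fun U a b ha hb ψ hψ => ?_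
  have := isFibered_of_fibGrpd h𝒴
  obtain ⟨y, e, -, he⟩ := exists_fromOver (x := f.obj b) ((f.w_obj b).trans hb)
  have := isIso_of_fibGrpd h𝒴 (𝟙 U) ψ
  have hinv : 𝒴.p.IsHomLift (𝟙 U) (asIso ψ).inv :=
    @IsHomLift.lift_id_inv _ _ _ _ 𝒴.p U _ _ (asIso ψ) hψ
  let zb : (FibCat.fp y f).obj := fpObj (topObj U) b e rfl he
  let za : (FibCat.fp y f).obj := fpObj (topObj U) a (e ≪≫ (asIso ψ).symm) rfl
    (homLift_id_comp he hinv)
  obtain ⟨k, hk⟩ := exists_iso_of_monoData (hf U y) (z := za) (z' := zb) rfl rfl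
    (Iso.refl (topObj U)) (IsHomLift.id rfl)
  refine ⟨k.hom.hom.snd, @fp_isHomLift_snd' _ _ _ _ _ y f _ _ za zb (𝟙 U) k.hom hk, ?_⟩
  have hk1 : k.hom.hom.fst = 𝟙 (topObj U) := by
    apply Over.OverMorphism.ext
    exact @IsHomLift.eq_of_isHomLift _ _ _ _ (FibCat.overCat U).p (topObj U) (topObj U) (𝟙 U)
      k.hom.hom.fst (@fp_isHomLift_fst _ _ _ _ _ y f _ _ za zb (𝟙 U) k.hom hk) |>.symm
  have hw : y.map k.hom.hom.fst ≫ e.hom = (e.hom ≫ inv ψ) ≫ f.map k.hom.hom.snd := k.hom.hom.w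
  erw [hk1, y.toFunctor.map_id, Category.id_comp] at hw
  rw [← cancel_epi (e.hom ≫ inv ψ), ← hw]
  simp

end Groth.Agent.H14AlgSt
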