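import Groth.Prelude.Def_AlgSt3
import Groth.Agent.H14AlgSt.Rep
import Groth.Agent.H14Stk.Basic
import Groth.Agent.H14Stk.Gerbe

/-!
# Algebraic stacks: invariance under equivalence over the base
-/

set_option autoImplicit false
set_option backward.isDefEq.respectTransparency false
set_option backward.isDefEq.respectTransparency.types false

universe u

open CategoryTheory AlgebraicGeometry

namespace Groth.Agent.H14AlgSt

open H14Fib H14Stk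

variable {S : Scheme.{u}} {𝒳 𝒴 𝒵 : AlgSt.Cat S} {P : MorphismProperty (AlgSp.Sp S)}

lemma repWith_of_iso {f g : 𝒳 ⥤ᵇ 𝒴} (i : f ≅ g) (h : AlgSt.RepByAlgSpWith P f) :
    AlgSt.RepByAlgSpWith P g :=
  (repWith_square (f := f) (f' := g) (isEquivOver_id 𝒳) (isEquivOver_id 𝒴) i.symm).1 h

lemma rep1_of_iso {f g : 𝒳 ⥤ᵇ 𝒴} (i : f ≅ g) (h : AlgSt.RepByAlgSp1 f) :
    AlgSt.RepByAlgSp1 g :=
  repByAlgSp1_iff_top.2 (repWith_of_iso i (repByAlgSp1_iff_top.1 h))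

lemma repWith_comp_equiv_iff {f : 𝒳 ⥤ᵇ 𝒴} {e : 𝒴 ⥤ᵇ 𝒵} (he : FibCat.IsEquivOver e) :
    AlgSt.RepByAlgSpWith P (BasedFunctor.comp f e) ↔ AlgSt.RepByAlgSpWith P f :=
  repWith_square (f := BasedFunctor.comp f e) (f' := f) (isEquivOver_id 𝒳) he (Iso.refl _)

lemma repWith_equiv_comp_iff {e : 𝒳 ⥤ᵇ 𝒴} {f : 𝒴 ⥤ᵇ 𝒵} (he : FibCat.IsEquivOver e) :
    AlgSt.RepByAlgSpWith P f ↔ AlgSt.RepByAlgSpWith P (BasedFunctor.comp e f) :=
  repWith_square (f := f) (f' := BasedFunctor.comp e f) he (isEquivOver_id 𝒵) (Iso.refl _)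

/-- The map of fibre products over the base induced by an equivalence. -/
lemma diag_transfer {e : 𝒳 ⥤ᵇ 𝒴} (he : FibCat.IsEquivOver e) :
    AlgSt.RepByAlgSpWith P (FibCat.diag (FibCat.toSelf 𝒴)) ↔
      AlgSt.RepByAlgSpWith P (FibCat.diag (FibCat.toSelf 𝒳)) := by
  obtain ⟨⟨_, _⟩, hs⟩ := (isEquivOver_iff e).1 he
  have : (BasedFunctor.id (FibCat.selfOver (Over S))).toFunctor.Full :=
    inferInstanceAs (𝟭 (Over S)).Full
  have : (BasedFunctor.id (FibCat.selfOver (Over S))).toFunctor.Faithful :=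
    inferInstanceAs (𝟭 (Over S)).Faithful
  let i : BasedFunctor.comp (FibCat.toSelf 𝒳) (BasedFunctor.id (FibCat.selfOver (Over S))) ≅
      BasedFunctor.comp e (FibCat.toSelf 𝒴) := eqToIso (comp_toSelf e).symm
  let b := fpMap e e (BasedFunctor.id (FibCat.selfOver (Over S))) i i
  have hb : FibCat.IsEquivOver b := fpMap_isEquivOver _ _ _ _ _ hs hs
  refine repWith_square he hb (mkIso (fun x => fpIsoMk (Iso.refl _) (Iso.refl _) ?_) ?_ ?_)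
  · change 𝒴.p.map (𝟙 (e.obj x)) ≫ 𝟙 (𝒴.p.obj (e.obj x)) =
      ((appIso i x).inv ≫ 𝟙 _ ≫ (appIso i x).hom) ≫ 𝒴.p.map (𝟙 (e.obj x))
    have h : (appIso i x).inv ≫ (appIso i x).hom = 𝟙 _ := (appIso i x).inv_hom_id
    erw [𝒴.p.map_id, Category.comp_id, Category.id_comp, h]
    rfl
  · intro a b f
    exact fp_hom_ext ((Category.comp_id _).trans (Category.id_comp _).symm)
      ((Category.comp_id _).trans (Category.id_comp _).symm)
  · exact fun a => (fp_isHomLift_iff _ _).2 (IsHomLift.id (e.w_obj a))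

lemma hasAtlas_iff {e : 𝒳 ⥤ᵇ 𝒴} (he : FibCat.IsEquivOver e) :
    AlgSt.HasAtlas P 𝒳 ↔ AlgSt.HasAtlas P 𝒴 := by
  constructor
  · rintro ⟨U, x, h1, h2⟩
    exact ⟨U, BasedFunctor.comp x e, (repWith_comp_equiv_iff he).2 h1,
      (repWith_comp_equiv_iff he).2 h2⟩
  · rintro ⟨U, y, h1, h2⟩
    obtain ⟨e', ⟨j⟩, ⟨j'⟩⟩ := he
    have he' : FibCat.IsEquivOver e' := ⟨e, ⟨j'⟩, ⟨j⟩⟩
    exact ⟨U, BasedFunctor.comp y e', (repWith_comp_equiv_iff he').2 h1,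
      (repWith_comp_equiv_iff he').2 h2⟩

lemma isAlgStack_iff (K : Precoverage Scheme.{u}) {e : 𝒳 ⥤ᵇ 𝒴} (he : FibCat.IsEquivOver e) :
    AlgSt.IsAlgStack K 𝒳 ↔ AlgSt.IsAlgStack K 𝒴 :=
  ⟨fun h => ⟨(isStack_iff (F := e) _ he).1 h.isStack,
      repByAlgSp1_iff_top.2 ((diag_transfer he).2 (repByAlgSp1_iff_top.1 h.diag)),
      (hasAtlas_iff he).1 h.atlas⟩,
    fun h => ⟨(isStack_iff (F := e) _ he).2 h.isStack,
      repByAlgSp1_iff_top.2 ((diag_transfer he).1 (repByAlgSp1_iff_top.1 h.diag)),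
      (hasAtlas_iff he).2 h.atlas⟩⟩

lemma isDM_iff (K : Precoverage Scheme.{u}) {e : 𝒳 ⥤ᵇ 𝒴} (he : FibCat.IsEquivOver e) :
    AlgSt.IsDM K 𝒳 ↔ AlgSt.IsDM K 𝒴 :=
  and_congr (isAlgStack_iff K he) (hasAtlas_iff he)

end Groth.Agent.H14AlgSt
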