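import Groth.Agent.H12AlgSp.Basic
import Groth.Agent.H14AlgSt.Faithful
import Groth.Agent.H14AlgSt.Invariance
import Groth.Agent.H14Stk.SliceStack
import Groth.Agent.H14Stk.SetoidPsh

/-!
# Bootstrap: representable by algebraic spaces over a space is a space
-/

set_option autoImplicit false
set_option backward.isDefEq.respectTransparency false
set_option backward.isDefEq.respectTransparency.types false

universe u

open CategoryTheory Opposite AlgebraicGeometry CategoryTheory.Limits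

namespace Groth.Agent.H14AlgSt

open H14Fib H14Stk

variable {S : Scheme.{u}} {𝒳 𝒴 𝒵 : AlgSt.Cat S}

lemma isStack_ofPsh {P : AlgSp.PSp S} :
    Stk.IsStack (AlgSp.J S) (Stk.ofPsh P) ↔ Presheaf.IsSheaf (AlgSp.J S) P :=
  (isStack_ofPsh_iff (P := P) (AlgSp.J S)).trans (isSheaf_iff_isSheaf_of_type _ _).symm

lemma isStack_of_repByAlgSp (h : AlgSt.RepByAlgSp 𝒳) : Stk.IsStack (AlgSp.J S) 𝒳 := by
  obtain ⟨F, e, he⟩ := h
  exact (isStack_iff (F := e) _ he).1 (isStack_ofPsh.2 F.obj.property)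

lemma isPrestack_overCat (U : Over S) : Stk.IsPrestack (AlgSp.J S) (FibCat.overCat U) :=
  isPrestack_of_isStack (isStack_of_repByAlgSp (repByAlgSp_overCat U))

/-- A category representable by algebraic spaces over a stack is a stack. -/
lemma isStack_of_rep1 (h𝒳 : FibCat.IsFibGrpd 𝒳.p) (h𝒴 : Stk.IsStack (AlgSp.J S) 𝒴)
    {f : 𝒳 ⥤ᵇ 𝒴} (hf : AlgSt.RepByAlgSp1 f) : Stk.IsStack (AlgSp.J S) 𝒳 :=
  have := faithful_of_repByAlgSp1 h𝒳 h𝒴.1 hf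
  isStack_of_slices h𝒳 h𝒴 f isPrestack_overCat fun U y => isStack_of_repByAlgSp (hf U y)

lemma isSheaf_of_repBySp {P G : AlgSp.PSp S} {a : P ⟶ G} (ha : AlgSp.RepBySp a)
    (hG : Presheaf.IsSheaf (AlgSp.J S) G) : Presheaf.IsSheaf (AlgSp.J S) P :=
  isStack_ofPsh.1 (isStack_of_rep1 (inferInstanceAs (FibCat.IsFibGrpd (Stk.EltObj.forget P)))
    (isStack_ofPsh.2 hG) ((repBySp_iff a).1 ha))

/-- A sheaf with a map to an algebraic space that is representable by algebraic spaces is one. -/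
lemma isAlgSpace_of_repBySp {P F : AlgSp.Sp S} (a : P ⟶ F) (h : AlgSp.RepBySp a.hom)
    (hF : AlgSp.IsAlgSpace F) : AlgSp.IsAlgSpace P := by
  rw [AlgSp.repBySp_hom_iff] at h
  refine ⟨Functor.relativelyRepresentable.diag_of_map_from_obj fun T x => ?_, ?_⟩
  · let sq := IsPullback.of_hasPullback a (x ≫ a)
    rw [← pullback.lift_fst (f := a) (g := x ≫ a) x (𝟙 _) (by simp)]
    exact MorphismProperty.comp_mem _ _ _ ((h (x ≫ a) _ _ sq).representable_from_yon _)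
      (H12AlgSp.representable_of_isPullback sq.flip (hF.representable_from_yon _))
  · obtain ⟨U, p, hpe, hps⟩ := hF.atlas
    have sq := IsPullback.of_hasPullback a p
    obtain ⟨W, w, hwe, hws⟩ := (h p _ _ sq).atlas
    exact ⟨W, w ≫ pullback.fst a p,
      H12AlgSp.repWith_comp hwe (H12AlgSp.repWith_of_isPullback sq.flip hpe),
      H12AlgSp.repWith_comp hws (H12AlgSp.repWith_of_isPullback sq.flip hps)⟩

lemma isAlgSpaceP_of_repBySp {P G : AlgSp.PSp S} {a : P ⟶ G} (ha : AlgSp.RepBySp a)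
    (hG : AlgSp.IsAlgSpaceP G) : AlgSp.IsAlgSpaceP P := by
  obtain ⟨hG, hA⟩ := hG
  have hP := isSheaf_of_repBySp ha hG
  exact ⟨hP, isAlgSpace_of_repBySp
    (ObjectProperty.homMk a : (⟨P, hP⟩ : AlgSp.Sp S) ⟶ ⟨G, hG⟩) ha hA⟩

lemma fp_fibSetoid (h𝒳 : FibCat.IsFibGrpd 𝒳.p) (h𝒵 : FibCat.IsFibSetoid 𝒵.p)
    (h𝒴 : FibCat.IsFibGrpd 𝒴.p) (g : 𝒵 ⥤ᵇ 𝒴) (f : 𝒳 ⥤ᵇ 𝒴) [f.toFunctor.Faithful] :
    FibCat.IsFibSetoid (FibCat.fp g f).p := by
  refine fibSetoid_iff_faithful.2 ⟨fp_fibGrpd h𝒵.1 h𝒳 h𝒴, ⟨fun {x y} m n h => ?_⟩⟩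
  have := faithful_of_fibSetoid h𝒵
  have h1 : m.hom.fst = n.hom.fst := 𝒵.p.map_injective h
  refine fp_hom_ext h1 (f.toFunctor.map_injective ?_)
  have hm : g.map m.hom.fst ≫ y.obj.iso.hom = x.obj.iso.hom ≫ f.map m.hom.snd := m.hom.w
  have hn : g.map n.hom.fst ≫ y.obj.iso.hom = x.obj.iso.hom ≫ f.map n.hom.snd := n.hom.w
  rw [← cancel_epi x.obj.iso.hom, ← hm, ← hn, h1]

/-- The base change of a functor representable by algebraic spaces to a space is a space. -/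
lemma repByAlgSp_fp (h𝒳 : FibCat.IsFibGrpd 𝒳.p) (h𝒴 : FibCat.IsFibGrpd 𝒴.p)
    {f : 𝒳 ⥤ᵇ 𝒴} (hf : AlgSt.RepByAlgSp1 f) (g : 𝒵 ⥤ᵇ 𝒴) (hZ : AlgSt.RepByAlgSp 𝒵) :
    AlgSt.RepByAlgSp (FibCat.fp g f) := by
  have := faithful_of_repByAlgSp1 h𝒳 h𝒴 hf
  obtain ⟨F, e, he⟩ := hZ
  let g' := BasedFunctor.comp e g
  obtain ⟨E, hE⟩ := fp_equiv_left (F := g) (G := f) he
  refine repByAlgSp_of_equiv hE ?_
  have hs : FibCat.IsFibSetoid (FibCat.fp g' f).p :=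
    fp_fibSetoid h𝒳 (isFibSetoid_of_rep (repByAlgSp_ofSp F)) h𝒴 g' f
  let c := classFun hs.1
  have hc : FibCat.IsEquivOver c := classFun_isEquivOver hs.1 hs
  refine repByAlgSp_of_equiv' hc ?_
  obtain ⟨c', ⟨j⟩, ⟨j'⟩⟩ := hc
  have hc' : FibCat.IsEquivOver c' := ⟨c, ⟨j'⟩, ⟨j⟩⟩
  let π := BasedFunctor.comp c' (FibCat.fpFst g' f)
  have h1 : AlgSt.RepByAlgSpWith ⊤ (FibCat.fpFst g' f) :=
    repWith_fpFst g' (with_top_of_repByAlgSp1 hf)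
  have h2 : AlgSt.RepByAlgSpWith ⊤ (Stk.ofPshMap (mapOfFun π)) :=
    repWith_of_iso (isoOfPshMap π) ((repWith_equiv_comp_iff hc').1 h1)
  exact repByAlgSp_ofPsh_iff.2 (isAlgSpaceP_of_repBySp
    ((repBySp_iff _).2 (repByAlgSp1_of_with h2)) ⟨F.obj.property, F.property⟩)

lemma rep1_comp {f : 𝒳 ⥤ᵇ 𝒴} {g : 𝒴 ⥤ᵇ 𝒵} (h𝒳 : FibCat.IsFibGrpd 𝒳.p)
    (h𝒴 : FibCat.IsFibGrpd 𝒴.p) (hf : AlgSt.RepByAlgSp1 f) (hg : AlgSt.RepByAlgSp1 g) :
    AlgSt.RepByAlgSp1 (BasedFunctor.comp f g) := fun U y =>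
  repByAlgSp_of_equiv (pasteComp_isEquivOver y g f)
    (repByAlgSp_fp h𝒳 h𝒴 hf (FibCat.fpSnd y g) (hg U y))

end Groth.Agent.H14AlgSt
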