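import Groth.Agent.H12AlgSp.Basic
import Mathlib.AlgebraicGeometry.Morphisms.Smooth
import Mathlib.RingTheory.Smooth.Basic

/-!
# Affine schemes over the integers, base changed to `S`
-/

set_option autoImplicit false
set_option linter.unusedVariables false
set_option backward.isDefEq.respectTransparency false
set_option backward.isDefEq.respectTransparency.types false

universe u

open CategoryTheory AlgebraicGeometry CategoryTheory.Limits Opposite

noncomputable section

namespace Groth.Agent.H14AlgSt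

variable {S : Scheme.{u}}

/-- The ring homomorphism of a morphism to an affine scheme. -/
def specPt {X : Scheme.{u}} {R : CommRingCat.{u}} (a : X ⟶ Spec R) : R ⟶ Γ(X, ⊤) :=
  (Scheme.ΓSpecIso R).inv ≫ a.appTop

/-- The morphism to an affine scheme of a ring homomorphism. -/
def ofSpecPt {X : Scheme.{u}} {R : CommRingCat.{u}} (φ : R ⟶ Γ(X, ⊤)) : X ⟶ Spec R :=
  X.toSpecΓ ≫ Spec.map φ

lemma specPt_ofSpecPt {X : Scheme.{u}} {R : CommRingCat.{u}} (φ : R ⟶ Γ(X, ⊤)) :
    specPt (ofSpecPt φ) = φ := by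
  rw [specPt, ofSpecPt, Scheme.Hom.comp_appTop, ← Category.assoc, ← Scheme.ΓSpecIso_inv_naturality,
    Scheme.toSpecΓ_appTop, Category.assoc, Iso.inv_hom_id, Category.comp_id]

lemma specPt_ext {X : Scheme.{u}} {R : CommRingCat.{u}} {a a' : X ⟶ Spec R} (h : specPt a = specPt a') :
    a = a' :=
  ext_of_isAffine ((cancel_epi (Scheme.ΓSpecIso R).inv).1 h)

lemma specPt_comp_map {X : Scheme.{u}} {R R' : CommRingCat.{u}} (a : X ⟶ Spec R') (ψ : R ⟶ R') :
    specPt (a ≫ Spec.map ψ) = ψ ≫ specPt a := by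
  rw [specPt, specPt, Scheme.Hom.comp_appTop, ← Category.assoc, ← Scheme.ΓSpecIso_inv_naturality,
    Category.assoc]

lemma specPt_comp {X Y : Scheme.{u}} {R : CommRingCat.{u}} (f : Y ⟶ X) (a : X ⟶ Spec R) :
    specPt (f ≫ a) = specPt a ≫ f.appTop := by
  rw [specPt, specPt, Scheme.Hom.comp_appTop, Category.assoc]

/-- The integers, as a final affine scheme. -/
abbrev spZ : Scheme.{u} := Spec (CommRingCat.of (ULift.{u} ℤ))

/-- The map to the final scheme. -/
def toSpZ (X : Scheme.{u}) : X ⟶ spZ := specULiftZIsTerminal.from X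

lemma toSpZ_ext {X : Scheme.{u}} (f g : X ⟶ spZ) : f = g := specULiftZIsTerminal.hom_ext f g

variable (S) in
/-- A scheme base changed to `S`. -/
def absObj (X : Scheme.{u}) : Over S := Over.mk (pullback.fst (toSpZ S) (toSpZ X))

/-- The projection to the absolute scheme. -/
def absPr (X : Scheme.{u}) : (absObj S X).left ⟶ X := pullback.snd (toSpZ S) (toSpZ X)

/-- A point of a base changed scheme. -/
def absPt {T : Over S} {X : Scheme.{u}} (g : T.left ⟶ X) : T ⟶ absObj S X :=
  Over.homMk (pullback.lift T.hom g (toSpZ_ext _ _)) (pullback.lift_fst _ _ _)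

@[simp]
lemma absPt_pr {T : Over S} {X : Scheme.{u}} (g : T.left ⟶ X) : (absPt g).left ≫ absPr X = g :=
  pullback.lift_snd _ _ _

lemma abs_ext {T : Over S} {X : Scheme.{u}} {a a' : T ⟶ absObj S X}
    (h : a.left ≫ absPr X = a'.left ≫ absPr X) : a = a' :=
  Over.OverMorphism.ext (pullback.hom_ext ((Over.w a).trans (Over.w a').symm) h)

variable (S) in
/-- A morphism base changed to `S`. -/
def absMap {X Y : Scheme.{u}} (g : X ⟶ Y) : absObj S X ⟶ absObj S Y := absPt (absPr X ≫ g)

lemma absMap_pr {X Y : Scheme.{u}} (g : X ⟶ Y) : (absMap S g).left ≫ absPr Y = absPr X ≫ g :=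
  absPt_pr _

lemma absMap_isPullback {X Y : Scheme.{u}} (g : X ⟶ Y) :
    IsPullback (absPr X) (absMap S g).left g (absPr Y) := by
  have big : IsPullback (absPr (S := S) X) ((absMap S g).left ≫ pullback.fst (toSpZ S) (toSpZ Y))
      (g ≫ toSpZ Y) (toSpZ S) := by
    rw [show (absMap S g).left ≫ pullback.fst (toSpZ S) (toSpZ Y) = pullback.fst (toSpZ S) (toSpZ X) from
      pullback.lift_fst _ _ _, toSpZ_ext (g ≫ toSpZ Y) (toSpZ X)]
    exact (IsPullback.of_hasPullback (toSpZ S) (toSpZ X)).flip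
  exact IsPullback.of_bot big (absMap_pr g).symm (IsPullback.of_hasPullback (toSpZ S) (toSpZ Y)).flip

lemma absMap_prop {P : MorphismProperty Scheme.{u}} [P.IsStableUnderBaseChange] {X Y : Scheme.{u}}
    (g : X ⟶ Y) (h : P g) : P (absMap S g).left :=
  MorphismProperty.of_isPullback (absMap_isPullback g) h

lemma smooth_absObj (A : Type u) [CommRing A] [Algebra (ULift.{u} ℤ) A] [Algebra.Smooth (ULift.{u} ℤ) A] :
    Smooth (absObj S (Spec (CommRingCat.of A))).hom := by
  have h : Smooth (toSpZ (Spec (CommRingCat.of A))) := by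
    rw [toSpZ_ext (toSpZ _) (Spec.map (CommRingCat.ofHom (algebraMap (ULift.{u} ℤ) A))),
      HasRingHomProperty.Spec_iff (P := @Smooth)]
    exact RingHom.smooth_algebraMap.mpr inferInstance
  exact inferInstanceAs (Smooth (pullback.fst (toSpZ S) (toSpZ (Spec (CommRingCat.of A)))))

end Groth.Agent.H14AlgSt
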