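import Groth.Agent.H14AlgSt.Comp
import Groth.Agent.H12AlgSp.LocP
import Groth.Agent.H12AlgSp.Points
import Groth.Agent.H13AlgSp.LocP

/-!
# Smooth and surjective morphisms representable by algebraic spaces
-/

set_option autoImplicit false
set_option backward.isDefEq.respectTransparency false
set_option backward.isDefEq.respectTransparency.types false

universe u

open CategoryTheory Opposite AlgebraicGeometry CategoryTheory.Limits

namespace Groth.Agent.H14AlgSt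

open H14Fib H14Stk

variable {S : Scheme.{u}} {𝒳 𝒴 𝒵 : AlgSt.Cat S}

lemma sourceIsoInv_locP (P : MorphismProperty Scheme.{u}) :
    SourceIsoInv (S := S) (AlgSp.LocP P) := by
  intro A B C m _ π _ _ h U V a b g ha hb w
  exact h (a ≫ inv m) b g
    (MorphismProperty.RespectsIso.postcomp (AlgSp.RepWith @Etale) (inv m) a ha) hb (by simpa using w)

lemma testOnSchemes_locP (P : MorphismProperty Scheme.{u}) :
    TestOnSchemes (S := S) (AlgSp.LocP P) := by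
  intro G F f hG hF h U V a b g ha hb w
  have sq := IsPullback.of_hasPullback f b
  let a' : (AlgSp.yon S).obj U ⟶ pullback f b := pullback.lift a ((AlgSp.yon S).map g) w
  have hfst : AlgSp.RepWith @Etale (pullback.fst f b) :=
    H12AlgSp.repWith_of_isPullback sq.flip hb
  have ha' : AlgSp.RepWith @Etale a' := by
    refine H13AlgSp.repWith_etale_of_comp (g := pullback.fst f b) hfst ?_
    rwa [pullback.lift_fst]
  exact h V b _ _ sq a' (𝟙 _) g ha'
    (H12AlgSp.repWith_of_isIso _) (by simp [a'])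

lemma sourceIsoInv_surjective : SourceIsoInv (S := S) AlgSp.IsSurjectiveMor := by
  intro A B C m _ π _ _ h x
  obtain ⟨y, hy⟩ := h x
  exact ⟨AlgSp.Points.map m y, by rw [← AlgSp.Points.map_comp]; exact hy⟩

lemma testOnSchemes_surjective : TestOnSchemes (S := S) AlgSp.IsSurjectiveMor := by
  intro G F f hG hF h x
  induction x using AlgSp.Points.ind with | h p =>
  have sq := IsPullback.of_hasPullback f p.toHom
  obtain ⟨w, hw⟩ := h p.pt p.toHom _ _ sq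
    (AlgSp.Points.ofScheme p.pt (IsLocalRing.closedPoint p.K))
  refine ⟨AlgSp.Points.map (pullback.fst f p.toHom) w, ?_⟩
  rw [← AlgSp.Points.map_comp, pullback.condition, AlgSp.Points.map_comp, hw,
    AlgSp.Points.map_ofPt, Category.id_comp]
  exact AlgSp.Points.ofPt_toHom p _

lemma repWith_locP_comp {P : MorphismProperty Scheme.{u}} (hP : H12AlgSp.EtLocal P)
    (h𝒳 : FibCat.IsFibGrpd 𝒳.p) (h𝒴 : FibCat.IsFibGrpd 𝒴.p) {f : 𝒳 ⥤ᵇ 𝒴} {g : 𝒴 ⥤ᵇ 𝒵}
    (hf : AlgSt.RepByAlgSpWith (AlgSp.LocP P) f) (hg : AlgSt.RepByAlgSpWith (AlgSp.LocP P) g) :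
    AlgSt.RepByAlgSpWith (AlgSp.LocP P) (BasedFunctor.comp f g) :=
  repWith_comp_of (sourceIsoInv_locP P) (testOnSchemes_locP P)
    (fun _ _ _ hA hB hC _ _ ha hb => H12AlgSp.locP_comp hP hA hB hC ha hb) h𝒳 h𝒴 hf hg

lemma repWith_surjective_comp
    (h𝒳 : FibCat.IsFibGrpd 𝒳.p) (h𝒴 : FibCat.IsFibGrpd 𝒴.p) {f : 𝒳 ⥤ᵇ 𝒴} {g : 𝒴 ⥤ᵇ 𝒵}
    (hf : AlgSt.RepByAlgSpWith AlgSp.IsSurjectiveMor f)
    (hg : AlgSt.RepByAlgSpWith AlgSp.IsSurjectiveMor g) :
    AlgSt.RepByAlgSpWith AlgSp.IsSurjectiveMor (BasedFunctor.comp f g) :=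
  repWith_comp_of sourceIsoInv_surjective testOnSchemes_surjective
    (fun _ _ _ _ _ _ a b ha hb x => by
      obtain ⟨y, hy⟩ := hb x
      obtain ⟨z, hz⟩ := ha y
      exact ⟨z, by rw [AlgSp.Points.map_comp, hz, hy]⟩) h𝒳 h𝒴 hf hg

lemma etLocal_isEtale_comp
    (h𝒳 : FibCat.IsFibGrpd 𝒳.p) (h𝒴 : FibCat.IsFibGrpd 𝒴.p) {f : 𝒳 ⥤ᵇ 𝒴} {g : 𝒴 ⥤ᵇ 𝒵}
    (hf : AlgSt.RepByAlgSpWith AlgSp.IsEtaleMor f) (hg : AlgSt.RepByAlgSpWith AlgSp.IsEtaleMor g) :
    AlgSt.RepByAlgSpWith AlgSp.IsEtaleMor (BasedFunctor.comp f g) :=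
  repWith_mono (fun _ _ hG h => H12AlgSp.isEtaleMor_of_locP_etale hG h)
    (repWith_locP_comp H12AlgSp.etLocal_etale h𝒳 h𝒴
      (repWith_mono (fun _ _ _ h => H12AlgSp.locP_etale_of_isEtaleMor h) hf)
      (repWith_mono (fun _ _ _ h => H12AlgSp.locP_etale_of_isEtaleMor h) hg))

end Groth.Agent.H14AlgSt
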