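import Groth.Agent.H14AlgSt.SpaceStack
import Groth.Agent.H14AlgSt.Props
import Groth.Agent.H14Fib.ProdFp
import Groth.Agent.H14Fib.Swap

/-!
# Fibre products of algebraic stacks
-/

set_option autoImplicit false
set_option backward.isDefEq.respectTransparency false
set_option backward.isDefEq.respectTransparency.types false

universe u

open CategoryTheory Opposite AlgebraicGeometry CategoryTheory.Limits

namespace Groth.Agent.H14AlgSt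

open H14Fib H14Stk

variable {S : Scheme.{u}} {𝒳 𝒴 𝒵 𝒲 : AlgSt.Cat S}

lemma isStack_selfOver (J : GrothendieckTopology (Over S)) :
    Stk.IsStack J (FibCat.selfOver (Over S)) := by
  have h := (isStack_ofPsh_iff (P := (Functor.const (Over S)ᵒᵖ).obj PUnit.{u+2}) J).2
    fun U R hR x hx => ⟨PUnit.unit, fun V f hf => rfl, fun t _ => rfl⟩
  exact (H14Stk.isStack_iff (F := selfToPsh (C := Over S)) J selfToPsh_isEquivOver).2 h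

lemma isStack_prod {J : GrothendieckTopology (Over S)} (h𝒳 : Stk.IsStack J 𝒳)
    (h𝒴 : Stk.IsStack J 𝒴) :
    Stk.IsStack J (FibCat.fp (FibCat.toSelf 𝒳) (FibCat.toSelf 𝒴)) :=
  H14Stk.isStack_fp _ _ h𝒳 h𝒴 (isPrestack_of_isStack (isStack_selfOver J))

lemma repWith_fpSnd {P : MorphismProperty (AlgSp.Sp S)} {F : 𝒳 ⥤ᵇ 𝒵} (G : 𝒴 ⥤ᵇ 𝒵)
    (h : AlgSt.RepByAlgSpWith P F) : AlgSt.RepByAlgSpWith P (FibCat.fpSnd F G) :=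
  (repWith_equiv_comp_iff (fpSwap_isEquivOver F G)).1 (repWith_fpFst G h)

lemma rep1_fpFst {F : 𝒴 ⥤ᵇ 𝒵} (G : 𝒳 ⥤ᵇ 𝒵) (h : AlgSt.RepByAlgSp1 F) :
    AlgSt.RepByAlgSp1 (FibCat.fpFst G F) :=
  repByAlgSp1_of_with (repWith_fpFst G (with_top_of_repByAlgSp1 h))

lemma rep1_fpSnd {F : 𝒳 ⥤ᵇ 𝒵} (G : 𝒴 ⥤ᵇ 𝒵) (h : AlgSt.RepByAlgSp1 F) :
    AlgSt.RepByAlgSp1 (FibCat.fpSnd F G) :=
  repByAlgSp1_of_with (repWith_fpSnd G (with_top_of_repByAlgSp1 h))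

lemma rep1_equiv_comp {e : 𝒳 ⥤ᵇ 𝒴} {f : 𝒴 ⥤ᵇ 𝒵} (he : FibCat.IsEquivOver e)
    (h : AlgSt.RepByAlgSp1 f) : AlgSt.RepByAlgSp1 (BasedFunctor.comp e f) :=
  repByAlgSp1_of_with ((repWith_equiv_comp_iff he).1 (with_top_of_repByAlgSp1 h))

lemma rep1_comp_equiv {f : 𝒳 ⥤ᵇ 𝒴} {e : 𝒴 ⥤ᵇ 𝒵} (he : FibCat.IsEquivOver e)
    (h : AlgSt.RepByAlgSp1 f) : AlgSt.RepByAlgSp1 (BasedFunctor.comp f e) :=
  repByAlgSp1_of_with ((repWith_comp_equiv_iff he).2 (with_top_of_repByAlgSp1 h))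

/-- A category representable by spaces over one with representable diagonal has one too. -/
lemma diag_of_rep1 (h𝒳 : FibCat.IsFibGrpd 𝒳.p) (h𝒴 : FibCat.IsFibGrpd 𝒴.p) {j : 𝒳 ⥤ᵇ 𝒴}
    (hj : AlgSt.RepByAlgSp1 j) (hΔ : AlgSt.RepByAlgSp1 (FibCat.diag (FibCat.toSelf 𝒴))) :
    AlgSt.RepByAlgSp1 (FibCat.diag (FibCat.toSelf 𝒳)) := by
  refine (repByAlgSp1_diag_iff h𝒳).2 fun U x => ?_
  let xj := BasedFunctor.comp x j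
  have hU := repByAlgSp_overCat U
  have hxj : AlgSt.RepByAlgSp1 xj := repByAlgSp1_of_diag h𝒴 hΔ hU xj
  have hQ : AlgSt.RepByAlgSp (FibCat.fp xj j) := repByAlgSp_fp h𝒳 h𝒴 hj xj hU
  let σ : FibCat.overCat U ⥤ᵇ FibCat.fp xj j :=
    FibCat.fpLift (BasedFunctor.id (FibCat.overCat U)) x (Iso.refl (BasedFunctor.comp x j))
  have h := rep1_comp (isFibSetoid_of_rep hU).1 (isFibSetoid_of_rep hQ).1
    (repByAlgSp1_of_rep hU hQ σ) (rep1_fpSnd j hxj)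
  exact rep1_of_iso (Iso.refl x) h

lemma diag_prod (h𝒳 : FibCat.IsFibGrpd 𝒳.p) (h𝒴 : FibCat.IsFibGrpd 𝒴.p)
    (hX : AlgSt.RepByAlgSp1 (FibCat.diag (FibCat.toSelf 𝒳)))
    (hY : AlgSt.RepByAlgSp1 (FibCat.diag (FibCat.toSelf 𝒴))) :
    AlgSt.RepByAlgSp1
      (FibCat.diag (FibCat.toSelf (FibCat.fp (FibCat.toSelf 𝒳) (FibCat.toSelf 𝒴)))) := by
  refine (repByAlgSp1_diag_iff (fp_fibGrpd h𝒳 h𝒴 selfOver_fibGrpd)).2 fun U x V y => ?_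
  have hU := repByAlgSp_overCat U
  have hV := repByAlgSp_overCat V
  exact repByAlgSp_of_equiv' (prodFp_isEquivOver y x)
    (repByAlgSp_fp_of_rep (repByAlgSp_fp_of_diag_toSelf h𝒳 hX _ _ hV hU)
      (repByAlgSp_fp_of_diag_toSelf h𝒴 hY _ _ hV hU) (repByAlgSp_prod hV hU) _ _)

/-- The map from a fibre product to the product is representable if the diagonal of the base is. -/
lemma rep1_prodDown (hΔ : AlgSt.RepByAlgSp1 (FibCat.diag (FibCat.toSelf 𝒵)))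
    (f : 𝒳 ⥤ᵇ 𝒵) (g : 𝒴 ⥤ᵇ 𝒵) : AlgSt.RepByAlgSp1 (prodDown f g) := by
  let H := FibCat.toSelf 𝒵
  have : (BasedFunctor.id (FibCat.selfOver (Over S))).toFunctor.Full :=
    inferInstanceAs (𝟭 (Over S)).Full
  have : (BasedFunctor.id (FibCat.selfOver (Over S))).toFunctor.Faithful :=
    inferInstanceAs (𝟭 (Over S)).Faithful
  let T : FibCat.fp (BasedFunctor.comp f H) (BasedFunctor.comp g H) ⥤ᵇ
      FibCat.fp (FibCat.toSelf 𝒳) (FibCat.toSelf 𝒴) :=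
    fpMap (BasedFunctor.id 𝒳) (BasedFunctor.id 𝒴) (BasedFunctor.id (FibCat.selfOver (Over S)))
      (eqToIso (comp_toSelf f)) (eqToIso (comp_toSelf g))
  have hT : FibCat.IsEquivOver T :=
    fpMap_isEquivOver _ _ _ _ _ (essSurjOver_id _) (essSurjOver_id _)
  have h := rep1_comp_equiv hT
    (rep1_equiv_comp (magicFun_isEquivOver f g H) (rep1_fpFst (pairMap f g H) hΔ))
  refine rep1_of_iso (g := prodDown f g) ?_ h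
  exact mkIso (fun x => fpIsoMk (Iso.refl _) (Iso.refl _)
      (selfFp_w (𝟙 (𝒳.p.obj x.obj.fst)) (IsHomLift.id rfl) (IsHomLift.id (fp_snd_obj x))))
    (fun {_ _} m => fp_hom_ext ((Category.comp_id _).trans (Category.id_comp _).symm)
        ((Category.comp_id _).trans (Category.id_comp _).symm))
    (fun x => (fp_isHomLift_iff _ _).2 (IsHomLift.id rfl))

lemma diag_fp (h𝒳 : FibCat.IsFibGrpd 𝒳.p) (h𝒴 : FibCat.IsFibGrpd 𝒴.p) (h𝒵 : FibCat.IsFibGrpd 𝒵.p)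
    (hX : AlgSt.RepByAlgSp1 (FibCat.diag (FibCat.toSelf 𝒳)))
    (hY : AlgSt.RepByAlgSp1 (FibCat.diag (FibCat.toSelf 𝒴)))
    (hZ : AlgSt.RepByAlgSp1 (FibCat.diag (FibCat.toSelf 𝒵))) (f : 𝒳 ⥤ᵇ 𝒵) (g : 𝒴 ⥤ᵇ 𝒵) :
    AlgSt.RepByAlgSp1 (FibCat.diag (FibCat.toSelf (FibCat.fp f g))) :=
  diag_of_rep1 (fp_fibGrpd h𝒳 h𝒴 h𝒵) (fp_fibGrpd h𝒳 h𝒴 selfOver_fibGrpd) (rep1_prodDown hZ f g)
    (diag_prod h𝒳 h𝒴 hX hY)

section Atlas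

variable {P : MorphismProperty Scheme.{u}}

lemma hasAtlas_of_space (hP : H12AlgSp.EtLocal P) (hW : AlgSt.RepByAlgSp 𝒲) (w : 𝒲 ⥤ᵇ 𝒳)
    (h1 : AlgSt.RepByAlgSpWith (AlgSp.LocP P) w)
    (h2 : AlgSt.RepByAlgSpWith AlgSp.IsSurjectiveMor w) :
    AlgSt.HasAtlas (AlgSp.LocP P) 𝒳 := by
  obtain ⟨F, e, he⟩ := hW
  obtain ⟨U, p, hp1, hp2⟩ := (hasAtlas_iff he).1 (hasAtlas_ofSp F).2
  have hp1' : AlgSt.RepByAlgSpWith (AlgSp.LocP P) p :=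
    repWith_mono (fun _ _ _ h => H12AlgSp.locP_mono hP.etale_le
      (H12AlgSp.locP_etale_of_isEtaleMor h)) hp1
  have hU := (isFibSetoid_of_rep (repByAlgSp_overCat U)).1
  have hW' := (isFibSetoid_of_rep (⟨F, e, he⟩ : AlgSt.RepByAlgSp 𝒲)).1
  exact ⟨U, BasedFunctor.comp p w, repWith_locP_comp hP hU hW' hp1' h1,
    repWith_surjective_comp hU hW' hp2 h2⟩

lemma hasAtlas_of_rep1 (hP : H12AlgSp.EtLocal P) {j : 𝒳 ⥤ᵇ 𝒴} (hj : AlgSt.RepByAlgSp1 j)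
    (h : AlgSt.HasAtlas (AlgSp.LocP P) 𝒴) : AlgSt.HasAtlas (AlgSp.LocP P) 𝒳 := by
  obtain ⟨V, y, h1, h2⟩ := h
  exact hasAtlas_of_space hP (hj V y) (FibCat.fpSnd y j) (repWith_fpSnd j h1) (repWith_fpSnd j h2)

lemma hasAtlas_prod (hP : H12AlgSp.EtLocal P) (h𝒳 : FibCat.IsFibGrpd 𝒳.p)
    (h𝒴 : FibCat.IsFibGrpd 𝒴.p) (hX : AlgSt.HasAtlas (AlgSp.LocP P) 𝒳)
    (hY : AlgSt.HasAtlas (AlgSp.LocP P) 𝒴) :
    AlgSt.HasAtlas (AlgSp.LocP P) (FibCat.fp (FibCat.toSelf 𝒳) (FibCat.toSelf 𝒴)) := by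
  obtain ⟨U, x, hx1, hx2⟩ := hX
  obtain ⟨V, y, hy1, hy2⟩ := hY
  let tX := FibCat.toSelf 𝒳
  let tY := FibCat.toSelf 𝒴
  let q := BasedFunctor.comp (FibCat.fpFst (FibCat.fpFst tX tY) x) (FibCat.fpSnd tX tY)
  let C := BasedFunctor.comp (BasedFunctor.comp (fpSwap (FibCat.fpFst tX tY) x)
    (pasteBase tX tY x)) (fpSwap (BasedFunctor.comp x tX) tY)
  have hC : FibCat.IsEquivOver C :=
    isEquivOver_comp (isEquivOver_comp (fpSwap_isEquivOver _ _) (pasteBase_isEquivOver _ _ _))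
      (fpSwap_isEquivOver _ _)
  have hU := (isFibSetoid_of_rep (repByAlgSp_overCat U)).1
  have hV := (isFibSetoid_of_rep (repByAlgSp_overCat V)).1
  have hP0 : FibCat.IsFibGrpd (FibCat.fp tX tY).p := fp_fibGrpd h𝒳 h𝒴 selfOver_fibGrpd
  have hW1 := fp_fibGrpd (F := FibCat.fpFst tX tY) (G := x) hP0 hU h𝒳
  have hW2 := fp_fibGrpd (F := q) (G := y) hW1 hV h𝒴
  let w := BasedFunctor.comp (FibCat.fpFst q y) (FibCat.fpFst (FibCat.fpFst tX tY) x)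
  have hw1 : AlgSt.RepByAlgSpWith (AlgSp.LocP P) w :=
    repWith_locP_comp hP hW2 hW1 (repWith_fpFst q hy1) (repWith_fpFst _ hx1)
  have hw2 : AlgSt.RepByAlgSpWith AlgSp.IsSurjectiveMor w :=
    repWith_surjective_comp hW2 hW1 (repWith_fpFst q hy2) (repWith_fpFst _ hx2)
  refine hasAtlas_of_space hP (repByAlgSp_of_equiv (fpSwap_isEquivOver y q) ?_) w hw1 hw2
  obtain ⟨⟨_, _⟩, hs⟩ := (isEquivOver_iff C).1 hC
  let i : BasedFunctor.comp q (BasedFunctor.id 𝒴) ≅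
      BasedFunctor.comp C (FibCat.fpFst tY (BasedFunctor.comp x tX)) := Iso.refl q
  let M : FibCat.fp y q ⥤ᵇ FibCat.fp y (FibCat.fpFst tY (BasedFunctor.comp x tX)) :=
    fpMap (BasedFunctor.id (FibCat.overCat V)) C (BasedFunctor.id 𝒴) (Iso.refl y) i
  refine repByAlgSp_of_equiv' (E := BasedFunctor.comp M (pasteBase tY (BasedFunctor.comp x tX) y))
    (isEquivOver_comp (fpMap_isEquivOver _ _ _ _ _ (essSurjOver_id _) hs)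
      (pasteBase_isEquivOver _ _ _)) ?_
  rw [comp_toSelf, comp_toSelf]
  exact repByAlgSp_prod (repByAlgSp_overCat V) (repByAlgSp_overCat U)

lemma hasAtlas_fp (hP : H12AlgSp.EtLocal P) (h𝒳 : FibCat.IsFibGrpd 𝒳.p)
    (h𝒴 : FibCat.IsFibGrpd 𝒴.p) (hZ : AlgSt.RepByAlgSp1 (FibCat.diag (FibCat.toSelf 𝒵)))
    (hX : AlgSt.HasAtlas (AlgSp.LocP P) 𝒳) (hY : AlgSt.HasAtlas (AlgSp.LocP P) 𝒴)
    (f : 𝒳 ⥤ᵇ 𝒵) (g : 𝒴 ⥤ᵇ 𝒵) : AlgSt.HasAtlas (AlgSp.LocP P) (FibCat.fp f g) :=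
  hasAtlas_of_rep1 hP (rep1_prodDown hZ f g) (hasAtlas_prod hP h𝒳 h𝒴 hX hY)

lemma hasAtlas_etale_iff :
    AlgSt.HasAtlas AlgSp.IsEtaleMor 𝒳 ↔ AlgSt.HasAtlas (AlgSp.LocP @Etale) 𝒳 :=
  ⟨fun ⟨U, x, h1, h2⟩ => ⟨U, x,
      repWith_mono (fun _ _ _ h => H12AlgSp.locP_etale_of_isEtaleMor h) h1, h2⟩,
    fun ⟨U, x, h1, h2⟩ => ⟨U, x,
      repWith_mono (fun _ _ hG h => H12AlgSp.isEtaleMor_of_locP_etale hG h) h1, h2⟩⟩

end Atlas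

variable (K : Precoverage Scheme.{u})

lemma isAlgStack_prod (hX : AlgSt.IsAlgStack K 𝒳) (hY : AlgSt.IsAlgStack K 𝒴) :
    AlgSt.IsAlgStack K (FibCat.fp (FibCat.toSelf 𝒳) (FibCat.toSelf 𝒴)) :=
  ⟨isStack_prod hX.isStack hY.isStack, diag_prod hX.isStack.1 hY.isStack.1 hX.diag hY.diag,
    hasAtlas_prod H12AlgSp.etLocal_smooth hX.isStack.1 hY.isStack.1 hX.atlas hY.atlas⟩

lemma isAlgStack_fp (hZs : Stk.IsStack (QuotSh.J K S) 𝒵)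
    (hZ : AlgSt.RepByAlgSp1 (FibCat.diag (FibCat.toSelf 𝒵))) (hX : AlgSt.IsAlgStack K 𝒳)
    (hY : AlgSt.IsAlgStack K 𝒴) (f : 𝒳 ⥤ᵇ 𝒵) (g : 𝒴 ⥤ᵇ 𝒵) :
    AlgSt.IsAlgStack K (FibCat.fp f g) :=
  ⟨H14Stk.isStack_fp _ _ hX.isStack hY.isStack (isPrestack_of_isStack hZs),
    diag_fp hX.isStack.1 hY.isStack.1 hZs.1 hX.diag hY.diag hZ f g,
    hasAtlas_fp H12AlgSp.etLocal_smooth hX.isStack.1 hY.isStack.1 hZ hX.atlas hY.atlas f g⟩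

lemma isDM_fp (hX : AlgSt.IsDM K 𝒳) (hY : AlgSt.IsDM K 𝒴) (hZ : AlgSt.IsDM K 𝒵)
    (f : 𝒳 ⥤ᵇ 𝒵) (g : 𝒴 ⥤ᵇ 𝒵) : AlgSt.IsDM K (FibCat.fp f g) :=
  ⟨isAlgStack_fp K hZ.1.isStack hZ.1.diag hX.1 hY.1 f g, hasAtlas_etale_iff.2
    (hasAtlas_fp H12AlgSp.etLocal_etale hX.1.isStack.1 hY.1.isStack.1 hZ.1.diag
      (hasAtlas_etale_iff.1 hX.2) (hasAtlas_etale_iff.1 hY.2) f g)⟩

lemma isAlgStack_of_rep1 (h𝒳 : FibCat.IsFibGrpd 𝒳.p)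
    (hY : AlgSt.IsAlgStack Scheme.fppfPrecoverage 𝒴) {j : 𝒳 ⥤ᵇ 𝒴} (hj : AlgSt.RepByAlgSp1 j) :
    AlgSt.IsAlgStack Scheme.fppfPrecoverage 𝒳 :=
  ⟨isStack_of_rep1 h𝒳 hY.isStack hj, diag_of_rep1 h𝒳 hY.isStack.1 hj hY.diag,
    hasAtlas_of_rep1 H12AlgSp.etLocal_smooth hj hY.atlas⟩

end Groth.Agent.H14AlgSt
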