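import Groth.Prelude.Def_AlgSt2
import Groth.Agent.H14Fib.Paste
import Groth.Agent.H14Fib.FpMap
import Groth.Agent.H14Stk.Psh

/-!
# Basic calculus of categories over `(Sch/S)` represented by algebraic spaces
-/

set_option autoImplicit false
set_option backward.isDefEq.respectTransparency false
set_option backward.isDefEq.respectTransparency.types false

universe w v₄ u₄ v₃ u₃ v₂ u₂ v u

open CategoryTheory Opposite AlgebraicGeometry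

namespace Groth.Agent.H14AlgSt

open H14Fib H14Stk

section Psh

variable {C : Type u} [Category.{v} C] {P Q R : Cᵒᵖ ⥤ Type w}

/-- The map of presheaves attached to a functor between their categories. -/
def mapOfFun (Φ : Stk.ofPsh P ⥤ᵇ Stk.ofPsh Q) : P ⟶ Q where
  app U := ↾(fun x => secAt Φ ⟨U.unop, x⟩)
  naturality {U V} g := by
    ext x
    exact (secAt_natural Φ (⟨g.unop, rfl⟩ :
      (⟨V.unop, P.map g x⟩ : Stk.EltObj P) ⟶ ⟨U.unop, x⟩)).symm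

lemma secAt_ofPshMap (a : P ⟶ Q) (x : Stk.EltObj P) :
    secAt (Stk.ofPshMap a) x = a.app _ x.sec := pmap_id _

/-- Every functor between categories of presheaves comes from a map of presheaves. -/
def isoOfPshMap (Φ : Stk.ofPsh P ⥤ᵇ Stk.ofPsh Q) : Φ ≅ Stk.ofPshMap (mapOfFun Φ) :=
  isoOfSec fun x => (secAt_ofPshMap (mapOfFun Φ) x).symm

lemma ofPshMap_injective {a b : P ⟶ Q} (e : Stk.ofPshMap a ≅ Stk.ofPshMap b) : a = b := by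
  ext U x
  have := secAt_eq_of_hom e.hom (⟨U.unop, x⟩ : Stk.EltObj P)
  rwa [secAt_ofPshMap, secAt_ofPshMap] at this

lemma ofPshMap_id : Stk.ofPshMap (𝟙 P) = BasedFunctor.id (Stk.ofPsh P) := rfl

lemma ofPshMap_comp (a : P ⟶ Q) (b : Q ⟶ R) :
    Stk.ofPshMap (a ≫ b) = BasedFunctor.comp (Stk.ofPshMap a) (Stk.ofPshMap b) := rfl

lemma isEquivOver_ofPshMap (a : P ⟶ Q) [IsIso a] : FibCat.IsEquivOver (Stk.ofPshMap a) :=
  ⟨Stk.ofPshMap (inv a),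
    ⟨eqToIso (by rw [← ofPshMap_comp, IsIso.hom_inv_id, ofPshMap_id])⟩,
    ⟨eqToIso (by rw [← ofPshMap_comp, IsIso.inv_hom_id, ofPshMap_id])⟩⟩

lemma isIso_of_isEquivOver (a : P ⟶ Q) (h : FibCat.IsEquivOver (Stk.ofPshMap a)) : IsIso a := by
  obtain ⟨G, ⟨i⟩, ⟨j⟩⟩ := h
  let g := isoOfPshMap G
  have h1 : BasedFunctor.comp (Stk.ofPshMap a) (Stk.ofPshMap (mapOfFun G)) ≅
      Stk.ofPshMap (𝟙 P) :=
    (Stk.restr (Stk.ofPshMap a) _).mapIso g.symm ≪≫ i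
  have h2 : BasedFunctor.comp (Stk.ofPshMap (mapOfFun G)) (Stk.ofPshMap a) ≅
      Stk.ofPshMap (𝟙 Q) :=
    (post _ (Stk.ofPshMap a)).mapIso g.symm ≪≫ j
  exact ⟨mapOfFun G, ofPshMap_injective h1, ofPshMap_injective h2⟩

end Psh

variable {S : Scheme.{u}}

section SecHom

variable {F G : AlgSp.Sp S} {U V : Over S}

lemma secHom_eq_of_iso {Φ Ψ : AlgSt.ofSp F ⥤ᵇ FibCat.overCat U} (e : Φ ≅ Ψ)
    (a : (AlgSt.ofSp F).obj) : AlgSt.secHom Φ a = AlgSt.secHom Ψ a := by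
  let i := app e.hom a
  have hi : (FibCat.overCat U).p.IsHomLift (𝟙 a.base) i := BasedNatTrans.isHomLift e.hom rfl
  have h1 : i.left = eqToHom (Φ.w_obj a) ≫ 𝟙 a.base ≫ eqToHom (Ψ.w_obj a).symm :=
    IsHomLift.fac' (FibCat.overCat U).p (𝟙 a.base) i
  have h2 : i.left ≫ (Ψ.obj a).hom = (Φ.obj a).hom := Over.w i
  rw [h1] at h2
  simp [AlgSt.secHom, ← h2]

lemma spMapOfOver_congr {Φ Ψ : AlgSt.ofSp F ⥤ᵇ FibCat.overCat U} (e : Φ ≅ Ψ) :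
    AlgSt.spMapOfOver Φ = AlgSt.spMapOfOver Ψ := by
  apply Sheaf.hom_ext
  ext T x
  exact congrArg ULift.up (secHom_eq_of_iso e _)

lemma spMapOfOver_comp (a : F ⟶ G) (Φ : AlgSt.ofSp G ⥤ᵇ FibCat.overCat U) :
    AlgSt.spMapOfOver (BasedFunctor.comp (AlgSt.ofSpMap a) Φ) = a ≫ AlgSt.spMapOfOver Φ := by
  apply Sheaf.hom_ext
  ext T x
  rfl

lemma toOverCat_ofOverCat (U : Over S) :
    BasedFunctor.comp (AlgSt.toOverCat U) (AlgSt.ofOverCat U) =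
      BasedFunctor.id (AlgSt.ofSch U) := rfl

lemma ofOverCat_toOverCat (U : Over S) :
    BasedFunctor.comp (AlgSt.ofOverCat U) (AlgSt.toOverCat U) =
      BasedFunctor.id (FibCat.overCat U) := rfl

lemma toOverCat_isEquivOver (U : Over S) : FibCat.IsEquivOver (AlgSt.toOverCat U) :=
  ⟨AlgSt.ofOverCat U, ⟨eqToIso (toOverCat_ofOverCat U)⟩, ⟨eqToIso (ofOverCat_toOverCat U)⟩⟩

lemma ofOverCat_isEquivOver (U : Over S) : FibCat.IsEquivOver (AlgSt.ofOverCat U) :=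
  ⟨AlgSt.toOverCat U, ⟨eqToIso (ofOverCat_toOverCat U)⟩, ⟨eqToIso (toOverCat_ofOverCat U)⟩⟩

lemma spMapOfOver_toOverCat (U : Over S) :
    AlgSt.spMapOfOver (AlgSt.toOverCat U) = 𝟙 ((AlgSp.yon S).obj U) := by
  apply Sheaf.hom_ext
  ext T x
  apply ULift.ext
  exact Category.id_comp _

/-- A functor to a slice is determined by its map of sheaves. -/
lemma spMapOfOver_eq (Φ : AlgSt.ofSp F ⥤ᵇ FibCat.overCat U) :
    Nonempty (Φ ≅ BasedFunctor.comp (AlgSt.ofSpMap (AlgSt.spMapOfOver Φ)) (AlgSt.toOverCat U)) := by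
  let Ψ := BasedFunctor.comp Φ (AlgSt.ofOverCat U)
  let k := isoOfPshMap Ψ
  have hk : mapOfFun Ψ = (AlgSt.spMapOfOver Φ).hom := by
    ext T x
    apply ULift.ext
    rfl
  rw [hk] at k
  exact ⟨(post (AlgSt.ofSp F) (AlgSt.toOverCat U)).mapIso k⟩

end SecHom

section RepData

variable {𝒲 : BasedCategory.{v₂, u₂} (Over S)} {𝒲' : BasedCategory.{v₃, u₃} (Over S)} {U : Over S}
  (P : MorphismProperty (AlgSp.Sp S))

/-- `q : 𝒲 ⟶ (Sch/U)` is isomorphic to a map from an algebraic space with property `P`. -/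
def RepData (q : 𝒲 ⥤ᵇ FibCat.overCat U) : Prop :=
  ∃ (F : AlgSp.Space S) (e : AlgSt.ofSp F.obj ⥤ᵇ 𝒲),
    FibCat.IsEquivOver e ∧ P (AlgSt.spMapOfOver (BasedFunctor.comp e q))

lemma RepData.mono {P' : MorphismProperty (AlgSp.Sp S)} {q : 𝒲 ⥤ᵇ FibCat.overCat U}
    (h : RepData P q) (hP : ∀ {F G : AlgSp.Sp S} (a : F ⟶ G), AlgSp.IsAlgSpace F →
      AlgSp.IsAlgSpace G → P a → P' a) : RepData P' q :=
  let ⟨F, e, he, hp⟩ := h
  ⟨F, e, he, hP _ F.property (AlgSp.IsAlgSpace.yon_obj U) hp⟩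

lemma RepData.of_equiv {q : 𝒲 ⥤ᵇ FibCat.overCat U} {q' : 𝒲' ⥤ᵇ FibCat.overCat U}
    {E : 𝒲 ⥤ᵇ 𝒲'} (hE : FibCat.IsEquivOver E) (i : BasedFunctor.comp E q' ≅ q)
    (h : RepData P q) : RepData P q' := by
  obtain ⟨F, e, he, hp⟩ := h
  refine ⟨F, BasedFunctor.comp e E, isEquivOver_comp he hE, ?_⟩
  have k : BasedFunctor.comp (BasedFunctor.comp e E) q' ≅ BasedFunctor.comp e q :=
    (Stk.restr e _).mapIso i
  rw [spMapOfOver_congr k]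
  exact hp

lemma RepData.of_equiv' {q : 𝒲 ⥤ᵇ FibCat.overCat U} {q' : 𝒲' ⥤ᵇ FibCat.overCat U}
    {E : 𝒲' ⥤ᵇ 𝒲} (hE : FibCat.IsEquivOver E) (i : BasedFunctor.comp E q ≅ q')
    (h : RepData P q) : RepData P q' := by
  obtain ⟨E', ⟨j⟩, ⟨j'⟩⟩ := hE
  refine RepData.of_equiv P (E := E') ⟨E, ⟨j'⟩, ⟨j⟩⟩ ?_ h
  exact (Stk.restr E' _).mapIso i.symm ≪≫ (post 𝒲 q).mapIso j'

lemma RepData.rep {q : 𝒲 ⥤ᵇ FibCat.overCat U} (h : RepData P q) : AlgSt.RepByAlgSp 𝒲 :=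
  let ⟨F, e, he, _⟩ := h
  ⟨F, e, he⟩

end RepData

section RepByAlgSp

variable {𝒳 : BasedCategory.{v₂, u₂} (Over S)} {𝒴 : BasedCategory.{v₃, u₃} (Over S)}

lemma repByAlgSp_of_equiv {E : 𝒳 ⥤ᵇ 𝒴} (hE : FibCat.IsEquivOver E) (h : AlgSt.RepByAlgSp 𝒳) :
    AlgSt.RepByAlgSp 𝒴 :=
  let ⟨F, e, he⟩ := h
  ⟨F, BasedFunctor.comp e E, isEquivOver_comp he hE⟩

lemma repByAlgSp_of_equiv' {E : 𝒳 ⥤ᵇ 𝒴} (hE : FibCat.IsEquivOver E) (h : AlgSt.RepByAlgSp 𝒴) :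
    AlgSt.RepByAlgSp 𝒳 := by
  obtain ⟨E', ⟨j⟩, ⟨j'⟩⟩ := hE
  exact repByAlgSp_of_equiv (E := E') ⟨E, ⟨j'⟩, ⟨j⟩⟩ h

lemma repByAlgSp_ofSp (F : AlgSp.Space S) : AlgSt.RepByAlgSp (AlgSt.ofSp F.obj) :=
  ⟨F, BasedFunctor.id _, isEquivOver_id _⟩

lemma repByAlgSp_overCat (U : Over S) : AlgSt.RepByAlgSp (FibCat.overCat U) :=
  repByAlgSp_of_equiv (toOverCat_isEquivOver U)
    (repByAlgSp_ofSp (⟨(AlgSp.yon S).obj U, AlgSp.IsAlgSpace.yon_obj U⟩ : AlgSp.Space S))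

lemma isFibSetoid_of_rep (h : AlgSt.RepByAlgSp 𝒳) : FibCat.IsFibSetoid 𝒳.p := by
  obtain ⟨F, e, he⟩ := h
  refine fibSetoid_target_of_isEquivOver he (fibSetoid_iff_faithful.2
    ⟨inferInstanceAs (FibCat.IsFibGrpd (Stk.EltObj.forget F.obj.obj)), ⟨fun h => Stk.EltObj.hom_ext h⟩⟩)

end RepByAlgSp

end Groth.Agent.H14AlgSt
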