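import Groth.Agent.H14AlgSt.Props

/-!
# Test objects that are algebraic spaces; cancellation
-/

set_option autoImplicit false
set_option backward.isDefEq.respectTransparency false
set_option backward.isDefEq.respectTransparency.types false

universe u

open CategoryTheory Opposite AlgebraicGeometry CategoryTheory.Limits

namespace Groth.Agent.H14AlgSt

open H14Fib H14Stk

variable {S : Scheme.{u}}

/-- Stability under base change among algebraic spaces. -/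
def BaseStable (P : MorphismProperty (AlgSp.Sp S)) : Prop :=
  ∀ ⦃X₁ Y₁ X₂ Y₂ : AlgSp.Sp S⦄, AlgSp.IsAlgSpace X₁ → AlgSp.IsAlgSpace Y₁ → AlgSp.IsAlgSpace X₂ →
    AlgSp.IsAlgSpace Y₂ → ∀ (a : X₁ ⟶ Y₁) (b : Y₂ ⟶ Y₁) (a' : X₂ ⟶ Y₂) (b' : X₂ ⟶ X₁),
    IsPullback b' a' a b → P a → P a'

/-- Cancellation among algebraic spaces: `P b` and `P (a ≫ b)` imply `P a`. -/
def CancelsLeft (P Q : MorphismProperty (AlgSp.Sp S)) : Prop :=
  ∀ ⦃X Y Z : AlgSp.Sp S⦄, AlgSp.IsAlgSpace X → AlgSp.IsAlgSpace Y → AlgSp.IsAlgSpace Z →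
    ∀ (a : X ⟶ Y) (b : Y ⟶ Z), Q b → P (a ≫ b) → P a

variable {P Q : MorphismProperty (AlgSp.Sp S)}

lemma BaseStable.sourceIsoInv (hP : BaseStable P) : SourceIsoInv P := by
  intro A B C m _ π hA hC h
  exact hP hA hC (hA.of_iso (asIso m)) hC (m ≫ π) (𝟙 C) π (inv m)
    (IsPullback.of_horiz_isIso ⟨by simp⟩) h

variable {𝒳 𝒴 𝒵 𝒲 : AlgSt.Cat S} {U : Over S}

/-- The property holds for every representing space. -/
lemma prop_of_repData (hiso : SourceIsoInv P) {q : 𝒲 ⥤ᵇ FibCat.overCat U} (h : RepData P q)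
    {G : AlgSp.Space S} {e : AlgSt.ofSp G.obj ⥤ᵇ 𝒲} (he : FibCat.IsEquivOver e)
    {π : G.obj ⟶ (AlgSp.yon S).obj U}
    (k : BasedFunctor.comp e q ≅ BasedFunctor.comp (AlgSt.ofSpMap π) (AlgSt.toOverCat U)) :
    P π := by
  obtain ⟨hs, hA, X, m, hm, hp⟩ := exists_iso_of_repData (RepData.of_equiv' P he k h)
  exact @hiso X.obj G.obj ((AlgSp.yon S).obj U) m hm π X.property (AlgSp.IsAlgSpace.yon_obj U) hp

/-- The condition at a scheme mapping through an algebraic space. -/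
lemma repData_of_space (hP : BaseStable P) {f : 𝒳 ⥤ᵇ 𝒴} {F G : AlgSp.Space S}
    {z : AlgSt.ofSp F.obj ⥤ᵇ 𝒴} {e : AlgSt.ofSp G.obj ⥤ᵇ FibCat.fp z f}
    (he : FibCat.IsEquivOver e) {π : G.obj ⟶ F.obj}
    (k : BasedFunctor.comp e (FibCat.fpFst z f) ≅ AlgSt.ofSpMap π) (hπ : P π)
    (y₀ : FibCat.overCat U ⥤ᵇ AlgSt.ofSp F.obj) :
    RepData P (FibCat.fpFst (BasedFunctor.comp y₀ z) f) := by
  let s : (AlgSp.yon S).obj U ⟶ F.obj := ObjectProperty.homMk (testMap y₀)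
  have sq := IsPullback.of_hasPullback π s
  have hW := H12AlgSp.isAlgSpace_of_isPullback F.property.diag G.property
    (AlgSp.IsAlgSpace.yon_obj U) sq
  have sq' : IsPullback (pullback.snd π s).hom (pullback.fst π s).hom (testMap y₀) π.hom :=
    (sq.map (sheafToPresheaf (AlgSp.J S) (Type (u + 1)))).flip
  obtain ⟨E, hE, ⟨i⟩⟩ := exists_comparison π.hom y₀ sq'
  have hw : P (pullback.snd π s) :=
    hP G.property F.property hW (AlgSp.IsAlgSpace.yon_obj U) π s _ _ sq hπ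
  have h0 : RepData P (FibCat.fpFst y₀ (AlgSt.ofSpMap π)) := by
    refine RepData.of_equiv P hE i ⟨⟨pullback π s, hW⟩, BasedFunctor.id _, isEquivOver_id _, ?_⟩
    have h : AlgSt.spMapOfOver (BasedFunctor.comp (AlgSt.ofSpMap (pullback.snd π s))
        (AlgSt.toOverCat U)) = pullback.snd π s := by
      rw [spMapOfOver_comp, spMapOfOver_toOverCat, Category.comp_id]
    convert hw using 1
    exact h
  have h1 : RepData P (FibCat.fpFst y₀ (FibCat.fpFst z f)) := by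
    obtain ⟨⟨_, _⟩, hs⟩ := (isEquivOver_iff _).1 he
    have : (BasedFunctor.id (AlgSt.ofSp F.obj)).toFunctor.Full :=
      inferInstanceAs (𝟭 (Stk.EltObj F.obj.obj)).Full
    have : (BasedFunctor.id (AlgSt.ofSp F.obj)).toFunctor.Faithful :=
      inferInstanceAs (𝟭 (Stk.EltObj F.obj.obj)).Faithful
    let E' : FibCat.fp y₀ (AlgSt.ofSpMap π) ⥤ᵇ FibCat.fp y₀ (FibCat.fpFst z f) :=
      fpMap (BasedFunctor.id (FibCat.overCat U)) e (BasedFunctor.id (AlgSt.ofSp F.obj)) (Iso.refl y₀)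
        k.symm
    exact RepData.of_equiv P (E := E') (fpMap_isEquivOver _ _ _ _ _ (essSurjOver_id _) hs)
      (Iso.refl _) h0
  exact RepData.of_equiv P (pasteBase_isEquivOver z f y₀) (Iso.refl _) h1

/-- Cancellation for morphisms representable by algebraic spaces. -/
lemma repWith_cancel (hP : BaseStable P) (hc : CancelsLeft P Q)
    (h𝒳 : FibCat.IsFibGrpd 𝒳.p) (h𝒴 : FibCat.IsFibGrpd 𝒴.p) {f : 𝒳 ⥤ᵇ 𝒴} {g : 𝒴 ⥤ᵇ 𝒵}
    (hf : AlgSt.RepByAlgSp1 f) (hfg : AlgSt.RepByAlgSpWith P (BasedFunctor.comp f g))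
    (hg : AlgSt.RepByAlgSpWith Q g) : AlgSt.RepByAlgSpWith P f := by
  intro U y
  let y' := BasedFunctor.comp y g
  obtain ⟨F, e₀, he₀, hp₀⟩ := hg U y'
  let z := BasedFunctor.comp e₀ (FibCat.fpSnd y' g)
  obtain ⟨G, e, he⟩ := repByAlgSp_fp h𝒳 h𝒴 hf z (repByAlgSp_ofSp F)
  let φ := BasedFunctor.comp e (FibCat.fpFst z f)
  let π : G.obj ⟶ F.obj := ObjectProperty.homMk (mapOfFun φ)
  let k : φ ≅ AlgSt.ofSpMap π := isoOfPshMap φ
  obtain ⟨⟨_, _⟩, hs⟩ := (isEquivOver_iff _).1 he₀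
  let M : FibCat.fp z f ⥤ᵇ FibCat.fp (FibCat.fpSnd y' g) f :=
    fpMap (F := FibCat.fpSnd y' g) (G := f) e₀ (BasedFunctor.id 𝒳) (BasedFunctor.id 𝒴)
      (Iso.refl z) (Iso.refl (BasedFunctor.comp f (BasedFunctor.id 𝒴)))
  let E := BasedFunctor.comp (BasedFunctor.comp e M) (pasteComp y' g f)
  have hE : FibCat.IsEquivOver E :=
    isEquivOver_comp (isEquivOver_comp he (fpMap_isEquivOver _ _ _ _ _ hs (essSurjOver_id _)))
      (pasteComp_isEquivOver y' g f)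
  let q := BasedFunctor.comp e₀ (FibCat.fpFst y' g)
  obtain ⟨kq⟩ := spMapOfOver_eq q
  have i : BasedFunctor.comp E (FibCat.fpFst y' (BasedFunctor.comp f g)) ≅
      BasedFunctor.comp (AlgSt.ofSpMap (π ≫ AlgSt.spMapOfOver q)) (AlgSt.toOverCat U) :=
    (post (AlgSt.ofSp G.obj) q).mapIso k ≪≫ (Stk.restr (AlgSt.ofSpMap π) _).mapIso kq
  have hπ : P π := hc G.property F.property (AlgSp.IsAlgSpace.yon_obj U) π _ hp₀
    (prop_of_repData hP.sourceIsoInv (hfg U y') hE i)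
  -- the section of `F` given by the graph of `y`
  obtain ⟨e₀', -, ⟨j⟩⟩ := he₀
  let σ := FibCat.fpLift (F := y') (G := g) (BasedFunctor.id (FibCat.overCat U)) y (Iso.refl y')
  let y₀ := BasedFunctor.comp σ e₀'
  have l : BasedFunctor.comp y₀ z ≅ y :=
    (post (FibCat.overCat U) (FibCat.fpSnd y' g)).mapIso ((Stk.restr σ _).mapIso j)
  exact repData_congr l (repData_of_space hP he k hπ y₀)

end Groth.Agent.H14AlgSt
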