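import Groth.Prelude.Def_AlgSt3
import Groth.Prelude.Def_AlgSpCov
import Groth.Agent.H14AlgSt.Space
import Groth.Agent.H14AlgSt.AlgFp
import Groth.Agent.H13AlgSp.Cover

/-!
# Fppf descent of properties of morphisms representable by algebraic spaces
-/

set_option autoImplicit false
set_option backward.isDefEq.respectTransparency false
set_option backward.isDefEq.respectTransparency.types false

universe u

open CategoryTheory Opposite AlgebraicGeometry CategoryTheory.Limits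

namespace Groth.Agent.H14AlgSt

open H14Fib H14Stk

variable {S : Scheme.{u}} {P : MorphismProperty (AlgSp.Sp S)}

lemma testOnSchemes_of_localFppf (hP : AlgSp.IsLocalOnBase AlgSp.IsFppfCover P) :
    TestOnSchemes P := by
  intro G F a hG hF h
  obtain ⟨U, p, hpe, hps⟩ := hF.atlas
  have sq := IsPullback.of_hasPullback a p
  have hW := H12AlgSp.isAlgSpace_of_isPullback hF.diag hG (AlgSp.IsAlgSpace.yon_obj U) sq
  refine (hP (fun _ : PUnit.{u+1} => (AlgSp.yon S).obj U) (fun _ => p) hF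
    (fun _ => AlgSp.IsAlgSpace.yon_obj U) ⟨fun _ => ⟨?_, ?_⟩, fun x => ?_⟩ a hG
    (fun _ => Limits.pullback a p) (fun _ => Limits.pullback.snd a p)
    (fun _ => Limits.pullback.fst a p) (fun _ => hW) (fun _ => sq)).2 (fun _ => h U p _ _ sq)
  · exact H12AlgSp.locP_of_repWith H12AlgSp.etLocal_flat
      (H12AlgSp.repWith_le (fun _ _ g (_ : Etale g) => (inferInstance : Flat g)) hpe)
  · exact H12AlgSp.locP_of_repWith H12AlgSp.etLocal_lfp (H12AlgSp.repWith_le
      (fun _ _ g (_ : Etale g) => (inferInstance : LocallyOfFinitePresentation g)) hpe)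
  · exact ⟨PUnit.unit, H12AlgSp.surjective_map_of_repWith le_rfl hps x⟩

lemma range_map_yon_map {V U : Over S} (c : V ⟶ U) (w : V.left) :
    AlgSp.Points.map ((AlgSp.yon S).map c) (AlgSp.Points.ofScheme V w) =
      AlgSp.Points.ofScheme U (c.left w) := by
  rw [← AlgSp.Points.ofPt_eq_map_ofScheme, ← Category.comp_id ((AlgSp.yon S).map c),
    H12AlgSp.ofPt_map]

/-- An fppf covering sieve contains an fppf covering family. -/
lemma exists_fppf_family {U : Over S} {R : Sieve U} (hR : R ∈ (AlgSp.J S) U) :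
    ∃ (C : U.left → Over S) (c : ∀ i, C i ⟶ U), (∀ i, Flat (c i).left) ∧
      (∀ i, LocallyOfFinitePresentation (c i).left) ∧
      (∀ z : U.left, ∃ i, z ∈ Set.range (c i).left) ∧ ∀ i, R.arrows (c i) := by
  have : Scheme.fppfPrecoverage.{u}.HasIsos := inferInstanceAs
    ((Scheme.precoverage (@Flat ⊓ @LocallyOfFinitePresentation)).HasIsos)
  have : Scheme.fppfPrecoverage.{u}.HasPullbacks := inferInstanceAs
    ((Scheme.precoverage (@Flat ⊓ @LocallyOfFinitePresentation)).HasPullbacks)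
  rw [GrothendieckTopology.mem_over_iff,
    Precoverage.mem_toGrothendieck_iff_of_isStableUnderComposition] at hR
  obtain ⟨R', ⟨hs, hP⟩, hle⟩ := hR
  have H : ∀ z : U.left, ∃ (Y : Scheme.{u}) (g : Y ⟶ U.left), R' g ∧ z ∈ Set.range g :=
    fun z => by
      obtain ⟨_, _, hg, y, hy⟩ := hs z
      cases hg with
      | of h => exact ⟨_, _, h, y, hy⟩
  choose Y g hg hz using H
  refine ⟨fun z => Over.mk (g z ≫ U.hom), fun z => Over.homMk (g z) rfl, fun z => (hP (hg z)).1,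
    fun z => (hP (hg z)).2, fun z => ⟨z, hz z⟩, fun z => ?_⟩
  exact (Sieve.overEquiv_iff R _).1 (hle _ _ (hg z))

variable {𝒳 𝒴 𝒵 : AlgSt.Cat S} {f : 𝒳 ⥤ᵇ 𝒴} {U : Over S}

/-- The property at `U` follows from the property on an fppf covering family of `U`. -/
lemma repData_of_family (hP : AlgSp.IsLocalOnBase AlgSp.IsFppfCover P) (hiso : SourceIsoInv P)
    (y : FibCat.overCat U ⥤ᵇ 𝒴) (hf : AlgSt.RepByAlgSp (FibCat.fp y f))
    {ι : Type u} (C : ι → Over S) (c : ∀ i, C i ⟶ U) (hflat : ∀ i, Flat (c i).left)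
    (hlfp : ∀ i, LocallyOfFinitePresentation (c i).left)
    (hs : ∀ z : U.left, ∃ i, z ∈ Set.range (c i).left)
    (h : ∀ i, RepData P (FibCat.fpFst (BasedFunctor.comp (AlgSt.overMap (c i)) y) f)) :
    RepData P (FibCat.fpFst y f) := by
  obtain ⟨G, e, he⟩ := hf
  refine ⟨G, e, he, ?_⟩
  let q := BasedFunctor.comp e (FibCat.fpFst y f)
  let π := AlgSt.spMapOfOver q
  obtain ⟨kq⟩ := spMapOfOver_eq q
  let T := fun i => (AlgSp.yon S).map (c i)
  have sq := fun i => IsPullback.of_hasPullback π (T i)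
  have hA : ∀ i, AlgSp.IsAlgSpace (pullback π (T i)) := fun i =>
    H12AlgSp.isAlgSpace_of_isPullback (AlgSp.IsAlgSpace.yon_obj U).diag G.property
      (AlgSp.IsAlgSpace.yon_obj (C i)) (sq i)
  refine (hP (fun i => (AlgSp.yon S).obj (C i)) T (AlgSp.IsAlgSpace.yon_obj U)
    (fun i => AlgSp.IsAlgSpace.yon_obj (C i)) ⟨fun i => ⟨?_, ?_⟩, fun x => ?_⟩ π G.property
    (fun i => pullback π (T i)) (fun i => pullback.snd π (T i)) (fun i => pullback.fst π (T i))
    hA sq).2 fun i => ?_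
  · exact H12AlgSp.locP_of_repWith H12AlgSp.etLocal_flat
      ((AlgSp.repWith_yon_map_iff _ _).2 (hflat i))
  · exact H12AlgSp.locP_of_repWith H12AlgSp.etLocal_lfp
      ((AlgSp.repWith_yon_map_iff _ _).2 (hlfp i))
  · obtain ⟨z, rfl⟩ := (AlgSp.Points.schemeEquiv U).surjective x
    obtain ⟨i, w, rfl⟩ := hs z
    exact ⟨i, AlgSp.Points.ofScheme (C i) w, range_map_yon_map (c i) w⟩
  have : (BasedFunctor.id (FibCat.overCat U)).toFunctor.Full :=
    inferInstanceAs (𝟭 (Over U)).Full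
  have : (BasedFunctor.id (FibCat.overCat U)).toFunctor.Faithful :=
    inferInstanceAs (𝟭 (Over U)).Faithful
  obtain ⟨⟨_, _⟩, -⟩ := (isEquivOver_iff _).1 (toOverCat_isEquivOver U)
  obtain ⟨⟨_, _⟩, hes⟩ := (isEquivOver_iff _).1 he
  have : (BasedFunctor.id (AlgSt.ofSp G.obj)).toFunctor.Full :=
    inferInstanceAs (𝟭 (Stk.EltObj G.obj.obj)).Full
  have : (BasedFunctor.id (AlgSt.ofSp G.obj)).toFunctor.Faithful :=
    inferInstanceAs (𝟭 (Stk.EltObj G.obj.obj)).Faithful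
  let y₀ := BasedFunctor.comp (AlgSt.ofOverCat (C i)) (Stk.ofPshMap (T i).hom)
  have sq' : IsPullback (pullback.snd π (T i)).hom (pullback.fst π (T i)).hom (testMap y₀) π.hom := by
    rw [testMap_ofOverCat]
    exact ((sq i).map (sheafToPresheaf (AlgSp.J S) (Type (u + 1)))).flip
  obtain ⟨E, hE, ⟨k⟩⟩ := exists_comparison π.hom y₀ sq'
  let m : AlgSt.overMap (c i) ≅ BasedFunctor.comp y₀ (AlgSt.toOverCat U) :=
    mkIso (fun s => Iso.refl _)
      (fun {_ _} φ => (Category.comp_id _).trans ((Category.id_comp _).trans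
        (Over.OverMorphism.ext rfl)).symm)
      (fun s => IsHomLift.id rfl)
  let M₁ : FibCat.fp y₀ (AlgSt.ofSpMap π) ⥤ᵇ FibCat.fp (AlgSt.overMap (c i)) q :=
    fpMap (BasedFunctor.id _) (BasedFunctor.id (AlgSt.ofSp G.obj)) (AlgSt.toOverCat U) m.symm kq.symm
  have hM₁ : FibCat.IsEquivOver M₁ :=
    fpMap_isEquivOver _ _ _ _ _ (essSurjOver_id _) (essSurjOver_id _)
  let M₂ : FibCat.fp (AlgSt.overMap (c i)) q ⥤ᵇ
      FibCat.fp (AlgSt.overMap (c i)) (FibCat.fpFst y f) :=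
    fpMap (BasedFunctor.id _) e (BasedFunctor.id (FibCat.overCat U)) (Iso.refl _) (Iso.refl q)
  have hM₂ : FibCat.IsEquivOver M₂ := fpMap_isEquivOver _ _ _ _ _ (essSurjOver_id _) hes
  exact prop_of_repData hiso (h i) (G := ⟨pullback π (T i), hA i⟩)
    (e := BasedFunctor.comp (BasedFunctor.comp (BasedFunctor.comp E M₁) M₂)
      (pasteBase y f (AlgSt.overMap (c i))))
    (isEquivOver_comp (isEquivOver_comp (isEquivOver_comp hE hM₁) hM₂)
      (pasteBase_isEquivOver y f (AlgSt.overMap (c i)))) k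

/-- Descent along a morphism which is locally essentially surjective. -/
lemma repWith_of_cover (hP : AlgSp.IsLocalOnBase AlgSp.IsFppfCover P) (hiso : SourceIsoInv P)
    (hf : AlgSt.RepByAlgSp1 f) (g : 𝒵 ⥤ᵇ 𝒴)
    (hg : ∀ (U : Over S) (y : FibCat.overCat U ⥤ᵇ 𝒴), ∃ (ι : Type u) (C : ι → Over S)
      (c : ∀ i, C i ⟶ U), (∀ i, Flat (c i).left) ∧ (∀ i, LocallyOfFinitePresentation (c i).left) ∧
      (∀ z : U.left, ∃ i, z ∈ Set.range (c i).left) ∧
      ∀ i, ∃ z : FibCat.overCat (C i) ⥤ᵇ 𝒵,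
        Nonempty (BasedFunctor.comp z g ≅ BasedFunctor.comp (AlgSt.overMap (c i)) y))
    (h : AlgSt.RepByAlgSpWith P (FibCat.fpFst g f)) : AlgSt.RepByAlgSpWith P f := by
  intro U y
  obtain ⟨ι, C, c, h1, h2, h3, h4⟩ := hg U y
  refine repData_of_family hP hiso y (hf U y) C c h1 h2 h3 fun i => ?_
  obtain ⟨z, ⟨j⟩⟩ := h4 i
  exact repData_congr j (RepData.of_equiv P (pasteBase_isEquivOver g f z) (Iso.refl _) (h (C i) z))

/-- Lifting along a surjective flat locally finitely presented morphism, fppf locally. -/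
lemma exists_lift_of_fppf {w : 𝒵 ⥤ᵇ 𝒴} (h1 : AlgSt.RepByAlgSpWith (AlgSp.LocP @Flat) w)
    (h2 : AlgSt.RepByAlgSpWith (AlgSp.LocP @LocallyOfFinitePresentation) w)
    (h3 : AlgSt.RepByAlgSpWith AlgSp.IsSurjectiveMor w) (U : Over S)
    (y : FibCat.overCat U ⥤ᵇ 𝒴) :
    ∃ (ι : Type u) (C : ι → Over S) (c : ∀ i, C i ⟶ U),
      (∀ i, Flat (c i).left) ∧ (∀ i, LocallyOfFinitePresentation (c i).left) ∧
      (∀ z : U.left, ∃ i, z ∈ Set.range (c i).left) ∧
      ∀ i, ∃ z : FibCat.overCat (C i) ⥤ᵇ 𝒵,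
        Nonempty (BasedFunctor.comp z w ≅ BasedFunctor.comp (AlgSt.overMap (c i)) y) := by
  obtain ⟨F, e, he, hσf⟩ := h1 U y
  let q := BasedFunctor.comp e (FibCat.fpFst y w)
  let σ := AlgSt.spMapOfOver q
  obtain ⟨k⟩ := spMapOfOver_eq q
  have hσl : AlgSp.LocP @LocallyOfFinitePresentation σ :=
    prop_of_repData (sourceIsoInv_locP _) (h2 U y) he k
  have hσs : AlgSp.IsSurjectiveMor σ := prop_of_repData sourceIsoInv_surjective (h3 U y) he k
  have hU := AlgSp.IsAlgSpace.yon_obj U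
  obtain ⟨A, p, hpe, hps⟩ := F.property.atlas
  obtain ⟨c, hc⟩ := (AlgSp.yon S).map_surjective (p ≫ σ)
  have key : ∀ {Q : MorphismProperty Scheme.{u}}, H12AlgSp.EtLocal Q → AlgSp.LocP Q σ → Q c.left :=
    fun {Q} hQ h => AlgSp.locP_yon_map (hc ▸ H12AlgSp.locP_comp hQ (AlgSp.IsAlgSpace.yon_obj A)
      F.property hU (H12AlgSp.locP_mono hQ.etale_le
        (H12AlgSp.locP_of_repWith H12AlgSp.etLocal_etale hpe)) h)
  refine ⟨PUnit.{u+1}, fun _ => A, fun _ => c, fun _ => key H12AlgSp.etLocal_flat hσf,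
    fun _ => key H12AlgSp.etLocal_lfp hσl, fun t => ?_, fun _ => ?_⟩
  · obtain ⟨r, hr⟩ := hσs (AlgSp.Points.ofScheme U t)
    obtain ⟨r', rfl⟩ := H12AlgSp.surjective_map_of_repWith le_rfl hps r
    obtain ⟨a, rfl⟩ := (AlgSp.Points.schemeEquiv A).surjective r'
    refine ⟨PUnit.unit, a, (AlgSp.Points.schemeEquiv U).injective ?_⟩
    rw [← AlgSp.Points.map_comp, ← hc] at hr
    exact ((range_map_yon_map c a).symm.trans hr)
  · let z₀ := BasedFunctor.comp (BasedFunctor.comp (AlgSt.ofOverCat A) (AlgSt.ofSpMap p)) e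
    refine ⟨BasedFunctor.comp z₀ (FibCat.fpSnd y w), ⟨?_⟩⟩
    let m : BasedFunctor.comp (BasedFunctor.comp (AlgSt.ofOverCat A) (AlgSt.ofSpMap (p ≫ σ)))
        (AlgSt.toOverCat U) ≅ AlgSt.overMap c := by
      rw [← hc]
      exact mkIso (fun s => Iso.refl _)
        (fun {_ _} φ => (Category.comp_id _).trans ((Category.id_comp _).trans
          (Over.OverMorphism.ext rfl)).symm)
        (fun s => IsHomLift.id rfl)
    exact (Stk.restr z₀ _).mapIso (FibCat.fpIso y w).symm ≪≫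
      (post (FibCat.overCat A) y).mapIso
        ((Stk.restr (BasedFunctor.comp (AlgSt.ofOverCat A) (AlgSt.ofSpMap p)) _).mapIso k ≪≫ m)

/-- Descent along a surjective flat locally finitely presented morphism. -/
lemma repWith_of_fppf (hP : AlgSp.IsLocalOnBase AlgSp.IsFppfCover P) (hiso : SourceIsoInv P)
    (hf : AlgSt.RepByAlgSp1 f) {w : 𝒵 ⥤ᵇ 𝒴} (h1 : AlgSt.RepByAlgSpWith (AlgSp.LocP @Flat) w)
    (h2 : AlgSt.RepByAlgSpWith (AlgSp.LocP @LocallyOfFinitePresentation) w)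
    (h3 : AlgSt.RepByAlgSpWith AlgSp.IsSurjectiveMor w)
    (h : AlgSt.RepByAlgSpWith P (FibCat.fpFst w f)) : AlgSt.RepByAlgSpWith P f :=
  repWith_of_cover hP hiso hf w (exists_lift_of_fppf h1 h2 h3) h

/-- A property of the base change to an algebraic space spreads to the whole fibre product. -/
lemma repWith_fpFst_of_space (hb : BaseStable P) {W : AlgSp.Space S}
    {w : AlgSt.ofSp W.obj ⥤ᵇ 𝒴} {V : AlgSp.Space S} {e : AlgSt.ofSp V.obj ⥤ᵇ FibCat.fp w f}
    (he : FibCat.IsEquivOver e) {a : V.obj ⟶ W.obj}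
    (k : BasedFunctor.comp e (FibCat.fpFst w f) ≅ AlgSt.ofSpMap a) (ha : P a) :
    AlgSt.RepByAlgSpWith P (FibCat.fpFst w f) := fun _ y₀ =>
  RepData.of_equiv' P (pasteBase_isEquivOver w f y₀) (Iso.refl _) (repData_of_space hb he k ha y₀)

end Groth.Agent.H14AlgSt
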