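import Groth.Agent.H14AlgSt.Diag2
import Groth.Agent.S10519
import Groth.Agent.S10520
import Groth.Agent.S10536
import Groth.Agent.S10541
import Groth.Agent.S10543

/-!
# Fppf descent for properties of diagonals
-/

set_option autoImplicit false
set_option backward.isDefEq.respectTransparency false
set_option backward.isDefEq.respectTransparency.types false

universe u

open CategoryTheory Opposite AlgebraicGeometry CategoryTheory.Limits

namespace Groth.Agent.H14AlgSt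

open H14Fib H14Stk

variable {S : Scheme.{u}} {P : MorphismProperty (AlgSp.Sp S)} {𝒳 𝒴 𝒵 : AlgSt.Cat S}

lemma repWith_diag_baseChange {f : 𝒳 ⥤ᵇ 𝒴} {w : 𝒵 ⥤ᵇ 𝒴}
    (h : AlgSt.RepByAlgSpWith P (FibCat.diag (FibCat.fpFst w f))) {U : Over S}
    {z : FibCat.overCat U ⥤ᵇ 𝒵} {y : FibCat.overCat U ⥤ᵇ 𝒴} (i : BasedFunctor.comp z w ≅ y) :
    AlgSt.RepByAlgSpWith P (FibCat.diag (FibCat.fpFst y f)) := by
  have h1 : AlgSt.RepByAlgSpWith P (FibCat.diag (FibCat.fpFst (BasedFunctor.comp z w) f)) :=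
    (repWith_diag_square (f := FibCat.fpFst (BasedFunctor.comp z w) f)
      (f' := FibCat.fpFst z (FibCat.fpFst w f)) (pasteBase_isEquivOver w f z)
      (isEquivOver_id (FibCat.overCat U)) (Iso.refl _)).2 (repWith_diag_fpFst z h)
  let E : FibCat.fp y f ⥤ᵇ FibCat.fp (BasedFunctor.comp z w) f :=
    fpMap (F := BasedFunctor.comp z w) (G := f) (BasedFunctor.id (FibCat.overCat U))
      (BasedFunctor.id 𝒳) (BasedFunctor.id 𝒴) i.symm
      (Iso.refl (BasedFunctor.comp f (BasedFunctor.id 𝒴)))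
  have hE : FibCat.IsEquivOver E :=
    fpMap_isEquivOver _ _ _ _ _ (essSurjOver_id _) (essSurjOver_id _)
  exact (repWith_diag_square (f := FibCat.fpFst (BasedFunctor.comp z w) f)
    (f' := FibCat.fpFst y f) hE (isEquivOver_id (FibCat.overCat U)) (Iso.refl _)).1 h1

/-- Properties of diagonals descend along fppf surjections of the target. -/
lemma repWith_diag_of_fppf (hP : AlgSp.IsLocalOnBase AlgSp.IsFppfCover P) (hiso : SourceIsoInv P)
    {f : 𝒳 ⥤ᵇ 𝒴} (hf : AlgSt.RepByAlgSp1 (FibCat.diag f)) {w : 𝒵 ⥤ᵇ 𝒴}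
    (h1 : AlgSt.RepByAlgSpWith (AlgSp.LocP @Flat) w)
    (h2 : AlgSt.RepByAlgSpWith (AlgSp.LocP @LocallyOfFinitePresentation) w)
    (h3 : AlgSt.RepByAlgSpWith AlgSp.IsSurjectiveMor w)
    (h : AlgSt.RepByAlgSpWith P (FibCat.diag (FibCat.fpFst w f))) :
    AlgSt.RepByAlgSpWith P (FibCat.diag f) := by
  intro U z
  obtain ⟨ι, C, c, hc1, hc2, hc3, hc4⟩ := exists_lift_of_fppf h1 h2 h3 U
    (BasedFunctor.comp (BasedFunctor.comp z (FibCat.fpFst f f)) f)
  refine repData_of_family hP hiso z (hf U z) C c hc1 hc2 hc3 fun i => ?_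
  obtain ⟨z', ⟨j⟩⟩ := hc4 i
  exact repData_diag_at _ (repWith_diag_baseChange h j)

lemma localFppf_unramified : AlgSp.IsLocalOnBase (AlgSp.IsFppfCover (S := S))
    (AlgSp.LocP (@LocallyOfFiniteType ⊓ @FormallyUnramified)) :=
  localFppf_of_fpqc (S10543.result S)

lemma localFppf_quasiFinite : AlgSp.IsLocalOnBase (AlgSp.IsFppfCover (S := S))
    (AlgSp.LocP (@LocallyQuasiFinite ⊓ @LocallyOfFiniteType)) :=
  localFppf_of_fpqc (S10541.result S).1

lemma localFppf_proper : AlgSp.IsLocalOnBase (AlgSp.IsFppfCover (S := S)) AlgSp.IsProperMor :=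
  localFppf_of_fpqc (S10536.result S)

lemma localFppf_qcqs : AlgSp.IsLocalOnBase (AlgSp.IsFppfCover (S := S)) QCQS :=
  localFppf_of_fpqc fun _ _ Yi g hY hYi hg X f hX Xi p q hXi sq =>
    ⟨fun hf i => ⟨((S10519.result S) Yi g hY hYi hg f hX Xi p q hXi sq).1 hf.1 i,
        ((S10520.result S) Yi g hY hYi hg f hX Xi p q hXi sq).1 hf.2 i⟩,
      fun hp => ⟨((S10519.result S) Yi g hY hYi hg f hX Xi p q hXi sq).2 fun i => (hp i).1,
        ((S10520.result S) Yi g hY hYi hg f hX Xi p q hXi sq).2 fun i => (hp i).2⟩⟩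

/-- A property of the diagonal of a stack read off from an fppf atlas by a space. -/
lemma repWith_diag_of_space_atlas {R : MorphismProperty Scheme.{u}} (hR : H12AlgSp.EtLocal R)
    (hc : ∀ ⦃A B C : Scheme.{u}⦄ (f : A ⟶ B) (g : B ⟶ C), R (f ≫ g) → R f)
    (hP : AlgSp.IsLocalOnBase AlgSp.IsFppfCover (AlgSp.LocP (S := S) R))
    (h𝒳 : AlgSt.IsAlgStack Scheme.fppfPrecoverage 𝒳) {W : AlgSp.Space S}
    {w : AlgSt.ofSp W.obj ⥤ᵇ 𝒳} (h1 : AlgSt.RepByAlgSpWith (AlgSp.LocP @Flat) w)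
    (h2 : AlgSt.RepByAlgSpWith (AlgSp.LocP @LocallyOfFinitePresentation) w)
    (h3 : AlgSt.RepByAlgSpWith AlgSp.IsSurjectiveMor w)
    (h4 : AlgSt.RepByAlgSpWith (AlgSp.LocP R) w) :
    AlgSt.RepByAlgSpWith (AlgSp.LocP R) (FibCat.diag (FibCat.toSelf 𝒳)) := by
  obtain ⟨U, p, hp1, hp2⟩ := (hasAtlas_ofSp W).2
  have hU := repByAlgSp_overCat U
  have hU' := (isFibSetoid_of_rep hU).1
  have hW := (isFibSetoid_of_rep (repByAlgSp_ofSp W)).1
  let x := BasedFunctor.comp p w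
  have comp : ∀ {Q : MorphismProperty Scheme.{u}}, H12AlgSp.EtLocal Q →
      AlgSt.RepByAlgSpWith (AlgSp.LocP Q) w → AlgSt.RepByAlgSpWith (AlgSp.LocP Q) x :=
    fun {Q} hQ hw => repWith_locP_comp hQ hU' hW (repWith_mono (fun _ _ _ h =>
      H12AlgSp.locP_mono hQ.etale_le (H12AlgSp.locP_etale_of_isEtaleMor h)) hp1) hw
  let H := FibCat.toSelf 𝒳
  have hR' : AlgSt.RepByAlgSp (FibCat.fp x x) := repByAlgSp1_of_with (comp hR h4) U x
  have hQ : AlgSt.RepByAlgSp (FibCat.fp (BasedFunctor.comp x H) (BasedFunctor.comp x H)) := by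
    rw [comp_toSelf]
    exact repByAlgSp_prod hU hU
  refine repWith_diag_of_atlas hP (sourceIsoInv_locP _) h𝒳.diag (comp H12AlgSp.etLocal_flat h1)
    (comp H12AlgSp.etLocal_lfp h2) (repWith_surjective_comp hU' hW hp2 h3) ?_
  exact repWith_cancel (baseStable_locP hR) (cancelsLeft_locP hR hc)
    (isFibSetoid_of_rep hR').1 (isFibSetoid_of_rep hQ).1
    (g := FibCat.fpFst (BasedFunctor.comp x H) (BasedFunctor.comp x H))
    (repByAlgSp1_of_rep hR' hQ _) (repWith_fpFst x (comp hR h4))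
    (with_top_of_repByAlgSp1 (repByAlgSp1_of_rep hQ hU _))

end Groth.Agent.H14AlgSt
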