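import Groth.Agent.H14AlgSt.EtaleAtlas
import Groth.Agent.H14AlgSt.Bootstrap
import Groth.Agent.H14AlgSt.DiagDescent
import Groth.Agent.H14Stk.SetoidPsh
import Groth.Agent.H12AlgSp.RepBySp
import Groth.Agent.H13AlgSp.FpqcIso

/-!
# Algebraic stacks without automorphisms are algebraic spaces
-/

set_option autoImplicit false
set_option backward.isDefEq.respectTransparency false
set_option backward.isDefEq.respectTransparency.types false

universe u

open CategoryTheory CategoryTheory.Functor Opposite AlgebraicGeometry CategoryTheory.Limits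

noncomputable section

namespace Groth.Agent.H14AlgSt

open H14Fib H14Stk

variable {S : Scheme.{u}} {𝒳 𝒴 : AlgSt.Cat S} {U T : Over S}

local notation "K₀" => Scheme.fppfPrecoverage

lemma respectsIso_locP (P : MorphismProperty Scheme.{u}) :
    (AlgSp.LocP (S := S) P).RespectsIso := by
  refine MorphismProperty.RespectsIso.mk _ ?_ ?_
  · intro X Y Z e f hf U V a b g ha hb w
    let i := e.hom
    exact hf (a ≫ i) b g (MorphismProperty.RespectsIso.postcomp (AlgSp.RepWith @Etale) i a ha) hb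
      (by rw [Category.assoc, w])
  · intro X Y Z e f hf U V a b g ha hb w
    let i := e.hom
    exact hf a (b ≫ inv i) g ha
      (MorphismProperty.RespectsIso.postcomp (AlgSp.RepWith @Etale) (inv i) b hb)
      (by rw [← Category.assoc, IsIso.eq_comp_inv, Category.assoc, w])

lemma respectsIso_surjective : (AlgSp.IsSurjectiveMor (S := S)).RespectsIso := by
  have key : ∀ {F G : AlgSp.Sp S} (i : F ⟶ G) [IsIso i], Function.Surjective (AlgSp.Points.map i) :=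
    fun {F G} i _ y => ⟨AlgSp.Points.map (inv i) y, by
      rw [← AlgSp.Points.map_comp, IsIso.inv_hom_id, AlgSp.Points.map_id]⟩
  refine MorphismProperty.RespectsIso.mk _ ?_ ?_
  · intro X Y Z e f hf
    intro z
    obtain ⟨y, rfl⟩ := hf z
    obtain ⟨x, rfl⟩ := key e.hom y
    exact ⟨x, AlgSp.Points.map_comp _ _ _⟩
  · intro X Y Z e f hf
    intro z
    obtain ⟨y, rfl⟩ := key e.hom z
    obtain ⟨x, rfl⟩ := hf y
    exact ⟨x, AlgSp.Points.map_comp _ _ _⟩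

/-- A monomorphism of spaces to a scheme is unramified. -/
lemma locP_formallyUnramified_of_mono {G : AlgSp.Sp S} (hG : AlgSp.IsAlgSpace G)
    (π : G ⟶ (AlgSp.yon S).obj T) [Mono π] : AlgSp.LocP @FormallyUnramified π := by
  obtain ⟨A, p, hp, hps⟩ := hG.atlas
  obtain ⟨v, hv⟩ := (AlgSp.yon S).map_surjective (p ≫ π)
  refine H12AlgSp.locP_of_one_chart H12AlgSp.etLocal_formallyUnramified v hp hps
    (AlgSp.repWith_id @Etale T) (by rw [hv, Category.comp_id]) ?_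
  have sq := (IsPullback.of_hasPullback v v).map (AlgSp.yon S)
  rw [hv] at sq
  have w : (AlgSp.yon S).map (pullback.fst v v) ≫ p = (AlgSp.yon S).map (pullback.snd v v) ≫ p := by
    rw [← cancel_mono π, Category.assoc, Category.assoc]
    exact sq.w
  have sq' : IsPullback ((AlgSp.yon S).map (pullback.fst v v))
      ((AlgSp.yon S).map (pullback.snd v v)) p p :=
    IsPullback.of_isLimit' ⟨w⟩ (PullbackCone.IsLimit.mk w
      (fun s => sq.lift s.fst s.snd (by rw [s.condition_assoc]))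
      (fun s => sq.lift_fst _ _ _) (fun s => sq.lift_snd _ _ _)
      (fun s m h1 h2 => sq.hom_ext (by rw [sq.lift_fst, h1]) (by rw [sq.lift_snd, h2])))
  have hE : Etale (pullback.snd v v).left :=
    (AlgSp.repWith_yon_map_iff @Etale _).1 (MorphismProperty.of_isPullback sq' hp)
  let e := ((IsPullback.of_hasPullback v v).map (Over.forget S)).isoPullback
  have : Etale (pullback.snd v.left v.left) := by
    rw [show pullback.snd v.left v.left = e.inv ≫ (pullback.snd v v).left by simp [e]]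
    infer_instance
  have : Etale (pullback.diagonal v.left ≫ pullback.snd v.left v.left) := by
    rw [pullback.diagonal_snd]
    infer_instance
  have : Etale (pullback.diagonal v.left) := Etale.of_comp _ (pullback.snd v.left v.left)
  have : IsOpenImmersion (pullback.diagonal v.left) :=
    IsOpenImmersion.of_flat_of_mono _
  exact inferInstance

/-- A monomorphism locally of finite type is unramified. -/
lemma repWith_unramified_of_mono {f : 𝒳 ⥤ᵇ 𝒴}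
    (hm : AlgSt.RepByAlgSpWith (MorphismProperty.monomorphisms (AlgSp.Sp S)) f)
    (hl : AlgSt.RepByAlgSpWith (AlgSp.LocP @LocallyOfFiniteType) f) :
    AlgSt.RepByAlgSpWith (AlgSp.LocP (@LocallyOfFiniteType ⊓ @FormallyUnramified)) f := by
  intro U z
  obtain ⟨F, e, he, hu⟩ := hm U z
  obtain ⟨k⟩ := spMapOfOver_eq (BasedFunctor.comp e (FibCat.fpFst z f))
  have : Mono (AlgSt.spMapOfOver (BasedFunctor.comp e (FibCat.fpFst z f))) := hu
  exact ⟨F, e, he, H12AlgSp.locP_inf_iff.2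
    ⟨prop_of_repData (sourceIsoInv_locP _) (hl U z) he k,
      locP_formallyUnramified_of_mono F.property _⟩⟩

lemma full_faithful_fpFst {𝒵 : AlgSt.Cat S} (g : 𝒵 ⥤ᵇ 𝒴) (f : 𝒳 ⥤ᵇ 𝒴) [f.toFunctor.Full]
    [f.toFunctor.Faithful] :
    (FibCat.fpFst g f).toFunctor.Full ∧ (FibCat.fpFst g f).toFunctor.Faithful := by
  refine ⟨⟨fun {p q} φ => ?_⟩, ⟨fun {p q} m n h => ?_⟩⟩
  · let ψ : f.obj p.obj.snd ⟶ f.obj q.obj.snd := p.obj.iso.inv ≫ g.map φ ≫ q.obj.iso.hom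
    refine ⟨fpHom φ (f.toFunctor.preimage ψ) ?_, rfl⟩
    change g.map φ ≫ q.obj.iso.hom = p.obj.iso.hom ≫ f.map (f.toFunctor.preimage ψ)
    rw [f.toFunctor.map_preimage, Iso.hom_inv_id_assoc]
  · have h1 : m.hom.fst = n.hom.fst := h
    refine fp_hom_ext h1 (f.toFunctor.map_injective ?_)
    have hm : g.map m.hom.fst ≫ q.obj.iso.hom = p.obj.iso.hom ≫ f.map m.hom.snd := m.hom.w
    have hn : g.map n.hom.fst ≫ q.obj.iso.hom = p.obj.iso.hom ≫ f.map n.hom.snd := n.hom.w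
    rw [← cancel_epi p.obj.iso.hom, ← hm, ← hn, h1]

/-- A fully faithful functor to a slice is injective on sections. -/
lemma mono_spMapOfOver {F : AlgSp.Sp S} (Φ : AlgSt.ofSp F ⥤ᵇ FibCat.overCat U)
    [Φ.toFunctor.Full] [Φ.toFunctor.Faithful] : Mono (AlgSt.spMapOfOver Φ) := by
  apply (sheafToPresheaf (AlgSp.J S) (Type (u + 1))).mono_of_mono_map
  change Mono (AlgSt.spMapOfOver Φ).hom
  rw [NatTrans.mono_iff_mono_app]
  intro ⟨T⟩
  rw [mono_iff_injective]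
  intro s s' h
  have h' : AlgSt.secHom Φ ⟨T, s⟩ = AlgSt.secHom Φ ⟨T, s'⟩ := congrArg ULift.down h
  have hl : (Φ.obj ⟨T, s⟩).left = (Φ.obj ⟨T, s'⟩).left :=
    (Φ.w_obj ⟨T, s⟩).trans (Φ.w_obj ⟨T, s'⟩).symm
  let i : Φ.obj ⟨T, s⟩ ≅ Φ.obj ⟨T, s'⟩ := Over.isoMk (eqToIso hl) (by
    rw [← cancel_epi (eqToHom (Φ.w_obj ⟨T, s⟩).symm)]
    exact (by simp [AlgSt.secHom] at h' ⊢; exact h'.symm))
  let k : (⟨T, s⟩ : (AlgSt.ofSp F).obj) ⟶ ⟨T, s'⟩ := Φ.toFunctor.preimage i.hom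
  have hi : (FibCat.overCat U).p.IsHomLift (𝟙 T) i.hom :=
    IsHomLift.of_fac' _ _ _ (Φ.w_obj ⟨T, s⟩) (Φ.w_obj ⟨T, s'⟩)
      (show eqToHom hl = _ by simp)
  have hk : (AlgSt.ofSp F).p.IsHomLift (𝟙 T) k := by
    refine (BasedFunctor.isHomLift_iff Φ _ _).1 ?_
    rw [Φ.toFunctor.map_preimage]
    exact hi
  have hkh : k.hom = 𝟙 T := by
    have := IsHomLift.fac' (AlgSt.ofSp F).p (𝟙 T) k
    exact this.trans (by simp)
  have := k.map_sec
  rw [hkh, op_id, CategoryTheory.Functor.map_id] at this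
  exact this.symm

/-- A fully faithful representable morphism is a monomorphism. -/
lemma isMono_of_ff {f : 𝒳 ⥤ᵇ 𝒴} [f.toFunctor.Full] [f.toFunctor.Faithful]
    (hf : AlgSt.RepByAlgSp1 f) : AlgSt.IsMono f := by
  intro U y
  obtain ⟨G, e, he⟩ := hf U y
  obtain ⟨h1, h2⟩ := full_faithful_fpFst y f
  obtain ⟨⟨_, _⟩, -⟩ := (isEquivOver_iff e).1 he
  have : (BasedFunctor.comp e (FibCat.fpFst y f)).toFunctor.Full :=
    Functor.Full.comp e.toFunctor (FibCat.fpFst y f).toFunctor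
  have : (BasedFunctor.comp e (FibCat.fpFst y f)).toFunctor.Faithful :=
    Functor.Faithful.comp e.toFunctor (FibCat.fpFst y f).toFunctor
  exact ⟨G, e, he, mono_spMapOfOver _⟩

/-- The diagonal of a category fibred in setoids is fully faithful. -/
lemma full_faithful_diag_of_fibSetoid (hs : FibCat.IsFibSetoid 𝒳.p) :
    (FibCat.diag (FibCat.toSelf 𝒳)).toFunctor.Full ∧
      (FibCat.diag (FibCat.toSelf 𝒳)).toFunctor.Faithful := by
  have := faithful_of_fibSetoid hs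
  refine ⟨⟨fun {a b} m => ⟨m.hom.fst, fp_hom_ext rfl (𝒳.p.map_injective ?_)⟩⟩,
    ⟨fun {a b} m n h => congrArg (fun t => t.hom.fst) h⟩⟩
  have := m.hom.w
  change (FibCat.toSelf 𝒳).map m.hom.fst ≫ 𝟙 _ = 𝟙 _ ≫ (FibCat.toSelf 𝒳).map m.hom.snd at this
  rw [Category.comp_id, Category.id_comp] at this
  exact this

lemma repWith_unramified_diag_of_fibSetoid {K : Precoverage Scheme.{u}} (hX : AlgSt.IsAlgStack K 𝒳)
    (hs : FibCat.IsFibSetoid 𝒳.p) :
    AlgSt.RepByAlgSpWith (AlgSp.LocP (@LocallyOfFiniteType ⊓ @FormallyUnramified))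
      (FibCat.diag (FibCat.toSelf 𝒳)) := by
  obtain ⟨_, _⟩ := full_faithful_diag_of_fibSetoid hs
  exact repWith_unramified_of_mono (isMono_of_ff hX.diag) (repWith_lft_diag_toSelf hX)

/-- An algebraic stack fibred in setoids is an algebraic space. -/
theorem repByAlgSp_of_fibSetoid (hX : AlgSt.IsAlgStack K₀ 𝒳) (hs : FibCat.IsFibSetoid 𝒳.p) :
    AlgSt.RepByAlgSp 𝒳 := by
  obtain ⟨U, x, hx, hxs⟩ := hasAtlas_etale hX (repWith_unramified_diag_of_fibSetoid hX hs)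
  let c := classFun hX.isStack.1
  have hc : FibCat.IsEquivOver c := classFun_isEquivOver hX.isStack.1 hs
  have hst := (isStack_iff (AlgSp.J S) hc).1 hX.isStack
  let F : AlgSp.Sp S := ⟨classPsh hX.isStack.1,
    (isSheaf_iff_isSheaf_of_type _ _).2 ((isStack_ofPsh_iff _).1 hst)⟩
  let Φ : AlgSt.ofSp ((AlgSp.yon S).obj U) ⥤ᵇ AlgSt.ofSp F :=
    BasedFunctor.comp (BasedFunctor.comp (AlgSt.toOverCat U) x) c
  let π : (AlgSp.yon S).obj U ⟶ F := ObjectProperty.homMk (mapOfFun Φ)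
  let k : Φ ≅ AlgSt.ofSpMap π := isoOfPshMap Φ
  have h1 : AlgSt.RepByAlgSpWith (AlgSp.LocP @Etale) (AlgSt.ofSpMap π) :=
    repWith_of_iso k ((repWith_comp_equiv_iff hc).2
      ((repWith_equiv_comp_iff (toOverCat_isEquivOver U)).1 hx))
  have h2 : AlgSt.RepByAlgSpWith AlgSp.IsSurjectiveMor (AlgSt.ofSpMap π) :=
    repWith_of_iso k ((repWith_comp_equiv_iff hc).2
      ((repWith_equiv_comp_iff (toOverCat_isEquivOver U)).1 hxs))
  have := respectsIso_locP (S := S) @Etale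
  have := respectsIso_surjective (S := S)
  have g1 := (AlgSp.repBySpWith_hom_iff _ π).1 ((repBySpWith_iff _ π.hom).2 h1)
  have g2 := (AlgSp.repBySpWith_hom_iff _ π).1 ((repBySpWith_iff _ π.hom).2 h2)
  have hF : AlgSp.IsAlgSpace F :=
    H12AlgSp.isAlgSpace_of_repBySp_etale (AlgSp.IsAlgSpace.yon_obj U) π fun V ξ F' fst snd sq =>
      have hF' := (g1 ξ fst snd sq).1
      ⟨hF', (g2 ξ fst snd sq).2, H12AlgSp.isEtaleMor_of_locP_etale (AlgSp.IsAlgSpace.yon_obj V)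
        (g1 ξ fst snd sq).2⟩
  exact repByAlgSp_of_equiv' hc ⟨⟨F, hF⟩, BasedFunctor.id _, isEquivOver_id _⟩

/-- A base change of a faithful morphism by a scheme is fibred in setoids. -/
lemma fp_overCat_fibSetoid (hX : FibCat.IsFibGrpd 𝒳.p) (hY : FibCat.IsFibGrpd 𝒴.p)
    {f : 𝒳 ⥤ᵇ 𝒴} [f.toFunctor.Faithful] (y : FibCat.overCat U ⥤ᵇ 𝒴) :
    FibCat.IsFibSetoid (FibCat.fp y f).p := by
  refine ⟨fp_fibGrpd (fibGrpd_overCat U) hX hY, fun T a b => ⟨fun m n => ?_⟩⟩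
  have hm : (FibCat.fp y f).p.IsHomLift (𝟙 T) m.1 := m.2
  have hn : (FibCat.fp y f).p.IsHomLift (𝟙 T) n.1 := n.2
  have h1 : m.1.hom.fst = n.1.hom.fst :=
    overCat_hom_ext _ _ ((fp_isHomLift_iff _ _).1 hm) ((fp_isHomLift_iff _ _).1 hn)
  refine Subtype.ext (fp_hom_ext h1 (f.toFunctor.map_injective ?_))
  have hm' : y.map m.1.hom.fst ≫ b.1.obj.iso.hom = a.1.obj.iso.hom ≫ f.map m.1.hom.snd := m.1.hom.w
  have hn' : y.map n.1.hom.fst ≫ b.1.obj.iso.hom = a.1.obj.iso.hom ≫ f.map n.1.hom.snd := n.1.hom.w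
  rw [← cancel_epi a.1.obj.iso.hom, ← hm', ← hn', h1]

/-- Faithful morphisms of algebraic stacks are representable by spaces. -/
theorem repByAlgSp1_of_faithful (hX : AlgSt.IsAlgStack K₀ 𝒳) (hY : AlgSt.IsAlgStack K₀ 𝒴)
    {f : 𝒳 ⥤ᵇ 𝒴} [f.toFunctor.Faithful] : AlgSt.RepByAlgSp1 f := fun U y =>
  repByAlgSp_of_fibSetoid (isAlgStack_fp' (isAlgStack_overCat U) hX hY y f)
    (fp_overCat_fibSetoid hX.isStack.1 hY.isStack.1 y)

/-- Trivial kernels on automorphisms give faithfulness. -/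
lemma faithful_of_autKernel (hX : FibCat.IsFibGrpd 𝒳.p) (hY : FibCat.IsFibGrpd 𝒴.p) {f : 𝒳 ⥤ᵇ 𝒴}
    (h : ∀ (a : 𝒳.obj) (φ : a ⟶ a), 𝒳.p.map φ = 𝟙 (𝒳.p.obj a) → f.map φ = 𝟙 (f.obj a) →
      φ = 𝟙 a) : f.toFunctor.Faithful := by
  have := isFibered_of_fibGrpd hX
  refine faithful_of_vertFaithful (MapSC.of_fibGrpd f hY) ?_
  intro U a b φ ψ hφ hψ he
  have hb : 𝒳.p.obj b = U := IsHomLift.codomain_eq 𝒳.p (𝟙 U) φ
  subst hb
  have := isIso_of_fibGrpd hX (𝟙 (𝒳.p.obj b)) φ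
  have hi : 𝒳.p.IsHomLift (𝟙 (𝒳.p.obj b)) (asIso φ).inv :=
    @IsHomLift.lift_id_inv _ _ _ _ 𝒳.p _ _ _ (asIso φ) hφ
  have hl := homLift_id_comp hi hψ
  have h1 := h b ((asIso φ).inv ≫ ψ) (by
    have := IsHomLift.fac' 𝒳.p (𝟙 (𝒳.p.obj b)) ((asIso φ).inv ≫ ψ)
    simpa using this) (by
    rw [f.toFunctor.map_comp, ← he, ← f.toFunctor.map_comp]
    simp)
  calc φ = φ ≫ ((asIso φ).inv ≫ ψ) := by rw [h1, Category.comp_id]
    _ = ψ := by simp

/-- A morphism with fully faithful diagonal is faithful. -/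
lemma faithful_of_full_diag {f : 𝒳 ⥤ᵇ 𝒴} (h : (FibCat.diag f).toFunctor.Full) :
    f.toFunctor.Faithful := ⟨fun {a b} φ ψ he => by
  let m : (FibCat.diag f).obj a ⟶ (FibCat.diag f).obj b := fpHom φ ψ (by
    change f.map φ ≫ 𝟙 _ = 𝟙 _ ≫ f.map ψ
    rw [Category.comp_id, Category.id_comp, he])
  obtain ⟨χ, hχ⟩ := h.map_surjective m
  exact (congrArg (fun t => t.hom.fst) hχ).symm.trans (congrArg (fun t => t.hom.snd) hχ)⟩

/-- The diagonal of a faithful morphism is fully faithful. -/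
lemma full_faithful_diag (f : 𝒳 ⥤ᵇ 𝒴) [f.toFunctor.Faithful] :
    (FibCat.diag f).toFunctor.Full ∧ (FibCat.diag f).toFunctor.Faithful := by
  refine ⟨⟨fun {a b} m => ⟨m.hom.fst, fp_hom_ext rfl (f.toFunctor.map_injective ?_)⟩⟩,
    ⟨fun {a b} m n h => congrArg (fun t => t.hom.fst) h⟩⟩
  have := m.hom.w
  change f.map m.hom.fst ≫ 𝟙 _ = 𝟙 _ ≫ f.map m.hom.snd at this
  rw [Category.comp_id, Category.id_comp] at this
  exact this

/-- The diagonal of a fully faithful functor is an equivalence. -/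
lemma isEquivOver_diag_of_ff (f : 𝒳 ⥤ᵇ 𝒴) [f.toFunctor.Full] [f.toFunctor.Faithful] :
    FibCat.IsEquivOver (FibCat.diag f) := by
  obtain ⟨h1, h2⟩ := full_faithful_diag f
  refine (isEquivOver_iff _).2 ⟨⟨h1, h2⟩, fun z => ?_⟩
  let d : z.obj.fst ≅ z.obj.snd := f.toFunctor.preimageIso z.obj.iso
  refine ⟨z.obj.fst, fpIsoMk (Iso.refl _) d ?_, (fp_isHomLift_iff _ _).2 (IsHomLift.id rfl)⟩
  change f.map (𝟙 _) ≫ z.obj.iso.hom = 𝟙 _ ≫ f.map d.hom
  simp [d]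

/-- An equivalence second diagonal gives faithfulness. -/
lemma faithful_of_equiv_diag_diag (hX : FibCat.IsFibGrpd 𝒳.p) (hY : FibCat.IsFibGrpd 𝒴.p)
    {f : 𝒳 ⥤ᵇ 𝒴} (h : FibCat.IsEquivOver (FibCat.diag (FibCat.diag f))) :
    f.toFunctor.Faithful := by
  refine faithful_of_autKernel hX hY fun a φ hp hφ => ?_
  have hl : 𝒳.p.IsHomLift (𝟙 (𝒳.p.obj a)) φ :=
    IsHomLift.of_fac' _ _ _ rfl rfl (by simpa using hp)
  have := isIso_of_fibGrpd hX (𝟙 (𝒳.p.obj a)) φ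
  let z : (FibCat.fp (FibCat.diag f) (FibCat.diag f)).obj :=
    fpObj a a (fpIsoMk (asIso φ) (Iso.refl a) (by
      change f.map φ ≫ 𝟙 _ = 𝟙 _ ≫ f.map (𝟙 a)
      simp [hφ])) rfl ((fp_isHomLift_iff _ _).2 hl)
  obtain ⟨-, hs⟩ := (isEquivOver_iff _).1 h
  obtain ⟨c, m, -⟩ := hs z
  have hw := m.hom.hom.w
  have h1 : m.hom.hom.fst ≫ φ = 𝟙 c ≫ m.hom.hom.snd := congrArg (fun t => t.hom.fst) hw
  have h2 : m.hom.hom.fst ≫ 𝟙 a = 𝟙 c ≫ m.hom.hom.snd := congrArg (fun t => t.hom.snd) hw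
  have : IsIso m.hom.hom.fst :=
    ((FibCat.fpFst (FibCat.diag f) (FibCat.diag f)).toFunctor.mapIso m).isIso_hom
  exact (cancel_epi m.hom.hom.fst).1 (h1.trans h2.symm)

/-- The inertia is trivial exactly for faithful morphisms. -/
lemma isEquivOver_inertiaToBase_iff (hX : FibCat.IsFibGrpd 𝒳.p) (hY : FibCat.IsFibGrpd 𝒴.p)
    (f : 𝒳 ⥤ᵇ 𝒴) :
    FibCat.IsEquivOver (FibCat.inertiaToBase f) ↔ f.toFunctor.Faithful := by
  constructor
  · intro h
    obtain ⟨⟨hf, -⟩, -⟩ := (isEquivOver_iff _).1 h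
    refine faithful_of_autKernel hX hY fun a φ hp hφ => ?_
    have hl : 𝒳.p.IsHomLift (𝟙 (𝒳.p.obj a)) φ :=
      IsHomLift.of_fac' _ _ _ rfl rfl (by simpa using hp)
    have := isIso_of_fibGrpd hX (𝟙 (𝒳.p.obj a)) φ
    let x : (FibCat.inertia f).obj := ⟨a, asIso φ, hφ⟩
    let y : (FibCat.inertia f).obj := ⟨a, Iso.refl a, f.toFunctor.map_id a⟩
    obtain ⟨m, hm⟩ := hf.map_surjective (X := x) (Y := y) (𝟙 a)
    have hc := m.comm
    have hm' : m.hom = 𝟙 a := hm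
    rw [hm'] at hc
    simpa [x, y] using hc
  · intro hf
    have haut : ∀ x : (FibCat.inertia f).obj, x.aut.hom = 𝟙 x.pt := fun x =>
      f.toFunctor.map_injective (x.map_aut.trans (f.toFunctor.map_id x.pt).symm)
    refine (isEquivOver_iff _).2 ⟨⟨⟨fun {x y} m => ⟨⟨m, ?_⟩, rfl⟩⟩,
      ⟨fun {x y} m n h => FibCat.InertiaObj.hom_ext h⟩⟩, fun a => ?_⟩
    · rw [haut x, haut y]
      exact (Category.id_comp _).trans (Category.comp_id _).symm
    · exact ⟨⟨a, Iso.refl a, f.toFunctor.map_id a⟩, Iso.refl a, IsHomLift.id rfl⟩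

lemma fibSetoid_iff_faithful_toSelf (hX : FibCat.IsFibGrpd 𝒳.p) :
    FibCat.IsFibSetoid 𝒳.p ↔ (FibCat.toSelf 𝒳).toFunctor.Faithful := by
  constructor
  · intro h
    exact faithful_of_fibSetoid h
  · intro h
    have hp : 𝒳.p.Faithful := h
    exact ⟨hX, fun T a b => ⟨fun m n => Subtype.ext (𝒳.p.map_injective
      ((@IsHomLift.fac' _ _ _ _ 𝒳.p _ _ _ _ (𝟙 T) m.1 m.2).trans
        (@IsHomLift.fac' _ _ _ _ 𝒳.p _ _ _ _ (𝟙 T) n.1 n.2).symm))⟩⟩

/-- A monomorphic diagonal gives representability. -/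
theorem repByAlgSp1_of_mono_diag (hX : AlgSt.IsAlgStack K₀ 𝒳) (hY : AlgSt.IsAlgStack K₀ 𝒴)
    {f : 𝒳 ⥤ᵇ 𝒴} (h : AlgSt.IsMono (FibCat.diag f)) : AlgSt.RepByAlgSp1 f :=
  have := faithful_of_full_diag (full_of_isMono hX.isStack.1
    (fp_fibGrpd hX.isStack.1 hX.isStack.1 hY.isStack.1) h)
  repByAlgSp1_of_faithful hX hY

/-- Representability descends along flat covers of the target. -/
theorem repByAlgSp1_of_fp_cover (hX : AlgSt.IsAlgStack K₀ 𝒳) (hY : AlgSt.IsAlgStack K₀ 𝒴)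
    {f : 𝒳 ⥤ᵇ 𝒴} {W : AlgSp.Space S} {w : AlgSt.ofSp W.obj ⥤ᵇ 𝒴}
    (h1 : AlgSt.RepByAlgSpWith (AlgSp.LocP @Flat) w)
    (h2 : AlgSt.RepByAlgSpWith (AlgSp.LocP @LocallyOfFinitePresentation) w)
    (h3 : AlgSt.RepByAlgSpWith AlgSp.IsSurjectiveMor w)
    (h : AlgSt.RepByAlgSp (FibCat.fp w f)) : AlgSt.RepByAlgSp1 f := by
  have hW := isAlgStack_ofSp W
  have hF := isAlgStack_fp' hW hX hY w f
  have hr : AlgSt.RepByAlgSp1 (FibCat.fpFst w f) :=
    repByAlgSp1_of_rep h ⟨W, BasedFunctor.id _, isEquivOver_id _⟩ _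
  have := faithful_of_repByAlgSp1 hF.isStack.1 hW.isStack.1 hr
  obtain ⟨_, _⟩ := full_faithful_diag (FibCat.fpFst w f)
  exact repByAlgSp1_of_mono_diag hX hY (repWith_diag_of_fppf
    (localFppf_of_fpqc H13AlgSp.isLocalOnBase_fpqc_monomorphisms)
    (sourceIsoInv_of_respectsIso _) (rep1_diag_of_algStack hX hY f) h1 h2 h3
    (isMono_of_ff (rep1_diag_of_algStack hF hW _)))

end Groth.Agent.H14AlgSt
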