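import Groth.Agent.H14AlgSt.DiagGen
import Groth.Agent.H14AlgSt.SetoidSpace
import Groth.Agent.H14AlgSt.Descent
import Groth.Agent.H14Fib.Swap

/-!
# A stack with a representable fppf chart by a space has representable diagonal
-/

set_option autoImplicit false
set_option backward.isDefEq.respectTransparency false
set_option backward.isDefEq.respectTransparency.types false

universe u

open CategoryTheory CategoryTheory.Limits AlgebraicGeometry

noncomputable section

namespace Groth.Agent.H14AlgSt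

open H14Fib H14Stk

variable {S : Scheme.{u}} {𝒳 : AlgSt.Cat S}

lemma faithful_of_overCat {U : Over S} (y : FibCat.overCat U ⥤ᵇ 𝒳) : y.toFunctor.Faithful := by
  refine ⟨fun {a b} f g h => Over.OverMorphism.ext ?_⟩
  have e := Functor.congr_hom y.w f
  have e' := Functor.congr_hom y.w g
  rw [Functor.comp_map, h, ← Functor.comp_map, e', cancel_epi, cancel_mono] at e
  exact e.symm

/-- A stack with a flat, locally finitely presented, surjective chart by a space which is
representable by spaces has representable diagonal. -/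
theorem repByAlgSp1_diag_of_chart (hst : Stk.IsStack (AlgSp.J S) 𝒳) {W : AlgSp.Space S}
    (w : AlgSt.ofSp W.obj ⥤ᵇ 𝒳)
    (h1 : AlgSt.RepByAlgSpWith (AlgSp.LocP @Flat) w)
    (h2 : AlgSt.RepByAlgSpWith (AlgSp.LocP @LocallyOfFinitePresentation) w)
    (h3 : AlgSt.RepByAlgSpWith AlgSp.IsSurjectiveMor w) :
    AlgSt.RepByAlgSp1 (FibCat.diag (FibCat.toSelf 𝒳)) := by
  refine (repByAlgSp1_diag_iff hst.1).2 fun T y U g => ?_
  have := faithful_of_overCat y
  have hT := isStack_of_repByAlgSp (repByAlgSp_overCat T)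
  have hU := isStack_of_repByAlgSp (repByAlgSp_overCat U)
  have hs : FibCat.IsFibSetoid (FibCat.fp g y).p := fp_overCat_fibSetoid hT.1 hst.1 g
  have hfp : Stk.IsStack (AlgSp.J S) (FibCat.fp g y) :=
    isStack_fp g y hU hT (isPrestack_of_isStack hst)
  obtain ⟨ι, C, c, hc₁, hc₂, hc₃, hc₄⟩ := exists_lift_of_fppf h1 h2 h3 U g
  refine repByAlgSp_of_local hs hfp (FibCat.fpFst g y) C c hc₁ hc₂ hc₃ fun i => ?_
  obtain ⟨z, ⟨j⟩⟩ := hc₄ i
  refine repByAlgSp_of_equiv' (pasteBase_isEquivOver g y (AlgSt.overMap (c i))) ?_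
  obtain ⟨E, hE⟩ := fp_congr_left (G := y) j
  refine repByAlgSp_of_equiv hE (repByAlgSp_of_equiv (pasteBase_isEquivOver w y z) ?_)
  exact repByAlgSp_fp_of_rep (repByAlgSp_overCat (C i))
    (repByAlgSp_of_equiv (fpSwap_isEquivOver (F := y) (G := w)) (RepData.rep _ (h1 T y)))
    ⟨W, BasedFunctor.id _, isEquivOver_id _⟩ z (FibCat.fpFst w y)

end Groth.Agent.H14AlgSt
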