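import Groth.Agent.H14AlgSt.Diag
import Groth.Agent.H12AlgSp.LocP
import Groth.Agent.H12AlgSp.Points

/-!
# Algebraic spaces are Deligne-Mumford stacks
-/

set_option autoImplicit false
set_option backward.isDefEq.respectTransparency false
set_option backward.isDefEq.respectTransparency.types false

universe u

open CategoryTheory Opposite AlgebraicGeometry CategoryTheory.Limits

namespace Groth.Agent.H14AlgSt

open H14Fib H14Stk

variable {S : Scheme.{u}}

/-- A representable map of sheaves, as a functor, has `Q` if its base changes to schemes do. -/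
lemma repWith_ofSpMap_of_representable (Q : MorphismProperty (AlgSp.Sp S)) {F G : AlgSp.Sp S}
    (a : F ⟶ G) (ha : AlgSp.Representable a)
    (hQ : ∀ ⦃U V : Over S⦄ (g : (AlgSp.yon S).obj U ⟶ G) (fst : (AlgSp.yon S).obj V ⟶ F)
      (v : V ⟶ U), IsPullback fst ((AlgSp.yon S).map v) a g → Q ((AlgSp.yon S).map v)) :
    AlgSt.RepByAlgSpWith Q (AlgSt.ofSpMap a) := by
  intro U y
  let g : (AlgSp.yon S).obj U ⟶ G := ObjectProperty.homMk (testMap y)
  obtain ⟨V, v, fst, sq⟩ := ha g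
  have sq' : IsPullback ((AlgSp.yon S).map v).hom fst.hom (testMap y) a.hom :=
    (sq.map (sheafToPresheaf (AlgSp.J S) (Type (u + 1)))).flip
  obtain ⟨E, hE, ⟨i⟩⟩ := exists_comparison a.hom y sq'
  refine RepData.of_equiv Q hE i ⟨⟨(AlgSp.yon S).obj V, AlgSp.IsAlgSpace.yon_obj V⟩,
    BasedFunctor.id _, isEquivOver_id _, ?_⟩
  have h : AlgSt.spMapOfOver (BasedFunctor.comp (AlgSt.ofSpMap ((AlgSp.yon S).map v))
      (AlgSt.toOverCat U)) = (AlgSp.yon S).map v := by
    rw [spMapOfOver_comp, spMapOfOver_toOverCat, Category.comp_id]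
  convert hQ g fst v sq using 1
  exact h

lemma repWith_locP_of_repWith {P : MorphismProperty Scheme.{u}} (hP : H12AlgSp.EtLocal P)
    {F G : AlgSp.Sp S} (a : F ⟶ G) (ha : AlgSp.RepWith P a) :
    AlgSt.RepByAlgSpWith (AlgSp.LocP P) (AlgSt.ofSpMap a) :=
  repWith_ofSpMap_of_representable _ a ha.rep fun _ _ _ _ _ sq =>
    H12AlgSp.locP_of_repWith hP (H12AlgSp.repWith_of_isPullback sq ha)

lemma repWith_surjective_of_repWith {F G : AlgSp.Sp S} (a : F ⟶ G)
    (ha : AlgSp.RepWith @Surjective a) :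
    AlgSt.RepByAlgSpWith AlgSp.IsSurjectiveMor (AlgSt.ofSpMap a) :=
  repWith_ofSpMap_of_representable _ a ha.rep fun _ _ _ _ _ sq =>
    H12AlgSp.surjective_map_of_repWith le_rfl (H12AlgSp.repWith_of_isPullback sq ha)

lemma hasAtlas_ofSp (F : AlgSp.Space S) :
    AlgSt.HasAtlas (AlgSp.LocP @Smooth) (AlgSt.ofSp F.obj) ∧
      AlgSt.HasAtlas AlgSp.IsEtaleMor (AlgSt.ofSp F.obj) := by
  obtain ⟨U, p, hpe, hps⟩ := F.property.atlas
  let x := BasedFunctor.comp (AlgSt.ofOverCat U) (AlgSt.ofSpMap p)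
  have hs : AlgSt.RepByAlgSpWith AlgSp.IsSurjectiveMor x :=
    (repWith_equiv_comp_iff (ofOverCat_isEquivOver U)).1 (repWith_surjective_of_repWith p hps)
  refine ⟨⟨U, x, (repWith_equiv_comp_iff (ofOverCat_isEquivOver U)).1
      (repWith_locP_of_repWith H12AlgSp.etLocal_smooth p (H12AlgSp.repWith_le
        (fun _ _ g (_ : Etale g) => (inferInstance : Smooth g)) hpe)), hs⟩,
    ⟨U, x, (repWith_equiv_comp_iff (ofOverCat_isEquivOver U)).1
      (repWith_ofSpMap_of_representable _ p hpe.rep fun U' V g fst v sq =>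
        H12AlgSp.isEtaleMor_of_locP_etale (AlgSp.IsAlgSpace.yon_obj U')
          (H12AlgSp.locP_of_repWith H12AlgSp.etLocal_etale
            (H12AlgSp.repWith_of_isPullback sq hpe))), hs⟩⟩

lemma isDM_of_repByAlgSp {𝒳 : AlgSt.Cat S} (hr : AlgSt.RepByAlgSp 𝒳) :
    AlgSt.IsDM Scheme.fppfPrecoverage 𝒳 := by
  have hst := isStack_of_repByAlgSp hr
  have hd : AlgSt.RepByAlgSp1 (FibCat.diag (FibCat.toSelf 𝒳)) :=
    repByAlgSp1_of_rep hr (repByAlgSp_prod hr hr) _
  obtain ⟨F, e, he⟩ := hr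
  obtain ⟨h1, h2⟩ := hasAtlas_ofSp F
  exact ⟨⟨hst, hd, (hasAtlas_iff he).1 h1⟩, (hasAtlas_iff he).1 h2⟩

end Groth.Agent.H14AlgSt
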