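import Groth.Agent.H14AlgSt.DiagLFT
import Groth.Agent.H14AlgSt.SpaceStack
import Mathlib.AlgebraicGeometry.Morphisms.FormallyUnramified

/-!
# Diagonals of morphisms representable by algebraic spaces
-/

set_option autoImplicit false
set_option backward.isDefEq.respectTransparency false
set_option backward.isDefEq.respectTransparency.types false

universe u

open CategoryTheory Opposite AlgebraicGeometry CategoryTheory.Limits

namespace Groth.Agent.H14AlgSt

open H14Fib H14Stk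

variable {S : Scheme.{u}} {P : MorphismProperty (AlgSp.Sp S)} {𝒳 𝒴 𝒵 𝒳' 𝒴' : AlgSt.Cat S}

/-- A diagonal at a test object is known from the diagonal of one base change. -/
lemma repData_diag_at {f : 𝒳 ⥤ᵇ 𝒴} {U : Over S} (z : FibCat.overCat U ⥤ᵇ FibCat.fp f f)
    (h : AlgSt.RepByAlgSpWith P (FibCat.diag (FibCat.fpFst
      (BasedFunctor.comp (BasedFunctor.comp z (FibCat.fpFst f f)) f) f))) :
    RepData P (FibCat.fpFst z (FibCat.diag f)) := by
  let y := BasedFunctor.comp (BasedFunctor.comp z (FibCat.fpFst f f)) f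
  let pr := FibCat.fpFst y f
  let σ₁ := FibCat.fpLift (F := y) (G := f) (BasedFunctor.id (FibCat.overCat U))
    (BasedFunctor.comp z (FibCat.fpFst f f)) (Iso.refl y)
  let σ₂ := FibCat.fpLift (F := y) (G := f) (BasedFunctor.id (FibCat.overCat U))
    (BasedFunctor.comp z (FibCat.fpSnd f f)) ((Stk.restr z _).mapIso (FibCat.fpIso f f))
  let σ := FibCat.fpLift (F := pr) (G := pr) σ₁ σ₂ (Iso.refl (BasedFunctor.id (FibCat.overCat U)))
  have h1 : AlgSt.RepByAlgSpWith P (FibCat.fpFst (basePair y f) (FibCat.diag f)) :=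
    (repWith_equiv_comp_iff (diagBase_isEquivOver y f)).2 h
  have h2 : RepData P (FibCat.fpFst (BasedFunctor.comp σ (basePair y f)) (FibCat.diag f)) :=
    RepData.of_equiv P (pasteBase_isEquivOver (basePair y f) (FibCat.diag f) σ)
    (Iso.refl _) (h1 U σ)
  have i : BasedFunctor.comp σ (basePair y f) ≅ z := by
    refine mkIso (fun s => fpIsoMk (Iso.refl _) (Iso.refl _) ?_)
      (fun {_ _} _ => fp_hom_ext ((Category.comp_id _).trans (Category.id_comp _).symm)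
        ((Category.comp_id _).trans (Category.id_comp _).symm))
      (fun s => (fp_isHomLift_iff _ _).2 (IsHomLift.id ((BasedFunctor.comp z (FibCat.fpFst f f)).w_obj s)))
    change f.map (𝟙 _) ≫ (z.obj s).obj.iso.hom =
      (𝟙 _ ≫ y.map (𝟙 s) ≫ (z.obj s).obj.iso.hom) ≫ f.map (𝟙 _)
    rw [y.toFunctor.map_id, f.toFunctor.map_id, f.toFunctor.map_id]
    erw [Category.id_comp, Category.comp_id, Category.id_comp]
  exact repData_congr i h2

/-- A diagonal is known from the diagonals of the base changes to schemes. -/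
lemma repWith_diag_of_forall {f : 𝒳 ⥤ᵇ 𝒴}
    (h : ∀ (U : Over S) (y : FibCat.overCat U ⥤ᵇ 𝒴),
      AlgSt.RepByAlgSpWith P (FibCat.diag (FibCat.fpFst y f))) :
    AlgSt.RepByAlgSpWith P (FibCat.diag f) := fun U z => repData_diag_at z (h U _)

/-- Diagonals and equivalences. -/
lemma repWith_diag_square {f : 𝒳 ⥤ᵇ 𝒴} {f' : 𝒳' ⥤ᵇ 𝒴'} {a : 𝒳' ⥤ᵇ 𝒳} {b : 𝒴' ⥤ᵇ 𝒴}
    (ha : FibCat.IsEquivOver a) (hb : FibCat.IsEquivOver b)
    (e : BasedFunctor.comp f' b ≅ BasedFunctor.comp a f) :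
    AlgSt.RepByAlgSpWith P (FibCat.diag f) ↔ AlgSt.RepByAlgSpWith P (FibCat.diag f') := by
  obtain ⟨⟨_, _⟩, hs⟩ := (isEquivOver_iff a).1 ha
  obtain ⟨⟨_, _⟩, -⟩ := (isEquivOver_iff b).1 hb
  let c := fpMap (F := f) (G := f) (F' := f') (G' := f') a a b e e
  have hc : FibCat.IsEquivOver c := fpMap_isEquivOver _ _ _ _ _ hs hs
  refine repWith_square ha hc (mkIso (fun x => fpIsoMk (Iso.refl _) (Iso.refl _) ?_) ?_ ?_)
  · change f.map (𝟙 (a.obj x)) ≫ 𝟙 _ =
      ((appIso e x).inv ≫ b.map (𝟙 (f'.obj x)) ≫ (appIso e x).hom) ≫ f.map (𝟙 (a.obj x))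
    rw [f.toFunctor.map_id]
    erw [b.toFunctor.map_id]
    erw [Category.id_comp]
    exact ((Category.comp_id _).trans ((congrArg ((appIso e x).inv ≫ ·) (Category.id_comp _)).trans
      (appIso e x).inv_hom_id)).symm
  · intro x y φ
    exact fp_hom_ext ((Category.comp_id _).trans (Category.id_comp _).symm)
      ((Category.comp_id _).trans (Category.id_comp _).symm)
  · exact fun x => (fp_isHomLift_iff _ _).2 (IsHomLift.id (a.w_obj x))

/-- The diagonal of the functor of a map of sheaves. -/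
lemma repWith_diag_ofSpMap_iff {G F : AlgSp.Sp S} (π : G ⟶ F) :
    AlgSt.RepByAlgSpWith P (FibCat.diag (AlgSt.ofSpMap π)) ↔
      AlgSt.RepByAlgSpWith P (AlgSt.ofSpMap (pullback.diagonal π)) := by
  have sq := (IsPullback.of_hasPullback π π).map (sheafToPresheaf (AlgSp.J S) (Type (u + 1)))
  suffices i : BasedFunctor.comp (AlgSt.ofSpMap (pullback.diagonal π)) (pshComparison sq.w) ≅
      FibCat.diag (AlgSt.ofSpMap π) from
    ⟨fun h => (repWith_comp_equiv_iff (pshComparison_isEquivOver sq)).1 (repWith_of_iso i.symm h),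
      fun h => repWith_of_iso i ((repWith_comp_equiv_iff (pshComparison_isEquivOver sq)).2 h)⟩
  have h1 : (pullback.diagonal π).hom ≫ (pullback.fst π π).hom = 𝟙 G.obj :=
    congrArg (fun t => t.hom) (pullback.diagonal_fst π)
  have h2 : (pullback.diagonal π).hom ≫ (pullback.snd π π).hom = 𝟙 G.obj :=
    congrArg (fun t => t.hom) (pullback.diagonal_snd π)
  let i₁ : BasedFunctor.comp (Stk.ofPshMap (pullback.diagonal π).hom)
      (Stk.ofPshMap (pullback.fst π π).hom) ≅ BasedFunctor.id (Stk.ofPsh G.obj) :=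
    eqToIso ((ofPshMap_comp _ _).symm.trans ((congrArg Stk.ofPshMap h1).trans ofPshMap_id))
  let i₂ : BasedFunctor.comp (Stk.ofPshMap (pullback.diagonal π).hom)
      (Stk.ofPshMap (pullback.snd π π).hom) ≅ BasedFunctor.id (Stk.ofPsh G.obj) :=
    eqToIso ((ofPshMap_comp _ _).symm.trans ((congrArg Stk.ofPshMap h2).trans ofPshMap_id))
  refine mkIso (fun x => fpIsoMk (isoApp i₁ x) (isoApp i₂ x) (Stk.EltObj.hom_ext ?_))
    (fun {x y} φ => fp_hom_ext (i₁.hom.toNatTrans.naturality φ) (i₂.hom.toNatTrans.naturality φ))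
    (fun x => (fp_isHomLift_iff _ _).2 (isoApp_lift i₁ x))
  let x' : (Stk.ofPsh (pullback π π).obj).obj := (Stk.ofPshMap (pullback.diagonal π).hom).obj x
  change (app i₁.hom x).hom ≫ 𝟙 x.base =
    (app (pshSquareIso sq.w).hom x').hom ≫ (app i₂.hom x).hom
  rw [app_hom_eq, app_hom_eq, app_hom_eq]
  simp
  rfl

/-- A criterion for the diagonal of a morphism representable by algebraic spaces. -/
lemma repWith_diag_of_repWith {Q : MorphismProperty (AlgSp.Sp S)} {f : 𝒳 ⥤ᵇ 𝒴}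
    (hf : AlgSt.RepByAlgSpWith Q f)
    (hP : ∀ ⦃G : AlgSp.Sp S⦄ ⦃T : Over S⦄ (π : G ⟶ (AlgSp.yon S).obj T), AlgSp.IsAlgSpace G → Q π →
      ∀ ⦃U V : Over S⦄ (g : (AlgSp.yon S).obj U ⟶ pullback π π) (fst : (AlgSp.yon S).obj V ⟶ G)
        (v : V ⟶ U), IsPullback fst ((AlgSp.yon S).map v) (pullback.diagonal π) g →
        P ((AlgSp.yon S).map v)) :
    AlgSt.RepByAlgSpWith P (FibCat.diag f) := by
  refine repWith_diag_of_forall fun T y => ?_
  obtain ⟨G, e, he, hπ⟩ := hf T y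
  let q := BasedFunctor.comp e (FibCat.fpFst y f)
  obtain ⟨k⟩ := spMapOfOver_eq q
  let π := AlgSt.spMapOfOver q
  refine (repWith_diag_square (f' := AlgSt.ofSpMap π) he (toOverCat_isEquivOver T) k.symm).2
    ((repWith_diag_ofSpMap_iff π).2 (repWith_ofSpMap_of_representable _ _
      (H12AlgSp.representable_diagonal π G.property.diag) fun U V g fst v sq =>
        hP π G.property hπ g fst v sq))

/-- The criterion without any property of the morphism itself. -/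
lemma repWith_diag_of_rep1 {f : 𝒳 ⥤ᵇ 𝒴} (hf : AlgSt.RepByAlgSp1 f)
    (hP : ∀ ⦃G : AlgSp.Sp S⦄ ⦃T : Over S⦄ (π : G ⟶ (AlgSp.yon S).obj T), AlgSp.IsAlgSpace G →
      ∀ ⦃U V : Over S⦄ (g : (AlgSp.yon S).obj U ⟶ pullback π π) (fst : (AlgSp.yon S).obj V ⟶ G)
        (v : V ⟶ U), IsPullback fst ((AlgSp.yon S).map v) (pullback.diagonal π) g →
        P ((AlgSp.yon S).map v)) :
    AlgSt.RepByAlgSpWith P (FibCat.diag f) :=
  repWith_diag_of_repWith (with_top_of_repByAlgSp1 hf) fun _ _ π hG _ => hP π hG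

instance mono_yon_map_left {U V : Over S} (v : V ⟶ U) [Mono ((AlgSp.yon S).map v)] : Mono v.left :=
  have : Mono v := (AlgSp.yon S).mono_of_mono_map ‹_›
  inferInstance

lemma mono_of_diagonal_pullback {G : AlgSp.Sp S} {T U V : Over S} {π : G ⟶ (AlgSp.yon S).obj T}
    {g : (AlgSp.yon S).obj U ⟶ pullback π π} {fst : (AlgSp.yon S).obj V ⟶ G} {v : V ⟶ U}
    (sq : IsPullback fst ((AlgSp.yon S).map v) (pullback.diagonal π) g) :
    Mono ((AlgSp.yon S).map v) :=
  MorphismProperty.of_isPullback (P := MorphismProperty.monomorphisms (AlgSp.Sp S)) sq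
    (inferInstanceAs (Mono (pullback.diagonal π)))

lemma isMono_diag_of_rep1 {f : 𝒳 ⥤ᵇ 𝒴} (hf : AlgSt.RepByAlgSp1 f) :
    AlgSt.IsMono (FibCat.diag f) :=
  repWith_diag_of_rep1 hf fun _ _ _ _ _ _ _ _ _ sq => mono_of_diagonal_pullback sq

lemma separated_diag_of_rep1 {f : 𝒳 ⥤ᵇ 𝒴} (hf : AlgSt.RepByAlgSp1 f) :
    AlgSt.RepByAlgSpWith AlgSp.IsSeparatedMor (FibCat.diag f) := by
  refine repWith_diag_of_rep1 hf fun G T π _ U V g fst v sq => ?_
  have := mono_of_diagonal_pullback sq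
  exact (AlgSp.isSeparatedMor_yon_map_iff v).2 inferInstance

lemma isRepresentable1_diag_of_rep1 {f : 𝒳 ⥤ᵇ 𝒴} (hf : AlgSt.RepByAlgSp1 f) :
    FibCat.IsRepresentable1 (FibCat.diag f) := by
  have h : AlgSt.RepByAlgSpWith
      (fun G _ _ => ∃ V : Over S, Nonempty ((AlgSp.yon S).obj V ≅ G)) (FibCat.diag f) :=
    repWith_diag_of_rep1 hf fun _ _ _ _ _ V _ _ _ _ => ⟨V, ⟨Iso.refl _⟩⟩
  intro U z
  obtain ⟨G, e, he, V, ⟨i⟩⟩ := h U z
  have : IsIso i.hom.hom :=
    inferInstanceAs (IsIso ((sheafToPresheaf (AlgSp.J S) (Type (u + 1))).map i.hom))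
  obtain ⟨E, ⟨j⟩, ⟨j'⟩⟩ := isEquivOver_comp (isEquivOver_comp (ofOverCat_isEquivOver V)
    (isEquivOver_ofPshMap i.hom.hom)) he
  exact ⟨V, E, _, ⟨j'⟩, ⟨j⟩⟩

lemma isDMMor_of_rep1 (h𝒳 : AlgSt.IsAlgStack Scheme.fppfPrecoverage 𝒳)
    (h𝒴 : AlgSt.IsAlgStack Scheme.fppfPrecoverage 𝒴) {f : 𝒳 ⥤ᵇ 𝒴} (hf : AlgSt.RepByAlgSp1 f) :
    AlgSt.IsDMMor f := by
  have h2 : AlgSt.RepByAlgSpWith (AlgSp.LocP @FormallyUnramified) (FibCat.diag f) :=
    repWith_diag_of_rep1 hf fun G T π _ U V g fst v sq => by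
      have := mono_of_diagonal_pullback sq
      have : IsIso (pullback.diagonal v.left) := (pullback.isIso_diagonal_iff _).2 inferInstance
      exact H12AlgSp.locP_of_repWith H12AlgSp.etLocal_formallyUnramified
        ((AlgSp.repWith_yon_map_iff _ _).2 inferInstance)
  intro U z
  obtain ⟨F, e, he, hu⟩ := h2 U z
  obtain ⟨k⟩ := spMapOfOver_eq (BasedFunctor.comp e (FibCat.fpFst z (FibCat.diag f)))
  have hl := prop_of_repData (sourceIsoInv_locP _) (repWith_lft_diag h𝒳 h𝒴 f U z) he k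
  exact ⟨F, e, he, H12AlgSp.locP_inf_iff.2 ⟨hl, hu⟩⟩

lemma repWith_of_ofSpMap (Q : MorphismProperty Scheme.{u}) [Q.IsStableUnderBaseChange]
    {G F : AlgSp.Sp S} (a : G ⟶ F) (ha : AlgSp.Representable a)
    (h : AlgSt.RepByAlgSpWith (AlgSp.RepWith Q) (AlgSt.ofSpMap a)) : AlgSp.RepWith Q a := by
  refine MorphismProperty.relative.of_exists fun T x => ?_
  obtain ⟨V, v, fst, sq⟩ := ha x
  refine ⟨V, fst, v, sq, (AlgSp.repWith_yon_map_iff Q v).1 ?_⟩
  have sq' : IsPullback ((AlgSp.yon S).map v).hom fst.hom x.hom a.hom :=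
    (sq.map (sheafToPresheaf (AlgSp.J S) (Type (u + 1)))).flip
  obtain ⟨E, hE, ⟨i⟩⟩ := exists_comparison a.hom
    (BasedFunctor.comp (AlgSt.ofOverCat T) (Stk.ofPshMap x.hom))
    (p := ((AlgSp.yon S).map v).hom) (q := fst.hom) (by rw [testMap_ofOverCat]; exact sq')
  obtain ⟨hs, hA, X, m, hm, hp⟩ := exists_iso_of_repData (RepData.of_equiv' _ hE i (h T _))
  exact ((AlgSp.RepWith Q).cancel_left_of_respectsIso m _).1 hp

lemma repWith_diag_iff_diagonal (Q : MorphismProperty Scheme.{u}) [Q.IsStableUnderBaseChange]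
    {f : 𝒳 ⥤ᵇ 𝒴} (hf : AlgSt.RepByAlgSp1 f) :
    AlgSt.RepByAlgSpWith (AlgSp.RepWith Q) (FibCat.diag f) ↔
      AlgSt.RepByAlgSpWith (fun _ _ π => AlgSp.RepWith Q (pullback.diagonal π)) f := by
  constructor
  · intro h T y
    obtain ⟨G, e, he⟩ := hf T y
    let q := BasedFunctor.comp e (FibCat.fpFst y f)
    obtain ⟨k⟩ := spMapOfOver_eq q
    refine ⟨G, e, he, ?_⟩
    exact repWith_of_ofSpMap Q _ (H12AlgSp.representable_diagonal _ G.property.diag)
      ((repWith_diag_ofSpMap_iff _).1 ((repWith_diag_square (f' := AlgSt.ofSpMap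
        (AlgSt.spMapOfOver q)) he (toOverCat_isEquivOver T) k.symm).1 (repWith_diag_fpFst y h)))
  · exact fun h => repWith_diag_of_repWith h fun G T π _ hπ U V g fst v sq =>
      H12AlgSp.repWith_of_isPullback sq hπ

/-- Properties of the diagonal of a morphism representable by algebraic spaces are properties of
monomorphisms of schemes locally of finite type. -/
lemma repWith_diag_transfer {P P' : MorphismProperty (AlgSp.Sp S)} (hP : SourceIsoInv P)
    (hP' : SourceIsoInv P') (h𝒳 : AlgSt.IsAlgStack Scheme.fppfPrecoverage 𝒳)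
    (h𝒴 : AlgSt.IsAlgStack Scheme.fppfPrecoverage 𝒴) {f : 𝒳 ⥤ᵇ 𝒴} (hf : AlgSt.RepByAlgSp1 f)
    (H : ∀ ⦃U V : Over S⦄ (v : V ⟶ U), Mono v.left → LocallyOfFiniteType v.left →
      P ((AlgSp.yon S).map v) → P' ((AlgSp.yon S).map v))
    (h : AlgSt.RepByAlgSpWith P (FibCat.diag f)) :
    AlgSt.RepByAlgSpWith P' (FibCat.diag f) := by
  have hR : AlgSt.RepByAlgSpWith
      (fun G _ _ => ∃ V : Over S, Nonempty ((AlgSp.yon S).obj V ≅ G)) (FibCat.diag f) :=
    repWith_diag_of_rep1 hf fun _ _ _ _ _ V _ _ _ _ => ⟨V, ⟨Iso.refl _⟩⟩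
  intro U z
  obtain ⟨F, e, he, V, ⟨i⟩⟩ := hR U z
  obtain ⟨k⟩ := spMapOfOver_eq (BasedFunctor.comp e (FibCat.fpFst z (FibCat.diag f)))
  refine ⟨F, e, he, ?_⟩
  let a := AlgSt.spMapOfOver (BasedFunctor.comp e (FibCat.fpFst z (FibCat.diag f)))
  obtain ⟨v, hv⟩ := (AlgSp.yon S).map_surjective (i.hom ≫ a)
  have hF := F.property
  have hU := AlgSp.IsAlgSpace.yon_obj U
  have tr : ∀ {R : MorphismProperty (AlgSp.Sp S)}, SourceIsoInv R → R a →
      R ((AlgSp.yon S).map v) := fun {R} hR h => by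
    rw [hv]
    exact hR i.inv (i.hom ≫ a) hF hU (by rw [Iso.inv_hom_id_assoc]; exact h)
  have hm : Mono ((AlgSp.yon S).map v) := by
    have : Mono a := prop_of_repData (P := MorphismProperty.monomorphisms (AlgSp.Sp S))
      (sourceIsoInv_of_respectsIso _) (isMono_diag_of_rep1 hf U z) he k
    rw [hv]
    exact mono_comp _ _
  have hl : LocallyOfFiniteType v.left := AlgSp.locP_yon_map (tr (sourceIsoInv_locP _)
    (prop_of_repData (sourceIsoInv_locP _) (repWith_lft_diag h𝒳 h𝒴 f U z) he k))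
  have h' := H v (mono_yon_map_left v) hl (tr hP (prop_of_repData hP (h U z) he k))
  rw [hv] at h'
  exact hP' i.hom a (AlgSp.IsAlgSpace.yon_obj V) hU h'

lemma isQuasiCompactMor_yon_iff {U V : Over S} (v : V ⟶ U) :
    AlgSp.IsQuasiCompactMor ((AlgSp.yon S).map v) ↔ QuasiCompact v.left :=
  ⟨fun h => (AlgSp.repWith_yon_map_iff _ v).1
      (H12AlgSp.repWith_quasiCompact_of_mor (AlgSp.representable_yon_map v) h),
    fun h => H12AlgSp.isQuasiCompactMor_of_repWith (AlgSp.IsAlgSpace.yon_obj V)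
      (AlgSp.IsAlgSpace.yon_obj U) ((AlgSp.repWith_yon_map_iff _ v).2 h)⟩

lemma sourceIsoInv_qc : SourceIsoInv (S := S) AlgSp.IsQuasiCompactMor :=
  BaseStable.sourceIsoInv fun _ _ _ _ _ _ _ _ _ _ _ _ sq h =>
    H12AlgSp.isQuasiCompactMor_of_isPullback sq h

lemma sourceIsoInv_finiteType : SourceIsoInv (S := S) AlgSp.IsFiniteTypeMor :=
  BaseStable.sourceIsoInv fun _ _ _ _ hX hY _ hY' _ _ _ _ sq h =>
    ⟨H12AlgSp.locP_of_isPullback H12AlgSp.etLocal_lft sq hX hY hY' h.1,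
      H12AlgSp.isQuasiCompactMor_of_isPullback sq h.2⟩

lemma sourceIsoInv_univClosed : SourceIsoInv (S := S) AlgSp.IsUnivClosedMor :=
  BaseStable.sourceIsoInv fun _ _ _ _ _ _ _ _ _ _ _ _ sq h => H12AlgSp.univSp_of_isPullback sq h

end Groth.Agent.H14AlgSt
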