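import Groth.Agent.H14AlgSt.StackProps
import Groth.Agent.H14AlgSt.Descent
import Groth.Agent.H14AlgSt.DiagDescent

/-!
# Open substacks and open sets of points
-/

set_option autoImplicit false
set_option backward.isDefEq.respectTransparency false
set_option backward.isDefEq.respectTransparency.types false

universe u

open CategoryTheory CategoryTheory.Functor Opposite AlgebraicGeometry CategoryTheory.Limits

noncomputable section

namespace Groth.Agent.H14AlgSt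

open H14Fib H14Stk

variable {S : Scheme.{u}} {𝒳 𝒴 𝒵 : AlgSt.Cat S} {U : Over S}

local notation "K₀" => Scheme.fppfPrecoverage

/-- The objects all of whose field-valued points lie in a set of points. -/
def ptPred (O : Set (AlgSt.Points 𝒳)) : 𝒳.obj → Prop :=
  fun a => ∀ r : AlgSt.FPt 𝒳, Nonempty (r.obj ⟶ a) → AlgSt.Points.mk r ∈ O

variable {O : Set (AlgSt.Points 𝒳)}

lemma ptPred_of_hom {a b : 𝒳.obj} (φ : b ⟶ a) (h : ptPred O a) : ptPred O b :=
  fun r ⟨ψ⟩ => h r ⟨ψ ≫ φ⟩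

lemma ptPred_closedUnderIso : ObjectProperty.IsClosedUnderIsomorphisms (ptPred O) :=
  ⟨fun e h => ptPred_of_hom e.inv h⟩

lemma ptPred_fpt (p : AlgSt.FPt 𝒳) : ptPred O p.obj ↔ AlgSt.Points.mk p ∈ O := by
  refine ⟨fun h => h p ⟨𝟙 _⟩, fun h r ⟨φ⟩ => ?_⟩
  rw [mk_eq_of_hom φ]
  exact h

lemma ptPred_chart_iff (hX : FibCat.IsFibGrpd 𝒳.p) (x : FibCat.overCat U ⥤ᵇ 𝒳)
    (s : (FibCat.overCat U).obj) :
    ptPred O (x.obj s) ↔ ∀ t : s.left.left, AlgSt.Points.ofChart x (s.hom.left t) ∈ O := by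
  constructor
  · intro h t
    let g : Over.mk (s.left.left.fromSpecResidueField t ≫ s.left.hom) ⟶ s.left :=
      Over.homMk (s.left.left.fromSpecResidueField t) rfl
    let s' : (FibCat.overCat U).obj := Over.mk (g ≫ s.hom)
    let φ : s' ⟶ s := Over.homMk g
    let q : AlgSt.FPt (FibCat.overCat U) :=
      { K := s.left.left.residueField t, str := s.left.left.fromSpecResidueField t ≫ s.left.hom,
        obj := s', lies := rfl }
    have h1 := h (q.map x) ⟨x.map φ⟩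
    rw [← AlgSt.Points.map_mk, map_eq_ofChart] at h1
    have hc : chartPoint (AlgSt.Points.mk q) = s.hom.left t := by
      show chartPt q = _
      simp [chartPt, chartHom, q, s', g]
      exact congrArg _ (s.left.left.fromSpecResidueField_apply t _)
    rwa [hc] at h1
  · intro h r ⟨φ⟩
    let f := 𝒳.p.map φ
    have hf : 𝒳.p.obj r.obj = Over.mk r.str := r.lies
    let g : Over.mk r.str ⟶ s.left := eqToHom hf.symm ≫ f ≫ eqToHom (x.w_obj s)
    have hφ : 𝒳.p.IsHomLift g φ := IsHomLift.of_fac' 𝒳.p g φ hf (x.w_obj s) (by simp [g, f])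
    let s' : (FibCat.overCat U).obj := Over.mk (g ≫ s.hom)
    let ψ : s' ⟶ s := Over.homMk g
    have hψ₀ : (FibCat.overCat U).p.IsHomLift g ψ := overCat_isHomLift ψ
    have hψ : 𝒳.p.IsHomLift g (x.map ψ) := x.preserves_isHomLift g ψ
    obtain ⟨e, -, -⟩ := exists_vertIso hX g φ (x.map ψ)
    let q : AlgSt.FPt (FibCat.overCat U) := { K := r.K, str := r.str, obj := s', lies := rfl }
    have h1 : AlgSt.Points.mk r = AlgSt.Points.map x (AlgSt.Points.mk q) :=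
      mk_eq_of_hom (p := r) (q := q.map x) e.hom
    rw [h1, map_eq_ofChart]
    have hc : chartPoint (AlgSt.Points.mk q) = s.hom.left (g.left (IsLocalRing.closedPoint r.K)) := by
      show chartPt q = _
      simp [chartPt, chartHom, q, s']
    rw [hc]
    exact h _

section FpMap

variable {𝒳' 𝒴' 𝒮' 𝒮 : AlgSt.Cat S} {F : 𝒳 ⥤ᵇ 𝒮} {G : 𝒴 ⥤ᵇ 𝒮} {F' : 𝒳' ⥤ᵇ 𝒮'} {G' : 𝒴' ⥤ᵇ 𝒮'}
  (a : 𝒳' ⥤ᵇ 𝒳) (b : 𝒴' ⥤ᵇ 𝒴) (c : 𝒮' ⥤ᵇ 𝒮)
  (e₁ : BasedFunctor.comp F' c ≅ BasedFunctor.comp a F)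
  (e₂ : BasedFunctor.comp G' c ≅ BasedFunctor.comp b G)

/-- Functoriality of fibre products along fully faithful functors with enough lifts. -/
lemma fpMap_isEquivOver_of_lifts [a.toFunctor.Full] [a.toFunctor.Faithful] [b.toFunctor.Full]
    [b.toFunctor.Faithful] [c.toFunctor.Full] [c.toFunctor.Faithful]
    (ha : EssSurjOver a)
    (hb : ∀ z : (FibCat.fp F G).obj, ∃ (y' : 𝒴'.obj) (d' : b.obj y' ≅ z.obj.snd),
      𝒴.p.IsHomLift (𝟙 (𝒴.p.obj z.obj.snd)) d'.hom) :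
    FibCat.IsEquivOver (fpMap a b c e₁ e₂) := by
  refine (isEquivOver_iff _).2 ⟨⟨⟨fun {x y} f => ?_⟩, ⟨fun {x y} f g h => ?_⟩⟩, fun z => ?_⟩
  · refine ⟨fpHom (a.toFunctor.preimage f.hom.fst) (b.toFunctor.preimage f.hom.snd) ?_,
      fp_hom_ext (a.toFunctor.map_preimage _) (b.toFunctor.map_preimage _)⟩
    apply c.toFunctor.map_injective
    have hw : F.map f.hom.fst ≫ (fpMapIso a b c e₁ e₂ y).hom =
        (fpMapIso a b c e₁ e₂ x).hom ≫ G.map f.hom.snd := f.hom.w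
    have h1 : F.map (a.map (a.toFunctor.preimage f.hom.fst)) ≫ (appIso e₁ y.obj.fst).inv =
        (appIso e₁ x.obj.fst).inv ≫ c.map (F'.map (a.toFunctor.preimage f.hom.fst)) :=
      e₁.inv.toNatTrans.naturality (a.toFunctor.preimage f.hom.fst)
    have h2 : c.map (G'.map (b.toFunctor.preimage f.hom.snd)) ≫ (appIso e₂ y.obj.snd).hom =
        (appIso e₂ x.obj.snd).hom ≫ G.map (b.map (b.toFunctor.preimage f.hom.snd)) :=
      e₂.hom.toNatTrans.naturality (b.toFunctor.preimage f.hom.snd)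
    rw [a.toFunctor.map_preimage] at h1
    rw [b.toFunctor.map_preimage] at h2
    rw [← cancel_epi (appIso e₁ x.obj.fst).inv, ← cancel_mono (appIso e₂ y.obj.snd).hom]
    simp only [fpMapIso, Iso.trans_hom, Iso.symm_hom, Functor.mapIso_hom, Category.assoc] at hw
    simp only [Functor.map_comp, Category.assoc]
    rw [← reassoc_of% h1, h2]
    exact hw
  · exact fp_hom_ext (a.toFunctor.map_injective (congrArg (fun t => t.hom.fst) h))
      (b.toFunctor.map_injective (congrArg (fun t => t.hom.snd) h))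
  · obtain ⟨x', d, hd⟩ := ha z.obj.fst
    obtain ⟨y', d', hd'⟩ := hb z
    have hxU : 𝒳'.p.obj x' = 𝒳.p.obj z.obj.fst := EssSurjOver.obj_eq d.hom
    have hyU : 𝒴'.p.obj y' = 𝒳.p.obj z.obj.fst :=
      (EssSurjOver.obj_eq d'.hom).trans (fp_snd_obj z)
    have hd'U : 𝒴.p.IsHomLift (𝟙 (𝒳.p.obj z.obj.fst)) d'.hom := fp_snd_obj z ▸ hd'
    have hd'i := IsHomLift.lift_id_inv 𝒴.p (𝒳.p.obj z.obj.fst) d'
    let i : c.obj (F'.obj x') ≅ c.obj (G'.obj y') :=
      appIso e₁ x' ≪≫ F.toFunctor.mapIso d ≪≫ z.obj.iso ≪≫ (G.toFunctor.mapIso d').symm ≪≫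
        (appIso e₂ y').symm
    have hi : 𝒮.p.IsHomLift (𝟙 (𝒳.p.obj z.obj.fst)) i.hom :=
      homLift_id_comp (appIso_lift e₁ hxU) (homLift_id_comp
        (BasedFunctor.preserves_isHomLift F _ d.hom) (homLift_id_comp z.property
          (homLift_id_comp (BasedFunctor.preserves_isHomLift G _ d'.inv)
            (appIso_inv_lift e₂ hyU))))
    let i' := c.toFunctor.preimageIso i
    have hi' : 𝒮'.p.IsHomLift (𝟙 (𝒳.p.obj z.obj.fst)) i'.hom := by
      rw [← BasedFunctor.isHomLift_iff c]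
      change 𝒮.p.IsHomLift _ (c.map (c.toFunctor.preimage i.hom))
      rw [c.toFunctor.map_preimage]
      exact hi
    refine ⟨fpObj x' y' i' hxU hi', fpIsoMk d d' ?_, (fp_isHomLift_iff _ _).2 hd⟩
    change F.map d.hom ≫ z.obj.iso.hom =
      ((appIso e₁ x').inv ≫ c.map (c.toFunctor.preimage i.hom) ≫ (appIso e₂ y').hom) ≫ G.map d'.hom
    rw [c.toFunctor.map_preimage]
    simp only [i, Iso.trans_hom, Iso.symm_hom, Functor.mapIso_hom, Functor.mapIso_inv,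
      Category.assoc, Iso.inv_hom_id_assoc]
    rw [← Functor.map_comp, d'.inv_hom_id, CategoryTheory.Functor.map_id, Category.comp_id]

end FpMap

/-- The open subscheme of a chart over an open set of points. -/
def chartOpen (hX : AlgSt.IsAlgStack K₀ 𝒳) (hO : IsOpen O) (x : FibCat.overCat U ⥤ᵇ 𝒳) :
    U.left.Opens :=
  ⟨AlgSt.Points.ofChart x ⁻¹' O, hO.preimage (continuous_ofChart hX x)⟩

/-- The chart restricted to an open subscheme. -/
abbrev subU (W : U.left.Opens) : Over S := Over.mk (W.ι ≫ U.hom)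

/-- The inclusion of an open subscheme. -/
abbrev subUIncl (W : U.left.Opens) : subU W ⟶ U := Over.homMk W.ι

lemma subUIncl_factor (W : U.left.Opens) {T : Over S} (g : T ⟶ U)
    (h : ∀ t : T.left, g.left t ∈ W) : ∃ g' : T ⟶ subU W, g' ≫ subUIncl W = g := by
  have hr : Set.range g.left ⊆ Set.range W.ι := by
    rintro _ ⟨t, rfl⟩
    rw [Scheme.Opens.range_ι]
    exact h t
  have hfac := IsOpenImmersion.lift_fac W.ι g.left hr
  refine ⟨Over.homMk (IsOpenImmersion.lift W.ι g.left hr) ?_, Over.OverMorphism.ext hfac⟩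
  change _ ≫ W.ι ≫ U.hom = _
  rw [← Category.assoc, hfac, Over.w]

lemma subU_mem (hX : AlgSt.IsAlgStack K₀ 𝒳) (hO : IsOpen O) (x : FibCat.overCat U ⥤ᵇ 𝒳)
    (s : (FibCat.overCat (subU (chartOpen hX hO x))).obj) :
    ptPred O (x.obj ((AlgSt.overMap (subUIncl (chartOpen hX hO x))).obj s)) :=
  (ptPred_chart_iff hX.isStack.1 x _).2 fun t => by
    change AlgSt.Points.ofChart x ((chartOpen hX hO x).ι (s.hom.left t)) ∈ O
    exact ((chartOpen hX hO x).range_ι.le ⟨_, rfl⟩ :)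

/-- A functor whose values have a property, as a functor into the full subcategory. -/
def liftSub {Q : 𝒳.obj → Prop} {𝒜 : AlgSt.Cat S} (F : 𝒜 ⥤ᵇ 𝒳) (h : ∀ a, Q (F.obj a)) :
    𝒜 ⥤ᵇ AlgSt.fullSub 𝒳 Q where
  toFunctor := ObjectProperty.lift Q F.toFunctor h
  w := F.w

/-- The lift followed by the inclusion. -/
def liftSubIso {Q : 𝒳.obj → Prop} {𝒜 : AlgSt.Cat S} (F : 𝒜 ⥤ᵇ 𝒳) (h : ∀ a, Q (F.obj a)) :
    BasedFunctor.comp (liftSub F h) (AlgSt.subIncl 𝒳 Q) ≅ F :=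
  mkIso (fun a => Iso.refl _)
    (fun {_ _} φ => (Category.comp_id _).trans (Category.id_comp _).symm)
    (fun a => IsHomLift.id (F.w_obj a))

instance subIncl_full (Q : 𝒳.obj → Prop) : (AlgSt.subIncl 𝒳 Q).toFunctor.Full :=
  inferInstanceAs (ObjectProperty.ι Q).Full

instance subIncl_faithful (Q : 𝒳.obj → Prop) : (AlgSt.subIncl 𝒳 Q).toFunctor.Faithful :=
  inferInstanceAs (ObjectProperty.ι Q).Faithful

/-- The open subscheme as the fibre product with an open substack. -/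
def toSubFp (hX : AlgSt.IsAlgStack K₀ 𝒳) (hO : IsOpen O) (x : FibCat.overCat U ⥤ᵇ 𝒳) :
    FibCat.overCat (subU (chartOpen hX hO x)) ⥤ᵇ FibCat.fp x (AlgSt.subIncl 𝒳 (ptPred O)) :=
  FibCat.fpLift (AlgSt.overMap (subUIncl (chartOpen hX hO x)))
    (liftSub (BasedFunctor.comp (AlgSt.overMap (subUIncl (chartOpen hX hO x))) x) (subU_mem hX hO x))
    (liftSubIso _ _).symm

lemma toSubFp_isEquivOver (hX : AlgSt.IsAlgStack K₀ 𝒳) (hO : IsOpen O)
    (x : FibCat.overCat U ⥤ᵇ 𝒳) : FibCat.IsEquivOver (toSubFp hX hO x) := by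
  let W := chartOpen hX hO x
  have : Mono (subUIncl W) := (Over.forget S).mono_of_mono_map (inferInstanceAs (Mono W.ι))
  refine (isEquivOver_iff _).2 ⟨⟨⟨fun {a b} f => ?_⟩, ⟨fun {a b} f g e => ?_⟩⟩, fun z => ?_⟩
  · let φ₁ : (Over.map (subUIncl W)).obj a ⟶ (Over.map (subUIncl W)).obj b := f.hom.fst
    let φ : a ⟶ b := Over.homMk φ₁.left ((cancel_mono (subUIncl W)).1
      ((Category.assoc _ _ _).trans (Over.w φ₁)))
    refine ⟨φ, fp_hom_ext (Over.OverMorphism.ext rfl) ?_⟩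
    apply ObjectProperty.hom_ext
    have hw := f.hom.w
    change x.map φ₁ ≫ 𝟙 _ = 𝟙 _ ≫ _ at hw
    rw [Category.comp_id, Category.id_comp] at hw
    exact hw
  · exact Over.OverMorphism.ext (congrArg (fun t => t.hom.fst.left) e)
  · have hs : ∀ t : z.obj.fst.left.left, z.obj.fst.hom.left t ∈ W :=
      (ptPred_chart_iff hX.isStack.1 x z.obj.fst).1
        (ptPred_of_hom z.obj.iso.hom z.obj.snd.property)
    obtain ⟨g', hg'⟩ := subUIncl_factor W z.obj.fst.hom hs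
    let a : (FibCat.overCat (subU W)).obj := Over.mk g'
    let e₁ : (Over.map (subUIncl W)).obj a ≅ z.obj.fst :=
      Over.isoMk (Iso.refl _) ((Category.id_comp _).trans hg'.symm)
    let e₂ : x.obj ((Over.map (subUIncl W)).obj a) ≅ z.obj.snd.obj :=
      x.toFunctor.mapIso e₁ ≪≫ z.obj.iso
    refine ⟨a, fpIsoMk e₁ (ObjectProperty.isoMk _ e₂) ?_, ?_⟩
    · exact (Category.id_comp _).symm
    · rw [fp_isHomLift_iff]
      exact IsHomLift.of_fac' _ _ _ rfl rfl ((Category.id_comp _).trans (Category.comp_id _)).symm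

lemma repWith_subIncl_open (hX : AlgSt.IsAlgStack K₀ 𝒳) (hO : IsOpen O) :
    AlgSt.IsOpenImm (AlgSt.subIncl 𝒳 (ptPred O)) := by
  intro U x
  let W := chartOpen hX hO x
  refine ⟨⟨(AlgSp.yon S).obj (subU W), AlgSp.IsAlgSpace.yon_obj _⟩,
    BasedFunctor.comp (AlgSt.toOverCat _) (toSubFp hX hO x),
    isEquivOver_comp (toOverCat_isEquivOver _) (toSubFp_isEquivOver hX hO x), ?_⟩
  have h : AlgSt.spMapOfOver (BasedFunctor.comp (BasedFunctor.comp (AlgSt.toOverCat (subU W))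
      (toSubFp hX hO x)) (FibCat.fpFst x (AlgSt.subIncl 𝒳 (ptPred O)))) =
      (AlgSp.yon S).map (subUIncl W) := by
    change AlgSt.spMapOfOver (BasedFunctor.comp (AlgSt.toOverCat (subU W))
      (AlgSt.overMap (subUIncl W))) = _
    rw [spMapOfOver_overMap, spMapOfOver_toOverCat, Category.id_comp]
  rw [h]
  exact (AlgSp.repWith_yon_map_iff _ _).2 (inferInstanceAs (IsOpenImmersion W.ι))

lemma fullSub_fibGrpd (hX : FibCat.IsFibGrpd 𝒳.p) :
    FibCat.IsFibGrpd (AlgSt.fullSub 𝒳 (ptPred O)).p where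
  exists_lift {a V} f := by
    obtain ⟨b, φ, hφ⟩ := hX.exists_lift (x := a.obj) f
    exact ⟨⟨b, ptPred_of_hom φ a.property⟩, ObjectProperty.homMk φ,
      (BasedFunctor.isHomLift_iff (AlgSt.subIncl 𝒳 (ptPred O)) f _).1 hφ⟩
  isStronglyCartesian {b a} φ := by
    have := hX.isStronglyCartesian φ.hom
    refine ⟨fun {c} g ψ hψ => ?_⟩
    have hψ' : 𝒳.p.IsHomLift (g ≫ 𝒳.p.map φ.hom) ψ.hom :=
      (BasedFunctor.isHomLift_iff (AlgSt.subIncl 𝒳 (ptPred O)) _ ψ).2 hψ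
    obtain ⟨χ, ⟨hχ₁, hχ₂⟩, huniq⟩ := IsStronglyCartesian.universal_property 𝒳.p
      (𝒳.p.map φ.hom) φ.hom g _ rfl ψ.hom
    refine ⟨ObjectProperty.homMk χ,
      ⟨(BasedFunctor.isHomLift_iff (AlgSt.subIncl 𝒳 (ptPred O)) g _).1 hχ₁,
        ObjectProperty.hom_ext _ hχ₂⟩, fun τ hτ => ObjectProperty.hom_ext _ (huniq τ.hom
        ⟨(BasedFunctor.isHomLift_iff (AlgSt.subIncl 𝒳 (ptPred O)) g τ).2 hτ.1,
          congrArg InducedCategory.Hom.hom hτ.2⟩)⟩

lemma fullSub_isStack (hX : AlgSt.IsAlgStack K₀ 𝒳) :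
    Stk.IsStack (QuotSh.J K₀ S) (AlgSt.fullSub 𝒳 (ptPred O)) := by
  let i := AlgSt.subIncl 𝒳 (ptPred O)
  refine ⟨fullSub_fibGrpd hX.isStack.1, fun U R hR => ?_⟩
  have hp := isPrestackFor_of_fullyFaithful i
    ((isPrestack_of_isStack hX.isStack).2 R hR)
  have : (Stk.resSieve R (AlgSt.fullSub 𝒳 (ptPred O))).Full := hp.1
  have : (Stk.resSieve R (AlgSt.fullSub 𝒳 (ptPred O))).Faithful := hp.2
  have : (Stk.resSieve R 𝒳).IsEquivalence := hX.isStack.2 R hR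
  have : (Stk.resSieve R (AlgSt.fullSub 𝒳 (ptPred O))).EssSurj := ⟨fun G => by
    let G' := BasedFunctor.comp G i
    let H := (Stk.resSieve R 𝒳).objPreimage G'
    let eH : BasedFunctor.comp (Stk.sieveIncl R) H ≅ G' := (Stk.resSieve R 𝒳).objObjPreimageIso G'
    obtain ⟨C, c, -, -, hs, hc⟩ := exists_fppf_family hR
    have hall : ∀ t : U.left, AlgSt.Points.ofChart H t ∈ O := fun t => by
      obtain ⟨j, w, rfl⟩ := hs t
      let a : (Stk.sieveCat R).obj := ⟨Over.mk (c j), hc j⟩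
      exact (ptPred_chart_iff hX.isStack.1 H (Over.mk (c j))).1
        (ptPred_of_hom (isoApp eH a).hom (G.obj a).property) w
    have hQ : ∀ s, ptPred O (H.obj s) := fun s =>
      (ptPred_chart_iff (O := O) hX.isStack.1 H s).2 fun t => hall _
    let H₀ := liftSub H hQ
    have : (post (Stk.sieveCat R) i).Full := post_full i
    have : (post (Stk.sieveCat R) i).Faithful := post_faithful i
    exact ⟨H₀, ⟨(post (Stk.sieveCat R) i).preimageIso
      ((Stk.resSieve R 𝒳).mapIso (liftSubIso H hQ) ≪≫ eH)⟩⟩⟩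
  exact { }

lemma fullSub_diag (hX : AlgSt.IsAlgStack K₀ 𝒳) :
    AlgSt.RepByAlgSp1 (FibCat.diag (FibCat.toSelf (AlgSt.fullSub 𝒳 (ptPred O)))) := by
  intro U y
  let 𝒰 := AlgSt.fullSub 𝒳 (ptPred O)
  let i : 𝒰 ⥤ᵇ 𝒳 := AlgSt.subIncl 𝒳 (ptPred O)
  let M : FibCat.fp (FibCat.toSelf 𝒰) (FibCat.toSelf 𝒰) ⥤ᵇ
      FibCat.fp (FibCat.toSelf 𝒳) (FibCat.toSelf 𝒳) :=
    fpMap i i (BasedFunctor.id (FibCat.selfOver (Over S))) (Iso.refl _) (Iso.refl _)
  let e : BasedFunctor.comp (FibCat.diag (FibCat.toSelf 𝒰)) M ≅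
      BasedFunctor.comp i (FibCat.diag (FibCat.toSelf 𝒳)) :=
    mkIso (fun a => fpIsoMk (Iso.refl _) (Iso.refl _) (by
        change 𝒳.p.map (𝟙 _) ≫ _ = _ ≫ 𝒳.p.map (𝟙 _)
        simp
        rfl))
      (fun {_ _} m => fp_hom_ext ((Category.comp_id _).trans (Category.id_comp _).symm)
        ((Category.comp_id _).trans (Category.id_comp _).symm))
      (fun a => (fp_isHomLift_iff _ _).2 (IsHomLift.id rfl))
  let E : FibCat.fp y (FibCat.diag (FibCat.toSelf 𝒰)) ⥤ᵇ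
      FibCat.fp (BasedFunctor.comp y M) (FibCat.diag (FibCat.toSelf 𝒳)) :=
    fpMap (BasedFunctor.id _) i M (Iso.refl _) e
  have hM : M.toFunctor.Faithful ∧ M.toFunctor.Full := by
    constructor
    · exact ⟨fun {a b} f g h => fp_hom_ext
        (ObjectProperty.hom_ext _ (congrArg (fun t => t.hom.fst) h))
        (ObjectProperty.hom_ext _ (congrArg (fun t => t.hom.snd) h))⟩
    · refine ⟨fun {a b} f => ?_⟩
      refine ⟨ObjectProperty.homMk
        { fst := ObjectProperty.homMk f.hom.fst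
          snd := ObjectProperty.homMk f.hom.snd
          w := ?_ }, fp_hom_ext rfl rfl⟩
      have hw := f.hom.w
      change 𝒳.p.map f.hom.fst ≫ _ = _ ≫ 𝒳.p.map f.hom.snd at hw
      change 𝒳.p.map f.hom.fst ≫ _ = _ ≫ 𝒳.p.map f.hom.snd
      simp only [M, fpMap, fpObj, fpMapIso, Iso.trans_hom, Iso.symm_hom, Functor.mapIso_hom] at hw
      erw [Category.id_comp, Category.id_comp, Category.comp_id] at hw
      exact hw
  have := hM.1
  have := hM.2
  have hE : FibCat.IsEquivOver E :=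
    fpMap_isEquivOver_of_lifts _ _ _ _ _ (essSurjOver_id _) fun z =>
      ⟨⟨z.obj.snd, ptPred_of_hom z.obj.iso.inv.hom.fst (y.obj z.obj.fst).obj.fst.property⟩,
        Iso.refl _, IsHomLift.id rfl⟩
  exact repByAlgSp_of_equiv' hE (hX.diag U (BasedFunctor.comp y M))

lemma isOpenSubstack_ptPred (hX : AlgSt.IsAlgStack K₀ 𝒳) (hO : IsOpen O) :
    AlgSt.IsOpenSubstack 𝒳 (ptPred O) K₀ := by
  refine ⟨ptPred_closedUnderIso, ⟨fullSub_isStack hX, fullSub_diag hX, ?_⟩,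
    repWith_subIncl_open hX hO⟩
  obtain ⟨U, x, hx, hxs⟩ := hX.atlas
  let i := AlgSt.subIncl 𝒳 (ptPred O)
  let W := chartOpen hX hO x
  let E := BasedFunctor.comp (toSubFp hX hO x) (fpSwap x i)
  have hE : FibCat.IsEquivOver E :=
    isEquivOver_comp (toSubFp_isEquivOver hX hO x) (fpSwap_isEquivOver _ _)
  have h1 := (repWith_equiv_comp_iff hE).1 (repWith_fpFst i hx)
  have h2 := (repWith_equiv_comp_iff hE).1 (repWith_fpFst i hxs)
  exact ⟨subU W, BasedFunctor.comp E (FibCat.fpFst i x), h1, h2⟩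

lemma range_ptPred : Set.range (AlgSt.Points.map (AlgSt.subIncl 𝒳 (ptPred O))) = O := by
  ext q
  constructor
  · rintro ⟨w, rfl⟩
    obtain ⟨p, rfl⟩ := AlgSt.Points.mk_surjective w
    exact (ptPred_fpt (p.map (AlgSt.subIncl 𝒳 (ptPred O)))).1 p.obj.property
  · intro hq
    obtain ⟨p, rfl⟩ := AlgSt.Points.mk_surjective q
    let p' : AlgSt.FPt (AlgSt.fullSub 𝒳 (ptPred O)) :=
      { K := p.K, str := p.str, obj := ⟨p.obj, (ptPred_fpt p).2 hq⟩, lies := p.lies }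
    exact ⟨AlgSt.Points.mk p', rfl⟩

lemma exists_subspace_open {Q : 𝒳.obj → Prop} (hc : ObjectProperty.IsClosedUnderIsomorphisms Q)
    (hj : AlgSt.IsOpenImm (AlgSt.subIncl 𝒳 Q)) (x : FibCat.overCat U ⥤ᵇ 𝒳) :
    ∃ W : U.left.Opens, ∀ s : (FibCat.overCat U).obj,
      Q (x.obj s) ↔ ∀ t : s.left.left, s.hom.left t ∈ W := by
  obtain ⟨G, e, he, hσ⟩ := hj U x
  let p := BasedFunctor.comp e (FibCat.fpFst x (AlgSt.subIncl 𝒳 Q))
  obtain ⟨A, v, fst, sq⟩ := hσ.rep (𝟙 ((AlgSp.yon S).obj U))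
  have hv : IsOpenImmersion v.left := hσ.property (𝟙 _) fst v sq
  have : IsIso fst := sq.isIso_fst_of_isIso
  have hσv : AlgSt.spMapOfOver p = inv fst ≫ (AlgSp.yon S).map v := by
    rw [IsIso.eq_inv_comp, sq.w, Category.comp_id]
  obtain ⟨k⟩ := spMapOfOver_eq p
  refine ⟨v.left.opensRange, fun s => ⟨fun h t => ?_, fun h => ?_⟩⟩
  · let z : (FibCat.fp x (AlgSt.subIncl 𝒳 Q)).obj :=
      ⟨⟨s, ⟨x.obj s, h⟩, Iso.refl _⟩, IsHomLift.id (x.w_obj s)⟩
    obtain ⟨ξ, eξ, hξ⟩ := ((isEquivOver_iff e).1 he).2 z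
    let e₁ : p.obj ξ ≅ s := (FibCat.fpFst x (AlgSt.subIncl 𝒳 Q)).toFunctor.mapIso eξ
    let e₂ := e₁.symm ≪≫ appIso k ξ
    let w := ((inv fst).hom.app (op ξ.base) ξ.sec).down
    have h1 : ((AlgSt.spMapOfOver p).hom.app (op ξ.base) ξ.sec).down = w ≫ v := by
      rw [hσv]
      rfl
    have h2 : e₂.hom.left ≫ ((AlgSt.spMapOfOver p).hom.app (op ξ.base) ξ.sec).down = s.hom :=
      Over.w e₂.hom
    rw [h1] at h2
    exact ⟨w.left (e₂.hom.left.left t),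
      (congrArg (fun g : s.left ⟶ U => g.left t) h2 :)⟩
  · have hr : Set.range s.hom.left ⊆ Set.range v.left := by
      rintro _ ⟨t, rfl⟩
      exact h t
    have hfac := IsOpenImmersion.lift_fac v.left s.hom.left hr
    let w : s.left ⟶ A := Over.homMk (IsOpenImmersion.lift v.left s.hom.left hr) (by
      rw [← Over.w v, ← Category.assoc, hfac, Over.w])
    let ξ : (AlgSt.ofSp G.obj).obj := ⟨s.left, fst.hom.app (op s.left) ⟨w⟩⟩
    have h1 : ((AlgSt.spMapOfOver p).hom.app (op s.left) ξ.sec).down = s.hom := by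
      rw [hσv]
      show ((inv fst).hom.app (op s.left) (fst.hom.app (op s.left) ⟨w⟩)).down ≫ v = s.hom
      have h3 : (fst ≫ inv fst).hom.app (op s.left) ⟨w⟩ = ⟨w⟩ := by
        rw [IsIso.hom_inv_id]
        rfl
      rw [show (inv fst).hom.app (op s.left) (fst.hom.app (op s.left) ⟨w⟩) = ⟨w⟩ from h3]
      exact Over.OverMorphism.ext hfac
    let e₁ : p.obj ξ ≅ s := appIso k ξ ≪≫ Over.isoMk (Iso.refl _) ((Category.id_comp _).trans h1.symm)
    exact hc.of_iso ((e.obj ξ).obj.iso.symm ≪≫ x.toFunctor.mapIso e₁) (e.obj ξ).obj.snd.property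

lemma ofChart_mem_range_iff {Q : 𝒳.obj → Prop} (hX : FibCat.IsFibGrpd 𝒳.p)
    (hQ : AlgSt.IsOpenSubstack 𝒳 Q K₀) (x : FibCat.overCat U ⥤ᵇ 𝒳) {W : U.left.Opens}
    (hW : ∀ s : (FibCat.overCat U).obj, Q (x.obj s) ↔ ∀ t : s.left.left, s.hom.left t ∈ W)
    (t : U.left) :
    AlgSt.Points.ofChart x t ∈ Set.range (AlgSt.Points.map (AlgSt.subIncl 𝒳 Q)) ↔ t ∈ W := by
  constructor
  · rintro ⟨w, hw⟩
    rw [ofChart_eq_map] at hw
    obtain ⟨z, hz₁, -⟩ := exists_points_fp (overCat_fibSet U).1 hQ.2.1.isStack.1 hX hw.symm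
    obtain ⟨z, rfl⟩ := AlgSt.Points.mk_surjective z
    have h := (hW z.obj.obj.fst).1 (hQ.1.of_iso z.obj.obj.iso.symm z.obj.obj.snd.property)
    let q := z.map (FibCat.fpFst x (AlgSt.subIncl 𝒳 Q))
    have h1 : chartPt q = t :=
      (congrArg chartPoint hz₁).trans (chartPoint_ofChart t)
    rw [← h1]
    have hh : q.obj.left = Over.mk q.str := q.lies
    exact h ((eqToHom hh.symm).left (IsLocalRing.closedPoint q.K))
  · intro ht
    let s : (FibCat.overCat U).obj :=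
      Over.mk (Over.homMk (U.left.fromSpecResidueField t) rfl :
        Over.mk (U.left.fromSpecResidueField t ≫ U.hom) ⟶ U)
    have hq : Q (x.obj s) := (hW s).2 fun t' => by
      rw [show s.hom.left t' = t from U.left.fromSpecResidueField_apply t t']
      exact ht
    let p' : AlgSt.FPt (AlgSt.fullSub 𝒳 Q) :=
      { K := U.left.residueField t, str := U.left.fromSpecResidueField t ≫ U.hom,
        obj := ⟨x.obj s, hq⟩, lies := x.w_obj s }
    exact ⟨AlgSt.Points.mk p', rfl⟩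

lemma exists_slice_through (hX : FibCat.IsFibGrpd 𝒳.p) (a : 𝒳.obj) :
    ∃ x : FibCat.overCat (𝒳.p.obj a) ⥤ᵇ 𝒳, Nonempty (x.obj (topObj _) ≅ a) := by
  have := isFibered_of_fibGrpd hX
  obtain ⟨x, e, -, -⟩ := exists_fromOver (𝒳 := 𝒳) (x := a) rfl
  exact ⟨x, ⟨e⟩⟩

lemma openSubstack_eq_ptPred {Q : 𝒳.obj → Prop} (hX : AlgSt.IsAlgStack K₀ 𝒳)
    (hQ : AlgSt.IsOpenSubstack 𝒳 Q K₀) :
    Q = ptPred (Set.range (AlgSt.Points.map (AlgSt.subIncl 𝒳 Q))) := by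
  funext a
  apply propext
  obtain ⟨x, ⟨e⟩⟩ := exists_slice_through hX.isStack.1 a
  obtain ⟨W, hW⟩ := exists_subspace_open hQ.1 hQ.2.2 x
  have h1 : Q a ↔ Q (x.obj (topObj _)) := ⟨hQ.1.of_iso e.symm, hQ.1.of_iso e⟩
  have h2 : ptPred (Set.range (AlgSt.Points.map (AlgSt.subIncl 𝒳 Q))) a ↔
      ptPred (Set.range (AlgSt.Points.map (AlgSt.subIncl 𝒳 Q))) (x.obj (topObj _)) :=
    ⟨ptPred_of_hom e.hom, ptPred_of_hom e.inv⟩
  rw [h1, h2, hW, ptPred_chart_iff hX.isStack.1]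
  exact forall_congr' fun t => (ofChart_mem_range_iff hX.isStack.1 hQ x hW _).symm

lemma isOpen_range_openSubstack {Q : 𝒳.obj → Prop} (hX : AlgSt.IsAlgStack K₀ 𝒳)
    (hQ : AlgSt.IsOpenSubstack 𝒳 Q K₀) :
    IsOpen (Set.range (AlgSt.Points.map (AlgSt.subIncl 𝒳 Q))) := by
  rw [AlgSt.Points.isOpen_iff]
  intro U x _
  obtain ⟨W, hW⟩ := exists_subspace_open hQ.1 hQ.2.2 x
  convert W.isOpen using 1
  ext t
  exact ofChart_mem_range_iff hX.isStack.1 hQ x hW t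

lemma openSubstack_le_iff {Q Q' : 𝒳.obj → Prop} (hX : AlgSt.IsAlgStack K₀ 𝒳)
    (hQ : AlgSt.IsOpenSubstack 𝒳 Q K₀) (hQ' : AlgSt.IsOpenSubstack 𝒳 Q' K₀) :
    (∀ y, Q y → Q' y) ↔ Set.range (AlgSt.Points.map (AlgSt.subIncl 𝒳 Q)) ⊆
      Set.range (AlgSt.Points.map (AlgSt.subIncl 𝒳 Q')) := by
  constructor
  · rintro h _ ⟨w, rfl⟩
    obtain ⟨p, rfl⟩ := AlgSt.Points.mk_surjective w
    exact ⟨AlgSt.Points.mk ⟨p.K, p.str, ⟨p.obj.obj, h _ p.obj.property⟩, p.lies⟩, rfl⟩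
  · intro h y hy
    rw [openSubstack_eq_ptPred hX hQ] at hy
    rw [openSubstack_eq_ptPred hX hQ']
    exact fun r hr => h (hy r hr)

lemma ptPred_map (h𝒴 : FibCat.IsFibGrpd 𝒴.p) (hX : FibCat.IsFibGrpd 𝒳.p) (F : 𝒴 ⥤ᵇ 𝒳)
    (a : 𝒴.obj) : ptPred (Set.range (AlgSt.Points.map F)) (F.obj a) := by
  intro r ⟨φ⟩
  let g : Over.mk r.str ⟶ 𝒴.p.obj a :=
    eqToHom r.lies.symm ≫ 𝒳.p.map φ ≫ eqToHom (F.w_obj a)
  have hφ : 𝒳.p.IsHomLift g φ :=
    IsHomLift.of_fac' 𝒳.p g φ r.lies (F.w_obj a) (by simp [g])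
  obtain ⟨b, ψ, hψ⟩ := h𝒴.exists_lift g
  have hψ' : 𝒳.p.IsHomLift g (F.map ψ) := F.preserves_isHomLift g ψ
  obtain ⟨e, -, -⟩ := exists_vertIso hX g φ (F.map ψ)
  have hb : 𝒴.p.obj b = Over.mk r.str := IsHomLift.domain_eq 𝒴.p g ψ
  let q : AlgSt.FPt 𝒴 := { K := r.K, str := r.str, obj := b, lies := hb }
  exact ⟨AlgSt.Points.mk q, (mk_eq_of_hom (p := r) (q := q.map F) e.hom).symm⟩

lemma repWith_of_comp_ff {P : MorphismProperty (AlgSp.Sp S)} (M : 𝒵 ⥤ᵇ 𝒳) [M.toFunctor.Full]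
    [M.toFunctor.Faithful] {F : 𝒴 ⥤ᵇ 𝒳} (g : 𝒴 ⥤ᵇ 𝒵) (e : BasedFunctor.comp g M ≅ F)
    (h : AlgSt.RepByAlgSpWith P F) : AlgSt.RepByAlgSpWith P g := by
  let E : 𝒴 ⥤ᵇ FibCat.fp M (BasedFunctor.comp g M) :=
    FibCat.fpLift g (BasedFunctor.id 𝒴) (Iso.refl _)
  have hE : FibCat.IsEquivOver E := by
    refine (isEquivOver_iff _).2 ⟨⟨⟨fun {a b} f => ?_⟩, ⟨fun {a b} f g e => ?_⟩⟩, fun z => ?_⟩
    · refine ⟨f.hom.snd, fp_hom_ext (M.toFunctor.map_injective ?_) rfl⟩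
      have hw := f.hom.w
      change M.map f.hom.fst ≫ 𝟙 _ = 𝟙 _ ≫ M.map (g.map f.hom.snd) at hw
      rw [Category.comp_id, Category.id_comp] at hw
      exact hw.symm
    · exact congrArg (fun t => t.hom.snd) e
    · let d := M.toFunctor.preimageIso z.obj.iso
      refine ⟨z.obj.snd, fpIsoMk d.symm (Iso.refl _) ?_, ?_⟩
      · change M.map d.inv ≫ z.obj.iso.hom = 𝟙 _ ≫ M.map (g.map (𝟙 z.obj.snd))
        simp only [Iso.refl_hom, d, Functor.preimageIso_inv, Functor.map_preimage, Iso.inv_hom_id,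
          CategoryTheory.Functor.map_id, Category.comp_id]
      · rw [fp_isHomLift_iff]
        refine (BasedFunctor.isHomLift_iff M _ _).1 ?_
        have : 𝒳.p.IsHomLift (𝟙 ((FibCat.fp M (BasedFunctor.comp g M)).p.obj z)) z.obj.iso.hom :=
          z.property
        have h2 := IsHomLift.lift_id_inv 𝒳.p
          ((FibCat.fp M (BasedFunctor.comp g M)).p.obj z) z.obj.iso
        change 𝒳.p.IsHomLift _ (M.map d.inv)
        simpa [d] using h2
  exact (repWith_equiv_comp_iff hE).1 (repWith_fpFst M (repWith_of_iso e.symm h))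

lemma repWith_liftSub {P : MorphismProperty (AlgSp.Sp S)} {Q : 𝒳.obj → Prop} {F : 𝒴 ⥤ᵇ 𝒳}
    (h : AlgSt.RepByAlgSpWith P F) (hQ : ∀ a, Q (F.obj a)) :
    AlgSt.RepByAlgSpWith P (liftSub F hQ) :=
  repWith_of_comp_ff (AlgSt.subIncl 𝒳 Q) _ (liftSubIso F hQ) h

lemma exists_image_substack (hX : AlgSt.IsAlgStack K₀ 𝒳) (hY : AlgSt.IsAlgStack K₀ 𝒴)
    (F : 𝒴 ⥤ᵇ 𝒳) (hF : IsOpen (Set.range (AlgSt.Points.map F)))
    (hs : AlgSt.RepByAlgSpWith (AlgSp.LocP @Smooth) F) :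
    ∃ g : 𝒴 ⥤ᵇ AlgSt.fullSub 𝒳 (ptPred (Set.range (AlgSt.Points.map F))),
      AlgSt.RepByAlgSpWith (AlgSp.LocP @Smooth) g ∧
        AlgSt.RepByAlgSpWith AlgSp.IsSurjectiveMor g ∧
          Nonempty (BasedFunctor.comp g (AlgSt.subIncl 𝒳 _) ≅ F) := by
  let Q := ptPred (Set.range (AlgSt.Points.map F))
  let i := AlgSt.subIncl 𝒳 Q
  have hQ : ∀ a, Q (F.obj a) := ptPred_map hY.isStack.1 hX.isStack.1 F
  let g := liftSub F hQ
  have h1 : AlgSt.RepByAlgSpWith (AlgSp.LocP @Smooth) g := repWith_liftSub hs hQ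
  refine ⟨g, h1, repWith_surjective_of_points hY.isStack.1 (fullSub_fibGrpd hX.isStack.1)
    (repByAlgSp1_of_with h1) fun w => ?_, ⟨liftSubIso F hQ⟩⟩
  obtain ⟨p, rfl⟩ := AlgSt.Points.mk_surjective w
  obtain ⟨w', hw⟩ := (ptPred_fpt (p.map i)).1 p.obj.property
  refine ⟨w', ?_⟩
  apply points_map_injective_of_ff (fullSub_fibGrpd hX.isStack.1) hX.isStack.1 i
  rw [← points_map_comp, points_map_iso (liftSubIso F hQ), hw]
  rfl

end Groth.Agent.H14AlgSt
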