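import Groth.Agent.H14AlgSt.PairChart
import Groth.Agent.H14AlgSt.Substack

/-!
# The fibre product of two maps of schemes, read on their slice categories
-/

set_option autoImplicit false
set_option backward.isDefEq.respectTransparency false
set_option backward.isDefEq.respectTransparency.types false

universe u

open CategoryTheory CategoryTheory.Functor Opposite AlgebraicGeometry CategoryTheory.Limits

noncomputable section

namespace Groth.Agent.H14AlgSt

open H14Fib H14Stk

variable {S : Scheme.{u}} {A T U : Over S}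

/-- The fibre product of two maps of schemes over a test scheme has the properties of the
projection. -/
lemma repData_overMap_pullback {P : MorphismProperty (AlgSp.Sp S)} (h : T ⟶ U) (c : A ⟶ U)
    (hP : P ((AlgSp.yon S).map (pullback.fst h c))) :
    RepData P (FibCat.fpFst (AlgSt.overMap h) (AlgSt.overMap c)) := by
  have sqp := ((IsPullback.of_hasPullback h c).map (AlgSp.yon S)).map
    (sheafToPresheaf (AlgSp.J S) (Type (u + 1)))
  let Q := pullback h c
  obtain ⟨⟨_, _⟩, htT⟩ := (isEquivOver_iff _).1 (toOverCat_isEquivOver T)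
  obtain ⟨⟨_, _⟩, htA⟩ := (isEquivOver_iff _).1 (toOverCat_isEquivOver A)
  obtain ⟨⟨_, _⟩, -⟩ := (isEquivOver_iff _).1 (toOverCat_isEquivOver U)
  let mk' : ∀ {U V : Over S} (g : U ⟶ V),
      BasedFunctor.comp (Stk.ofPshMap ((AlgSp.yon S).map g).hom) (AlgSt.toOverCat V) ≅
        BasedFunctor.comp (AlgSt.toOverCat U) (AlgSt.overMap g) := fun {U V} g =>
    mkIso (fun s => Iso.refl _)
      (fun {_ _} φ => (Category.comp_id _).trans ((Category.id_comp _).trans
        (Over.OverMorphism.ext rfl)).symm)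
      (fun s => IsHomLift.id rfl)
  let R₁ : FibCat.fp (Stk.ofPshMap ((AlgSp.yon S).map h).hom)
      (Stk.ofPshMap ((AlgSp.yon S).map c).hom) ⥤ᵇ
        FibCat.fp (AlgSt.overMap h) (AlgSt.overMap c) :=
    fpMap (F := AlgSt.overMap h) (G := AlgSt.overMap c) (AlgSt.toOverCat T) (AlgSt.toOverCat A)
      (AlgSt.toOverCat U) (mk' h) (mk' c)
  have hR₁ : FibCat.IsEquivOver R₁ := fpMap_isEquivOver _ _ _ _ _ htT htA
  let E : AlgSt.ofSp ((AlgSp.yon S).obj Q) ⥤ᵇ FibCat.fp (AlgSt.overMap h) (AlgSt.overMap c) :=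
    BasedFunctor.comp (pshComparison sqp.w) R₁
  have hE : FibCat.IsEquivOver E := isEquivOver_comp (pshComparison_isEquivOver sqp) hR₁
  refine ⟨⟨(AlgSp.yon S).obj Q, AlgSp.IsAlgSpace.yon_obj Q⟩, E, hE, ?_⟩
  let q : AlgSt.ofSp ((AlgSp.yon S).obj Q) ⥤ᵇ FibCat.overCat T :=
    BasedFunctor.comp E (FibCat.fpFst (AlgSt.overMap h) (AlgSt.overMap c))
  have k : q ≅ BasedFunctor.comp (AlgSt.ofSpMap ((AlgSp.yon S).map (pullback.fst h c)))
      (AlgSt.toOverCat T) := Iso.refl _
  change P (AlgSt.spMapOfOver q)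
  rw [spMapOfOver_congr k, spMapOfOver_comp, spMapOfOver_toOverCat, Category.comp_id]
  exact hP

end Groth.Agent.H14AlgSt
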