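import Mathlib.AlgebraicGeometry.Fiber
import Mathlib.AlgebraicGeometry.Morphisms.UniversallyOpen
import Mathlib.AlgebraicGeometry.Morphisms.Etale
import Mathlib.AlgebraicGeometry.Morphisms.Flat
import Mathlib.AlgebraicGeometry.Morphisms.QuasiFinite
import Mathlib.AlgebraicGeometry.ZariskisMainTheorem

/-!
# Quasi-finiteness at a point: base change and étale localisation on the source
-/

set_option autoImplicit false
set_option backward.isDefEq.respectTransparency false
set_option backward.isDefEq.respectTransparency.types false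

universe u

open CategoryTheory CategoryTheory.Limits AlgebraicGeometry

noncomputable section

namespace Groth.Agent.H14AlgSt

/-- An isolated point of a fibre is a point of quasi-finiteness. -/
lemma quasiFiniteAt_of_isOpen_singleton {X Y : Scheme.{u}} (f : X ⟶ Y) [LocallyOfFiniteType f]
    (v : Y) (y : f.fiber v) (h : IsOpen ({y} : Set ↥(f.fiber v))) :
    f.QuasiFiniteAt (f.fiberι v y) := by
  have key : ∀ (w : X) (v : Y) (y : f.fiber v), f.fiberι v y = w → v = f w →
      IsOpen ({y} : Set ↥(f.fiber v)) → f.QuasiFiniteAt w := by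
    rintro w _ y e rfl h
    rw [Scheme.Hom.quasiFiniteAt_iff_isOpen_singleton_asFiber]
    convert h using 2
    exact (f.fiberι _).isEmbedding.injective ((f.fiberι_asFiber _).trans e.symm)
  exact key _ v y rfl ((f.range_fiberι v).le ⟨y, rfl⟩).symm h

/-- Quasi-finiteness at a point descends along any base change. -/
theorem quasiFiniteAt_of_isPullback {P' P V' V : Scheme.{u}} {pr : P' ⟶ P} {h' : P' ⟶ V'}
    {h : P ⟶ V} {g : V' ⟶ V} (sq : IsPullback pr h' h g) [LocallyOfFiniteType h] {w : P'}
    (hw : h'.QuasiFiniteAt w) : h.QuasiFiniteAt (pr w) := by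
  have : LocallyOfFiniteType h' := MorphismProperty.of_isPullback sq ‹_›
  have sqF := isPullback_fiberToSpecResidueField_of_isPullback sq (h' w)
  have ho := hw.isClopen_singleton_asFiber.2
  let m := pullback.map h' (V'.fromSpecResidueField (h' w)) h (V.fromSpecResidueField (g (h' w))) pr
    (Spec.map (g.residueFieldMap (h' w))) g sq.w.symm (by simp)
  have : UniversallyOpen (Spec.map (g.residueFieldMap (h' w))) := inferInstance
  have hm : UniversallyOpen m := MorphismProperty.of_isPullback sqF.flip this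
  have h1 : IsOpen ({m (h'.asFiber w)} : Set ↥(h.fiber (g (h' w)))) := by
    rw [← Set.image_singleton (f := m)]
    exact Scheme.Hom.isOpenMap m _ ho
  have e : h.fiberι (g (h' w)) (m (h'.asFiber w)) = pr w :=
    (Scheme.Hom.comp_apply m (h.fiberι (g (h' w))) _).symm.trans
      ((congrArg (fun k : h'.fiber (h' w) ⟶ P => k (h'.asFiber w))
        (pullback.lift_fst _ _ _ : m ≫ h.fiberι (g (h' w)) = h'.fiberι (h' w) ≫ pr)).trans
      ((Scheme.Hom.comp_apply _ pr _).trans (congrArg pr (h'.fiberι_asFiber w))))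
  exact e ▸ (quasiFiniteAt_of_isOpen_singleton h _ _ h1 :
    h.QuasiFiniteAt (h.fiberι (g (h' w)) (m (h'.asFiber w))))

/-- Quasi-finiteness at a point is stable under base change. -/
theorem quasiFiniteAt_baseChange {P' P V' V : Scheme.{u}} {pr : P' ⟶ P} {h' : P' ⟶ V'}
    {h : P ⟶ V} {g : V' ⟶ V} (sq : IsPullback pr h' h g) [LocallyOfFiniteType h] {w : P'}
    (hw : h.QuasiFiniteAt (pr w)) : h'.QuasiFiniteAt w := by
  let O := h.quasiFiniteLocus
  have : LocallyQuasiFinite (O.ι ≫ h) := by
    refine ((O.ι ≫ h).quasiFiniteLocus_eq_top_iff).1 (top_unique fun x _ => ?_)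
    exact Scheme.Hom.quasiFiniteAt_comp_iff_of_isOpenImmersion.2 (O.range_ι.le ⟨x, rfl⟩)
  let j : (pr ⁻¹ᵁ O).toScheme ⟶ P' := (pr ⁻¹ᵁ O).ι
  have sq' : IsPullback (pr ∣_ O) (j ≫ h') (O.ι ≫ h) g :=
    (isPullback_morphismRestrict pr O).paste_vert sq
  have : LocallyQuasiFinite (j ≫ h') := MorphismProperty.of_isPullback sq' ‹_›
  exact Scheme.Hom.quasiFiniteAt_comp_iff_of_isOpenImmersion.1
    ((j ≫ h').quasiFiniteAt ⟨w, hw⟩)

end Groth.Agent.H14AlgSt
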