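import Groth.Agent.H14AlgSt.Space
import Groth.Agent.H14AlgSt.AlgFp
import Groth.Agent.H14Fib.DiagBase

/-!
# Calculus of diagonals of morphisms of algebraic stacks
-/

set_option autoImplicit false
set_option backward.isDefEq.respectTransparency false
set_option backward.isDefEq.respectTransparency.types false

universe u

open CategoryTheory Opposite AlgebraicGeometry CategoryTheory.Limits

namespace Groth.Agent.H14AlgSt

open H14Fib H14Stk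

variable {S : Scheme.{u}} {P Q : MorphismProperty (AlgSp.Sp S)} {𝒳 𝒴 𝒵 : AlgSt.Cat S}

/-- The diagonal of a composite. -/
def diagCompIso (f : 𝒳 ⥤ᵇ 𝒴) (g : 𝒴 ⥤ᵇ 𝒵) :
    BasedFunctor.comp (FibCat.diag f) (fpDown f f g) ≅ FibCat.diag (BasedFunctor.comp f g) :=
  mkIso (fun x => fpIsoMk (F := BasedFunctor.comp f g) (G := BasedFunctor.comp f g)
      (Iso.refl _) (Iso.refl _) (by
      change g.map (f.map (𝟙 x)) ≫ 𝟙 _ = g.map (𝟙 (f.obj x)) ≫ g.map (f.map (𝟙 x))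
      rw [f.toFunctor.map_id]
      simp only [g.toFunctor.map_id]))
    (fun {_ _} _ => fp_hom_ext ((Category.comp_id _).trans (Category.id_comp _).symm)
      ((Category.comp_id _).trans (Category.id_comp _).symm))
    (fun _ => (fp_isHomLift_iff _ _).2 (IsHomLift.id rfl))

lemma repWith_fpDown {𝒜 ℬ : AlgSt.Cat S} {H : 𝒳 ⥤ᵇ 𝒵}
    (h : AlgSt.RepByAlgSpWith P (FibCat.diag H)) (F : 𝒜 ⥤ᵇ 𝒳) (G : ℬ ⥤ᵇ 𝒳) :
    AlgSt.RepByAlgSpWith P (fpDown F G H) :=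
  (repWith_equiv_comp_iff (magicFun_isEquivOver F G H)).1 (repWith_fpFst (pairMap F G H) h)

/-- The diagonal of a base change has the properties of the diagonal. -/
lemma repWith_diag_fpFst {f : 𝒳 ⥤ᵇ 𝒴} (g : 𝒵 ⥤ᵇ 𝒴)
    (h : AlgSt.RepByAlgSpWith P (FibCat.diag f)) :
    AlgSt.RepByAlgSpWith P (FibCat.diag (FibCat.fpFst g f)) :=
  (repWith_equiv_comp_iff (diagBase_isEquivOver g f)).1 (repWith_fpFst (basePair g f) h)

lemma repWith_diag_comp (hiso : SourceIsoInv P) (hloc : TestOnSchemes P)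
    (hc : ∀ ⦃A B C : AlgSp.Sp S⦄, AlgSp.IsAlgSpace A → AlgSp.IsAlgSpace B → AlgSp.IsAlgSpace C →
      ∀ (a : A ⟶ B) (b : B ⟶ C), P a → P b → P (a ≫ b))
    (h𝒳 : FibCat.IsFibGrpd 𝒳.p) (h𝒴 : FibCat.IsFibGrpd 𝒴.p) {f : 𝒳 ⥤ᵇ 𝒴} {g : 𝒴 ⥤ᵇ 𝒵}
    (hf : AlgSt.RepByAlgSpWith P (FibCat.diag f)) (hg : AlgSt.RepByAlgSpWith P (FibCat.diag g)) :
    AlgSt.RepByAlgSpWith P (FibCat.diag (BasedFunctor.comp f g)) :=
  repWith_of_iso (diagCompIso f g)
    (repWith_comp_of hiso hloc hc h𝒳 (fp_fibGrpd h𝒳 h𝒳 h𝒴) hf (repWith_fpDown hg f f))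

lemma repWith_diag_cancel (hP : BaseStable P) (hc : CancelsLeft P Q)
    (h𝒳 : FibCat.IsFibGrpd 𝒳.p) (h𝒴 : FibCat.IsFibGrpd 𝒴.p) {f : 𝒳 ⥤ᵇ 𝒴} {g : 𝒴 ⥤ᵇ 𝒵}
    (hf : AlgSt.RepByAlgSp1 (FibCat.diag f)) (hg : AlgSt.RepByAlgSpWith Q (FibCat.diag g))
    (hfg : AlgSt.RepByAlgSpWith P (FibCat.diag (BasedFunctor.comp f g))) :
    AlgSt.RepByAlgSpWith P (FibCat.diag f) :=
  repWith_cancel hP hc h𝒳 (fp_fibGrpd h𝒳 h𝒳 h𝒴) hf (repWith_of_iso (diagCompIso f g).symm hfg)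
    (repWith_fpDown hg f f)

/-- Representability of a relative diagonal, from fibre products. -/
lemma rep1_diag_of_forall (H : 𝒳 ⥤ᵇ 𝒵)
    (hQ : ∀ (U : Over S) (a b : FibCat.overCat U ⥤ᵇ 𝒵), AlgSt.RepByAlgSp (FibCat.fp a b))
    (h : ∀ (U : Over S) (x₁ x₂ : FibCat.overCat U ⥤ᵇ 𝒳), AlgSt.RepByAlgSp (FibCat.fp x₁ x₂)) :
    AlgSt.RepByAlgSp1 (FibCat.diag H) := by
  intro U z
  let x₁ := BasedFunctor.comp z (FibCat.fpFst H H)
  let x₂ := BasedFunctor.comp z (FibCat.fpSnd H H)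
  let m := pairMap x₁ x₂ H
  let i₀ : BasedFunctor.comp (BasedFunctor.id (FibCat.overCat U)) (BasedFunctor.comp x₁ H) ≅
      BasedFunctor.comp (BasedFunctor.id (FibCat.overCat U)) (BasedFunctor.comp x₂ H) :=
    (Stk.restr z _).mapIso (FibCat.fpIso H H)
  let δ := FibCat.fpLift (F := BasedFunctor.comp x₁ H) (G := BasedFunctor.comp x₂ H)
    (BasedFunctor.id (FibCat.overCat U)) (BasedFunctor.id (FibCat.overCat U)) i₀
  have i : BasedFunctor.comp δ m ≅ z := by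
    refine mkIso (fun s => fpIsoMk (Iso.refl _) (Iso.refl _) ?_) (fun {_ _} _ => ?_) (fun s => ?_)
    · change H.map (𝟙 _) ≫ (z.obj s).obj.iso.hom =
        (𝟙 _ ≫ (z.obj s).obj.iso.hom ≫ 𝟙 _) ≫ H.map (𝟙 _)
      rw [H.toFunctor.map_id, H.toFunctor.map_id]
      simp only [Category.id_comp, Category.comp_id]
    · exact fp_hom_ext ((Category.comp_id _).trans (Category.id_comp _).symm)
        ((Category.comp_id _).trans (Category.id_comp _).symm)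
    · exact (fp_isHomLift_iff _ _).2 (IsHomLift.id (x₁.w_obj s))
  obtain ⟨E, hE⟩ := fp_congr_left (G := FibCat.diag H) i
  refine repByAlgSp_of_equiv hE (repByAlgSp_of_equiv
    (pasteBase_isEquivOver m (FibCat.diag H) δ) ?_)
  exact repByAlgSp_fp_of_rep (repByAlgSp_overCat U)
    (repByAlgSp_of_equiv (magicFun_isEquivOver x₁ x₂ H) (h U x₁ x₂))
    (hQ U (BasedFunctor.comp x₁ H) (BasedFunctor.comp x₂ H)) δ (FibCat.fpFst m (FibCat.diag H))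

lemma rep1_diag_of_algStack {K : Precoverage Scheme.{u}} (hX : AlgSt.IsAlgStack K 𝒳)
    (hY : AlgSt.IsAlgStack K 𝒴) (f : 𝒳 ⥤ᵇ 𝒴) : AlgSt.RepByAlgSp1 (FibCat.diag f) :=
  rep1_diag_of_forall f
    (fun U a b => repByAlgSp_fp_of_diag_toSelf hY.isStack.1 hY.diag a b (repByAlgSp_overCat U)
      (repByAlgSp_overCat U))
    (fun U a b => repByAlgSp_fp_of_diag_toSelf hX.isStack.1 hX.diag a b (repByAlgSp_overCat U)
      (repByAlgSp_overCat U))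

end Groth.Agent.H14AlgSt
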