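import Groth.Prelude.Def_AlgSt3
import Groth.Prelude.Def_AlgSpCov
import Groth.Agent.H14AlgSt.DiagCalc
import Groth.Agent.H12AlgSp.Proper
import Groth.Agent.H12AlgSp.QC
import Mathlib.AlgebraicGeometry.Morphisms.QuasiFinite
import Mathlib.RingTheory.Unramified.LocalStructure

/-!
# Properties of diagonals: unramified, quasi-finite, proper, quasi-compact
-/

set_option autoImplicit false
set_option backward.isDefEq.respectTransparency false
set_option backward.isDefEq.respectTransparency.types false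

universe u

open CategoryTheory Opposite AlgebraicGeometry CategoryTheory.Limits AlgSp

namespace Groth.Agent.H14AlgSt

open H14Fib H14Stk

variable {S : Scheme.{u}}

lemma locallyQuasiFinite_of_unramified {X Y : Scheme.{u}} (f : X ⟶ Y) [hl : LocallyOfFiniteType f]
    [hu : FormallyUnramified f] : LocallyQuasiFinite f := by
  rw [HasRingHomProperty.iff_appLE (P := @LocallyQuasiFinite)]
  intro U V e
  have h1 := HasRingHomProperty.appLE @LocallyOfFiniteType f hl U V e
  have h2 := HasRingHomProperty.appLE @FormallyUnramified f hu U V e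
  algebraize [(f.appLE U V e).hom]
  exact (inferInstance : Algebra.QuasiFinite Γ(Y, U) Γ(X, V))

lemma etLocal_unramified :
    H12AlgSp.EtLocal (@LocallyOfFiniteType ⊓ @FormallyUnramified : MorphismProperty Scheme.{u}) :=
  H12AlgSp.etLocal_inf H12AlgSp.etLocal_lft H12AlgSp.etLocal_formallyUnramified

lemma etLocal_quasiFinite :
    H12AlgSp.EtLocal (@LocallyQuasiFinite ⊓ @LocallyOfFiniteType : MorphismProperty Scheme.{u}) :=
  H12AlgSp.etLocal_inf H12AlgSp.etLocal_lqf H12AlgSp.etLocal_lft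

lemma baseStable_locP {P : MorphismProperty Scheme.{u}} (hP : H12AlgSp.EtLocal P) :
    BaseStable (S := S) (LocP P) := fun _ _ _ _ hX hY _ hY' _ _ _ _ sq h =>
  H12AlgSp.locP_of_isPullback hP sq hX hY hY' h

lemma cancelsLeft_locP {P : MorphismProperty Scheme.{u}} (hP : H12AlgSp.EtLocal P)
    (H : ∀ ⦃A B C : Scheme.{u}⦄ (f : A ⟶ B) (g : B ⟶ C), P (f ≫ g) → P f) :
    CancelsLeft (S := S) (LocP P) ⊤ := fun _ _ _ _ _ hZ _ _ _ h =>
  H12AlgSp.locP_of_comp hP H hZ h

/-- The property of a quasi-compact and quasi-separated map of sheaves. -/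
abbrev QCQS : MorphismProperty (Sp S) := IsQuasiCompactMor ⊓ IsQuasiSeparatedMor

lemma isQuasiSeparatedMor_of_isPullback {X Y X' Y' : Sp S} {f : X ⟶ Y} {g : Y' ⟶ Y} {fst : X' ⟶ X}
    {f' : X' ⟶ Y'} (sq : IsPullback fst f' f g) (h : IsQuasiSeparatedMor f) :
    IsQuasiSeparatedMor f' :=
  H12AlgSp.repWith_of_isPullback (H12AlgSp.isPullback_diagonal sq) h

lemma isQuasiSeparatedMor_comp {X Y Z : Sp S} {f : X ⟶ Y} {g : Y ⟶ Z} (hf : IsQuasiSeparatedMor f)
    (hg : IsQuasiSeparatedMor g) : IsQuasiSeparatedMor (f ≫ g) :=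
  MorphismProperty.comp_mem (RepWith (S := S) @QuasiCompact).diagonal f g hf hg

set_option backward.isDefEq.respectTransparency false in
lemma isQuasiSeparatedMor_of_comp {X Y Z : Sp S} {f : X ⟶ Y} {g : Y ⟶ Z}
    (h : IsQuasiSeparatedMor (f ≫ g)) : IsQuasiSeparatedMor f := by
  let m := pullback.map f f (f ≫ g) (f ≫ g) (𝟙 X) (𝟙 X) g (by simp) (by simp)
  have : Mono m := ⟨fun a b e => by
    apply pullback.hom_ext
    · have := e =≫ pullback.fst (f ≫ g) (f ≫ g)
      simpa [m, pullback.map] using this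
    · have := e =≫ pullback.snd (f ≫ g) (f ≫ g)
      simpa [m, pullback.map] using this⟩
  have hm : pullback.diagonal f ≫ m = pullback.diagonal (f ≫ g) := by
    apply pullback.hom_ext <;> simp [m, pullback.map]
  refine H12AlgSp.repWith_of_isPullback (fst := 𝟙 X) (g := m) ?_ h
  refine ⟨⟨by rw [Category.id_comp, hm]⟩, ⟨PullbackCone.IsLimit.mk _ (fun c => c.fst)
    (fun c => by simp) (fun c => ?_) (fun c r h₁ h₂ => by simpa using h₁)⟩⟩
  rw [← cancel_mono m, Category.assoc, hm]
  exact c.condition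

lemma baseStable_qcqs : BaseStable (S := S) QCQS := fun _ _ _ _ _ _ _ _ _ _ _ _ sq h =>
  ⟨H12AlgSp.isQuasiCompactMor_of_isPullback sq h.1, isQuasiSeparatedMor_of_isPullback sq h.2⟩

lemma testOnSchemes_qcqs : TestOnSchemes (S := S) QCQS := by
  intro G F a hG hF h
  obtain ⟨U, p, hp, hps⟩ := hF.atlas
  have sq := IsPullback.of_hasPullback a p
  exact ⟨H12AlgSp.isQuasiCompactMor_of_etale_cover hG hF (IsAlgSpace.yon_obj U) sq
      (H12AlgSp.repWith_etale_cover hF hp hps).1 (H12AlgSp.repWith_etale_cover hF hp hps).2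
      (h U p _ _ sq).1,
    H12AlgSp.repWith_diagonal_of_cover hG hp hps sq (h U p _ _ sq).2⟩

lemma baseStable_proper : BaseStable (S := S) IsProperMor :=
  fun _ _ _ _ hX hY _ hY' _ _ _ _ sq h => H12AlgSp.isProperMor_of_isPullback hX hY hY' sq h

lemma testOnSchemes_proper : TestOnSchemes (S := S) IsProperMor := by
  intro G F a hG hF h
  obtain ⟨U, p, hp, hps⟩ := hF.atlas
  have sq := IsPullback.of_hasPullback a p
  exact H12AlgSp.isProperMor_of_cover hG hF hp hps sq (h U p _ _ sq)

lemma testOnSchemes_of_localEt {P : MorphismProperty (Sp S)}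
    (hP : IsLocalOnBase IsEtCover P) : TestOnSchemes P := by
  intro G F a hG hF h
  obtain ⟨U, p, hp, hps⟩ := hF.atlas
  have sq := IsPullback.of_hasPullback a p
  have hW := H12AlgSp.isAlgSpace_of_isPullback hF.diag hG (IsAlgSpace.yon_obj U) sq
  exact (hP (fun _ : PUnit.{u+1} => (yon S).obj U) (fun _ => p) hF (fun _ => IsAlgSpace.yon_obj U)
    ⟨fun _ => (H12AlgSp.repWith_etale_cover hF hp hps).1,
      fun x => ⟨PUnit.unit, (H12AlgSp.repWith_etale_cover hF hp hps).2 x⟩⟩
    a hG (fun _ => Limits.pullback a p) (fun _ => Limits.pullback.snd a p)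
    (fun _ => Limits.pullback.fst a p) (fun _ => hW) (fun _ => sq)).2 (fun _ => h U p _ _ sq)

end Groth.Agent.H14AlgSt
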