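import Groth.Agent.H14AlgSt.Comp
import Groth.Agent.H14AlgSt.Space
import Groth.Agent.H14AlgSt.DiagProps

/-!
# Descent of properties of representable morphisms along covers of the source
-/

set_option autoImplicit false
set_option backward.isDefEq.respectTransparency false
set_option backward.isDefEq.respectTransparency.types false

universe u

open CategoryTheory Opposite AlgebraicGeometry CategoryTheory.Limits

namespace Groth.Agent.H14AlgSt

open H14Fib H14Stk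

variable {S : Scheme.{u}} {𝒳 𝒴 𝒵 : AlgSt.Cat S} {P Q R : MorphismProperty (AlgSp.Sp S)}

lemma sourceIsoInv_inf (hQ : SourceIsoInv Q) (hR : SourceIsoInv R) : SourceIsoInv (Q ⊓ R) :=
  fun _ _ _ m _ π hA hC h => ⟨hQ m π hA hC h.1, hR m π hA hC h.2⟩

lemma testOnSchemes_inf (hQ : TestOnSchemes Q) (hR : TestOnSchemes R) : TestOnSchemes (Q ⊓ R) :=
  fun _ _ a hG hF h => ⟨hQ a hG hF fun T x _ fst snd sq => (h T x fst snd sq).1,
    hR a hG hF fun T x _ fst snd sq => (h T x fst snd sq).2⟩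

lemma repWith_inf (hR : SourceIsoInv R) {f : 𝒳 ⥤ᵇ 𝒴} (h1 : AlgSt.RepByAlgSpWith Q f)
    (h2 : AlgSt.RepByAlgSpWith R f) : AlgSt.RepByAlgSpWith (Q ⊓ R) f := by
  intro U y
  obtain ⟨G, e, he, hq⟩ := h1 U y
  obtain ⟨k⟩ := spMapOfOver_eq (BasedFunctor.comp e (FibCat.fpFst y f))
  exact ⟨G, e, he, hq, prop_of_repData hR (h2 U y) he k⟩

/-- A property descends along a cover of the source. -/
lemma repWith_of_comp_cover (hPiso : SourceIsoInv P) (hQiso : SourceIsoInv Q)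
    (hQloc : TestOnSchemes Q)
    (hcov : ∀ ⦃A B C : AlgSp.Sp S⦄, AlgSp.IsAlgSpace A → AlgSp.IsAlgSpace B → AlgSp.IsAlgSpace C →
      ∀ (τ : A ⟶ B) (π : B ⟶ C), Q τ → P (τ ≫ π) → P π)
    (h𝒳 : FibCat.IsFibGrpd 𝒳.p) (h𝒴 : FibCat.IsFibGrpd 𝒴.p) {x : 𝒳 ⥤ᵇ 𝒴} {y : 𝒴 ⥤ᵇ 𝒵}
    (hy : AlgSt.RepByAlgSp1 y) (hx : AlgSt.RepByAlgSpWith Q x)
    (h : AlgSt.RepByAlgSpWith P (BasedFunctor.comp x y)) : AlgSt.RepByAlgSpWith P y := by
  intro U v
  obtain ⟨G, e, he⟩ := hy U v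
  let z := BasedFunctor.comp e (FibCat.fpSnd v y)
  obtain ⟨H, e', τ, he', ⟨k⟩, hτ⟩ := exists_space_baseChange hQiso hQloc h𝒳 h𝒴 hx G z
  obtain ⟨⟨_, _⟩, hs⟩ := (isEquivOver_iff _).1 he
  let M : FibCat.fp z x ⥤ᵇ FibCat.fp (FibCat.fpSnd v y) x :=
    fpMap (F := FibCat.fpSnd v y) (G := x) e (BasedFunctor.id 𝒳) (BasedFunctor.id 𝒴)
      (Iso.refl z) (Iso.refl (BasedFunctor.comp x (BasedFunctor.id 𝒴)))
  let E := BasedFunctor.comp (BasedFunctor.comp e' M) (pasteComp v y x)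
  have hE : FibCat.IsEquivOver E :=
    isEquivOver_comp (isEquivOver_comp he' (fpMap_isEquivOver _ _ _ _ _ hs (essSurjOver_id _)))
      (pasteComp_isEquivOver v y x)
  let q := BasedFunctor.comp e (FibCat.fpFst v y)
  obtain ⟨kq⟩ := spMapOfOver_eq q
  have i : BasedFunctor.comp E (FibCat.fpFst v (BasedFunctor.comp x y)) ≅
      BasedFunctor.comp (AlgSt.ofSpMap (τ ≫ AlgSt.spMapOfOver q)) (AlgSt.toOverCat U) :=
    (post (AlgSt.ofSp H.obj) q).mapIso k ≪≫ (Stk.restr (AlgSt.ofSpMap τ) _).mapIso kq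
  exact ⟨G, e, he, hcov H.property G.property (AlgSp.IsAlgSpace.yon_obj U) τ _ hτ
    (prop_of_repData hPiso (h U v) hE i)⟩

end Groth.Agent.H14AlgSt
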