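import Groth.Agent.H14AlgSt.SquareChart
import Groth.Agent.H14AlgSt.OverMapPullback
import Groth.Agent.H14AlgSt.Diag2
import Groth.Agent.H14AlgSt.SourceDescent
import Groth.Agent.H14AlgSt.QFTransfer
import Groth.Agent.H12AlgSp.LQFScheme2

/-!
# The relation scheme of a chart, for quasi-finite separated diagonals
-/

set_option autoImplicit false
set_option linter.unusedVariables false
set_option backward.isDefEq.respectTransparency false
set_option backward.isDefEq.respectTransparency.types false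

universe u

open CategoryTheory CategoryTheory.Functor Opposite AlgebraicGeometry CategoryTheory.Limits

noncomputable section

namespace Groth.Agent.H14AlgSt

open H14Fib H14Stk

variable {S : Scheme.{u}} {𝒳 𝒵 𝒵' : AlgSt.Cat S} {Q U W R : Over S}

/-- The relation of a chart is a scheme locally quasi-finite over the square, when the diagonal is
separated and locally quasi-finite. -/
theorem exists_scheme_relation
    (hsep : AlgSt.RepByAlgSpWith AlgSp.IsSeparatedMor (FibCat.diag (FibCat.toSelf 𝒳)))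
    (hqf : AlgSt.RepByAlgSpWith (AlgSp.LocP (@LocallyQuasiFinite ⊓ @LocallyOfFiniteType))
      (FibCat.diag (FibCat.toSelf 𝒳)))
    (x : FibCat.overCat U ⥤ᵇ 𝒳) :
    ∃ (R : Over S) (K : FibCat.overCat R ⥤ᵇ FibCat.fp x x), FibCat.IsEquivOver K ∧
      ∃ t s : R ⟶ U, Nonempty (BasedFunctor.comp K (FibCat.fpFst x x) ≅ AlgSt.overMap t) ∧
        Nonempty (BasedFunctor.comp K (FibCat.fpSnd x x) ≅ AlgSt.overMap s) ∧
        LocallyQuasiFinite (pullback.lift t.left s.left ((Over.w t).trans (Over.w s).symm)) := by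
  let p := FibCat.toSelf 𝒳
  let f := BasedFunctor.comp x p
  have ec : FibCat.toSelf (FibCat.overCat U) = f := (comp_toSelf' x).symm
  obtain ⟨sq, hsq, hsq1, hsq2⟩ : ∃ sq : FibCat.overCat (sqObj U) ⥤ᵇ FibCat.fp f f,
      FibCat.IsEquivOver sq ∧ BasedFunctor.comp sq (FibCat.fpFst f f) = AlgSt.overMap (sqFst U) ∧
        BasedFunctor.comp sq (FibCat.fpSnd f f) = AlgSt.overMap (sqSnd U) := by
    rw [← ec]
    exact ⟨sqFun U, sqFun_isEquivOver U, rfl, rfl⟩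
  obtain ⟨N, ⟨iN⟩, ⟨iN'⟩⟩ := id hsq
  let q : FibCat.fp x x ⥤ᵇ FibCat.overCat (sqObj U) := BasedFunctor.comp (fpDown x x p) N
  have hN : FibCat.IsEquivOver N := ⟨sq, ⟨iN'⟩, ⟨iN⟩⟩
  have hiso : SourceIsoInv (S := S) (AlgSp.LocP (@LocallyQuasiFinite ⊓ @LocallyOfFiniteType)) :=
    sourceIsoInv_locP _
  have hq : AlgSt.RepByAlgSpWith
      (AlgSp.IsSeparatedMor ⊓ AlgSp.LocP (@LocallyQuasiFinite ⊓ @LocallyOfFiniteType)) q :=
    (repWith_comp_equiv_iff hN).2 (repWith_fpDown (repWith_inf hiso hsep hqf) x x)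
  let I := BasedFunctor.id (FibCat.overCat (sqObj U))
  obtain ⟨G, e, he, hπ⟩ := hq (sqObj U) I
  let Φ := BasedFunctor.comp e (FibCat.fpFst I q)
  let π := AlgSt.spMapOfOver Φ
  obtain ⟨kq⟩ := spMapOfOver_eq Φ
  obtain ⟨R, γ, μ, hμ, hγ⟩ := H12AlgSp.exists_iso_of_lqf_separated G.property
    (π := π) hπ.1 hπ.2
  have : IsIso μ.hom := inferInstanceAs (IsIso ((sheafToPresheaf _ _).map μ))
  let E := BasedFunctor.comp (BasedFunctor.comp (AlgSt.ofOverCat R) (AlgSt.ofSpMap μ)) e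
  have hE : FibCat.IsEquivOver E := isEquivOver_comp (isEquivOver_comp (ofOverCat_isEquivOver R)
    (isEquivOver_ofPshMap μ.hom)) he
  let K := BasedFunctor.comp E (FibCat.fpSnd I q)
  let mγ : BasedFunctor.comp (BasedFunctor.comp (AlgSt.ofOverCat R) (AlgSt.ofSpMap (μ ≫ π)))
      (AlgSt.toOverCat (sqObj U)) ≅ AlgSt.overMap γ := by
    rw [hγ]
    exact mkIso (fun s => Iso.refl _)
      (fun {_ _} φ => (Category.comp_id _).trans ((Category.id_comp _).trans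
        (Over.OverMorphism.ext rfl)).symm)
      (fun s => IsHomLift.id rfl)
  let jq : BasedFunctor.comp K q ≅ AlgSt.overMap γ :=
    ((Stk.restr E _).mapIso (FibCat.fpIso I q)).symm ≪≫
      (Stk.restr (BasedFunctor.comp (AlgSt.ofOverCat R) (AlgSt.ofSpMap μ)) _).mapIso kq ≪≫ mγ
  let j : BasedFunctor.comp K (fpDown x x p) ≅ BasedFunctor.comp (AlgSt.overMap γ) sq :=
    ((Stk.restr (BasedFunctor.comp K (fpDown x x p)) _).mapIso iN').symm ≪≫ (post _ sq).mapIso jq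
  refine ⟨R, K, isEquivOver_comp hE (fpSnd_id_isEquivOver q), γ ≫ sqFst U, γ ≫ sqSnd U,
    ⟨(post _ (FibCat.fpFst f f)).mapIso j ≪≫
      (Stk.restr (AlgSt.overMap γ) _).mapIso (eqToIso hsq1) ≪≫ overMapCompIso γ (sqFst U)⟩,
    ⟨(post _ (FibCat.fpSnd f f)).mapIso j ≪≫
      (Stk.restr (AlgSt.overMap γ) _).mapIso (eqToIso hsq2) ≪≫ overMapCompIso γ (sqSnd U)⟩, ?_⟩
  have hl : AlgSp.LocP (@LocallyQuasiFinite ⊓ @LocallyOfFiniteType) ((AlgSp.yon S).map γ) := by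
    rw [← hγ]
    exact hiso (inv μ) (μ ≫ π) G.property (AlgSp.IsAlgSpace.yon_obj _)
      (by rw [IsIso.inv_hom_id_assoc]; exact hπ.2)
  have := (AlgSp.locP_yon_map hl).1
  rw [show pullback.lift (γ ≫ sqFst U).left (γ ≫ sqSnd U).left
    ((Over.w (γ ≫ sqFst U)).trans (Over.w (γ ≫ sqSnd U)).symm) = γ.left from
    pullback.hom_ext ((pullback.lift_fst _ _ _).trans rfl) ((pullback.lift_snd _ _ _).trans rfl)]
  exact this

/-- Two functors into a fibre product over a slice are isomorphic when their components are. -/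
def overPairIso {𝒜 : AlgSt.Cat S} {F : 𝒵 ⥤ᵇ FibCat.overCat U} {G : 𝒵' ⥤ᵇ FibCat.overCat U}
    (a b : 𝒜 ⥤ᵇ FibCat.fp F G)
    (i₁ : BasedFunctor.comp a (FibCat.fpFst F G) ≅ BasedFunctor.comp b (FibCat.fpFst F G))
    (i₂ : BasedFunctor.comp a (FibCat.fpSnd F G) ≅ BasedFunctor.comp b (FibCat.fpSnd F G)) :
    a ≅ b :=
  mkIso (fun s => fpIsoMk (isoApp i₁ s) (isoApp i₂ s) (by
      have h1 : (FibCat.overCat U).p.IsHomLift (𝟙 (𝒜.p.obj s)) (F.map (isoApp i₁ s).hom) :=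
        BasedNatTrans.isHomLift ((post 𝒜 F).mapIso i₁).hom rfl
      have h2 : (FibCat.overCat U).p.IsHomLift (𝟙 (𝒜.p.obj s)) (G.map (isoApp i₂ s).hom) :=
        BasedNatTrans.isHomLift ((post 𝒜 G).mapIso i₂).hom rfl
      exact overCat_hom_ext _ _
        (homLift_id_comp h1 (BasedNatTrans.isHomLift ((Stk.restr b _).mapIso (FibCat.fpIso F G)).hom rfl))
        (homLift_id_comp (BasedNatTrans.isHomLift ((Stk.restr a _).mapIso (FibCat.fpIso F G)).hom rfl) h2)))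
    (fun {x y} φ => fp_hom_ext (i₁.hom.toNatTrans.naturality φ) (i₂.hom.toNatTrans.naturality φ))
    (fun x => (fp_isHomLift_iff _ _).2 (isoApp_lift i₁ x))

/-- The fibre product of two maps of schemes is the fibre product of their slice functors. -/
theorem exists_equiv_overMap_pullback {A T : Over S} (h : T ⟶ U) (c : A ⟶ U) :
    ∃ E : FibCat.overCat (pullback h c) ⥤ᵇ FibCat.fp (AlgSt.overMap h) (AlgSt.overMap c),
      FibCat.IsEquivOver E ∧
      Nonempty (BasedFunctor.comp E (FibCat.fpFst _ _) ≅ AlgSt.overMap (pullback.fst h c)) ∧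
      Nonempty (BasedFunctor.comp E (FibCat.fpSnd _ _) ≅ AlgSt.overMap (pullback.snd h c)) := by
  have sqp := ((IsPullback.of_hasPullback h c).map (AlgSp.yon S)).map
    (sheafToPresheaf (AlgSp.J S) (Type (u + 1)))
  let P := pullback h c
  obtain ⟨⟨_, _⟩, htT⟩ := (isEquivOver_iff _).1 (toOverCat_isEquivOver T)
  obtain ⟨⟨_, _⟩, htA⟩ := (isEquivOver_iff _).1 (toOverCat_isEquivOver A)
  obtain ⟨⟨_, _⟩, -⟩ := (isEquivOver_iff _).1 (toOverCat_isEquivOver U)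
  let mk' : ∀ {U V : Over S} (g : U ⟶ V),
      BasedFunctor.comp (Stk.ofPshMap ((AlgSp.yon S).map g).hom) (AlgSt.toOverCat V) ≅
        BasedFunctor.comp (AlgSt.toOverCat U) (AlgSt.overMap g) := fun {U V} g =>
    mkIso (fun s => Iso.refl _)
      (fun {_ _} φ => (Category.comp_id _).trans ((Category.id_comp _).trans
        (Over.OverMorphism.ext rfl)).symm)
      (fun s => IsHomLift.id rfl)
  let R₁ : FibCat.fp (Stk.ofPshMap ((AlgSp.yon S).map h).hom)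
      (Stk.ofPshMap ((AlgSp.yon S).map c).hom) ⥤ᵇ
        FibCat.fp (AlgSt.overMap h) (AlgSt.overMap c) :=
    fpMap (F := AlgSt.overMap h) (G := AlgSt.overMap c) (AlgSt.toOverCat T) (AlgSt.toOverCat A)
      (AlgSt.toOverCat U) (mk' h) (mk' c)
  have hR₁ : FibCat.IsEquivOver R₁ := fpMap_isEquivOver _ _ _ _ _ htT htA
  let E₀ := BasedFunctor.comp (BasedFunctor.comp (AlgSt.ofOverCat P) (pshComparison sqp.w)) R₁
  refine ⟨E₀, isEquivOver_comp (isEquivOver_comp (ofOverCat_isEquivOver P)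
    (pshComparison_isEquivOver sqp)) hR₁, ⟨?_⟩, ⟨?_⟩⟩
  · exact mkIso (fun s => Iso.refl _)
      (fun {_ _} φ => (Category.comp_id _).trans ((Category.id_comp _).trans
        (Over.OverMorphism.ext rfl)).symm)
      (fun s => IsHomLift.id rfl)
  · exact mkIso (fun s => Iso.refl _)
      (fun {_ _} φ => (Category.comp_id _).trans ((Category.id_comp _).trans
        (Over.OverMorphism.ext rfl)).symm)
      (fun s => IsHomLift.id rfl)

variable {x : FibCat.overCat U ⥤ᵇ 𝒳} {y : FibCat.overCat W ⥤ᵇ 𝒳}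
  {K : FibCat.overCat R ⥤ᵇ FibCat.fp x y} {t : R ⟶ U} {s : R ⟶ W}

/-- A pullback of a leg of the relation as the fibre product of the restricted object with `y`,
with the graph as tautological section. -/
theorem exists_graph_chart (hK : FibCat.IsEquivOver K)
    (jt : BasedFunctor.comp K (FibCat.fpFst x y) ≅ AlgSt.overMap t)
    (js : BasedFunctor.comp K (FibCat.fpSnd x y) ≅ AlgSt.overMap s) (l : Q ⟶ R) {q : Q ⟶ W}
    (hl : l ≫ s = q) :
    ∃ (E : FibCat.overCat (pullback (l ≫ t) t) ⥤ᵇ FibCat.fp (BasedFunctor.comp (AlgSt.overMap q) y) y)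
      (σ : Q ⟶ pullback (l ≫ t) t), FibCat.IsEquivOver E ∧
      σ ≫ pullback.fst (l ≫ t) t = 𝟙 Q ∧ σ ≫ pullback.snd (l ≫ t) t = l ∧
      Nonempty (BasedFunctor.comp E (FibCat.fpFst _ y) ≅ AlgSt.overMap (pullback.fst (l ≫ t) t)) ∧
      Nonempty (BasedFunctor.comp (AlgSt.overMap σ) E ≅
        FibCat.fpLift (BasedFunctor.id (FibCat.overCat Q)) (AlgSt.overMap q) (Iso.refl _)) := by
  obtain ⟨E₁, hE₁, ⟨k₁⟩, ⟨k₂⟩⟩ := exists_equiv_overMap_pullback (l ≫ t) t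
  let Z := BasedFunctor.comp (AlgSt.overMap l) K
  let a := BasedFunctor.comp Z (FibCat.fpFst x y)
  let z := BasedFunctor.comp (AlgSt.overMap q) y
  let ia : AlgSt.overMap (l ≫ t) ≅ a :=
    (overMapCompIso l t).symm ≪≫ (Stk.restr (AlgSt.overMap l) _).mapIso jt.symm
  let M₁ : FibCat.fp (AlgSt.overMap (l ≫ t)) (AlgSt.overMap t) ⥤ᵇ FibCat.fp a (FibCat.fpFst x y) :=
    fpMap (F := a) (G := FibCat.fpFst x y) (BasedFunctor.id (FibCat.overCat Q)) K
      (BasedFunctor.id (FibCat.overCat U)) ia jt.symm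
  obtain ⟨⟨_, _⟩, hKs⟩ := (isEquivOver_iff _).1 hK
  have hM₁ : FibCat.IsEquivOver M₁ := fpMap_isEquivOver _ _ _ _ _ (essSurjOver_id _) hKs
  let c : BasedFunctor.comp Z (FibCat.fpSnd x y) ≅ AlgSt.overMap q :=
    (Stk.restr (AlgSt.overMap l) _).mapIso js ≪≫ overMapCompIso l s ≪≫
      eqToIso (congrArg AlgSt.overMap hl)
  let ε : BasedFunctor.comp a x ≅ z :=
    (Stk.restr Z _).mapIso (FibCat.fpIso x y) ≪≫ (post _ y).mapIso c
  let M₂ : FibCat.fp (BasedFunctor.comp a x) y ⥤ᵇ FibCat.fp z y :=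
    fpMap (F := z) (G := y) (BasedFunctor.id (FibCat.overCat Q)) (BasedFunctor.id (FibCat.overCat W))
      (BasedFunctor.id 𝒳) ε (Iso.refl (BasedFunctor.comp y (BasedFunctor.id 𝒳)))
  have : (BasedFunctor.id 𝒳).toFunctor.Full := inferInstanceAs (Functor.id _).Full
  have : (BasedFunctor.id 𝒳).toFunctor.Faithful := inferInstanceAs (Functor.id _).Faithful
  have hM₂ : FibCat.IsEquivOver M₂ := fpMap_isEquivOver _ _ _ _ _ (essSurjOver_id _) (essSurjOver_id _)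
  let Ψ := BasedFunctor.comp (pasteBase x y a) M₂
  let E := BasedFunctor.comp (BasedFunctor.comp E₁ M₁) Ψ
  let σ : Q ⟶ pullback (l ≫ t) t := pullback.lift (𝟙 Q) l (Category.id_comp _)
  have hσ₁ : σ ≫ pullback.fst (l ≫ t) t = 𝟙 Q := pullback.lift_fst _ _ _
  have hσ₂ : σ ≫ pullback.snd (l ≫ t) t = l := pullback.lift_snd _ _ _
  let Γ' := FibCat.fpLift (F := a) (G := FibCat.fpFst x y) (BasedFunctor.id (FibCat.overCat Q)) Z
    (Iso.refl a)
  let n : BasedFunctor.comp (AlgSt.overMap σ) (BasedFunctor.comp E₁ M₁) ≅ Γ' :=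
    overPairIso _ _
      ((Stk.restr (AlgSt.overMap σ) _).mapIso k₁ ≪≫ overMapCompIso σ _ ≪≫
        eqToIso (congrArg AlgSt.overMap hσ₁) ≪≫ overMapIdIso Q)
      ((post _ K).mapIso ((Stk.restr (AlgSt.overMap σ) _).mapIso k₂ ≪≫ overMapCompIso σ _ ≪≫
        eqToIso (congrArg AlgSt.overMap hσ₂)))
  let Γ := FibCat.fpLift (F := z) (G := y) (BasedFunctor.id (FibCat.overCat Q)) (AlgSt.overMap q)
    (Iso.refl z)
  let g : ∀ v, (BasedFunctor.comp Γ' Ψ).obj v ≅ Γ.obj v := fun v =>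
    fpIsoMk (Iso.refl v) (isoApp c v) (by
      change z.map (𝟙 v) ≫ 𝟙 _ = ((BasedFunctor.comp Γ' Ψ).obj v).obj.iso.hom ≫ y.map (isoApp c v).hom
      erw [z.toFunctor.map_id, Category.id_comp]
      symm
      change ((y.map (isoApp c v).inv ≫ (Z.obj v).obj.iso.inv) ≫
        (x.map (𝟙 (a.obj v)) ≫ (Z.obj v).obj.iso.hom) ≫ 𝟙 _) ≫ y.map (isoApp c v).hom = 𝟙 _
      erw [x.toFunctor.map_id, Category.id_comp, Category.comp_id, Category.assoc]
      refine ((Category.assoc _ _ _).trans (congrArg (y.map (isoApp c v).inv ≫ ·) ((Z.obj v).obj.iso.inv_hom_id_assoc _))).trans ?_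
      rw [← y.toFunctor.map_comp, Iso.inv_hom_id]
      exact y.toFunctor.map_id _)
  refine ⟨E, σ, isEquivOver_comp (isEquivOver_comp hE₁ hM₁) (isEquivOver_comp (pasteBase_isEquivOver x y a) hM₂),
    hσ₁, hσ₂, ⟨k₁⟩, ⟨(post _ Ψ).mapIso n ≪≫ mkIso g ?_ ?_⟩⟩
  · intro v w φ
    exact fp_hom_ext ((Category.comp_id _).trans (Category.id_comp _).symm) (c.hom.toNatTrans.naturality φ)
  · exact fun v => (fp_isHomLift_iff _ _).2 (IsHomLift.id rfl)

/-- The quasi-finite locus of a leg of the relation is saturated for the other leg. -/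
theorem quasiFiniteAt_saturated (hK : FibCat.IsEquivOver K)
    (jt : BasedFunctor.comp K (FibCat.fpFst x y) ≅ AlgSt.overMap t)
    (js : BasedFunctor.comp K (FibCat.fpSnd x y) ≅ AlgSt.overMap s) [LocallyOfFiniteType t.left]
    {r₁ r₂ : R.left} (h : s.left r₁ = s.left r₂) (hr : t.left.QuasiFiniteAt r₁) :
    t.left.QuasiFiniteAt r₂ := by
  let l₁ : pullback s s ⟶ R := pullback.fst s s
  let l₂ : pullback s s ⟶ R := pullback.snd s s
  have hc : l₂ ≫ s = l₁ ≫ s := pullback.condition.symm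
  obtain ⟨z, hz₁, hz₂⟩ := Scheme.exists_preimage_of_isPullback
    ((IsPullback.of_hasPullback s s).map (Over.forget S)) r₁ r₂ h
  obtain ⟨E₁, σ₁, hE₁, h₁, h₁', ⟨f₁⟩, ⟨g₁⟩⟩ := exists_graph_chart hK jt js l₁ rfl
  obtain ⟨E₂, σ₂, hE₂, h₂, h₂', ⟨f₂⟩, ⟨g₂⟩⟩ := exists_graph_chart hK jt js l₂ hc
  obtain ⟨N₁, ⟨a₁⟩, ⟨b₁⟩⟩ := id hE₁
  obtain ⟨N₂, ⟨a₂⟩, ⟨b₂⟩⟩ := id hE₂
  obtain ⟨θ, ⟨jθ⟩⟩ := exists_overMap_iso (BasedFunctor.comp E₁ N₂)
  obtain ⟨θ', ⟨jθ'⟩⟩ := exists_overMap_iso (BasedFunctor.comp E₂ N₁)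
  have e₁ : θ ≫ pullback.fst (l₂ ≫ t) t = pullback.fst (l₁ ≫ t) t := overMap_injective
    ((overMapCompIso θ _).symm ≪≫ (post _ (AlgSt.overMap _)).mapIso jθ.symm ≪≫
      (Stk.restr (BasedFunctor.comp E₁ N₂) _).mapIso f₂.symm ≪≫
      (post _ (FibCat.fpFst _ y)).mapIso ((Stk.restr E₁ _).mapIso b₂) ≪≫ f₁)
  have e₂ : σ₁ ≫ θ = σ₂ := overMap_injective
    ((overMapCompIso σ₁ θ).symm ≪≫ (Stk.restr (AlgSt.overMap σ₁) _).mapIso jθ.symm ≪≫
      (post _ N₂).mapIso (g₁ ≪≫ g₂.symm) ≪≫ (Stk.restr (AlgSt.overMap σ₂) _).mapIso a₂)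
  have e₃ : θ ≫ θ' = 𝟙 _ := overMap_injective
    ((overMapCompIso θ θ').symm ≪≫ (Stk.restr (AlgSt.overMap θ) _).mapIso jθ'.symm ≪≫
      (post _ (BasedFunctor.comp E₂ N₁)).mapIso jθ.symm ≪≫
      (post _ N₁).mapIso ((Stk.restr E₁ _).mapIso b₂) ≪≫ a₁ ≪≫ (overMapIdIso _).symm)
  have e₄ : θ' ≫ θ = 𝟙 _ := overMap_injective
    ((overMapCompIso θ' θ).symm ≪≫ (Stk.restr (AlgSt.overMap θ') _).mapIso jθ.symm ≪≫
      (post _ (BasedFunctor.comp E₁ N₂)).mapIso jθ'.symm ≪≫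
      (post _ N₂).mapIso ((Stk.restr E₂ _).mapIso b₁) ≪≫ a₂ ≪≫ (overMapIdIso _).symm)
  have : IsIso θ := ⟨θ', e₃, e₄⟩
  have : IsIso θ.left := inferInstanceAs (IsIso ((Over.forget S).map θ))
  have sq : ∀ l : pullback s s ⟶ R, IsPullback (pullback.snd (l ≫ t) t).left
      (pullback.fst (l ≫ t) t).left t.left (l ≫ t).left := fun l =>
    ((IsPullback.of_hasPullback (l ≫ t) t).map (Over.forget S)).flip
  have w₁ : (pullback.snd (l₁ ≫ t) t).left (σ₁.left z) = r₁ := by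
    rw [← Scheme.Hom.comp_apply, ← Over.comp_left, h₁']
    exact hz₁
  have w₂ : (pullback.snd (l₂ ≫ t) t).left (σ₂.left z) = r₂ := by
    rw [← Scheme.Hom.comp_apply, ← Over.comp_left, h₂']
    exact hz₂
  have q₁ := quasiFiniteAt_baseChange (sq l₁) (w := σ₁.left z) (w₁.symm ▸ hr)
  have q₂ : (θ.left ≫ (pullback.fst (l₂ ≫ t) t).left).QuasiFiniteAt (σ₁.left z) := by
    rw [← Over.comp_left, e₁]
    exact q₁
  rw [Scheme.Hom.quasiFiniteAt_comp_iff_of_isOpenImmersion, ← Scheme.Hom.comp_apply, ← Over.comp_left,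
    e₂] at q₂
  exact w₂ ▸ quasiFiniteAt_of_isPullback (sq l₂) q₂

end Groth.Agent.H14AlgSt
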