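import Groth.Agent.H14AlgSt.LocQ3

/-!
# Permanence and descent of properties read on atlases
-/

set_option autoImplicit false
set_option backward.isDefEq.respectTransparency false
set_option backward.isDefEq.respectTransparency.types false

universe u

open CategoryTheory Opposite AlgebraicGeometry CategoryTheory.Limits

noncomputable section

namespace Groth.Agent.H14AlgSt

open H14Fib H14Stk H13AlgSp

variable {S : Scheme.{u}} {P : MorphismProperty (AlgSp.Sp S)} {𝒳 𝒴 𝒵 : AlgSt.Cat S}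

local notation "K₀" => Scheme.fppfPrecoverage

lemma locQ_baseChange (hP : AlgSp.IsSmoothLocalST P) (hb : BaseStable P)
    (h𝒳 : AlgSt.IsAlgStack K₀ 𝒳) (h𝒴 : AlgSt.IsAlgStack K₀ 𝒴) (h𝒵 : AlgSt.IsAlgStack K₀ 𝒵)
    {f : 𝒳 ⥤ᵇ 𝒴} (g : 𝒵 ⥤ᵇ 𝒴) (hf : AlgSt.LocQ P f) : AlgSt.LocQ P (FibCat.fpFst g f) := by
  obtain ⟨A, B, C, Q, h, k, p, q, y, a, c₀, z, r, sq, hy, ha, hc, hz, hr, ⟨jh⟩, ⟨jk⟩, -, ⟨jr⟩⟩ :=
    exists_baseChange_atlas h𝒳 h𝒴 h𝒵 f g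
  refine locQ_of_atlas (isAlgStack_fp' h𝒵 h𝒳 h𝒴 g f).isStack.1 h𝒵.isStack.1 hz.1 hz.2 hr.1 hr.2
    jr ?_
  exact hb (AlgSp.IsAlgSpace.yon_obj A) (AlgSp.IsAlgSpace.yon_obj B) (AlgSp.IsAlgSpace.yon_obj Q)
    (AlgSp.IsAlgSpace.yon_obj C) _ _ _ _ (sq.flip.map (AlgSp.yon S))
    (prop_of_locQ hP hf hy.1 a ha.1 jh)

lemma isFppfCover_yon {C B : Over S} (k : C ⟶ B) (h1 : Flat k.left)
    (h2 : LocallyOfFinitePresentation k.left) (h3 : Function.Surjective k.left) :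
    AlgSp.IsFppfCover (S := S) (fun _ : PUnit.{u+1} => (AlgSp.yon S).obj C)
      (fun _ => (AlgSp.yon S).map k) := by
  refine ⟨fun _ => ⟨(locP_yon_iff H12AlgSp.etLocal_flat k).2 h1,
    (locP_yon_iff H12AlgSp.etLocal_lfp k).2 h2⟩, fun x => ?_⟩
  obtain ⟨t, rfl⟩ := (AlgSp.Points.schemeEquiv B).surjective x
  obtain ⟨w, rfl⟩ := h3 t
  exact ⟨PUnit.unit, AlgSp.Points.ofScheme C w, range_map_yon_map k w⟩

lemma locQ_of_fpFst (hP : AlgSp.IsSmoothLocalST P)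
    (hP₂ : AlgSp.IsLocalOnBase AlgSp.IsFppfCover P)
    (h𝒳 : AlgSt.IsAlgStack K₀ 𝒳) (h𝒴 : AlgSt.IsAlgStack K₀ 𝒴) (h𝒵 : AlgSt.IsAlgStack K₀ 𝒵)
    {f : 𝒳 ⥤ᵇ 𝒴} {g : 𝒵 ⥤ᵇ 𝒴} (hg₁ : AlgSt.LocQ (AlgSp.LocP @Flat) g)
    (hg₂ : AlgSt.LocQ (AlgSp.LocP @LocallyOfFinitePresentation) g) (hg₃ : AlgSt.IsSurjective g)
    (hf : AlgSt.LocQ P (FibCat.fpFst g f)) : AlgSt.LocQ P f := by
  obtain ⟨A, B, C, Q, h, k, p, q, y, a, c₀, z, r, sq, hy, ha, hc, hz, hr, ⟨jh⟩, ⟨jk⟩, -, ⟨jr⟩⟩ :=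
    exists_baseChange_atlas h𝒳 h𝒴 h𝒵 f g
  refine locQ_of_atlas h𝒳.isStack.1 h𝒴.isStack.1 hy.1 hy.2 ha.1 ha.2 jh
    ((hP₂ (fun _ => (AlgSp.yon S).obj C) _ (AlgSp.IsAlgSpace.yon_obj B)
      (fun _ => AlgSp.IsAlgSpace.yon_obj C)
      (isFppfCover_yon k
        ((locP_yon_iff H12AlgSp.etLocal_flat k).1 (prop_of_locQ smLocal_flat hg₁ hy.1 c₀ hc.1 jk))
        ((locP_yon_iff H12AlgSp.etLocal_lfp k).1 (prop_of_locQ smLocal_lfp hg₂ hy.1 c₀ hc.1 jk))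
        (ofChart_surjective_of_atlas h𝒵 h𝒴 hg₃ hc.2 jk))
      _ (AlgSp.IsAlgSpace.yon_obj A) (fun _ => (AlgSp.yon S).obj Q) (fun _ => (AlgSp.yon S).map p)
      (fun _ => (AlgSp.yon S).map q) (fun _ => AlgSp.IsAlgSpace.yon_obj Q)
      (fun _ => sq.flip.map (AlgSp.yon S))).2 fun _ => prop_of_locQ hP hf hz.1 r hr.1 jr)

lemma flat_of_fpFst (h𝒳 : AlgSt.IsAlgStack K₀ 𝒳) (h𝒴 : AlgSt.IsAlgStack K₀ 𝒴)
    (h𝒵 : AlgSt.IsAlgStack K₀ 𝒵) {f : 𝒳 ⥤ᵇ 𝒴} {g : 𝒵 ⥤ᵇ 𝒴}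
    (hg₁ : AlgSt.LocQ (AlgSp.LocP @Flat) g) (hg₂ : AlgSt.IsSurjective g)
    (hf : AlgSt.LocQ (AlgSp.LocP @Flat) (FibCat.fpFst g f)) :
    AlgSt.LocQ (AlgSp.LocP @Flat) f := by
  obtain ⟨A, B, C, Q, h, k, p, q, y, a, c₀, z, r, sq, hy, ha, hc, hz, hr, ⟨jh⟩, ⟨jk⟩, -, ⟨jr⟩⟩ :=
    exists_baseChange_atlas h𝒳 h𝒴 h𝒵 f g
  refine locQ_of_atlas h𝒳.isStack.1 h𝒴.isStack.1 hy.1 hy.2 ha.1 ha.2 jh
    ((locP_yon_iff H12AlgSp.etLocal_flat h).2 ?_)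
  have hk : Flat k.left :=
    (locP_yon_iff H12AlgSp.etLocal_flat k).1 (prop_of_locQ smLocal_flat hg₁ hy.1 c₀ hc.1 jk)
  have hp : Flat p.left :=
    (locP_yon_iff H12AlgSp.etLocal_flat p).1 (prop_of_locQ smLocal_flat hf hz.1 r hr.1 jr)
  have hks : Surjective k.left := ⟨ofChart_surjective_of_atlas h𝒵 h𝒴 hg₂ hc.2 jk⟩
  have sq' := sq.map (Over.forget S)
  have hq : Flat q.left := MorphismProperty.of_isPullback (P := @Flat) sq' hk
  have hqs : Surjective q.left := MorphismProperty.of_isPullback (P := @Surjective) sq' hks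
  refine flat_of_jointly_surjective h.left (fun _ : PUnit.{u+1} => Q.left) (fun _ => q.left)
    (fun t => ⟨PUnit.unit, hqs.surj t⟩) (fun _ => hq) fun _ => ?_
  rw [← Over.comp_left, ← sq.w, Over.comp_left]
  infer_instance

lemma locP_lfp_of_comp_lft {U V W : Over S} (h : U ⟶ V) (c : V ⟶ W)
    (h1 : LocallyOfFinitePresentation (h ≫ c).left) (h2 : LocallyOfFiniteType c.left) :
    LocallyOfFinitePresentation h.left := by
  rw [Over.comp_left] at h1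
  exact H12AlgSp.lfp_of_comp h.left c.left

/-- A family lifting the objects of the target along a surjective flat lfp morphism. -/
lemma exists_lift_of_locQ (h𝒴 : AlgSt.IsAlgStack K₀ 𝒴) (h𝒵 : AlgSt.IsAlgStack K₀ 𝒵)
    {g : 𝒵 ⥤ᵇ 𝒴} (hg₁ : AlgSt.LocQ (AlgSp.LocP @Flat) g)
    (hg₂ : AlgSt.LocQ (AlgSp.LocP @LocallyOfFinitePresentation) g) (hg₃ : AlgSt.IsSurjective g)
    (U : Over S) (y₀ : FibCat.overCat U ⥤ᵇ 𝒴) :
    ∃ (ι : Type u) (C : ι → Over S) (c : ∀ i, C i ⟶ U),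
      (∀ i, Flat (c i).left) ∧ (∀ i, LocallyOfFinitePresentation (c i).left) ∧
      (∀ z : U.left, ∃ i, z ∈ Set.range (c i).left) ∧
      ∀ i, ∃ z : FibCat.overCat (C i) ⥤ᵇ 𝒵,
        Nonempty (BasedFunctor.comp z g ≅ BasedFunctor.comp (AlgSt.overMap (c i)) y₀) := by
  obtain ⟨B, y, hy, hys⟩ := h𝒴.atlas
  obtain ⟨C, c₀, k, hc, hcs, ⟨jk⟩⟩ := exists_atlas_fp h𝒵 h𝒴 g y
  have hk₁ : Flat k.left :=
    (locP_yon_iff H12AlgSp.etLocal_flat k).1 (prop_of_locQ smLocal_flat hg₁ hy c₀ hc jk)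
  have hk₂ : LocallyOfFinitePresentation k.left :=
    (locP_yon_iff H12AlgSp.etLocal_lfp k).1 (prop_of_locQ smLocal_lfp hg₂ hy c₀ hc jk)
  have hk₃ : Surjective k.left := ⟨ofChart_surjective_of_atlas h𝒵 h𝒴 hg₃ hcs jk⟩
  let z := BasedFunctor.comp c₀ (FibCat.fpFst g y)
  let jz : BasedFunctor.comp z g ≅ BasedFunctor.comp (AlgSt.overMap k) y :=
    (Stk.restr c₀ 𝒴).mapIso (FibCat.fpIso g y) ≪≫ (post (FibCat.overCat C) y).mapIso jk
  obtain ⟨ι, D, d, hd1, hd2, hd3, hd4⟩ := exists_lift_of_fppf (repWith_locP_mono smooth_le_flat hy)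
    (repWith_locP_mono smooth_le_lfp hy) hys U y₀
  choose zd hzd using hd4
  choose v hv using fun i => exists_overMap_iso (zd i)
  have sq := fun i => (IsPullback.of_hasPullback (v i) k).map (Over.forget S)
  have h1 : ∀ i, Flat (pullback.fst (v i) k).left :=
    fun i => MorphismProperty.of_isPullback (P := @Flat) (sq i).flip hk₁
  have h2 : ∀ i, LocallyOfFinitePresentation (pullback.fst (v i) k).left :=
    fun i => MorphismProperty.of_isPullback (P := @LocallyOfFinitePresentation) (sq i).flip hk₂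
  have h3 : ∀ i, Surjective (pullback.fst (v i) k).left :=
    fun i => MorphismProperty.of_isPullback (P := @Surjective) (sq i).flip hk₃
  refine ⟨ι, fun i => pullback (v i) k, fun i => pullback.fst (v i) k ≫ d i, fun i => ?_,
    fun i => ?_, fun t => ?_, fun i => ?_⟩
  · have := hd1 i
    have := h1 i
    rw [Over.comp_left]
    infer_instance
  · have := hd2 i
    have := h2 i
    rw [Over.comp_left]
    infer_instance
  · obtain ⟨i, t', rfl⟩ := hd3 t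
    obtain ⟨s, rfl⟩ := (h3 i).surj t'
    exact ⟨i, s, rfl⟩
  obtain ⟨jd⟩ := hzd i
  obtain ⟨jv⟩ := hv i
  let l := pullback.fst (v i) k
  let m := pullback.snd (v i) k
  refine ⟨BasedFunctor.comp (AlgSt.overMap m) z, ⟨?_⟩⟩
  exact (Stk.restr (AlgSt.overMap m) 𝒴).mapIso jz ≪≫
    (post (FibCat.overCat (pullback (v i) k)) y).mapIso
      (overMapCompIso m k ≪≫ eqToIso (congrArg AlgSt.overMap pullback.condition.symm) ≪≫
        (overMapCompIso l (v i)).symm ≪≫ (Stk.restr (AlgSt.overMap l) _).mapIso jv.symm) ≪≫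
    (Stk.restr (AlgSt.overMap l) 𝒴).mapIso jd ≪≫
    (post (FibCat.overCat (pullback (v i) k)) y₀).mapIso (overMapCompIso l (d i))

lemma exists_common_chart (h𝒳 : FibCat.IsFibGrpd 𝒳.p) {U U' : Over S}
    {x : FibCat.overCat U ⥤ᵇ 𝒳} {x' : FibCat.overCat U' ⥤ᵇ 𝒳}
    (hx : AlgSt.RepByAlgSpWith (AlgSp.LocP @Smooth) x)
    (hxs : AlgSt.RepByAlgSpWith AlgSp.IsSurjectiveMor x)
    (hx' : AlgSt.RepByAlgSpWith (AlgSp.LocP @Smooth) x') :
    ∃ (A : Over S) (c : A ⟶ U') (d : A ⟶ U), Smooth c.left ∧ Smooth d.left ∧ Surjective c.left := by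
  obtain ⟨G, e, A, p, a, h, he, hp, hps, ha, has, hh, ⟨j⟩⟩ :=
    exists_atlas_of_rep (f := x) x' (repByAlgSp1_of_with hx U' x')
  let q := BasedFunctor.comp e (FibCat.fpFst x' x)
  obtain ⟨kq⟩ := spMapOfOver_eq q
  have hσ : AlgSp.LocP @Smooth (AlgSt.spMapOfOver q) :=
    prop_of_repData (sourceIsoInv_locP _) (hx U' x') he kq
  have hσs : AlgSp.IsSurjectiveMor (AlgSt.spMapOfOver q) :=
    prop_of_repData sourceIsoInv_surjective (hxs U' x') he kq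
  obtain ⟨d, ⟨jd⟩⟩ := exists_overMap_iso (BasedFunctor.comp a (FibCat.fpFst x x'))
  refine ⟨A, h, d, ?_, ?_, ⟨fun t => ?_⟩⟩
  · refine (locP_yon_iff H12AlgSp.etLocal_smooth h).1 ?_
    rw [hh]
    exact H12AlgSp.locP_comp H12AlgSp.etLocal_smooth (AlgSp.IsAlgSpace.yon_obj A) G.property
      (AlgSp.IsAlgSpace.yon_obj U') hp hσ
  · let Φ := BasedFunctor.comp (AlgSt.toOverCat A) (AlgSt.overMap d)
    have hd : AlgSp.LocP @Smooth (AlgSt.spMapOfOver Φ) :=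
      prop_of_repWith_spMap (sourceIsoInv_locP _)
        (F := ⟨(AlgSp.yon S).obj A, AlgSp.IsAlgSpace.yon_obj A⟩)
        ((repWith_equiv_comp_iff (toOverCat_isEquivOver A)).1
          (repWith_of_iso jd (chart_of_atlas_fp (fibGrpd_overCat U) h𝒳 hx' ha)))
    rw [spMapOfOver_overMap, spMapOfOver_toOverCat, Category.id_comp] at hd
    exact (locP_yon_iff H12AlgSp.etLocal_smooth d).1 hd
  · obtain ⟨w, hw⟩ := hσs (AlgSp.Points.ofScheme U' t)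
    obtain ⟨w', rfl⟩ := hps w
    obtain ⟨s, rfl⟩ := (AlgSp.Points.schemeEquiv A).surjective w'
    refine ⟨s, (AlgSp.Points.schemeEquiv U').injective ?_⟩
    rw [← AlgSp.Points.map_comp, ← hh] at hw
    exact (range_map_yon_map h s).symm.trans hw

end Groth.Agent.H14AlgSt
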