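import Groth.Agent.H14AlgSt.Substack
import Groth.Agent.H14AlgSt.LocQ4
import Groth.Agent.H06Desc.SchDominant

/-!
# Closed substacks of reduced stacks
-/

set_option autoImplicit false
set_option backward.isDefEq.respectTransparency false
set_option backward.isDefEq.respectTransparency.types false

universe u

open CategoryTheory CategoryTheory.Functor Opposite AlgebraicGeometry CategoryTheory.Limits

noncomputable section

namespace Groth.Agent.H14AlgSt

open H14Fib H14Stk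

variable {S : Scheme.{u}} {𝒳 𝒴 : AlgSt.Cat S} {U V : Over S}

local notation "K₀" => Scheme.fppfPrecoverage

/-- The subscheme of a chart defined by a substack. -/
lemma exists_subspace {P : MorphismProperty Scheme.{u}} {Q : 𝒳.obj → Prop}
    (hc : ObjectProperty.IsClosedUnderIsomorphisms Q)
    (hj : AlgSt.RepByAlgSpWith (AlgSp.RepWith P) (AlgSt.subIncl 𝒳 Q))
    (x : FibCat.overCat U ⥤ᵇ 𝒳) :
    ∃ (A : Over S) (v : A ⟶ U), P v.left ∧ ∀ s : (FibCat.overCat U).obj,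
      Q (x.obj s) ↔ ∃ g : s.left ⟶ A, g ≫ v = s.hom := by
  obtain ⟨G, e, he, hσ⟩ := hj U x
  let p := BasedFunctor.comp e (FibCat.fpFst x (AlgSt.subIncl 𝒳 Q))
  obtain ⟨A, v, fst, sq⟩ := hσ.rep (𝟙 ((AlgSp.yon S).obj U))
  have hv : P v.left := hσ.property (𝟙 _) fst v sq
  have : IsIso fst := sq.isIso_fst_of_isIso
  have hσv : AlgSt.spMapOfOver p = inv fst ≫ (AlgSp.yon S).map v := by
    rw [IsIso.eq_inv_comp, sq.w, Category.comp_id]
  obtain ⟨k⟩ := spMapOfOver_eq p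
  refine ⟨A, v, hv, fun s => ⟨fun h => ?_, fun ⟨g, hg⟩ => ?_⟩⟩
  · let z : (FibCat.fp x (AlgSt.subIncl 𝒳 Q)).obj :=
      ⟨⟨s, ⟨x.obj s, h⟩, Iso.refl _⟩, IsHomLift.id (x.w_obj s)⟩
    obtain ⟨ξ, eξ, hξ⟩ := ((isEquivOver_iff e).1 he).2 z
    let e₁ : p.obj ξ ≅ s := (FibCat.fpFst x (AlgSt.subIncl 𝒳 Q)).toFunctor.mapIso eξ
    let e₂ := e₁.symm ≪≫ appIso k ξ
    let w := ((inv fst).hom.app (op ξ.base) ξ.sec).down
    have h1 : ((AlgSt.spMapOfOver p).hom.app (op ξ.base) ξ.sec).down = w ≫ v := by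
      rw [hσv]
      rfl
    have h2 : e₂.hom.left ≫ ((AlgSt.spMapOfOver p).hom.app (op ξ.base) ξ.sec).down = s.hom :=
      Over.w e₂.hom
    rw [h1, ← Category.assoc] at h2
    exact ⟨_, h2⟩
  · let ξ : (AlgSt.ofSp G.obj).obj := ⟨s.left, fst.hom.app (op s.left) ⟨g⟩⟩
    have h1 : ((AlgSt.spMapOfOver p).hom.app (op s.left) ξ.sec).down = s.hom := by
      rw [hσv]
      show ((inv fst).hom.app (op s.left) (fst.hom.app (op s.left) ⟨g⟩)).down ≫ v = s.hom
      have h3 : (fst ≫ inv fst).hom.app (op s.left) ⟨g⟩ = ⟨g⟩ := by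
        rw [IsIso.hom_inv_id]
        rfl
      rw [show (inv fst).hom.app (op s.left) (fst.hom.app (op s.left) ⟨g⟩) = ⟨g⟩ from h3]
      exact hg
    let e₁ : p.obj ξ ≅ s :=
      appIso k ξ ≪≫ Over.isoMk (Iso.refl _) ((Category.id_comp _).trans h1.symm)
    exact hc.of_iso ((e.obj ξ).obj.iso.symm ≪≫ x.toFunctor.mapIso e₁) (e.obj ξ).obj.snd.property

/-- Every chart lifts, smoothly and surjectively, to a smooth atlas. -/
lemma exists_lift_atlas (h𝒳 : FibCat.IsFibGrpd 𝒳.p) {x : FibCat.overCat U ⥤ᵇ 𝒳}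
    (hx : AlgSt.RepByAlgSpWith (AlgSp.LocP @Smooth) x)
    (hxs : AlgSt.RepByAlgSpWith AlgSp.IsSurjectiveMor x) (z : FibCat.overCat V ⥤ᵇ 𝒳) :
    ∃ (A : Over S) (c : A ⟶ V) (d : A ⟶ U), Smooth c.left ∧ Surjective c.left ∧
      Nonempty (BasedFunctor.comp (AlgSt.overMap c) z ≅ BasedFunctor.comp (AlgSt.overMap d) x) := by
  obtain ⟨G, e, A, p, a, h, he, hp, hps, ha, has, hh, ⟨j⟩⟩ :=
    exists_atlas_of_rep (f := x) z (repByAlgSp1_of_with hx V z)
  let q := BasedFunctor.comp e (FibCat.fpFst z x)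
  obtain ⟨kq⟩ := spMapOfOver_eq q
  have hσ : AlgSp.LocP @Smooth (AlgSt.spMapOfOver q) :=
    prop_of_repData (sourceIsoInv_locP _) (hx V z) he kq
  have hσs : AlgSp.IsSurjectiveMor (AlgSt.spMapOfOver q) :=
    prop_of_repData sourceIsoInv_surjective (hxs V z) he kq
  obtain ⟨d, ⟨jd⟩⟩ := exists_overMap_iso (BasedFunctor.comp a (FibCat.fpFst x z))
  refine ⟨A, h, d, ?_, ⟨fun t => ?_⟩, ⟨(post (FibCat.overCat A) z).mapIso j.symm ≪≫
    ((Stk.restr a 𝒳).mapIso (FibCat.fpIso x z)).symm ≪≫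
      (post (FibCat.overCat A) x).mapIso jd⟩⟩
  · refine (locP_yon_iff H12AlgSp.etLocal_smooth h).1 ?_
    rw [hh]
    exact H12AlgSp.locP_comp H12AlgSp.etLocal_smooth (AlgSp.IsAlgSpace.yon_obj A) G.property
      (AlgSp.IsAlgSpace.yon_obj V) hp hσ
  · obtain ⟨w, hw⟩ := hσs (AlgSp.Points.ofScheme V t)
    obtain ⟨w', rfl⟩ := hps w
    obtain ⟨s, rfl⟩ := (AlgSp.Points.schemeEquiv A).surjective w'
    refine ⟨s, (AlgSp.Points.schemeEquiv V).injective ?_⟩
    rw [← AlgSp.Points.map_comp, ← hh] at hw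
    exact (range_map_yon_map h s).symm.trans hw

/-- A closed immersion through which a flat surjective morphism factors is an isomorphism. -/
lemma isIso_of_flat_factor {A W X : Scheme.{u}} (c : A ⟶ X) [Flat c] [Surjective c] (g : A ⟶ W)
    (v : W ⟶ X) [IsClosedImmersion v] (h : g ≫ v = c) : IsIso v := by
  rw [IsClosedImmersion.isIso_iff_ker_eq_bot]
  refine Scheme.IdealSheafData.ext (funext fun T => ?_)
  rw [Scheme.Hom.ker_apply, Scheme.IdealSheafData.ideal_bot, Pi.bot_apply,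
    RingHom.ker_eq_bot_iff_eq_zero]
  intro f hf
  apply H06Desc.app_injective_of_flat_surjective c T.1
  subst h
  rw [Scheme.Hom.comp_app]
  simp [hf]

/-- A property of objects cut out on charts by surjective closed immersions holds on a reduced
stack. -/
lemma forall_of_reduced (hX : AlgSt.IsAlgStack K₀ 𝒳)
    (hred : AlgSt.SmoothLocally (fun X => IsReduced X) 𝒳) {Q : 𝒳.obj → Prop}
    (hc : ObjectProperty.IsClosedUnderIsomorphisms Q)
    (hsub : ∀ (U : Over S) (x : FibCat.overCat U ⥤ᵇ 𝒳), ∃ (A : Over S) (v : A ⟶ U),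
      IsClosedImmersion v.left ∧ Surjective v.left ∧ ∀ s : (FibCat.overCat U).obj,
        Q (x.obj s) ↔ ∃ g : s.left ⟶ A, g ≫ v = s.hom) (a : 𝒳.obj) : Q a := by
  obtain ⟨U, x, hx, hxs⟩ := hX.atlas
  have := hred U x hx
  have hQU : ∀ s, Q (x.obj s) := by
    obtain ⟨A, v, hv, hvs, hW⟩ := hsub U x
    have := isIso_of_isClosedImmersion_of_surjective v.left
    have : IsIso ((Over.forget S).map v) := this
    have : IsIso v := isIso_of_reflects_iso v (Over.forget S)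
    exact fun s => (hW s).2 ⟨s.hom ≫ inv v, by simp⟩
  obtain ⟨z, ⟨e⟩⟩ := exists_slice_through hX.isStack.1 a
  obtain ⟨A, c, d, hcs, hcsj, ⟨i⟩⟩ := exists_lift_atlas hX.isStack.1 hx hxs z
  obtain ⟨W, v, hv, -, hW⟩ := hsub _ z
  have h1 : Q (z.obj ((AlgSt.overMap c).obj (topObj A))) :=
    hc.of_iso (appIso i (topObj A)).symm (hQU _)
  obtain ⟨g, hg⟩ := (hW _).1 h1
  have hg' : g.left ≫ v.left = c.left := by
    rw [← Over.comp_left, hg]
    exact Category.id_comp _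
  have := isIso_of_flat_factor c.left g.left v.left hg'
  have : IsIso ((Over.forget S).map v) := this
  have : IsIso v := isIso_of_reflects_iso v (Over.forget S)
  exact hc.of_iso e ((hW _).2 ⟨inv v, IsIso.inv_hom_id v⟩)

/-- The points of a chart lying in a substack. -/
lemma exists_point_of_mem_range {Q : 𝒳.obj → Prop} (hX : FibCat.IsFibGrpd 𝒳.p)
    (hc : ObjectProperty.IsClosedUnderIsomorphisms Q)
    (hQ : FibCat.IsFibGrpd (AlgSt.fullSub 𝒳 Q).p) (x : FibCat.overCat U ⥤ᵇ 𝒳) {A : Over S}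
    {v : A ⟶ U} (hW : ∀ s : (FibCat.overCat U).obj,
      Q (x.obj s) ↔ ∃ g : s.left ⟶ A, g ≫ v = s.hom) {t : U.left}
    (ht : AlgSt.Points.ofChart x t ∈ Set.range (AlgSt.Points.map (AlgSt.subIncl 𝒳 Q))) :
    ∃ w, v.left w = t := by
  obtain ⟨w, hw⟩ := ht
  rw [ofChart_eq_map] at hw
  obtain ⟨z, hz₁, -⟩ := exists_points_fp (overCat_fibSet U).1 hQ hX hw.symm
  obtain ⟨z, rfl⟩ := AlgSt.Points.mk_surjective z
  obtain ⟨g, hg⟩ := (hW z.obj.obj.fst).1 (hc.of_iso z.obj.obj.iso.symm z.obj.obj.snd.property)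
  let q := z.map (FibCat.fpFst x (AlgSt.subIncl 𝒳 Q))
  have h1 : chartPt q = t := (congrArg chartPoint hz₁).trans (chartPoint_ofChart t)
  rw [← h1]
  have hh : q.obj.left = Over.mk q.str := q.lies
  exact ⟨g.left ((eqToHom hh.symm).left (IsLocalRing.closedPoint q.K)),
    (congrArg (fun m : q.obj.left ⟶ U => m.left ((eqToHom hh.symm).left
      (IsLocalRing.closedPoint q.K))) hg :)⟩

/-- A reduced stack mapping into a closed substack on points factors through it. -/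
theorem factors_of_reduced (hX : FibCat.IsFibGrpd 𝒳.p) (hY : AlgSt.IsAlgStack K₀ 𝒴)
    (hred : AlgSt.SmoothLocally (fun X => IsReduced X) 𝒴) {Q : 𝒳.obj → Prop}
    (hQ : AlgSt.IsClosedSubstack 𝒳 Q K₀) (f : 𝒴 ⥤ᵇ 𝒳)
    (h : Set.range (AlgSt.Points.map f) ⊆ Set.range (AlgSt.Points.map (AlgSt.subIncl 𝒳 Q)))
    (y : 𝒴.obj) : Q (f.obj y) := by
  refine forall_of_reduced (Q := fun b => Q (f.obj b)) hY hred
    ⟨fun e hb => hQ.1.of_iso (f.toFunctor.mapIso e) hb⟩ (fun U x => ?_) y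
  obtain ⟨A, v, hv, hW⟩ := exists_subspace hQ.1 hQ.2.2 (BasedFunctor.comp x f)
  refine ⟨A, v, hv, ⟨fun t => ?_⟩, hW⟩
  refine exists_point_of_mem_range hX hQ.1 hQ.2.1.isStack.1 (BasedFunctor.comp x f) hW ?_
  rw [ofChart_comp]
  exact h ⟨_, rfl⟩

end Groth.Agent.H14AlgSt
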