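import Groth.Agent.H14AlgSt.Bootstrap

/-!
# Composites of morphisms representable by algebraic spaces with a property
-/

set_option autoImplicit false
set_option backward.isDefEq.respectTransparency false
set_option backward.isDefEq.respectTransparency.types false

universe u

open CategoryTheory Opposite AlgebraicGeometry CategoryTheory.Limits

namespace Groth.Agent.H14AlgSt

open H14Fib H14Stk

variable {S : Scheme.{u}}

/-- A property of maps of algebraic spaces which can be tested on base changes to schemes. -/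
def TestOnSchemes (P : MorphismProperty (AlgSp.Sp S)) : Prop :=
  ∀ ⦃G F : AlgSp.Sp S⦄ (a : G ⟶ F), AlgSp.IsAlgSpace G → AlgSp.IsAlgSpace F →
    (∀ (T : Over S) (x : (AlgSp.yon S).obj T ⟶ F) ⦃W : AlgSp.Sp S⦄ (fst : W ⟶ G)
      (snd : W ⟶ (AlgSp.yon S).obj T), IsPullback fst snd a x → P snd) → P a

/-- A property of maps of algebraic spaces invariant under isomorphism of the source. -/
def SourceIsoInv (P : MorphismProperty (AlgSp.Sp S)) : Prop :=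
  ∀ ⦃A B C : AlgSp.Sp S⦄ (m : A ⟶ B) [IsIso m] (π : B ⟶ C), AlgSp.IsAlgSpace A →
    AlgSp.IsAlgSpace C → P (m ≫ π) → P π

lemma sourceIsoInv_of_respectsIso (P : MorphismProperty (AlgSp.Sp S)) [P.RespectsIso] :
    SourceIsoInv P := fun _ _ _ m _ π _ _ h => (P.cancel_left_of_respectsIso m π).1 h

lemma testOnSchemes_monomorphisms :
    TestOnSchemes (MorphismProperty.monomorphisms (AlgSp.Sp S)) := by
  intro G F a _ _ h
  refine H12AlgSp.mono_of_yon fun T v w e => ?_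
  have sq := IsPullback.of_hasPullback a (v ≫ a)
  have : Mono (pullback.snd a (v ≫ a)) := h T (v ≫ a) _ _ sq
  have h1 : pullback.lift (f := a) (g := v ≫ a) v (𝟙 _) (by simp) =
      pullback.lift (f := a) (g := v ≫ a) w (𝟙 _) (by simp [← e]) := by
    rw [← cancel_mono (pullback.snd a (v ≫ a))]
    simp
  simpa using h1 =≫ pullback.fst a (v ≫ a)

lemma testOnSchemes_repWith (Q : MorphismProperty Scheme.{u}) :
    TestOnSchemes (S := S) (AlgSp.RepWith Q) := by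
  intro G F a _ _ h
  refine ⟨fun T x => ?_, fun T V x fst snd sq => ?_⟩
  · have sq := IsPullback.of_hasPullback a x
    obtain ⟨V, v, k, sq'⟩ := (h T x _ _ sq).rep (𝟙 _)
    exact ⟨V, v, k ≫ pullback.fst a x, by simpa using sq'.paste_horiz sq⟩
  · exact (h T x fst _ sq).property (𝟙 _) (𝟙 _) snd IsPullback.of_id_fst

variable {𝒳 𝒴 𝒵 : AlgSt.Cat S} {P : MorphismProperty (AlgSp.Sp S)}

/-- The base change to an algebraic space of a morphism with property `P`. -/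
lemma exists_space_baseChange (hiso : SourceIsoInv P) (hloc : TestOnSchemes P)
    (h𝒳 : FibCat.IsFibGrpd 𝒳.p) (h𝒴 : FibCat.IsFibGrpd 𝒴.p) {f : 𝒳 ⥤ᵇ 𝒴}
    (hf : AlgSt.RepByAlgSpWith P f) (F : AlgSp.Space S) (z : AlgSt.ofSp F.obj ⥤ᵇ 𝒴) :
    ∃ (G : AlgSp.Space S) (e : AlgSt.ofSp G.obj ⥤ᵇ FibCat.fp z f) (π : G.obj ⟶ F.obj),
      FibCat.IsEquivOver e ∧
        Nonempty (BasedFunctor.comp e (FibCat.fpFst z f) ≅ AlgSt.ofSpMap π) ∧ P π := by
  obtain ⟨G, e, he⟩ :=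
    repByAlgSp_fp h𝒳 h𝒴 (repByAlgSp1_of_with hf) z (repByAlgSp_ofSp F)
  let φ := BasedFunctor.comp e (FibCat.fpFst z f)
  let π : G.obj ⟶ F.obj := ObjectProperty.homMk (mapOfFun φ)
  refine ⟨G, e, π, he, ⟨isoOfPshMap φ⟩, hloc π G.property F.property fun T x W fst snd sq => ?_⟩
  have h2 : AlgSt.RepByAlgSpWith P (AlgSt.ofSpMap π) :=
    repWith_of_iso (isoOfPshMap φ) ((repWith_equiv_comp_iff he).1 (repWith_fpFst z hf))
  have sq' : IsPullback snd.hom fst.hom x.hom π.hom :=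
    (sq.map (sheafToPresheaf (AlgSp.J S) (Type (u + 1)))).flip
  obtain ⟨E, hE, ⟨i⟩⟩ := exists_comparison π.hom
    (BasedFunctor.comp (AlgSt.ofOverCat T) (Stk.ofPshMap x.hom))
    (p := snd.hom) (q := fst.hom) (by rw [testMap_ofOverCat]; exact sq')
  obtain ⟨h, hA, X, m, hm, hp⟩ := exists_iso_of_repData (RepData.of_equiv' P hE i (h2 T _))
  exact @hiso X.obj W ((AlgSp.yon S).obj T) m hm snd X.property (AlgSp.IsAlgSpace.yon_obj T) hp

lemma repWith_comp_of (hiso : SourceIsoInv P) (hloc : TestOnSchemes P)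
    (hc : ∀ ⦃A B C : AlgSp.Sp S⦄, AlgSp.IsAlgSpace A → AlgSp.IsAlgSpace B → AlgSp.IsAlgSpace C →
      ∀ (a : A ⟶ B) (b : B ⟶ C), P a → P b → P (a ≫ b))
    (h𝒳 : FibCat.IsFibGrpd 𝒳.p) (h𝒴 : FibCat.IsFibGrpd 𝒴.p) {f : 𝒳 ⥤ᵇ 𝒴} {g : 𝒴 ⥤ᵇ 𝒵}
    (hf : AlgSt.RepByAlgSpWith P f) (hg : AlgSt.RepByAlgSpWith P g) :
    AlgSt.RepByAlgSpWith P (BasedFunctor.comp f g) := by
  intro U y
  obtain ⟨F, e₀, he₀, hp₀⟩ := hg U y
  let z := BasedFunctor.comp e₀ (FibCat.fpSnd y g)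
  obtain ⟨G, e, π, he, ⟨k⟩, hπ⟩ := exists_space_baseChange hiso hloc h𝒳 h𝒴 hf F z
  obtain ⟨⟨_, _⟩, hs⟩ := (isEquivOver_iff _).1 he₀
  let M : FibCat.fp z f ⥤ᵇ FibCat.fp (FibCat.fpSnd y g) f :=
    fpMap (F := FibCat.fpSnd y g) (G := f) e₀ (BasedFunctor.id 𝒳) (BasedFunctor.id 𝒴)
      (Iso.refl z) (Iso.refl (BasedFunctor.comp f (BasedFunctor.id 𝒴)))
  have hM : FibCat.IsEquivOver M := fpMap_isEquivOver _ _ _ _ _ hs (essSurjOver_id _)
  let E := BasedFunctor.comp (BasedFunctor.comp e M) (pasteComp y g f)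
  have hE : FibCat.IsEquivOver E :=
    isEquivOver_comp (isEquivOver_comp he hM) (pasteComp_isEquivOver y g f)
  refine ⟨G, E, hE, ?_⟩
  have i : BasedFunctor.comp E (FibCat.fpFst y (BasedFunctor.comp f g)) ≅
      BasedFunctor.comp (AlgSt.ofSpMap π) (BasedFunctor.comp e₀ (FibCat.fpFst y g)) :=
    (post (AlgSt.ofSp G.obj) (BasedFunctor.comp e₀ (FibCat.fpFst y g))).mapIso k
  rw [spMapOfOver_congr i, spMapOfOver_comp]
  exact hc G.property F.property (AlgSp.IsAlgSpace.yon_obj U) _ _ hπ hp₀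

lemma repWith_repWith_comp (Q : MorphismProperty Scheme.{u}) [Q.IsStableUnderComposition]
    [Q.IsStableUnderBaseChange] (h𝒳 : FibCat.IsFibGrpd 𝒳.p) (h𝒴 : FibCat.IsFibGrpd 𝒴.p)
    {f : 𝒳 ⥤ᵇ 𝒴} {g : 𝒴 ⥤ᵇ 𝒵} (hf : AlgSt.RepByAlgSpWith (AlgSp.RepWith Q) f)
    (hg : AlgSt.RepByAlgSpWith (AlgSp.RepWith Q) g) :
    AlgSt.RepByAlgSpWith (AlgSp.RepWith Q) (BasedFunctor.comp f g) :=
  repWith_comp_of (sourceIsoInv_of_respectsIso _) (testOnSchemes_repWith Q)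
    (fun _ _ _ _ _ _ a b ha hb => H12AlgSp.repWith_comp ha hb) h𝒳 h𝒴 hf hg

end Groth.Agent.H14AlgSt
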