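import Groth.Agent.H14AlgSt.SetoidSpace
import Groth.Agent.H14AlgSt.Descent

/-!
# Properties of representable morphisms read off from one flat cover
-/

set_option autoImplicit false
set_option backward.isDefEq.respectTransparency false
set_option backward.isDefEq.respectTransparency.types false

universe u

open CategoryTheory CategoryTheory.Functor Opposite AlgebraicGeometry CategoryTheory.Limits

noncomputable section

namespace Groth.Agent.H14AlgSt

open H14Fib H14Stk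

variable {S : Scheme.{u}} {𝒳 𝒴 : AlgSt.Cat S} {P : MorphismProperty (AlgSp.Sp S)}

local notation "K₀" => Scheme.fppfPrecoverage

lemma repWith_ofSpMap_of_baseStable [P.RespectsIso] (hb : BaseStable P) {G F : AlgSp.Sp S}
    (hG : AlgSp.IsAlgSpace G) (hF : AlgSp.IsAlgSpace F) (a : G ⟶ F) (ha : P a) :
    AlgSt.RepByAlgSpWith P (AlgSt.ofSpMap a) := by
  refine (repBySpWith_iff P a.hom).1 ((AlgSp.repBySpWith_hom_iff _ a).2
    fun U ξ F' fst snd sq => ?_)
  have hP := H12AlgSp.isAlgSpace_pullback hF.diag hG (AlgSp.IsAlgSpace.yon_obj U) a ξ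
  have hF' : AlgSp.IsAlgSpace F' := AlgSp.IsAlgSpace.of_iso hP sq.isoPullback.symm
  exact ⟨hF', hb hG hF hF' (AlgSp.IsAlgSpace.yon_obj U) a ξ snd fst sq ha⟩

lemma repWith_iff_exists_cover [P.RespectsIso] (hb : BaseStable P)
    (hP : AlgSp.IsLocalOnBase AlgSp.IsFppfCover P) (hloc : TestOnSchemes P)
    (h𝒳 : AlgSt.IsAlgStack K₀ 𝒳) (h𝒴 : AlgSt.IsAlgStack K₀ 𝒴) {f : 𝒳 ⥤ᵇ 𝒴} {W : AlgSp.Space S}
    {w : AlgSt.ofSp W.obj ⥤ᵇ 𝒴} (h1 : AlgSt.RepByAlgSpWith (AlgSp.LocP @Flat) w)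
    (h2 : AlgSt.RepByAlgSpWith (AlgSp.LocP @LocallyOfFinitePresentation) w)
    (h3 : AlgSt.RepByAlgSpWith AlgSp.IsSurjectiveMor w) :
    AlgSt.RepByAlgSpWith P f ↔
      ∃ (V : AlgSp.Space S) (a : V ⟶ W) (e : AlgSt.ofSp V.obj ⥤ᵇ FibCat.fp w f),
        FibCat.IsEquivOver e ∧
          Nonempty (BasedFunctor.comp e (FibCat.fpFst w f) ≅ AlgSt.ofSpMap a.hom) ∧ P a.hom := by
  have hiso : SourceIsoInv P := sourceIsoInv_of_respectsIso P
  constructor
  · intro h
    obtain ⟨V, e, he⟩ := repByAlgSp_fp h𝒳.isStack.1 h𝒴.isStack.1 (repByAlgSp1_of_with h) w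
      ⟨W, BasedFunctor.id _, isEquivOver_id _⟩
    let φ := BasedFunctor.comp e (FibCat.fpFst w f)
    let a : V ⟶ W := ObjectProperty.homMk (ObjectProperty.homMk (mapOfFun φ))
    let k : φ ≅ AlgSt.ofSpMap a.hom := isoOfPshMap φ
    exact ⟨V, a, e, he, ⟨k⟩, prop_of_repWith_ofSpMap hiso hloc V.property W.property
      (repWith_of_iso k ((repWith_equiv_comp_iff he).1 (repWith_fpFst w h)))⟩
  · rintro ⟨V, a, e, he, ⟨k⟩, ha⟩
    have hr := repByAlgSp1_of_fp_cover h𝒳 h𝒴 h1 h2 h3 ⟨V, e, he⟩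
    exact repWith_of_fppf hP hiso hr h1 h2 h3 ((repWith_equiv_comp_iff he).2
      (repWith_of_iso k.symm
        (repWith_ofSpMap_of_baseStable hb V.property W.property a.hom ha)))

lemma baseStable_repWith (Q : MorphismProperty Scheme.{u}) [Q.IsStableUnderBaseChange] :
    BaseStable (S := S) (AlgSp.RepWith Q) :=
  fun _ _ _ _ _ _ _ _ _ _ _ _ sq h => MorphismProperty.of_isPullback sq h

lemma baseStable_monomorphisms :
    BaseStable (S := S) (MorphismProperty.monomorphisms (AlgSp.Sp S)) :=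
  fun _ _ _ _ _ _ _ _ _ _ _ _ sq h => MorphismProperty.of_isPullback sq h

end Groth.Agent.H14AlgSt
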