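import Groth.Agent.H14AlgSt.EtaleStackDiag

/-!
# Étale algebraic stacks without automorphisms are algebraic spaces
-/

set_option autoImplicit false
set_option backward.isDefEq.respectTransparency false
set_option backward.isDefEq.respectTransparency.types false

universe u

open CategoryTheory CategoryTheory.Functor Opposite AlgebraicGeometry CategoryTheory.Limits

noncomputable section

namespace Groth.Agent.H14AlgSt

open H14Fib H14Stk

variable {S : Scheme.{u}} {𝒳 : AlgSt.Cat S}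

/-- An étale algebraic stack fibred in setoids is an algebraic space. -/
theorem repByAlgSp_of_fibSetoid_etale (hX : AlgSt.IsAlgStack Scheme.etalePrecoverage 𝒳)
    (hs : FibCat.IsFibSetoid 𝒳.p) : AlgSt.RepByAlgSp 𝒳 := by
  obtain ⟨U, x, hx, hxs⟩ := hasAtlas_etale hX (repWith_unramified_diag_of_fibSetoid hX hs)
  let c := classFun hX.isStack.1
  have hc : FibCat.IsEquivOver c := classFun_isEquivOver hX.isStack.1 hs
  let F : AlgSp.PSp S := classPsh hX.isStack.1
  have hF : Presheaf.IsSheaf (QuotSh.J Scheme.etalePrecoverage S) F :=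
    (isSheaf_iff_isSheaf_of_type _ _).2 ((isStack_ofPsh_iff _).1 ((isStack_iff _ hc).1 hX.isStack))
  let Φ : Stk.ofPsh ((AlgSp.pyon S).obj U) ⥤ᵇ Stk.ofPsh F :=
    BasedFunctor.comp (BasedFunctor.comp (AlgSt.toOverCat U) x) c
  let π : (AlgSp.pyon S).obj U ⟶ F := mapOfFun Φ
  let k : Φ ≅ Stk.ofPshMap π := isoOfPshMap Φ
  have := respectsIso_locP (S := S) @Etale
  have := respectsIso_surjective (S := S)
  have g1 : AlgSp.RepBySpWith (AlgSp.LocP @Etale) π := (repBySpWith_iff _ π).2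
    (repWith_of_iso k ((repWith_comp_equiv_iff hc).2
      ((repWith_equiv_comp_iff (toOverCat_isEquivOver U)).1 hx)))
  have g2 : AlgSp.RepBySpWith AlgSp.IsSurjectiveMor π := (repBySpWith_iff _ π).2
    (repWith_of_iso k ((repWith_comp_equiv_iff hc).2
      ((repWith_equiv_comp_iff (toOverCat_isEquivOver U)).1 hxs)))
  have hA : AlgSp.IsAlgSpaceP F :=
    H12AlgSp.isAlgSpaceP_of_etale_repBySp hF (AlgSp.IsAlgSpace.yon_obj U) π
      fun V ξ F' fst snd sq => by
        obtain ⟨h', hA, he⟩ := g1 ξ fst snd sq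
        obtain ⟨h'', hA', hsu⟩ := g2 ξ fst snd sq
        exact ⟨h', hA, hsu, H12AlgSp.isEtaleMor_of_locP_etale (AlgSp.IsAlgSpace.yon_obj V) he⟩
  exact repByAlgSp_of_equiv' hc (repByAlgSp_ofPsh_iff.2 hA)

/-- Etale sheaves with smooth surjective maps from spaces are spaces. -/
theorem isAlgSpaceP_of_smooth_repBySp {F : AlgSp.PSp S}
    (hF : Presheaf.IsSheaf (QuotSh.J Scheme.etalePrecoverage S) F) (U : AlgSp.Space S)
    (p : U.obj.obj ⟶ F)
    (h : AlgSp.RepBySpWith (AlgSp.IsSurjectiveMor ⊓ AlgSp.LocP @Smooth) p) :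
    AlgSp.IsAlgSpaceP F := by
  have := respectsIso_locP (S := S) @Smooth
  have := respectsIso_surjective (S := S)
  have h1 : AlgSp.RepBySpWith (AlgSp.LocP @Smooth) p := fun V ξ F' fst snd sq => by
    obtain ⟨h', hA, hq⟩ := h ξ fst snd sq
    exact ⟨h', hA, hq.2⟩
  have h2 : AlgSp.RepBySpWith AlgSp.IsSurjectiveMor p := fun V ξ F' fst snd sq => by
    obtain ⟨h', hA, hq⟩ := h ξ fst snd sq
    exact ⟨h', hA, hq.1⟩
  let u : AlgSt.ofSp U.obj ⥤ᵇ Stk.ofPsh F := Stk.ofPshMap p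
  have hU : AlgSt.RepByAlgSp (AlgSt.ofSp U.obj) := ⟨U, BasedFunctor.id _, isEquivOver_id _⟩
  have hst : Stk.IsStack (QuotSh.J Scheme.etalePrecoverage S) (Stk.ofPsh F) :=
    (isStack_ofPsh_iff _).2 ((isSheaf_iff_isSheaf_of_type _ _).1 hF)
  have hA := isAlgStack_etale_of_atlas hst (hasAtlas_of_space H12AlgSp.etLocal_smooth hU u
    ((repBySpWith_iff _ p).1 h1) ((repBySpWith_iff _ p).1 h2))
  exact repByAlgSp_ofPsh_iff.1 (repByAlgSp_of_fibSetoid_etale hA ⟨inferInstanceAs (FibCat.IsFibGrpd (Stk.EltObj.forget F)), fun T a b => ⟨fun m n =>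
    Subtype.ext (Stk.EltObj.hom_ext
      ((@IsHomLift.fac' _ _ _ _ (Stk.ofPsh F).p _ _ _ _ (𝟙 T) m.1 m.2).trans
        (@IsHomLift.fac' _ _ _ _ (Stk.ofPsh F).p _ _ _ _ (𝟙 T) n.1 n.2).symm))⟩⟩)

end Groth.Agent.H14AlgSt
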