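import Groth.Agent.H14AlgSt.FibreMono
import Groth.Agent.H14AlgSt.SetoidEtale
import Groth.Agent.H14AlgSt.Faithful

/-!
# Stacks without automorphisms over fields
-/

set_option autoImplicit false
set_option backward.isDefEq.respectTransparency false
set_option backward.isDefEq.respectTransparency.types false

universe u

open CategoryTheory CategoryTheory.Functor Opposite AlgebraicGeometry CategoryTheory.Limits

noncomputable section

namespace Groth.Agent.H14AlgSt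

open H14Fib H14Stk

variable {S : Scheme.{u}} {𝒳 : AlgSt.Cat S}

/-- Objects over schemes over algebraically closed fields have no vertical automorphisms, for
schemes whose map to the point satisfies `P`. -/
def FieldTrivial (P : MorphismProperty Scheme.{u}) (𝒳 : AlgSt.Cat S) : Prop :=
  ∀ (k : Type u) [Field k] [IsAlgClosed k] (sk : Spec (CommRingCat.of k) ⟶ S)
    (x : FibCat.overCat (Over.mk sk) ⥤ᵇ 𝒳) (T : Over (Over.mk sk)), P T.hom.left → ∀ (σ : x.obj T ⟶ x.obj T),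
    𝒳.p.map σ = 𝟙 (𝒳.p.obj (x.obj T)) → σ = 𝟙 (x.obj T)

lemma eq_id_of_field {P : MorphismProperty Scheme.{u}} {U : Over S} (H : FieldTrivial P 𝒳) (x : FibCat.overCat U ⥤ᵇ 𝒳) (c : Over U)
    {k : Type u} [Field k] [IsAlgClosed k] (u : Spec (CommRingCat.of k) ⟶ U.left)
    (h : c.left.left ⟶ Spec (CommRingCat.of k)) (hh : c.hom.left = h ≫ u)
    (hP : P h)
    (σ : x.obj c ⟶ x.obj c) (hσ : 𝒳.p.map σ = 𝟙 (𝒳.p.obj (x.obj c))) : σ = 𝟙 (x.obj c) := by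
  obtain ⟨T, ⟨⟨⟩⟩, g⟩ := c
  let u' : Over.mk (u ≫ U.hom) ⟶ U := Over.homMk u rfl
  have ht : h ≫ u ≫ U.hom = T.hom := by
    rw [← reassoc_of% hh]
    exact Over.w g
  let g' : T ⟶ Over.mk (u ≫ U.hom) := Over.homMk h ht
  have key : ∀ (a : T ⟶ U), a = g' ≫ u' → ∀ τ : x.obj (Over.mk a) ⟶ x.obj (Over.mk a),
      𝒳.p.map τ = 𝟙 (𝒳.p.obj (x.obj (Over.mk a))) → τ = 𝟙 (x.obj (Over.mk a)) := by
    rintro a rfl τ hτ
    exact H k (u ≫ U.hom) (BasedFunctor.comp (AlgSt.overMap u') x) (Over.mk g') hP τ hτ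
  exact key g (Over.OverMorphism.ext hh) σ hσ

lemma fibreMono_diag {P : MorphismProperty Scheme.{u}} [P.RespectsIso] (H : FieldTrivial P 𝒳)
    {U : Over S} (z : FibCat.overCat U ⥤ᵇ FibCat.fp (FibCat.toSelf 𝒳) (FibCat.toSelf 𝒳))
    {G : AlgSp.Sp S} (e : AlgSt.ofSp G ⥤ᵇ FibCat.fp z (FibCat.diag (FibCat.toSelf 𝒳)))
    (he : FibCat.IsEquivOver e) :
    FibreMono P (AlgSt.spMapOfOver
      (BasedFunctor.comp e (FibCat.fpFst z (FibCat.diag (FibCat.toSelf 𝒳))))) := by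
  intro k _ _ u W h hP a b w hw ha hb
  let D := FibCat.diag (FibCat.toSelf 𝒳)
  let Φ := BasedFunctor.comp e (FibCat.fpFst z D)
  let J := AlgSp.J S
  let s := J.uliftYonedaEquiv a
  let s' := J.uliftYonedaEquiv b
  have key : ∀ a : (AlgSp.yon S).obj W ⟶ G, a ≫ AlgSt.spMapOfOver Φ = (AlgSp.yon S).map w →
      AlgSt.secHom Φ ⟨W, J.uliftYonedaEquiv a⟩ = w := fun a ha => by
    have h2 : (AlgSt.spMapOfOver Φ).hom.app (op W) (J.uliftYonedaEquiv a) =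
        J.uliftYonedaEquiv (a ≫ AlgSt.spMapOfOver Φ) :=
      (GrothendieckTopology.uliftYonedaEquiv_comp (J := J) a (AlgSt.spMapOfOver Φ)).symm
    rw [ha] at h2
    exact (congrArg ULift.down h2).trans (Category.id_comp w)
  have hs : AlgSt.secHom Φ ⟨W, s⟩ = w := key a ha
  have hs' : AlgSt.secHom Φ ⟨W, s'⟩ = w := key b hb
  let z₁ := e.obj ⟨W, s⟩
  let z₂ := e.obj ⟨W, s'⟩
  have hl : (Φ.obj ⟨W, s⟩).left = (Φ.obj ⟨W, s'⟩).left :=
    (Φ.w_obj ⟨W, s⟩).trans (Φ.w_obj ⟨W, s'⟩).symm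
  let i : z₁.obj.fst ≅ z₂.obj.fst := Over.isoMk (eqToIso hl) (by
    rw [← cancel_epi (eqToHom (Φ.w_obj ⟨W, s⟩).symm)]
    have := hs'.trans hs.symm
    simp [AlgSt.secHom] at this ⊢
    exact this)
  have hi : (FibCat.overCat U).p.IsHomLift (𝟙 W) i.hom :=
    IsHomLift.of_fac' _ _ _ (Φ.w_obj ⟨W, s⟩) (Φ.w_obj ⟨W, s'⟩)
      (show eqToHom hl = _ by simp)
  let θ := z₁.obj.iso.symm ≪≫ z.toFunctor.mapIso i ≪≫ z₂.obj.iso
  let φ : z₁.obj.snd ≅ z₂.obj.snd :=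
    (FibCat.fpFst (FibCat.toSelf 𝒳) (FibCat.toSelf 𝒳)).toFunctor.mapIso θ
  let ψ : z₁.obj.snd ≅ z₂.obj.snd :=
    (FibCat.fpSnd (FibCat.toSelf 𝒳) (FibCat.toSelf 𝒳)).toFunctor.mapIso θ
  have hpm : 𝒳.p.map φ.hom ≫ 𝟙 _ = 𝟙 _ ≫ 𝒳.p.map ψ.hom := θ.hom.hom.w
  rw [Category.comp_id, Category.id_comp] at hpm
  let θ₁ : (z.obj z₁.obj.fst).obj.fst ≅ z₁.obj.snd :=
    (FibCat.fpFst (FibCat.toSelf 𝒳) (FibCat.toSelf 𝒳)).toFunctor.mapIso z₁.obj.iso
  have hσ : θ₁.hom ≫ (φ.hom ≫ ψ.inv) ≫ θ₁.inv = 𝟙 _ := by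
    have hP' : P ((eqToHom (Φ.w_obj ⟨W, s⟩)).left ≫ h) :=
      (MorphismProperty.cancel_left_of_respectsIso P _ _).2 hP
    refine eq_id_of_field H (BasedFunctor.comp z (FibCat.fpFst (FibCat.toSelf 𝒳) (FibCat.toSelf 𝒳))) z₁.obj.fst u
      ((eqToHom (Φ.w_obj ⟨W, s⟩)).left ≫ h) ?_ hP' _ ?_
    · have e1 : z₁.obj.fst.hom = eqToHom (Φ.w_obj ⟨W, s⟩) ≫ w := by
        rw [← hs, AlgSt.secHom, eqToHom_trans_assoc]
        exact (Category.id_comp _).symm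
      rw [e1, Over.comp_left, hw, Category.assoc]
    · show 𝒳.p.map (θ₁.hom ≫ (φ.hom ≫ ψ.inv) ≫ θ₁.inv) = 𝟙 _
      rw [Functor.map_comp, Functor.map_comp, Functor.map_comp, hpm, ← 𝒳.p.map_comp ψ.hom,
        Iso.hom_inv_id, CategoryTheory.Functor.map_id, Category.id_comp, ← Functor.map_comp,
        Iso.hom_inv_id, CategoryTheory.Functor.map_id]
  have hφψ : φ.hom = ψ.hom := by
    have h1 : φ.hom ≫ ψ.inv = 𝟙 _ := by
      rw [← cancel_epi θ₁.hom, ← cancel_mono θ₁.inv, Category.assoc, hσ]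
      simp
    exact ((Iso.comp_inv_eq ψ).1 h1).trans (Category.id_comp _)
  let kk : z₁ ≅ z₂ := fpIsoMk i φ (by
    have e1 : D.map φ.hom = θ.hom := fp_hom_ext rfl hφψ
    rw [e1]
    simp [θ])
  have hk : (FibCat.fp z D).p.IsHomLift (𝟙 W) kk.hom := fpIsoMk_lift _ _ _ hi
  obtain ⟨⟨hf, _⟩, -⟩ := (isEquivOver_iff e).1 he
  obtain ⟨m, hm⟩ := hf.map_surjective (X := ⟨W, s⟩) (Y := ⟨W, s'⟩) kk.hom
  have hml : (AlgSt.ofSp G).p.IsHomLift (𝟙 W) m := by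
    refine (BasedFunctor.isHomLift_iff e _ _).1 ?_
    rw [hm]
    exact hk
  have hmh : m.hom = 𝟙 W :=
    (IsHomLift.fac' (AlgSt.ofSp G).p (𝟙 W) m).trans (by simp)
  have := m.map_sec
  rw [hmh, op_id, CategoryTheory.Functor.map_id] at this
  exact J.uliftYonedaEquiv.injective this.symm

lemma isFibSetoid_of_isMono_diag {K : Precoverage Scheme.{u}} (hX : AlgSt.IsAlgStack K 𝒳)
    (hm : AlgSt.IsMono (FibCat.diag (FibCat.toSelf 𝒳))) : FibCat.IsFibSetoid 𝒳.p :=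
  (fibSetoid_iff_faithful_toSelf hX.isStack.1).2 (faithful_of_full_diag
    (full_of_isMono hX.isStack.1 (fp_fibGrpd hX.isStack.1 hX.isStack.1 selfOver_fibGrpd) hm))

/-- An algebraic stack without automorphisms over fields is fibred in setoids. -/
theorem isFibSetoid_of_fieldTrivial {K : Precoverage Scheme.{u}} (hX : AlgSt.IsAlgStack K 𝒳)
    (H : FieldTrivial ⊤ 𝒳) : FibCat.IsFibSetoid 𝒳.p :=
  isFibSetoid_of_isMono_diag hX fun U z => by
    obtain ⟨G, e, he, hl⟩ := repWith_lft_diag_toSelf hX U z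
    exact ⟨G, e, he, mono_of_fibreMono G.property _ hl (fibreMono_diag H z e he)⟩

/-- An algebraic stack with unramified diagonal without automorphisms at geometric points is
fibred in setoids. -/
theorem isFibSetoid_of_pointTrivial {K : Precoverage Scheme.{u}} (hX : AlgSt.IsAlgStack K 𝒳)
    (hΔ : AlgSt.RepByAlgSpWith (AlgSp.LocP (@LocallyOfFiniteType ⊓ @FormallyUnramified))
      (FibCat.diag (FibCat.toSelf 𝒳)))
    (H : FieldTrivial (MorphismProperty.isomorphisms Scheme.{u}) 𝒳) :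
    FibCat.IsFibSetoid 𝒳.p :=
  isFibSetoid_of_isMono_diag hX fun U z => by
    obtain ⟨G, e, he, hlu⟩ := hΔ U z
    obtain ⟨hl, hu⟩ := H12AlgSp.locP_inf_iff.1 hlu
    exact ⟨G, e, he, mono_of_unramified_pointMono G.property _ hl hu (fibreMono_diag H z e he)⟩

/-- A category fibred in setoids has no automorphisms over fields. -/
lemma fieldTrivial_of_fibSetoid {P : MorphismProperty Scheme.{u}} (hs : FibCat.IsFibSetoid 𝒳.p) :
    FieldTrivial P 𝒳 :=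
  fun k _ _ sk x T _ σ hσ => by
    have := faithful_of_fibSetoid hs
    exact 𝒳.p.map_injective (hσ.trans (𝒳.p.map_id _).symm)

end Groth.Agent.H14AlgSt
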