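import Groth.Agent.H14AlgSt.DiagDescent
import Groth.Agent.H14AlgSt.FieldTrivial

/-!
# The diagonal of a Deligne--Mumford stack
-/

set_option autoImplicit false
set_option backward.isDefEq.respectTransparency false
set_option backward.isDefEq.respectTransparency.types false

universe u

open CategoryTheory CategoryTheory.Functor Opposite AlgebraicGeometry CategoryTheory.Limits

noncomputable section

namespace Groth.Agent.H14AlgSt

open H14Fib H14Stk

variable {S : Scheme.{u}} {𝒳 𝒴 : AlgSt.Cat S}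

lemma cancelsLeft_unramified :
    CancelsLeft (S := S) (AlgSp.LocP (@LocallyOfFiniteType ⊓ @FormallyUnramified)) ⊤ :=
  cancelsLeft_locP etLocal_unramified (fun _ _ _ f g h => by
    have : LocallyOfFiniteType (f ≫ g) := h.1
    have : FormallyUnramified (f ≫ g) := h.2
    exact ⟨locallyOfFiniteType_of_comp f g, FormallyUnramified.of_comp f g⟩)

/-- A stack with an etale atlas has unramified diagonal. -/
theorem isDMOver_of_isDM {K : Precoverage Scheme.{u}} (h : AlgSt.IsDM K 𝒳) :
    AlgSt.IsDMOver 𝒳 := by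
  obtain ⟨hX, U, x, hx', hxs⟩ := h
  have hx : AlgSt.RepByAlgSpWith (AlgSp.LocP @Etale) x :=
    repWith_mono (fun _ _ _ h => H12AlgSp.locP_etale_of_isEtaleMor h) hx'
  let H := FibCat.toSelf 𝒳
  have le1 : (@Etale : MorphismProperty Scheme.{u}) ≤ @Flat := fun _ _ g (_ : Etale g) =>
    (inferInstance : Flat g)
  have le2 : (@Etale : MorphismProperty Scheme.{u}) ≤ @LocallyOfFinitePresentation :=
    fun _ _ g (_ : Etale g) => (inferInstance : LocallyOfFinitePresentation g)
  have le3 : (@Etale : MorphismProperty Scheme.{u}) ≤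
      (@LocallyOfFiniteType ⊓ @FormallyUnramified : MorphismProperty Scheme.{u}) :=
    fun _ _ g (_ : Etale g) =>
      ⟨(inferInstance : LocallyOfFiniteType g), (inferInstance : FormallyUnramified g)⟩
  have hU := repByAlgSp_overCat U
  have hR : AlgSt.RepByAlgSp (FibCat.fp x x) := repByAlgSp1_of_with hx U x
  have hQ : AlgSt.RepByAlgSp (FibCat.fp (BasedFunctor.comp x H) (BasedFunctor.comp x H)) := by
    rw [comp_toSelf]
    exact repByAlgSp_prod hU hU
  refine repWith_diag_of_atlas localFppf_unramified (sourceIsoInv_locP _) hX.diag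
    (repWith_mono (fun _ _ _ h => H12AlgSp.locP_mono le1 h) hx)
    (repWith_mono (fun _ _ _ h => H12AlgSp.locP_mono le2 h) hx) hxs ?_
  exact repWith_cancel (baseStable_locP etLocal_unramified) cancelsLeft_unramified
    (isFibSetoid_of_rep hR).1 (isFibSetoid_of_rep hQ).1
    (g := FibCat.fpFst (BasedFunctor.comp x H) (BasedFunctor.comp x H))
    (repByAlgSp1_of_rep hR hQ _)
    (repWith_mono (fun _ _ _ h => H12AlgSp.locP_mono le3 h) (repWith_fpFst x hx))
    (with_top_of_repByAlgSp1 (repByAlgSp1_of_rep hQ hU _))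

/-- An algebraic stack for the etale topology with unramified diagonal is Deligne--Mumford. -/
theorem isDM_of_isDMOver {K : Precoverage Scheme.{u}} (hX : AlgSt.IsAlgStack K 𝒳)
    (h : AlgSt.IsDMOver 𝒳) : AlgSt.IsDM K 𝒳 := by
  obtain ⟨U, x, hx, hxs⟩ := hasAtlas_etale hX h
  refine ⟨hX, U, x, ?_, hxs⟩
  intro T y
  obtain ⟨G, e, he, hσ⟩ := hx T y
  exact ⟨G, e, he, H12AlgSp.isEtaleMor_of_locP_etale (AlgSp.IsAlgSpace.yon_obj T) hσ⟩

end Groth.Agent.H14AlgSt
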