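import Groth.Agent.H14AlgSt.DescPt
import Groth.Agent.H14Stk.Extend
import Groth.Agent.H12AlgSp.EtaleSheaf

/-!
# Effectivity of the descent data: the functor to the stack

A point of the sheaf of descent data along an étale surjective `c : C ⟶ B` gives an object of the stack
`𝒳`, functorially, which agrees with the object of the chart wherever the cover has a section.
-/

set_option autoImplicit false
set_option linter.unusedVariables false
set_option backward.isDefEq.respectTransparency false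
set_option backward.isDefEq.respectTransparency.types false

universe u

open CategoryTheory CategoryTheory.Functor Opposite AlgebraicGeometry CategoryTheory.Limits

noncomputable section

namespace Groth.Agent.H14AlgSt

open H14Fib H14Stk

variable {S : Scheme.{u}} {𝒳 : AlgSt.Cat S} {W B C : Over S} (x : FibCat.overCat W ⥤ᵇ 𝒳)

omit x in
lemma quotShJ_mono {K K' : Precoverage Scheme.{u}} (h : K ≤ K') : QuotSh.J K S ≤ QuotSh.J K' S :=
  fun _ _ hR => (GrothendieckTopology.mem_over_iff _ _).2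
    (Precoverage.toGrothendieck_mono h _ ((GrothendieckTopology.mem_over_iff _ _).1 hR))

omit x in
lemma etale_le_fppfPrecoverage : Scheme.etalePrecoverage.{u} ≤ Scheme.fppfPrecoverage :=
  Scheme.precoverage_mono fun _ _ f (_ : Etale f) =>
    ⟨inferInstanceAs (Flat f), inferInstanceAs (LocallyOfFinitePresentation f)⟩

omit x in
lemma isStack_of_le {J J' : GrothendieckTopology (Over S)} (h : J ≤ J') (hX : Stk.IsStack J' 𝒳) :
    Stk.IsStack J 𝒳 :=
  ⟨hX.1, fun _ R hR => hX.2 R (h _ hR)⟩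

/-- An arrow followed by a base change. -/
def arrMap {T T' : Over S} (r : Arr x T) (g : T ⟶ T') {w : T ⟶ W} {w' : T' ⟶ W} (es : r.s = w)
    (et : g ≫ w' = r.t) : xo x w ⟶ xo x w' :=
  xm x (𝟙 T) ((Category.id_comp r.s).trans es) ≫ r.φ ≫ xm x g et

lemma arrMap_lift {T T' : Over S} (r : Arr x T) (g : T ⟶ T') {w : T ⟶ W} {w' : T' ⟶ W} (es : r.s = w)
    (et : g ≫ w' = r.t) : 𝒳.p.IsHomLift g (arrMap x r g es et) := by
  simpa [arrMap] using homLift_comp' (xm_lift x (𝟙 T) ((Category.id_comp r.s).trans es))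
    (homLift_comp' r.lift (xm_lift x g et))

lemma arrMap_id' {T T' : Over S} (v : T ⟶ W) (g : T ⟶ T') {w : T ⟶ W} {w' : T' ⟶ W} (es : v = w)
    (et : g ≫ w' = v) : arrMap x (Arr.id' x v) g es et = xm x g (et.trans es) := by
  subst es
  change xm x (𝟙 T) _ ≫ 𝟙 _ ≫ xm x g et = _
  rw [xm_one, Category.id_comp]
  exact Category.id_comp _

lemma arrMap_congr {T T' : Over S} {r r' : Arr x T} (hr : r = r') {g g' : T ⟶ T'} (hg : g = g')
    {w : T ⟶ W} {w' : T' ⟶ W} (es : r.s = w) (et : g ≫ w' = r.t) :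
    arrMap x r g es et = arrMap x r' g' (hr ▸ es) (hg ▸ hr ▸ et) := by
  subst hr hg
  rfl

lemma arrMap_comp {T T' T'' : Over S} (r₁ : Arr x T) {r₂ : Arr x T'} {r₂' : Arr x T} (g : T ⟶ T')
    (h : T' ⟶ T'') (H : Arr.Rel g r₂ r₂') {w : T ⟶ W} {w' : T' ⟶ W} {w'' : T'' ⟶ W}
    (es : r₁.s = w) (et : g ≫ w' = r₁.t) (es' : r₂.s = w') (et' : h ≫ w'' = r₂.t)
    (e : r₁.t = r₂'.s) (es'' : (Arr.comp r₁ r₂' e).s = w)
    (et'' : (g ≫ h) ≫ w'' = (Arr.comp r₁ r₂' e).t) :
    arrMap x (Arr.comp r₁ r₂' e) (g ≫ h) es'' et'' = arrMap x r₁ g es et ≫ arrMap x r₂ h es' et' := by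
  subst es es'
  obtain ⟨a, b, hφ⟩ := H
  change xm x (𝟙 T) _ ≫ (r₁.φ ≫ xm x (𝟙 T) _ ≫ r₂'.φ) ≫ xm x (g ≫ h) _ =
    (xm x (𝟙 T) _ ≫ r₁.φ ≫ xm x g et) ≫ xm x (𝟙 T') _ ≫ r₂.φ ≫ xm x h et'
  rw [← xm_comp x g h b et']
  simp only [Category.assoc]
  rw [reassoc_of% hφ, xm_comp_assoc]
  simp only [xm_one, Category.id_comp]

variable {x} (c : C ⟶ B) [Etale c.left] [Surjective c.left]

omit [Etale c.left] [Surjective c.left] in
lemma DescPt.pull_r {T T' : Over S} {q : DescPt x c T} {q' : DescPt x c T'} {g : T ⟶ T'}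
    (hq : pullPt g q' = q) (a a' : T' ⟶ C) (ha : a ≫ c = q'.b) (ha' : a' ≫ c = q'.b)
    (e : (g ≫ a) ≫ c = 𝟙 T ≫ q.b) (e' : (g ≫ a') ≫ c = 𝟙 T ≫ q.b) :
    Arr.Rel g (q'.r (𝟙 T') a a' (ha.trans (Category.id_comp _).symm) (ha'.trans (Category.id_comp _).symm))
      (q.r (𝟙 T) (g ≫ a) (g ≫ a') e e') := by
  subst hq
  change Arr.Rel g _ (q'.r (𝟙 T ≫ g) (g ≫ a) (g ≫ a') _ _)
  rw [q'.r_congr (show 𝟙 T ≫ g = g ≫ 𝟙 T' by simp) rfl rfl]
  exact q'.nat g (𝟙 T') a a' _ _ _ _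

omit [Etale c.left] [Surjective c.left] in
lemma DescPt.pull_w {T T' : Over S} {q : DescPt x c T} {q' : DescPt x c T'} {g : T ⟶ T'}
    (hq : pullPt g q' = q) (a : T' ⟶ C) (ha : a ≫ c = q'.b) (ha' : (g ≫ a) ≫ c = q.b) :
    g ≫ q'.w a ha = q.w (g ≫ a) ha' :=
  (DescPt.pull_r c hq a a ha ha (ha'.trans (Category.id_comp _).symm)
    (ha'.trans (Category.id_comp _).symm)).choose

/-- The index of the family generating the sheaf of descent data. -/
def DescIdx (x : FibCat.overCat W ⥤ᵇ 𝒳) (c : C ⟶ B) : Type (u + 1) :=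
  Σ T : Over S, Σ q : DescPt x c T, {a : T ⟶ C // a ≫ c = q.b}

/-- The generating family. -/
def descP (i : DescIdx x c) : (Stk.ofPsh (descPsh x c)).obj := ⟨i.1, i.2.1⟩

/-- The values on the generating family. -/
def descQ (i : DescIdx x c) : 𝒳.obj := xo x (i.2.1.w i.2.2.1 i.2.2.2)

omit [Etale c.left] [Surjective c.left] in
lemma descP_eq {i j : DescIdx x c} (α : descP c i ⟶ descP c j) :
    DescPt.pullPt α.hom j.2.1 = i.2.1 := α.map_sec

omit [Etale c.left] [Surjective c.left] in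
lemma descP_sec {i j : DescIdx x c} (α : descP c i ⟶ descP c j) :
    (α.hom ≫ j.2.2.1) ≫ c = i.2.1.b :=
  (Category.assoc _ _ _).trans ((congrArg (α.hom ≫ ·) j.2.2.2).trans (congrArg DescPt.b (descP_eq c α)))

/-- The arrow of a morphism of the family. -/
def descArr {i j : DescIdx x c} (α : descP c i ⟶ descP c j) : Arr x i.1 :=
  i.2.1.r (𝟙 i.1) i.2.2.1 (α.hom ≫ j.2.2.1) (i.2.2.2.trans (Category.id_comp _).symm)
    ((descP_sec c α).trans (Category.id_comp _).symm)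

omit [Etale c.left] [Surjective c.left] in
lemma descArr_s {i j : DescIdx x c} (α : descP c i ⟶ descP c j) :
    (descArr c α).s = i.2.1.w i.2.2.1 i.2.2.2 := DescPt.r_s _ _ _ _ _ _

omit [Etale c.left] [Surjective c.left] in
lemma descArr_t {i j : DescIdx x c} (α : descP c i ⟶ descP c j) :
    α.hom ≫ j.2.1.w j.2.2.1 j.2.2.2 = (descArr c α).t := by
  rw [DescPt.pull_w c (descP_eq c α) j.2.2.1 j.2.2.2 (descP_sec c α)]
  exact (DescPt.r_t _ _ _ _ _ _).symm

/-- The action on morphisms of the family. -/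
def descMap {i j : DescIdx x c} (α : descP c i ⟶ descP c j) : descQ c i ⟶ descQ c j :=
  arrMap x (descArr c α) α.hom (descArr_s c α) (descArr_t c α)

variable (h𝒳 : FibCat.IsFibGrpd 𝒳.p)

/-- The functor on the generating family. -/
def descHomMap : HomMap (descP (x := x) c) (descQ c) where
  map := descMap c
  lift {i j} α V V' g hg := by
    obtain rfl : i.1 = V := IsHomLift.domain_eq (Stk.ofPsh (descPsh x c)).p g α
    obtain rfl : j.1 = V' := IsHomLift.codomain_eq (Stk.ofPsh (descPsh x c)).p g α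
    have e : g = α.hom := (@IsHomLift.fac _ _ _ _ (Stk.ofPsh (descPsh x c)).p _ _ _ _ g α hg).trans
      ((Category.id_comp _).trans (Category.comp_id _))
    exact e ▸ arrMap_lift x _ _ _ _
  map_id i := by
    have h1 : descArr c (𝟙 (descP c i)) = Arr.id' x (i.2.1.w i.2.2.1 i.2.2.2) :=
      (i.2.1.r_congr rfl rfl (Category.id_comp i.2.2.1) _ _).trans (DescPt.r_self _ h𝒳 _ _ _)
    refine (arrMap_congr x h1 rfl _ _).trans ?_
    exact (arrMap_id' x _ _ _ _).trans (xm_eq x rfl _)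
  map_comp {i j k} α β := by
    let q := i.2.1
    have e₂ : (α.hom ≫ j.2.2.1) ≫ c = 𝟙 i.1 ≫ q.b := (descP_sec c α).trans (Category.id_comp _).symm
    have e₃ : (α.hom ≫ β.hom ≫ k.2.2.1) ≫ c = 𝟙 i.1 ≫ q.b := by
      rw [← Category.assoc α.hom β.hom]
      exact (descP_sec c (α ≫ β)).trans (Category.id_comp _).symm
    have H := DescPt.pull_r c (descP_eq c α) j.2.2.1 (β.hom ≫ k.2.2.1) j.2.2.2 (descP_sec c β) e₂ e₃
    obtain ⟨e, he⟩ := q.coc (𝟙 i.1) i.2.2.1 (α.hom ≫ j.2.2.1) (α.hom ≫ β.hom ≫ k.2.2.1)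
      (i.2.2.2.trans (Category.id_comp _).symm) e₂ e₃
    have h1 : descArr c (α ≫ β) = Arr.comp (descArr c α) _ e :=
      (q.r_congr rfl rfl (Category.assoc α.hom β.hom k.2.2.1) _ _).trans he.symm
    exact (arrMap_congr x h1 rfl _ _).trans
      (arrMap_comp x _ α.hom β.hom H (descArr_s c α) (descArr_t c α) (descArr_s c β) (descArr_t c β) e _ _)

omit [Etale c.left] [Surjective c.left] in
lemma descP_pullStable : PullStable (descP (x := x) c) := by
  rintro ⟨T, q, a, ha⟩ V V' g hV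
  obtain rfl : T = V' := hV
  refine ⟨⟨V, DescPt.pullPt g q, g ≫ a, ?_⟩, (⟨g, rfl⟩ : (⟨V, DescPt.pullPt g q⟩ : Stk.EltObj (descPsh x c)) ⟶ ⟨T, q⟩), ?_⟩
  · rw [Category.assoc, ha]; rfl
  · exact CategoryTheory.IsHomLift.map (Stk.ofPsh (descPsh x c)).p
      (⟨g, rfl⟩ : (⟨V, DescPt.pullPt g q⟩ : Stk.EltObj (descPsh x c)) ⟶ ⟨T, q⟩)

lemma descP_locCovers {K : Precoverage Scheme.{u}} (hK : Scheme.etalePrecoverage ≤ K) :
    LocCovers (QuotSh.J K S) (descP (x := x) c) := by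
  rintro ⟨T, q⟩
  let q : DescPt x c T := q
  let T' := pullback c q.b
  let p : T' ⟶ T := pullback.snd c q.b
  have sq := (IsPullback.of_hasPullback c q.b).map (Over.forget S)
  have : Etale p.left := MorphismProperty.of_isPullback sq ‹_›
  have : Surjective p.left := MorphismProperty.of_isPullback sq ‹_›
  refine ⟨Sieve.ofArrows (fun _ : PUnit.{u + 1} => T') (fun _ => p),
    quotShJ_mono hK _ (H12AlgSp.single_mem_etale p), ?_⟩
  rintro V f ⟨_, h, _, ⟨_⟩, rfl⟩
  refine ⟨⟨V, DescPt.pullPt (h ≫ p) q, h ≫ pullback.fst c q.b, ?_⟩,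
    (⟨h ≫ p, rfl⟩ : (⟨V, DescPt.pullPt (h ≫ p) q⟩ : Stk.EltObj (descPsh x c)) ⟶ ⟨T, q⟩), ?_⟩
  · change (h ≫ pullback.fst c q.b) ≫ c = (h ≫ p) ≫ q.b
    rw [Category.assoc, Category.assoc, pullback.condition]
  · exact CategoryTheory.IsHomLift.map (Stk.ofPsh (descPsh x c)).p
      (⟨h ≫ p, rfl⟩ : (⟨V, DescPt.pullPt (h ≫ p) q⟩ : Stk.EltObj (descPsh x c)) ⟶ ⟨T, q⟩)

/-- The functor to the stack: at a point with a section of the cover it is the object of the chart. -/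
theorem exists_descFun {K : Precoverage Scheme.{u}} (hK : Scheme.etalePrecoverage ≤ K)
    (hX : Stk.IsStack (QuotSh.J K S) 𝒳) :
    ∃ (F : Stk.ofPsh (descPsh x c) ⥤ᵇ 𝒳) (v : ∀ i, descQ c i ⟶ F.obj (descP c i)),
      (∀ i : DescIdx x c, 𝒳.p.IsHomLift (𝟙 i.1) (v i)) ∧
        ∀ {i j : DescIdx x c} (α : descP c i ⟶ descP c j), descMap c α ≫ v j = v i ≫ F.map α :=
  exists_extension (inferInstanceAs (FibCat.IsFibGrpd (Stk.EltObj.forget (descPsh x c)))) hX (descHomMap c hX.1) (descP_pullStable c) (descP_locCovers c hK)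

end Groth.Agent.H14AlgSt
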