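import Groth.Agent.H14AlgSt.DescSpace
import Groth.Agent.H14AlgSt.DescFun
import Groth.Agent.H14AlgSt.SourceDescent
import Groth.Agent.H14AlgSt.SpaceStack
import Groth.Agent.H13AlgSp.SmoothSource
import Groth.Agent.H14AlgSt.CoverCriterion
import Groth.Agent.H14AlgSt.DiagProps

/-!
# The descent data form a smooth chart
-/

set_option autoImplicit false
set_option linter.unusedVariables false
set_option backward.isDefEq.respectTransparency false
set_option backward.isDefEq.respectTransparency.types false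

universe u

open CategoryTheory CategoryTheory.Functor Opposite AlgebraicGeometry CategoryTheory.Limits

noncomputable section

namespace Groth.Agent.H14AlgSt

open H14Fib H14Stk Groth.Agent.H13AlgSp

variable {S : Scheme.{u}} {𝒳 : AlgSt.Cat S} {W B C V : Over S} {x : FibCat.overCat W ⥤ᵇ 𝒳}
  (c : C ⟶ B) [Etale c.left] [Surjective c.left] {π : V ⟶ B} {n : ℕ} {σ : Fin (n + 1) → (V ⟶ C)}

/-- The functor of descent data, pulled back to a splitting, is the chart composed with the source. -/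
theorem nonempty_iso_of_split (h𝒳 : FibCat.IsFibGrpd 𝒳.p)
    (hQ : Presheaf.IsSheaf (AlgSp.J S) (descPsh x c)) (hsp : SplitBy c π σ)
    (F : Stk.ofPsh (descPsh x c) ⥤ᵇ 𝒳) (ν : ∀ i, descQ c i ⟶ F.obj (descP c i))
    (hν : ∀ i : DescIdx x c, 𝒳.p.IsHomLift (𝟙 i.1) (ν i))
    (hνn : ∀ {i j : DescIdx x c} (α : descP c i ⟶ descP c j), descMap c α ≫ ν j = ν i ≫ F.map α)
    (wG : pullback (descBaseMap x c hQ) ((AlgSp.yon S).map π) ⟶ (AlgSp.yon S).obj W)
    (hw : ∀ (T : Over S) (l : (AlgSp.yon S).obj T ⟶ pullback (descBaseMap x c hQ) ((AlgSp.yon S).map π)),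
      l ≫ wG = (AlgSp.yon S).map (toTuple hsp (splitQ hQ l) (splitV hQ l) (splitQ_b hQ l) 0).s) :
    Nonempty (BasedFunctor.comp (AlgSt.ofSpMap (pullback.fst (descBaseMap x c hQ) ((AlgSp.yon S).map π))) F ≅
      BasedFunctor.comp (BasedFunctor.comp (AlgSt.ofSpMap wG) (AlgSt.toOverCat W)) x) := by
  let G := pullback (descBaseMap x c hQ) ((AlgSp.yon S).map π)
  let p₁ : G ⟶ descSp x c hQ := pullback.fst (descBaseMap x c hQ) ((AlgSp.yon S).map π)
  let ln : ∀ a : (AlgSt.ofSp G).obj, (AlgSp.yon S).obj a.base ⟶ G := fun a =>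
    (AlgSp.J S).uliftYonedaEquiv.symm a.sec
  let qq : ∀ a : (AlgSt.ofSp G).obj, DescPt x c a.base := fun a => ((AlgSt.ofSpMap p₁).obj a).sec
  have hqq : ∀ a, splitQ hQ (ln a) = qq a := fun a => by
    refine ((AlgSp.J S).uliftYonedaEquiv_comp (ln a) p₁).trans ?_
    rw [Equiv.apply_symm_apply]
    rfl
  let ii : ∀ a : (AlgSt.ofSp G).obj, DescIdx x c := fun a =>
    ⟨a.base, qq a, splitV hQ (ln a) ≫ σ 0, by rw [← hqq a, splitQ_b, Category.assoc, hsp.w]⟩
  have he : ∀ a : (AlgSt.ofSp G).obj, (AlgSt.toOverCat W).obj ((AlgSt.ofSpMap wG).obj a) =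
      Over.mk ((ii a).2.1.w (ii a).2.2.1 (ii a).2.2.2) := fun a => by
    refine congrArg Over.mk ?_
    change ((ConcreteCategory.hom (wG.hom.app (op a.base))) a.sec).down = _
    have h1 : (AlgSp.J S).uliftYonedaEquiv (ln a ≫ wG) = (ConcreteCategory.hom (wG.hom.app (op a.base))) a.sec := by
      rw [(AlgSp.J S).uliftYonedaEquiv_comp, Equiv.apply_symm_apply]
    rw [← h1, hw]
    refine (congrArg ULift.down ((AlgSp.J S).uliftYonedaEquiv_uliftYoneda_map _)).trans ?_
    exact congrArg Arr.s (DescPt.r_eq_of_eq (hqq a) (𝟙 _) _ _ (tuple_sec hsp (splitQ_b hQ (ln a)) 0)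
      (tuple_sec hsp (splitQ_b hQ (ln a)) 0))
  have hνi : ∀ i, IsIso (ν i) := fun i =>
    haveI := hν i
    isIso_of_fibGrpd h𝒳 (𝟙 i.1) (ν i)
  refine ⟨mkIso (fun a => (asIso (ν (ii a))).symm ≪≫ eqToIso (congrArg x.obj (he a)).symm) (fun {a b} φ => ?_)
    (fun a => ?_)⟩
  · let α : descP c (ii a) ⟶ descP c (ii b) := (AlgSt.ofSpMap p₁).map φ
    have hl : ln a = (AlgSp.yon S).map φ.hom ≫ ln b := by
      apply (AlgSp.J S).uliftYonedaEquiv.injective
      rw [Equiv.apply_symm_apply, ← GrothendieckTopology.uliftYonedaEquiv_naturality, Equiv.apply_symm_apply]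
      exact φ.map_sec.symm
    have hv : splitV hQ (ln a) = φ.hom ≫ splitV hQ (ln b) := by rw [hl, splitV_comp]
    have h1 : descArr c α = Arr.id' x ((ii a).2.1.w (ii a).2.2.1 (ii a).2.2.2) :=
      ((ii a).2.1.r_congr rfl rfl (by
        change φ.hom ≫ splitV hQ (ln b) ≫ σ 0 = splitV hQ (ln a) ≫ σ 0
        rw [hv, Category.assoc]) _ _).trans (DescPt.r_self _ h𝒳 _ _ _)
    have e₀ : φ.hom ≫ (ii b).2.1.w (ii b).2.2.1 (ii b).2.2.2 = (ii a).2.1.w (ii a).2.2.1 (ii a).2.2.2 :=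
      (descArr_t c α).trans (congrArg Arr.t h1)
    have h2 : descMap c α = xm x φ.hom e₀ :=
      (arrMap_congr x h1 rfl _ _).trans (arrMap_id' x _ _ _ _)
    have h3 : F.map α ≫ inv (ν (ii b)) = inv (ν (ii a)) ≫ xm x φ.hom e₀ := by
      rw [IsIso.eq_inv_comp, ← Category.assoc, ← hνn α, h2, Category.assoc, IsIso.hom_inv_id, Category.comp_id]
    change F.map α ≫ inv (ν (ii b)) ≫ eqToHom (congrArg x.obj (he b)).symm =
      (inv (ν (ii a)) ≫ eqToHom (congrArg x.obj (he a)).symm) ≫ x.map ((AlgSt.toOverCat W).map ((AlgSt.ofSpMap wG).map φ))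
    rw [reassoc_of% h3, Category.assoc]
    congr 1
    change x.map (Over.homMk φ.hom e₀) ≫ eqToHom (congrArg x.obj (he b).symm) =
      eqToHom (congrArg x.obj (he a).symm) ≫ x.map _
    rw [← eqToHom_map x.toFunctor (he b).symm, ← eqToHom_map x.toFunctor (he a).symm,
      ← x.toFunctor.map_comp, ← x.toFunctor.map_comp]
    refine congrArg x.map (Over.OverMorphism.ext ?_)
    rw [Over.comp_left, Over.comp_left, Over.eqToHom_left, Over.eqToHom_left]
    exact (Category.comp_id _).trans (Category.id_comp _).symm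
  · exact homLift_id_comp (by
      have := hν (ii a)
      exact IsHomLift.lift_id_inv_isIso 𝒳.p a.base (ν (ii a))) (IsHomLift.eqToHom_domain_lift_id (congrArg x.obj (he a)).symm
        (xo_obj x _ : 𝒳.p.obj (xo x ((ii a).2.1.w (ii a).2.2.1 (ii a).2.2.2)) = a.base))

/-- The descent data along an étale surjective cover which splits over an étale surjective `π` form a
smooth chart. -/
theorem exists_descChart {K : Precoverage Scheme.{u}} (hK : Scheme.etalePrecoverage ≤ K)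
    (hX : AlgSt.IsAlgStack K 𝒳) (hsp : SplitBy c π σ) (hπe : Etale π.left) (hπs : Surjective π.left)
    [Smooth V.hom] (hx : AlgSt.RepByAlgSpWith (AlgSp.LocP @Smooth) x) :
    ∃ (hQ : Presheaf.IsSheaf (AlgSp.J S) (descPsh x c)) (_ : AlgSp.IsAlgSpace (descSp x c hQ))
      (F : AlgSt.ofSp (descSp x c hQ) ⥤ᵇ 𝒳) (ν : ∀ i : DescIdx x c, descQ c i ⟶ F.obj (descP c i)),
      (∀ i : DescIdx x c, 𝒳.p.IsHomLift (𝟙 i.1) (ν i)) ∧
        (∀ {i j : DescIdx x c} (α : descP c i ⟶ descP c j), descMap c α ≫ ν j = ν i ≫ F.map α) ∧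
          AlgSt.RepByAlgSpWith (AlgSp.LocP @Smooth) F := by
  have h𝒳 := hX.isStack.1
  obtain ⟨hA, hRA, -⟩ := arrPsh_smooth h𝒳 hx
  have hQ := isSheaf_descPsh (c := c) h𝒳 hA
  obtain ⟨F, ν, hν, hνn⟩ := exists_descFun (x := x) c hK hX.isStack
  obtain ⟨hG, wG, hwG, hw⟩ := exists_splitSpace hQ h𝒳 hsp hx
  let p₁ := pullback.fst (descBaseMap x c hQ) ((AlgSp.yon S).map π)
  have sq := IsPullback.of_hasPullback (descBaseMap x c hQ) ((AlgSp.yon S).map π)
  have hpe : AlgSp.RepWith @Etale p₁ :=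
    H12AlgSp.repWith_of_isPullback sq.flip ((AlgSp.repWith_yon_map_iff _ _).2 hπe)
  have hps : AlgSp.RepWith @Surjective p₁ :=
    H12AlgSp.repWith_of_isPullback sq.flip ((AlgSp.repWith_yon_map_iff _ _).2 hπs)
  have hQA : AlgSp.IsAlgSpace (descSp x c hQ) :=
    H12AlgSp.isAlgSpace_of_repWith_etale_surjective hG p₁ hpe hps
  refine ⟨hQ, hQA, F, ν, hν, hνn, ?_⟩
  let Q' : MorphismProperty (AlgSp.Sp S) := AlgSp.LocP @Smooth ⊓ AlgSp.IsSurjectiveMor
  have hx' : AlgSt.RepByAlgSpWith Q' (AlgSt.ofSpMap p₁) := by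
    refine repWith_ofSpMap_of_representable Q' p₁ hpe.1 fun U T g fst v sqv => ?_
    have hv : Etale v.left := hpe.property g fst v sqv
    have hvs : Surjective v.left := hps.property g fst v sqv
    exact ⟨H12AlgSp.locP_of_one_chart H12AlgSp.etLocal_smooth v (H12AlgSp.repWith_of_isIso (𝟙 _))
      (H12AlgSp.repWith_of_isIso (𝟙 _)) (H12AlgSp.repWith_of_isIso (𝟙 _))
      (by rw [Category.id_comp, Category.comp_id]) (inferInstanceAs (Smooth v.left)),
      H12AlgSp.surjective_map_of_repWith le_rfl ((AlgSp.repWith_yon_map_iff _ _).2 hvs)⟩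
  obtain ⟨k⟩ := nonempty_iso_of_split c h𝒳 hQ hsp F ν hν hνn wG hw
  have hP' : ∀ T : AlgSp.Sp S, FibCat.IsFibGrpd (AlgSt.ofSp T).p := fun T =>
    inferInstanceAs (FibCat.IsFibGrpd (Stk.EltObj.forget T.obj))
  have := respectsIso_locP (S := S) @Smooth
  have hW : AlgSt.RepByAlgSpWith (AlgSp.LocP @Smooth)
      (BasedFunctor.comp (AlgSt.ofSpMap wG) (AlgSt.toOverCat W)) :=
    (repWith_comp_equiv_iff (toOverCat_isEquivOver W)).2
      (repWith_ofSpMap_of_baseStable (baseStable_locP H12AlgSp.etLocal_smooth) hG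
        (AlgSp.IsAlgSpace.yon_obj W) wG hwG)
  have hcomp : AlgSt.RepByAlgSpWith (AlgSp.LocP @Smooth) (BasedFunctor.comp (AlgSt.ofSpMap p₁) F) :=
    repWith_of_iso k.symm (repWith_locP_comp H12AlgSp.etLocal_smooth (hP' _) (overCat_fibSet W).1 hW hx)
  exact repWith_of_comp_cover (sourceIsoInv_locP _)
    (sourceIsoInv_inf (sourceIsoInv_locP _) sourceIsoInv_surjective)
    (testOnSchemes_inf (testOnSchemes_locP _) testOnSchemes_surjective)
    (fun A B C hA hB hC τ π' hτ h => H13AlgSp.locP_smooth_of_surjective hA hB hC hτ.2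
      (H12AlgSp.locP_mono (fun _ _ f (_ : Smooth f) => inferInstanceAs (Flat f)) hτ.1)
      (H12AlgSp.locP_mono (fun _ _ f (_ : Smooth f) => inferInstanceAs (LocallyOfFinitePresentation f)) hτ.1) h)
    (hP' _) (hP' _) (repByAlgSp1_of_diag h𝒳 hX.diag (repByAlgSp_ofSp ⟨_, hQA⟩) F) hx' hcomp

end Groth.Agent.H14AlgSt
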