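import Groth.Agent.H14AlgSt.DescSplit
import Groth.Agent.H14Quot.Yon
import Groth.Agent.H12AlgSp.Bootstrap

/-!
# The sheaf of descent data is an algebraic space

Over a splitting of the cover it is the space of tuples, smooth over `W`.
-/

set_option autoImplicit false
set_option linter.unusedVariables false
set_option backward.isDefEq.respectTransparency false
set_option backward.isDefEq.respectTransparency.types false

universe u

open CategoryTheory CategoryTheory.Functor Opposite AlgebraicGeometry CategoryTheory.Limits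

noncomputable section

namespace Groth.Agent.H14AlgSt

open H14Fib H14Stk Groth.Agent.H13AlgSp

variable {S : Scheme.{u}} {𝒳 : AlgSt.Cat S} {W B C V : Over S} {x : FibCat.overCat W ⥤ᵇ 𝒳} {c : C ⟶ B}

variable (x c) in
/-- The point of the base of a descent datum. -/
def descBase : descPsh x c ⟶ (AlgSp.pyon S).obj B where
  app T := ↾fun q => ⟨DescPt.b q⟩

variable (hQ : Presheaf.IsSheaf (AlgSp.J S) (descPsh x c))

variable (x c) in
/-- The sheaf of descent data. -/
abbrev descSp : AlgSp.Sp S := ⟨descPsh x c, hQ⟩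

variable (x c) in
/-- The map to the base, on sheaves. -/
abbrev descBaseMap : descSp x c hQ ⟶ (AlgSp.yon S).obj B := ObjectProperty.homMk (descBase x c)

/-- Points of the sheaf of descent data. -/
def descPt {T : Over S} : ((AlgSp.yon S).obj T ⟶ descSp x c hQ) ≃ DescPt x c T :=
  (AlgSp.J S).uliftYonedaEquiv

lemma descPt_comp {T T' : Over S} (k : T' ⟶ T) (l : (AlgSp.yon S).obj T ⟶ descSp x c hQ) :
    descPt hQ ((AlgSp.yon S).map k ≫ l) = DescPt.pullPt k (descPt hQ l) :=
  ((AlgSp.J S).uliftYonedaEquiv_naturality l k).symm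

lemma descPt_base {T : Over S} (l : (AlgSp.yon S).obj T ⟶ descSp x c hQ) :
    l ≫ descBaseMap x c hQ = (AlgSp.yon S).map (descPt hQ l).b := by
  apply (AlgSp.J S).uliftYonedaEquiv.injective
  refine ((AlgSp.J S).uliftYonedaEquiv_comp l _).trans ?_
  exact ((AlgSp.J S).uliftYonedaEquiv_uliftYoneda_map _).symm

variable {π : V ⟶ B} {n : ℕ} {σ : Fin (n + 1) → (V ⟶ C)}

/-- The point of the splitting of a point of the base change. -/
def splitV {T : Over S} (l : (AlgSp.yon S).obj T ⟶ pullback (descBaseMap x c hQ) ((AlgSp.yon S).map π)) :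
    T ⟶ V :=
  (AlgSp.yon S).preimage (l ≫ pullback.snd _ _)

/-- The descent datum of a point of the base change. -/
def splitQ {T : Over S} (l : (AlgSp.yon S).obj T ⟶ pullback (descBaseMap x c hQ) ((AlgSp.yon S).map π)) :
    DescPt x c T :=
  descPt hQ (l ≫ pullback.fst _ _)

lemma splitQ_b {T : Over S}
    (l : (AlgSp.yon S).obj T ⟶ pullback (descBaseMap x c hQ) ((AlgSp.yon S).map π)) :
    (splitQ hQ l).b = splitV hQ l ≫ π := by
  apply (AlgSp.yon S).map_injective
  rw [Functor.map_comp, splitV, Functor.map_preimage, splitQ, ← descPt_base, Category.assoc, Category.assoc,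
    pullback.condition]

lemma splitV_comp {T T' : Over S} (k : T' ⟶ T)
    (l : (AlgSp.yon S).obj T ⟶ pullback (descBaseMap x c hQ) ((AlgSp.yon S).map π)) :
    splitV hQ ((AlgSp.yon S).map k ≫ l) = k ≫ splitV hQ l := by
  apply (AlgSp.yon S).map_injective
  simp [splitV]

lemma splitQ_comp {T T' : Over S} (k : T' ⟶ T)
    (l : (AlgSp.yon S).obj T ⟶ pullback (descBaseMap x c hQ) ((AlgSp.yon S).map π)) :
    splitQ hQ ((AlgSp.yon S).map k ≫ l) = DescPt.pullPt k (splitQ hQ l) := by
  rw [splitQ, Category.assoc, descPt_comp]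
  rfl

lemma toTuple_congr (hsp : SplitBy c π σ) {T : Over S} {q q' : DescPt x c T} (hq : q = q') {v v' : T ⟶ V}
    (hv : v = v') (h : q.b = v ≫ π) (i : Fin (n + 1)) :
    toTuple hsp q v h i = toTuple hsp q' v' (hq ▸ hv ▸ h) i := by
  subst hq hv
  rfl

lemma toTuple_pull (h𝒳 : FibCat.IsFibGrpd 𝒳.p) (hsp : SplitBy c π σ) {T T' : Over S} (k : T' ⟶ T)
    (q : DescPt x c T) (v : T ⟶ V) (h : q.b = v ≫ π) (h' : (DescPt.pullPt k q).b = (k ≫ v) ≫ π)
    (i : Fin (n + 1)) :
    toTuple hsp (DescPt.pullPt k q) (k ≫ v) h' i = Arr.pull h𝒳 k (toTuple hsp q v h i) := by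
  refine Arr.eq_pull h𝒳 ?_
  have hh : ∀ j, (k ≫ v ≫ σ j) ≫ c = 𝟙 T' ≫ (DescPt.pullPt k q).b := fun j => by
    rw [Category.id_comp, h', Category.assoc, Category.assoc, Category.assoc, hsp.w]
  have := DescPt.pull_r' (rfl : DescPt.pullPt k q = _) (v ≫ σ 0) (v ≫ σ i) (tuple_sec hsp h 0)
    (tuple_sec hsp h i) (hh 0) (hh i)
  rw [(DescPt.pullPt k q).r_congr rfl (Category.assoc k v _).symm (Category.assoc k v _).symm] at this
  exact this

/-- Over a splitting, the sheaf of descent data is an algebraic space smooth over the chart. -/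
theorem exists_splitSpace (h𝒳 : FibCat.IsFibGrpd 𝒳.p) (hsp : SplitBy c π σ)
    (hx : AlgSt.RepByAlgSpWith (AlgSp.LocP @Smooth) x) [Smooth V.hom] :
    AlgSp.IsAlgSpace (pullback (descBaseMap x c hQ) ((AlgSp.yon S).map π)) ∧
      ∃ wG : pullback (descBaseMap x c hQ) ((AlgSp.yon S).map π) ⟶ (AlgSp.yon S).obj W,
        AlgSp.LocP @Smooth wG ∧ ∀ (T : Over S)
          (l : (AlgSp.yon S).obj T ⟶ pullback (descBaseMap x c hQ) ((AlgSp.yon S).map π)),
          l ≫ wG = (AlgSp.yon S).map (toTuple hsp (splitQ hQ l) (splitV hQ l) (splitQ_b hQ l) 0).s := by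
  obtain ⟨hA, hRA, hs⟩ := arrPsh_smooth h𝒳 hx
  let G := pullback (descBaseMap x c hQ) ((AlgSp.yon S).map π)
  let W₀ : Over S := Over.mk (pullback.fst W.hom V.hom ≫ W.hom)
  let ρ : W₀ ⟶ W := Over.homMk (pullback.fst W.hom V.hom) rfl
  let η : W₀ ⟶ V := Over.homMk (pullback.snd W.hom V.hom) pullback.condition.symm
  have hρ : Smooth ρ.left := inferInstanceAs (Smooth (pullback.fst W.hom V.hom))
  have hlift : ∀ {T : Over S} (w : T ⟶ W) (v : T ⟶ V), ∃! u : T ⟶ W₀, u ≫ ρ = w ∧ u ≫ η = v := by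
    intro T w v
    refine ⟨Over.homMk (pullback.lift w.left v.left ((Over.w w).trans (Over.w v).symm))
      ((pullback.lift_fst_assoc _ _ _ _).trans (Over.w w)), ⟨?_, ?_⟩, fun u hu => ?_⟩
    · exact Over.OverMorphism.ext (pullback.lift_fst _ _ _)
    · exact Over.OverMorphism.ext (pullback.lift_snd _ _ _)
    · refine Over.OverMorphism.ext (pullback.hom_ext ?_ ?_)
      · exact (congrArg (fun t : T ⟶ W => t.left) hu.1).trans (pullback.lift_fst _ _ _).symm
      · exact (congrArg (fun t : T ⟶ V => t.left) hu.2).trans (pullback.lift_snd _ _ _).symm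
  obtain ⟨P, p, f, hP, hp, hf, hu⟩ := exists_tupleSpace h𝒳 hA ρ hRA hs n
  let tup : ∀ {T : Over S} (l : (AlgSp.yon S).obj T ⟶ G), Fin (n + 1) → Arr x T := fun l =>
    toTuple hsp (splitQ hQ l) (splitV hQ l) (splitQ_b hQ l)
  have htup : ∀ {T T' : Over S} (k : T' ⟶ T) (l : (AlgSp.yon S).obj T ⟶ G) (i : Fin (n + 1)),
      tup ((AlgSp.yon S).map k ≫ l) i = Arr.pull h𝒳 k (tup l i) := fun k l i =>
    (toTuple_congr hsp (splitQ_comp hQ k l) (splitV_comp hQ k l) _ i).trans (toTuple_pull h𝒳 hsp k _ _ _ _ i)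
  have hU : ∀ {T : Over S} (l : (AlgSp.yon S).obj T ⟶ G),
      ∃! u : T ⟶ W₀, u ≫ ρ = (tup l 0).s ∧ u ≫ η = splitV hQ l := fun l => hlift _ _
  have hX : ∀ {T : Over S} (l : (AlgSp.yon S).obj T ⟶ G), ∃! m : (AlgSp.yon S).obj T ⟶ P,
      m ≫ p = (AlgSp.yon S).map (hU l).exists.choose ∧ ∀ i, arrPt h𝒳 hA (m ≫ f i) = tup l i.succ :=
    fun l => hu _ _ _ fun i => (toTuple_s hsp _ _ _ _).trans (hU l).exists.choose_spec.1.symm
  let Ξ : G ⟶ P := H14Quot.homOfPoints (fun T l => (hX l).exists.choose) (fun T T' k l => by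
    refine (hX ((AlgSp.yon S).map k ≫ l)).unique (hX _).exists.choose_spec ⟨?_, fun i => ?_⟩
    · rw [Category.assoc, (hX l).exists.choose_spec.1, ← Functor.map_comp]
      refine congrArg (AlgSp.yon S).map ((hU ((AlgSp.yon S).map k ≫ l)).unique ⟨?_, ?_⟩
        (hU _).exists.choose_spec)
      · rw [Category.assoc, (hU l).exists.choose_spec.1, htup, Arr.pull_s]
      · rw [Category.assoc, (hU l).exists.choose_spec.2, splitV_comp]
    · rw [Category.assoc, arrPt_comp, (hX l).exists.choose_spec.2, htup])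
  have hΞ : ∀ {T : Over S} (l : (AlgSp.yon S).obj T ⟶ G), l ≫ Ξ = (hX l).exists.choose :=
    fun l => H14Quot.comp_homOfPoints _ _ l
  have htup0 : ∀ {T : Over S} (l : (AlgSp.yon S).obj T ⟶ G), tup l 0 = Arr.id' x (tup l 0).s :=
    fun l => toTuple_zero h𝒳 hsp _ _ _
  have : Mono Ξ := H12AlgSp.mono_of_yon fun T a b e => by
    rw [hΞ, hΞ] at e
    have hu' : (hU a).exists.choose = (hU b).exists.choose := (AlgSp.yon S).map_injective (by
      rw [← (hX a).exists.choose_spec.1, e, (hX b).exists.choose_spec.1])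
    have hv : splitV hQ a = splitV hQ b := by
      rw [← (hU a).exists.choose_spec.2, hu', (hU b).exists.choose_spec.2]
    have hw : (tup a 0).s = (tup b 0).s := by
      rw [← (hU a).exists.choose_spec.1, hu', (hU b).exists.choose_spec.1]
    have ht : tup a = tup b := funext fun i => Fin.cases (by rw [htup0 a, htup0 b, hw]) (fun j => by
      rw [← (hX a).exists.choose_spec.2 j, e, (hX b).exists.choose_spec.2 j]) i
    have hq : splitQ hQ a = splitQ hQ b := by
      refine (ofTuple_toTuple h𝒳 hA hsp _ _ (splitQ_b hQ a)).symm.trans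
        (Eq.trans ?_ (ofTuple_toTuple h𝒳 hA hsp _ _ (splitQ_b hQ b)))
      congr 1
    apply pullback.hom_ext
    · exact (descPt hQ).injective hq
    · have := congrArg (AlgSp.yon S).map hv
      rwa [splitV, splitV, Functor.map_preimage, Functor.map_preimage] at this
  have : IsIso Ξ := H13AlgSp.isIso_of_mono_of_local_lifts Ξ fun T y => by
    obtain ⟨u, hu'⟩ := (AlgSp.yon S).map_surjective (y ≫ p)
    let w := u ≫ ρ
    let v := u ≫ η
    let F : Fin (n + 1) → Arr x T := Fin.cons (Arr.id' x w) (fun i => arrPt h𝒳 hA (y ≫ f i))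
    have hFs : ∀ i, (F i).s = w := by
      intro i
      refine Fin.cases ?_ (fun j => ?_) i
      · rfl
      · simp only [F, Fin.cons_succ]
        apply (AlgSp.yon S).map_injective
        rw [← arrPt_src, Category.assoc, hf, ← Category.assoc, ← hu', ← Functor.map_comp]
    let q := ofTuple h𝒳 hA hsp v w F hFs
    let l : (AlgSp.yon S).obj T ⟶ G := pullback.lift ((descPt hQ).symm q) ((AlgSp.yon S).map v) (by
      rw [descPt_base, Equiv.apply_symm_apply, ← Functor.map_comp]
      rfl)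
    have hq : splitQ hQ l = q := by rw [splitQ, pullback.lift_fst, Equiv.apply_symm_apply]
    have hv : splitV hQ l = v := (AlgSp.yon S).map_injective (by
      rw [splitV, Functor.map_preimage, pullback.lift_snd])
    have ht : ∀ i, tup l i = F i := fun i =>
      (toTuple_congr hsp hq hv (splitQ_b hQ l) i).trans (toTuple_ofTuple h𝒳 hA hsp v w F hFs rfl i)
    have hl : l ≫ Ξ = y := by
      rw [hΞ]
      refine (hX l).unique (hX l).exists.choose_spec ⟨?_, fun i => ?_⟩
      · rw [← hu']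
        refine congrArg (AlgSp.yon S).map ((hU l).unique ⟨?_, hv.symm⟩ (hU l).exists.choose_spec)
        rw [ht 0]
        rfl
      · rw [ht i.succ]
        simp [F]
    exact ⟨PUnit.{u + 1}, fun _ => T, fun _ => 𝟙 T, H13AlgSp.ofArrows_mem_J _
      (fun _ => inferInstanceAs (Flat (𝟙 T.left))) (fun _ => inferInstanceAs (LocallyOfFinitePresentation (𝟙 T.left)))
      (fun t => ⟨⟨⟩, t, rfl⟩), fun _ => ⟨l, by rw [hl, CategoryTheory.Functor.map_id, Category.id_comp]⟩⟩
  refine ⟨AlgSp.IsAlgSpace.of_iso hP (asIso Ξ).symm, Ξ ≫ p ≫ (AlgSp.yon S).map ρ, ?_, fun T l => ?_⟩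
  · have := respectsIso_locP (S := S) @Smooth
    rw [MorphismProperty.cancel_left_of_respectsIso (AlgSp.LocP @Smooth)]
    exact H12AlgSp.locP_comp H12AlgSp.etLocal_smooth hP (AlgSp.IsAlgSpace.yon_obj W₀) (AlgSp.IsAlgSpace.yon_obj W) hp
      (H12AlgSp.locP_of_one_chart H12AlgSp.etLocal_smooth ρ (H12AlgSp.repWith_of_isIso (𝟙 _))
        (H12AlgSp.repWith_of_isIso (𝟙 _)) (H12AlgSp.repWith_of_isIso (𝟙 _))
        (by rw [Category.id_comp, Category.comp_id]) hρ)
  · rw [← Category.assoc l Ξ, hΞ]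
    exact (Category.assoc _ _ _).symm.trans ((congrArg (· ≫ (AlgSp.yon S).map ρ) (hX l).exists.choose_spec.1).trans
      (((AlgSp.yon S).map_comp _ _).symm.trans (congrArg (AlgSp.yon S).map (hU l).exists.choose_spec.1)))

end Groth.Agent.H14AlgSt
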