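import Groth.Agent.H14AlgSt.DescFun
import Groth.Agent.H14AlgSt.DescSpace

/-!
# The descent datum of an object which comes from the chart over the cover
-/

set_option autoImplicit false
set_option linter.unusedVariables false
set_option backward.isDefEq.respectTransparency false
set_option backward.isDefEq.respectTransparency.types false

universe u

open CategoryTheory CategoryTheory.Functor Opposite AlgebraicGeometry CategoryTheory.Limits

noncomputable section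

namespace Groth.Agent.H14AlgSt

open H14Fib H14Stk

variable {S : Scheme.{u}} {𝒳 : AlgSt.Cat S} {W B C K K' : Over S} (x : FibCat.overCat W ⥤ᵇ 𝒳)
  (x₀ : FibCat.overCat K ⥤ᵇ 𝒳) {pK : K' ⟶ K} {u : K' ⟶ W}
  (β : BasedFunctor.comp (AlgSt.overMap u) x ≅ BasedFunctor.comp (AlgSt.overMap pK) x₀)

/-- The comparison of the object of the chart with the given object. -/
def gam {T : Over S} (a : T ⟶ K') {g : T ⟶ K} (e : a ≫ pK = g) :
    xo x (a ≫ u) ≅ x₀.obj (Over.mk g) :=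
  ((BasedNatTrans.forgetful _ _).mapIso β).app (Over.mk a) ≪≫ eqToIso (congrArg x₀.obj (congrArg Over.mk e))

lemma gam_lift {T : Over S} (a : T ⟶ K') {g : T ⟶ K} (e : a ≫ pK = g) :
    𝒳.p.IsHomLift (𝟙 T) (gam x x₀ β a e).hom :=
  homLift_id_comp (BasedNatTrans.isHomLift β.hom rfl)
    (IsHomLift.eqToHom_domain_lift_id (congrArg x₀.obj (congrArg Over.mk e)) (x₀.w_obj (Over.mk (a ≫ pK))))

lemma gam_nat {T T' : Over S} (h : T' ⟶ T) {a' : T' ⟶ K'} {a : T ⟶ K'} (ea : h ≫ a = a') {g' : T' ⟶ K}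
    {g : T ⟶ K} (e' : a' ≫ pK = g') (e : a ≫ pK = g) (eg : h ≫ g = g') (eu : h ≫ a ≫ u = a' ≫ u) :
    (gam x x₀ β a' e').hom ≫ x₀.map (Over.homMk h eg : Over.mk g' ⟶ Over.mk g) =
      xm x h eu ≫ (gam x x₀ β a e).hom := by
  subst e e' ea
  simp only [gam, Iso.trans_hom, eqToIso.hom, eqToHom_refl, Category.comp_id]
  exact (β.hom.toNatTrans.naturality (Over.homMk h : Over.mk (h ≫ a) ⟶ Over.mk a)).symm

variable (c : C ⟶ B) {b : K ⟶ B} {u₁ : K' ⟶ C}
  (hpb : ∀ {T : Over S} (g : T ⟶ K) (a : T ⟶ C), a ≫ c = g ≫ b → ∃! a' : T ⟶ K', a' ≫ pK = g ∧ a' ≫ u₁ = a)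

/-- The lift to the cover of the given field. -/
def liftK {T : Over S} (g : T ⟶ K) (a : T ⟶ C) (h : a ≫ c = g ≫ b) : T ⟶ K' := (hpb g a h).exists.choose

lemma liftK_p {T : Over S} (g : T ⟶ K) (a : T ⟶ C) (h : a ≫ c = g ≫ b) : liftK c hpb g a h ≫ pK = g :=
  (hpb g a h).exists.choose_spec.1

lemma liftK_nat {T T' : Over S} (k : T' ⟶ T) {g : T ⟶ K} {g' : T' ⟶ K} (eg : k ≫ g = g') {a : T ⟶ C}
    {a' : T' ⟶ C} (ea : k ≫ a = a') (h : a ≫ c = g ≫ b) (h' : a' ≫ c = g' ≫ b) :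
    k ≫ liftK c hpb g a h = liftK c hpb g' a' h' :=
  (hpb g' a' h').unique
    ⟨by rw [Category.assoc, liftK_p, eg],
      by rw [Category.assoc, liftK, (hpb g a h).exists.choose_spec.2, ea]⟩
    (hpb g' a' h').exists.choose_spec

/-- The arrow of two sections of the cover. -/
def pointArr {T : Over S} (g : T ⟶ K) (a a' : T ⟶ C) (h : a ≫ c = g ≫ b) (h' : a' ≫ c = g ≫ b) : Arr x T where
  s := liftK c hpb g a h ≫ u
  t := liftK c hpb g a' h' ≫ u
  φ := (gam x x₀ β _ (liftK_p c hpb g a h)).hom ≫ (gam x x₀ β _ (liftK_p c hpb g a' h')).inv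
  lift := by
    have := gam_lift x x₀ β _ (liftK_p c hpb g a' h')
    exact homLift_id_comp (gam_lift x x₀ β _ (liftK_p c hpb g a h)) (IsHomLift.lift_id_inv 𝒳.p T _)

/-- The descent datum. -/
def pointDesc : DescPt x c K where
  b := b
  r g a a' h h' := pointArr x x₀ β c hpb g a a' h h'
  nat {T'' T'} k g a a' h h' e e' := by
    have n1 := liftK_nat c hpb k rfl rfl h e
    have n2 := liftK_nat c hpb k rfl rfl h' e'
    refine ⟨(Category.assoc _ _ _).symm.trans (congrArg (· ≫ u) n1),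
      (Category.assoc _ _ _).symm.trans (congrArg (· ≫ u) n2), ?_⟩
    change ((gam x x₀ β _ _).hom ≫ (gam x x₀ β _ _).inv) ≫ xm x k _ =
      xm x k _ ≫ (gam x x₀ β _ _).hom ≫ (gam x x₀ β _ _).inv
    rw [← cancel_mono (gam x x₀ β _ (liftK_p c hpb g a' h')).hom]
    simp only [Category.assoc, Iso.inv_hom_id, Category.comp_id]
    rw [← gam_nat x x₀ β k n2 (liftK_p c hpb _ _ e') (liftK_p c hpb g a' h') rfl, Iso.inv_hom_id_assoc,
      gam_nat x x₀ β k n1 (liftK_p c hpb _ _ e) (liftK_p c hpb g a h) rfl]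
  coc g a a' a'' h h' h'' := by
    refine ⟨rfl, Arr.ext' ⟨Category.id_comp _, Category.id_comp _, ?_⟩⟩
    simp [Arr.comp, pointArr]

/-- The map of sheaves of the datum. -/
def pointHom (hQ : Presheaf.IsSheaf (AlgSp.J S) (descPsh x c)) : (AlgSp.yon S).obj K ⟶ descSp x c hQ :=
  ObjectProperty.homMk
    { app := fun T => ↾fun z => DescPt.pullPt z.down (pointDesc x x₀ β c hpb)
      naturality := fun T T' k => by
        apply ConcreteCategory.hom_ext
        intro z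
        exact DescPt.pullPt_comp z.down k.unop _ }

/-- The functor of the datum. -/
def pointFun : FibCat.overCat K ⥤ᵇ Stk.ofPsh (descPsh x c) where
  toFunctor :=
    { obj := fun ξ => ⟨ξ.left, DescPt.pullPt ξ.hom (pointDesc x x₀ β c hpb)⟩
      map := fun {ξ ξ'} φ => ⟨φ.left, (DescPt.pullPt_comp ξ'.hom φ.left _).symm.trans
        (congrArg (fun g => DescPt.pullPt g (pointDesc x x₀ β c hpb)) (Over.w φ))⟩
      map_id := fun ξ => Stk.EltObj.hom_ext rfl
      map_comp := fun f g => Stk.EltObj.hom_ext rfl }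
  w := rfl

/-- An index of the generating family of the slice. -/
def PtIdx (c : C ⟶ B) (b : K ⟶ B) : Type (u + 1) := Σ T : Over S, Σ g : T ⟶ K, {a : T ⟶ C // a ≫ c = g ≫ b}

/-- The generating family of the slice. -/
abbrev ptP (i : PtIdx c b) : (FibCat.overCat K).obj := Over.mk i.2.1

/-- The index of an element of the family. -/
def ptIdx (i : PtIdx c b) : DescIdx x c :=
  ⟨i.1, DescPt.pullPt i.2.1 (pointDesc x x₀ β c hpb), i.2.2.1, i.2.2.2⟩

/-- The morphism of data of a morphism of the family. -/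
def ptMor {i j : PtIdx c b} (α : ptP c i ⟶ ptP c j) :
    descP c (ptIdx x x₀ β c hpb i) ⟶ descP c (ptIdx x x₀ β c hpb j) :=
  (pointFun x x₀ β c hpb).map α

lemma ptMor_id (i : PtIdx c b) : ptMor x x₀ β c hpb (𝟙 (ptP c i)) = 𝟙 _ := Stk.EltObj.hom_ext rfl

lemma ptMor_comp {i j k : PtIdx c b} (α : ptP c i ⟶ ptP c j) (α' : ptP c j ⟶ ptP c k) :
    ptMor x x₀ β c hpb (α ≫ α') = ptMor x x₀ β c hpb α ≫ ptMor x x₀ β c hpb α' := Stk.EltObj.hom_ext rfl

variable (h𝒳 : FibCat.IsFibGrpd 𝒳.p)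

/-- The functor on the family. -/
def ptHomMap : HomMap (ptP (b := b) c) (fun i => descQ c (ptIdx x x₀ β c hpb i)) where
  map α := descMap c (ptMor x x₀ β c hpb α)
  lift {i j} α V V' g hg := by
    have hg' := @BasedFunctor.preserves_isHomLift _ _ _ _ (pointFun x x₀ β c hpb) _ _ _ _ g α hg
    exact (descHomMap c h𝒳).lift (ptMor x x₀ β c hpb α) g hg'
  map_id i := (congrArg (descMap c) (ptMor_id x x₀ β c hpb i)).trans ((descHomMap c h𝒳).map_id _)
  map_comp α α' := (congrArg (descMap c) (ptMor_comp x x₀ β c hpb α α')).trans ((descHomMap c h𝒳).map_comp _ _)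

variable [Etale c.left] [Surjective c.left]

/-- The object of the datum is the given object. -/
theorem nonempty_iso_pointHom {J' : Precoverage Scheme.{u}} (hK : Scheme.etalePrecoverage ≤ J')
    (hX : Stk.IsStack (QuotSh.J J' S) 𝒳) (hQ : Presheaf.IsSheaf (AlgSp.J S) (descPsh x c))
    (F : AlgSt.ofSp (descSp x c hQ) ⥤ᵇ 𝒳) (ν : ∀ i : DescIdx x c, descQ c i ⟶ F.obj (descP c i))
    (hν : ∀ i : DescIdx x c, 𝒳.p.IsHomLift (𝟙 i.1) (ν i))
    (hνn : ∀ {i j : DescIdx x c} (α : descP c i ⟶ descP c j), descMap c α ≫ ν j = ν i ≫ F.map α) :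
    Nonempty (BasedFunctor.comp (BasedFunctor.comp (AlgSt.ofOverCat K)
      (AlgSt.ofSpMap (pointHom x x₀ β c hpb hQ))) F ≅ x₀) := by
  let E : FibCat.overCat K ⥤ᵇ AlgSt.ofSp (descSp x c hQ) := pointFun x x₀ β c hpb
  let P := ptP (b := b) c
  let ι := PtIdx c b
  let ii := ptIdx x x₀ β c hpb
  let Φ := ptHomMap x x₀ β c hpb hX.1
  have hpull : PullStable P := by
    rintro ⟨T, g, a, ha⟩ V V' k hV
    obtain rfl : T = V' := hV
    exact ⟨⟨V, k ≫ g, k ≫ a, by rw [Category.assoc, ha, Category.assoc]⟩,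
      (Over.homMk k rfl : Over.mk (k ≫ g) ⟶ Over.mk g),
      CategoryTheory.IsHomLift.map (Over.forget K) (Over.homMk k rfl : Over.mk (k ≫ g) ⟶ Over.mk g)⟩
  have hloc : LocCovers (QuotSh.J J' S) P := by
    intro ξ
    let p : pullback c (ξ.hom ≫ b) ⟶ ξ.left := pullback.snd c (ξ.hom ≫ b)
    have sq := (IsPullback.of_hasPullback c (ξ.hom ≫ b)).map (Over.forget S)
    have : Etale p.left := MorphismProperty.of_isPullback sq ‹_›
    have : Surjective p.left := MorphismProperty.of_isPullback sq ‹_›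
    refine ⟨Sieve.ofArrows (fun _ : PUnit.{u + 1} => _) (fun _ => p),
      quotShJ_mono hK _ (H12AlgSp.single_mem_etale p), ?_⟩
    rintro V f ⟨_, k, _, ⟨_⟩, rfl⟩
    refine ⟨⟨V, (k ≫ p) ≫ ξ.hom, k ≫ pullback.fst c (ξ.hom ≫ b), ?_⟩,
      (Over.homMk (k ≫ p) rfl : Over.mk ((k ≫ p) ≫ ξ.hom) ⟶ ξ),
      CategoryTheory.IsHomLift.map (Over.forget K) (Over.homMk (k ≫ p) rfl : Over.mk ((k ≫ p) ≫ ξ.hom) ⟶ ξ)⟩
    rw [Category.assoc, pullback.condition, Category.assoc, Category.assoc]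
  have hl : ∀ i : ι, i.2.2.1 ≫ c = (𝟙 i.1 ≫ i.2.1) ≫ b := fun i => by rw [Category.id_comp]; exact i.2.2.2
  let w : ∀ i : ι, descQ c (ii i) ⟶ x₀.obj (P i) := fun i =>
    (gam x x₀ β (liftK c hpb (𝟙 i.1 ≫ i.2.1) i.2.2.1 (hl i))
      ((liftK_p c hpb _ _ (hl i)).trans (Category.id_comp _))).hom
  suffices hE : Nonempty (BasedFunctor.comp E F ≅ x₀) from hE
  refine iso_of_agree (H14Fib.overCat_fibSet K).1 (isPrestack_of_isStack hX) Φ hpull hloc
    (BasedFunctor.comp E F) x₀ (fun i => ν (ii i)) (fun i => hν (ii i))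
    (fun {i j} α => hνn (ptMor x x₀ β c hpb α)) w (fun i => gam_lift x x₀ β _ _)
    (fun {i j} α => ?_)
  let h : i.1 ⟶ j.1 := α.left
  have eg : h ≫ j.2.1 = i.2.1 := Over.w α
  have e₂ : (h ≫ j.2.2.1) ≫ c = (𝟙 i.1 ≫ i.2.1) ≫ b := by
    rw [Category.assoc, j.2.2.2, Category.id_comp, ← eg, Category.assoc]
  have n := liftK_nat c hpb h (g := 𝟙 j.1 ≫ j.2.1) (g' := 𝟙 i.1 ≫ i.2.1)
    (by rw [Category.id_comp, Category.id_comp, eg]) rfl (hl j) e₂
  have eu : h ≫ liftK c hpb (𝟙 j.1 ≫ j.2.1) j.2.2.1 (hl j) ≫ u =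
      liftK c hpb (𝟙 i.1 ≫ i.2.1) (h ≫ j.2.2.1) e₂ ≫ u := by rw [← Category.assoc, n]
  change (xm x (𝟙 i.1) _ ≫ ((gam x x₀ β _ (liftK_p c hpb _ _ (hl i))).hom ≫
      (gam x x₀ β _ (liftK_p c hpb _ _ e₂)).inv) ≫ xm x h eu) ≫ w j = w i ≫ x₀.map α
  rw [xm_one]
  refine (congrArg (· ≫ w j) (Category.id_comp _)).trans ?_
  simp only [w, Category.assoc]
  rw [← gam_nat x x₀ β h n ((liftK_p c hpb _ _ e₂).trans (Category.id_comp i.2.1))
    ((liftK_p c hpb _ _ (hl j)).trans (Category.id_comp _)) eg eu]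
  simp only [gam, Iso.trans_hom, Iso.trans_inv, eqToIso.hom, eqToIso.inv, Category.assoc, eqToHom_trans_assoc,
    Iso.hom_inv_id_assoc, Iso.inv_hom_id_assoc]
  congr 3

end Groth.Agent.H14AlgSt
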