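import Groth.Agent.H14AlgSt.IsomArr

/-!
# The sheaf of descent data along a cover

For `c : C ⟶ B` and a chart `x : (Sch/W) ⟶ 𝒳`, the presheaf of a point `b` of `B` together with a descent
datum along `C_b` whose underlying object comes from `W`.  It is a sheaf when the arrows of `x` form one.
-/

set_option autoImplicit false
set_option linter.unusedVariables false
set_option backward.isDefEq.respectTransparency false
set_option backward.isDefEq.respectTransparency.types false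

universe u

open CategoryTheory CategoryTheory.Functor Opposite AlgebraicGeometry CategoryTheory.Limits

noncomputable section

namespace Groth.Agent.H14AlgSt

open H14Fib H14Stk

variable {S : Scheme.{u}} {𝒳 : AlgSt.Cat S} {W B C : Over S}

/-- A descent datum along `C_b` with values in the arrows of `x`. -/
structure DescPt (x : FibCat.overCat W ⥤ᵇ 𝒳) (c : C ⟶ B) (T : Over S) : Type (u + 1) where
  /-- the point of the base -/
  b : T ⟶ B
  /-- the arrows -/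
  r : ∀ {T' : Over S} (g : T' ⟶ T) (a a' : T' ⟶ C), a ≫ c = g ≫ b → a' ≫ c = g ≫ b → Arr x T'
  nat : ∀ {T'' T' : Over S} (h : T'' ⟶ T') (g : T' ⟶ T) (a a' : T' ⟶ C) (ha : a ≫ c = g ≫ b)
    (ha' : a' ≫ c = g ≫ b) (k : (h ≫ a) ≫ c = (h ≫ g) ≫ b) (k' : (h ≫ a') ≫ c = (h ≫ g) ≫ b),
    Arr.Rel h (r g a a' ha ha') (r (h ≫ g) (h ≫ a) (h ≫ a') k k')
  coc : ∀ {T' : Over S} (g : T' ⟶ T) (a a' a'' : T' ⟶ C) (ha : a ≫ c = g ≫ b) (ha' : a' ≫ c = g ≫ b)
    (ha'' : a'' ≫ c = g ≫ b), ∃ e : (r g a a' ha ha').t = (r g a' a'' ha' ha'').s,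
      Arr.comp (r g a a' ha ha') (r g a' a'' ha' ha'') e = r g a a'' ha ha''

namespace DescPt

variable {x : FibCat.overCat W ⥤ᵇ 𝒳} {c : C ⟶ B} {T T' T'' : Over S}

lemma r_congr (q : DescPt x c T) {g g₁ : T' ⟶ T} {a a₁ a' a'₁ : T' ⟶ C} (hg : g = g₁) (h : a = a₁)
    (h' : a' = a'₁) (ha : a ≫ c = g ≫ q.b) (ha' : a' ≫ c = g ≫ q.b) :
    q.r g a a' ha ha' = q.r g₁ a₁ a'₁ (hg ▸ h ▸ ha) (hg ▸ h' ▸ ha') := by
  subst hg h h'
  rfl

@[ext (iff := false)]
lemma ext' {q q' : DescPt x c T} (hb : q.b = q'.b)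
    (hr : ∀ {T' : Over S} (g : T' ⟶ T) (a a' : T' ⟶ C) (ha : a ≫ c = g ≫ q.b) (ha' : a' ≫ c = g ≫ q.b),
      q.r g a a' ha ha' = q'.r g a a' (hb ▸ ha) (hb ▸ ha')) : q = q' := by
  obtain ⟨b, r, n, k⟩ := q
  obtain ⟨b', r', n', k'⟩ := q'
  dsimp at hb
  subst hb
  have : @r = @r' := by
    funext T' g a a' ha ha'
    exact hr g a a' ha ha'
  subst this
  rfl

lemma r_eq_of_eq {q q' : DescPt x c T} (e : q = q') (g : T' ⟶ T) (a a' : T' ⟶ C)
    (ha : a ≫ c = g ≫ q.b) (ha' : a' ≫ c = g ≫ q.b) :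
    q.r g a a' ha ha' = q'.r g a a' (e ▸ ha) (e ▸ ha') := by
  subst e
  rfl

/-- The pullback of a descent datum. -/
def pullPt (k : T' ⟶ T) (q : DescPt x c T) : DescPt x c T' where
  b := k ≫ q.b
  r g a a' ha ha' := q.r (g ≫ k) a a' (by rw [ha, Category.assoc]) (by rw [ha', Category.assoc])
  nat h g a a' ha ha' e e' := by
    have := q.nat h (g ≫ k) a a' (by rw [ha, Category.assoc]) (by rw [ha', Category.assoc])
      (by rw [e]; simp only [Category.assoc]) (by rw [e']; simp only [Category.assoc])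
    rwa [q.r_congr (Category.assoc h g k).symm rfl rfl] at this
  coc g a a' a'' ha ha' ha'' := q.coc _ a a' a'' _ _ _

lemma pullPt_id (q : DescPt x c T) : pullPt (𝟙 T) q = q :=
  ext' (Category.id_comp _) fun g a a' ha ha' => q.r_congr (Category.comp_id g) rfl rfl _ _

lemma pullPt_comp (k : T' ⟶ T) (k' : T'' ⟶ T') (q : DescPt x c T) :
    pullPt (k' ≫ k) q = pullPt k' (pullPt k q) :=
  ext' (Category.assoc _ _ _) fun g a a' ha ha' => q.r_congr (Category.assoc g k' k).symm rfl rfl _ _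

/-- The object underlying a datum. -/
def w (q : DescPt x c T) (a : T ⟶ C) (ha : a ≫ c = q.b) : T ⟶ W :=
  (q.r (𝟙 T) a a (by simp [ha]) (by simp [ha])).s

lemma r_s (q : DescPt x c T) (g : T' ⟶ T) (a a' : T' ⟶ C) (ha : a ≫ c = g ≫ q.b)
    (ha' : a' ≫ c = g ≫ q.b) : (q.r g a a' ha ha').s = (q.r g a a ha ha).s := by
  obtain ⟨e, h⟩ := q.coc g a a a' ha ha ha'
  exact (congrArg Arr.s h).symm

lemma r_t (q : DescPt x c T) (g : T' ⟶ T) (a a' : T' ⟶ C) (ha : a ≫ c = g ≫ q.b)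
    (ha' : a' ≫ c = g ≫ q.b) : (q.r g a a' ha ha').t = (q.r g a' a' ha' ha').s :=
  (q.coc g a a' a' ha ha' ha').choose

lemma r_self (q : DescPt x c T) (h𝒳 : FibCat.IsFibGrpd 𝒳.p) (g : T' ⟶ T) (a : T' ⟶ C)
    (ha : a ≫ c = g ≫ q.b) : q.r g a a ha ha = Arr.id' x (q.r g a a ha ha).s := by
  obtain ⟨e, h⟩ := q.coc g a a a ha ha ha
  let r := q.r g a a ha ha
  have h1 : Arr.comp (Arr.inv' h𝒳 r) (Arr.comp r r e) rfl = r := Arr.inv_comp' h𝒳 r r e rfl
  rw [Arr.comp_congr rfl h, Arr.inv_hom'] at h1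
  refine h1.symm.trans ?_
  change Arr.id' x r.t = Arr.id' x r.s
  rw [e]

lemma pull_r' {T T' : Over S} {q : DescPt x c T} {q' : DescPt x c T'} {g : T ⟶ T'}
    (hq : pullPt g q' = q) (a a' : T' ⟶ C) (ha : a ≫ c = 𝟙 T' ≫ q'.b) (ha' : a' ≫ c = 𝟙 T' ≫ q'.b)
    (e : (g ≫ a) ≫ c = 𝟙 T ≫ q.b) (e' : (g ≫ a') ≫ c = 𝟙 T ≫ q.b) :
    Arr.Rel g (q'.r (𝟙 T') a a' ha ha') (q.r (𝟙 T) (g ≫ a) (g ≫ a') e e') := by
  subst hq
  change Arr.Rel g _ (q'.r (𝟙 T ≫ g) (g ≫ a) (g ≫ a') _ _)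
  rw [q'.r_congr (show 𝟙 T ≫ g = g ≫ 𝟙 T' by simp) rfl rfl]
  exact q'.nat g (𝟙 T') a a' _ _ _ _

end DescPt

variable (x : FibCat.overCat W ⥤ᵇ 𝒳) (c : C ⟶ B)

/-- The presheaf of descent data. -/
def descPsh : AlgSp.PSp S where
  obj T := DescPt x c T.unop
  map k := ↾(DescPt.pullPt k.unop)
  map_id T := by
    apply ConcreteCategory.hom_ext
    intro q
    exact DescPt.pullPt_id q
  map_comp f g := by
    apply ConcreteCategory.hom_ext
    intro q
    exact DescPt.pullPt_comp f.unop g.unop q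

variable {x} {c}

lemma hom_eq_of_sieve {T X : Over S} {R : Sieve T} (hR : R ∈ AlgSp.J S T) {u v : T ⟶ X}
    (h : ∀ ⦃V : Over S⦄ (k : V ⟶ T), R k → k ≫ u = k ≫ v) : u = v := by
  have hs := ((isSheaf_iff_isSheaf_of_type _ _).1 ((AlgSp.yon S).obj X).property R hR).isSeparatedFor
  exact congrArg ULift.down (hs.ext (t₁ := ULift.up u) (t₂ := ULift.up v)
    fun V k hk => congrArg ULift.up (h k hk))

/-- The presheaf of descent data is a sheaf. -/
theorem isSheaf_descPsh (h𝒳 : FibCat.IsFibGrpd 𝒳.p)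
    (hA : Presheaf.IsSheaf (AlgSp.J S) (arrPsh x h𝒳)) :
    Presheaf.IsSheaf (AlgSp.J S) (descPsh x c) := by
  have hA' := (isSheaf_iff_isSheaf_of_type _ _).1 hA
  rw [isSheaf_iff_isSheaf_of_type]
  intro T R hR q hq
  -- the point of the base
  obtain ⟨b₀, hb₀, -⟩ := (isSheaf_iff_isSheaf_of_type _ _).1 ((AlgSp.yon S).obj B).property R hR
    (fun V f hf => ULift.up (q f hf).b) (fun Y₁ Y₂ Z g₁ g₂ f₁ f₂ h₁ h₂ e =>
      congrArg ULift.up (congrArg DescPt.b (hq g₁ g₂ h₁ h₂ e)))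
  let b : T ⟶ B := b₀.down
  have hb : ∀ ⦃V : Over S⦄ (f : V ⟶ T) (hf : R f), (q f hf).b = f ≫ b := fun V f hf =>
    (congrArg ULift.down (hb₀ f hf)).symm
  -- compatibility of the family, on arrows
  have hqr : ∀ {V V' : Over S} (f : V ⟶ T) (hf : R f) (f' : V' ⟶ T) (hf' : R f') {Z : Over S}
      (u : Z ⟶ V) (v : Z ⟶ V') (a a' : Z ⟶ C) (_ : u ≫ f = v ≫ f') (e₁ : a ≫ c = u ≫ (q f hf).b)
      (e₂ : a' ≫ c = u ≫ (q f hf).b) (e₁' : a ≫ c = v ≫ (q f' hf').b)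
      (e₂' : a' ≫ c = v ≫ (q f' hf').b),
      (q f hf).r u a a' e₁ e₂ = (q f' hf').r v a a' e₁' e₂' := by
    intro V V' f hf f' hf' Z u v a a' e e₁ e₂ e₁' e₂'
    have h1 := DescPt.r_eq_of_eq (hq u v hf hf' e) (𝟙 Z) a a'
      (e₁.trans (Category.id_comp _).symm) (e₂.trans (Category.id_comp _).symm)
    exact ((q f hf).r_congr (Category.id_comp u).symm rfl rfl e₁ e₂).trans
      (h1.trans ((q f' hf').r_congr (Category.id_comp v).symm rfl rfl e₁' e₂').symm)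
  have hc : ∀ {T' : Over S} (g : T' ⟶ T) (a : T' ⟶ C) (_ : a ≫ c = g ≫ b) {V : Over S} (k : V ⟶ T')
      (hk : R (k ≫ g)), (k ≫ a) ≫ c = 𝟙 V ≫ (q (k ≫ g) hk).b := fun g a ha V k hk => by
    rw [hb, Category.assoc, ha, Category.id_comp, Category.assoc]
  -- the arrows
  have key : ∀ {T' : Over S} (g : T' ⟶ T) (a a' : T' ⟶ C) (ha : a ≫ c = g ≫ b) (ha' : a' ≫ c = g ≫ b),
      ∃! z : Arr x T', ∀ {V : Over S} (k : V ⟶ T') (hk : R (k ≫ g)),
        Arr.pull h𝒳 k z = (q (k ≫ g) hk).r (𝟙 V) (k ≫ a) (k ≫ a') (hc g a ha k hk) (hc g a' ha' k hk) := by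
    intro T' g a a' ha ha'
    have hR' := (AlgSp.J S).pullback_stable g hR
    obtain ⟨z, hz, hu⟩ := hA' (R.pullback g) hR'
      (fun V k hk => (q (k ≫ g) hk).r (𝟙 V) (k ≫ a) (k ≫ a') (hc g a ha k hk) (hc g a' ha' k hk))
      (fun Y₁ Y₂ Z g₁ g₂ f₁ f₂ h₁ h₂ e => by
        have n1 := (q (f₁ ≫ g) h₁).nat g₁ (𝟙 Y₁) (f₁ ≫ a) (f₁ ≫ a') (hc g a ha f₁ h₁) (hc g a' ha' f₁ h₁)
          (by rw [Category.assoc, hc g a ha f₁ h₁, Category.assoc])
          (by rw [Category.assoc, hc g a' ha' f₁ h₁, Category.assoc])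
        have n2 := (q (f₂ ≫ g) h₂).nat g₂ (𝟙 Y₂) (f₂ ≫ a) (f₂ ≫ a') (hc g a ha f₂ h₂) (hc g a' ha' f₂ h₂)
          (by rw [Category.assoc, hc g a ha f₂ h₂, Category.assoc])
          (by rw [Category.assoc, hc g a' ha' f₂ h₂, Category.assoc])
        change Arr.pull h𝒳 g₁ _ = Arr.pull h𝒳 g₂ _
        rw [← Arr.eq_pull h𝒳 n1, ← Arr.eq_pull h𝒳 n2]
        have ea : g₁ ≫ f₁ ≫ a = g₂ ≫ f₂ ≫ a := (reassoc_of% e) a
        have ea' : g₁ ≫ f₁ ≫ a' = g₂ ≫ f₂ ≫ a' := (reassoc_of% e) a'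
        refine ((q (f₁ ≫ g) h₁).r_congr rfl ea ea' _ _).trans
          (hqr _ h₁ _ h₂ _ _ _ _ ?_ _ _ _ _)
        rw [Category.comp_id, Category.comp_id]
        exact (reassoc_of% e) g)
    exact ⟨z, fun {V} k hk => hz k hk, fun z' hz' => hu z' fun V k hk => hz' k hk⟩
  let r : ∀ {T' : Over S} (g : T' ⟶ T) (a a' : T' ⟶ C), a ≫ c = g ≫ b → a' ≫ c = g ≫ b → Arr x T' :=
    fun g a a' ha ha' => (key g a a' ha ha').exists.choose
  have hr : ∀ {T' : Over S} (g : T' ⟶ T) (a a' : T' ⟶ C) (ha : a ≫ c = g ≫ b) (ha' : a' ≫ c = g ≫ b)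
      {V : Over S} (k : V ⟶ T') (hk : R (k ≫ g)), Arr.pull h𝒳 k (r g a a' ha ha') =
        (q (k ≫ g) hk).r (𝟙 V) (k ≫ a) (k ≫ a') (hc g a ha k hk) (hc g a' ha' k hk) :=
    fun g a a' ha ha' => (key g a a' ha ha').exists.choose_spec
  let q₀ : DescPt x c T :=
    { b := b
      r := r
      nat := fun {T'' T'} h g a a' ha ha' e e' => by
        have h1 : r (h ≫ g) (h ≫ a) (h ≫ a') e e' = Arr.pull h𝒳 h (r g a a' ha ha') := by
          refine (key (h ≫ g) (h ≫ a) (h ≫ a') e e').unique (hr _ _ _ e e') fun {V} k hk => ?_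
          rw [← Arr.pull_comp]
          refine (hr g a a' ha ha' (k ≫ h) ((Category.assoc k h g).symm ▸ hk)).trans ?_
          refine ((q _ _).r_congr rfl (Category.assoc k h a) (Category.assoc k h a') _ _).trans
            (hqr _ _ _ hk _ _ _ _ ?_ _ _ _ _)
          simp only [Category.id_comp, Category.assoc]
        rw [h1]
        exact Arr.pull_rel h𝒳 h _
      coc := fun {T'} g a a' a'' ha ha' ha'' => by
        have hR' := (AlgSp.J S).pullback_stable g hR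
        have e : (r g a a' ha ha').t = (r g a' a'' ha' ha'').s := by
          refine hom_eq_of_sieve hR' fun V k hk => ?_
          rw [← Arr.pull_t h𝒳, ← Arr.pull_s h𝒳, hr g a a' ha ha' k hk, hr g a' a'' ha' ha'' k hk]
          exact ((q _ hk).coc _ _ _ _ _ _ _).choose
        refine ⟨e, (key g a a'' ha ha'').unique (fun {V} k hk => ?_) (hr g a a'' ha ha'')⟩
        rw [Arr.pull_comp', Arr.comp_congr (hr g a a' ha ha' k hk) (hr g a' a'' ha' ha'' k hk)]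
        exact ((q _ hk).coc _ _ _ _ _ _ _).choose_spec }
  refine ⟨q₀, fun V f hf => ?_, fun q' hq' => ?_⟩
  · refine DescPt.ext' (hb f hf).symm fun {T'} g a a' ha ha' => ?_
    have ha₁ : a ≫ c = (g ≫ f) ≫ b := ha.trans (Category.assoc g f b).symm
    have ha₁' : a' ≫ c = (g ≫ f) ≫ b := ha'.trans (Category.assoc g f b).symm
    change r (g ≫ f) a a' ha₁ ha₁' = _
    have hk : R (𝟙 T' ≫ g ≫ f) := by rw [Category.id_comp]; exact R.downward_closed hf g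
    refine ((Arr.pull_id h𝒳 _).symm.trans (hr _ _ _ ha₁ ha₁' (𝟙 T') hk)).trans
      (((q _ hk).r_congr rfl (Category.id_comp a) (Category.id_comp a') _ _).trans
        (hqr _ hk f hf _ _ _ _ ?_ _ _ _ _))
    simp only [Category.id_comp]
  · have hb' : q'.b = b := hom_eq_of_sieve hR fun V f hf =>
      (congrArg DescPt.b (hq' f hf)).trans (hb f hf)
    refine DescPt.ext' hb' fun {T'} g a a' ha ha' => ?_
    refine (key g a a' (hb' ▸ ha) (hb' ▸ ha')).unique (fun {V} k hk => ?_)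
      (hr g a a' (hb' ▸ ha) (hb' ▸ ha'))
    have e : (k ≫ a) ≫ c = (k ≫ g) ≫ q'.b := by rw [Category.assoc, ha, Category.assoc]
    have e' : (k ≫ a') ≫ c = (k ≫ g) ≫ q'.b := by rw [Category.assoc, ha', Category.assoc]
    rw [← Arr.eq_pull h𝒳 (q'.nat k g a a' ha ha' e e')]
    exact (q'.r_congr (Category.id_comp (k ≫ g)).symm rfl rfl e e').trans
      (DescPt.r_eq_of_eq (hq' (k ≫ g) hk) (𝟙 V) (k ≫ a) (k ≫ a')
        (e.trans (by rw [Category.id_comp]; exact Category.assoc k g _ |>.symm ▸ rfl))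
        (e'.trans (by rw [Category.id_comp]; exact Category.assoc k g _ |>.symm ▸ rfl)))

end Groth.Agent.H14AlgSt
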