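import Groth.Agent.H14AlgSt.DescTuple

/-!
# Descent data over a splitting of the cover are tuples of arrows
-/

set_option autoImplicit false
set_option linter.unusedVariables false
set_option backward.isDefEq.respectTransparency false
set_option backward.isDefEq.respectTransparency.types false

universe u

open CategoryTheory CategoryTheory.Functor Opposite AlgebraicGeometry CategoryTheory.Limits

noncomputable section

namespace Groth.Agent.H14AlgSt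

open H14Fib H14Stk Groth.Agent.H13AlgSp

variable {S : Scheme.{u}} {𝒳 : AlgSt.Cat S} {W B C V : Over S} {x : FibCat.overCat W ⥤ᵇ 𝒳}
  {c : C ⟶ B} {π : V ⟶ B} {n : ℕ} {σ : Fin (n + 1) → (V ⟶ C)}
  (h𝒳 : FibCat.IsFibGrpd 𝒳.p) (hA : Presheaf.IsSheaf (AlgSp.J S) (arrPsh x h𝒳))

lemma mem_J_of_opens {T : Over S} {κ : Type u} (O : κ → T.left.Opens) (h : ∀ t, ∃ k, t ∈ O k) :
    Sieve.ofArrows (fun k => openOver T (O k)) (fun k => openIncl T (O k)) ∈ AlgSp.J S T :=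
  H13AlgSp.ofArrows_mem_J _ (fun k => inferInstanceAs (Flat (O k).ι))
    (fun k => inferInstanceAs (LocallyOfFinitePresentation (O k).ι))
    (fun t => by
      obtain ⟨k, hk⟩ := h t
      exact ⟨k, ⟨⟨t, hk⟩, rfl⟩⟩)

include hA in
lemma arr_ext_of_sieve {T : Over S} {R : Sieve T} (hR : R ∈ AlgSp.J S T) {r r' : Arr x T}
    (h : ∀ ⦃Z : Over S⦄ (k : Z ⟶ T), R k → Arr.pull h𝒳 k r = Arr.pull h𝒳 k r') : r = r' :=
  (((isSheaf_iff_isSheaf_of_type _ _).1 hA) R hR).isSeparatedFor.ext fun Z k hk => h k hk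

include hA in
lemma arr_ext_of_isEmpty {T : Over S} (hT : IsEmpty T.left) (r r' : Arr x T) : r = r' :=
  arr_ext_of_sieve h𝒳 hA (mem_J_of_opens (κ := PEmpty.{u + 1}) PEmpty.elim (fun t => (hT.false t).elim))
    fun Z k hk => by
      obtain ⟨_, _, _, ⟨i⟩, _⟩ := hk
      exact i.elim

variable (hsp : SplitBy c π σ)

include hA hsp in
lemma pull_eq_of_sigma_eq {T T' : Over S} (k : T' ⟶ T) (v : T ⟶ V) (f : Fin (n + 1) → Arr x T)
    {i j : Fin (n + 1)} (e : k ≫ v ≫ σ i = k ≫ v ≫ σ j) :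
    Arr.pull h𝒳 k (f i) = Arr.pull h𝒳 k (f j) := by
  by_cases hij : i = j
  · rw [hij]
  · exact arr_ext_of_isEmpty h𝒳 hA (hsp.disj i j hij (k ≫ v) (by simpa using e)) _ _

/-- `z` extends the tuple `f` to the section `a` over `g`. -/
def IsExt (σ : Fin (n + 1) → (V ⟶ C)) {T T' : Over S} (v : T ⟶ V) (f : Fin (n + 1) → Arr x T)
    (g : T' ⟶ T) (a : T' ⟶ C) (z : Arr x T') : Prop :=
  ∀ (i : Fin (n + 1)) {Z : Over S} (k : Z ⟶ T'), k ≫ a = k ≫ g ≫ v ≫ σ i →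
    Arr.pull h𝒳 k z = Arr.pull h𝒳 (k ≫ g) (f i)

include hA hsp in
lemma existsUnique_ext {T T' : Over S} (v : T ⟶ V) (f : Fin (n + 1) → Arr x T) (g : T' ⟶ T)
    (a : T' ⟶ C) (ha : a ≫ c = g ≫ v ≫ π) : ∃! z, IsExt h𝒳 σ v f g a z := by
  have hex := hsp.exh (g ≫ v) a (by rw [ha, Category.assoc])
  choose O idx hmem hO using hex
  have hR := mem_J_of_opens O (fun t => ⟨t, hmem t⟩)
  have hval : ∀ {t : T'.left} {Z : Over S} (u : Z ⟶ openOver T' (O t)),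
      (u ≫ openIncl T' (O t)) ≫ a = (u ≫ openIncl T' (O t)) ≫ g ≫ v ≫ σ (idx t) := fun {t Z} u => by
    rw [Category.assoc, hO t]
    simp only [Category.assoc]
  obtain ⟨z, hz, -⟩ := (Presieve.isSheafFor_arrows_iff _ _).1
    ((Presieve.isSheafFor_iff_generate _).2 (((isSheaf_iff_isSheaf_of_type _ _).1 hA) _ hR))
    (fun t => Arr.pull h𝒳 (openIncl T' (O t) ≫ g) (f (idx t)))
    (fun t t' Z u u' e => by
      change Arr.pull h𝒳 u _ = Arr.pull h𝒳 u' _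
      rw [← Arr.pull_comp, ← Arr.pull_comp, ← Category.assoc, ← Category.assoc, e]
      refine pull_eq_of_sigma_eq h𝒳 hA hsp _ v f ?_
      have h1 := hval u
      have h2 := hval u'
      rw [e] at h1
      simp only [Category.assoc] at h1 h2 ⊢
      rw [← h1, h2])
  have hz' : ∀ t, Arr.pull h𝒳 (openIncl T' (O t)) z = Arr.pull h𝒳 (openIncl T' (O t) ≫ g) (f (idx t)) := hz
  refine ⟨z, fun i Z k hk => ?_, fun z' hz'' => ?_⟩
  · refine arr_ext_of_sieve h𝒳 hA ((AlgSp.J S).pullback_stable k hR) fun Z' l hl => ?_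
    obtain ⟨_, u, _, ⟨t⟩, e⟩ := hl
    rw [← Arr.pull_comp, ← e, Arr.pull_comp, hz', ← Arr.pull_comp, ← Arr.pull_comp, ← Category.assoc,
      ← Category.assoc, e]
    refine pull_eq_of_sigma_eq h𝒳 hA hsp _ v f ?_
    simp only [Category.assoc]
    rw [← hk, ← Category.assoc l k a, ← e, hval u]
    simp only [Category.assoc]
    rw [reassoc_of% e]
  · refine arr_ext_of_sieve h𝒳 hA hR fun Z l hl => ?_
    obtain ⟨_, u, _, ⟨t⟩, rfl⟩ := hl
    rw [Arr.pull_comp, Arr.pull_comp, hz', hz'' (idx t) _ (by simpa using hO t)]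

/-- The extension of a tuple to a section. -/
def extArr {T T' : Over S} (v : T ⟶ V) (f : Fin (n + 1) → Arr x T) (g : T' ⟶ T)
    (a : T' ⟶ C) (ha : a ≫ c = g ≫ v ≫ π) : Arr x T' :=
  (existsUnique_ext h𝒳 hA hsp v f g a ha).exists.choose

lemma extArr_spec {T T' : Over S} (v : T ⟶ V) (f : Fin (n + 1) → Arr x T) (g : T' ⟶ T)
    (a : T' ⟶ C) (ha : a ≫ c = g ≫ v ≫ π) : IsExt h𝒳 σ v f g a (extArr h𝒳 hA hsp v f g a ha) :=
  (existsUnique_ext h𝒳 hA hsp v f g a ha).exists.choose_spec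

lemma extArr_eq {T T' : Over S} {v : T ⟶ V} {f : Fin (n + 1) → Arr x T} {g : T' ⟶ T}
    {a : T' ⟶ C} (ha : a ≫ c = g ≫ v ≫ π) {z : Arr x T'} (hz : IsExt h𝒳 σ v f g a z) :
    extArr h𝒳 hA hsp v f g a ha = z :=
  (existsUnique_ext h𝒳 hA hsp v f g a ha).unique (extArr_spec h𝒳 hA hsp v f g a ha) hz

lemma extArr_nat {T T' T'' : Over S} (v : T ⟶ V) (f : Fin (n + 1) → Arr x T) (h : T'' ⟶ T')
    (g : T' ⟶ T) (a : T' ⟶ C) (ha : a ≫ c = g ≫ v ≫ π) (e : (h ≫ a) ≫ c = (h ≫ g) ≫ v ≫ π) :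
    extArr h𝒳 hA hsp v f (h ≫ g) (h ≫ a) e = Arr.pull h𝒳 h (extArr h𝒳 hA hsp v f g a ha) := by
  refine extArr_eq h𝒳 hA hsp e fun i Z k hk => ?_
  rw [← Arr.pull_comp, ← Category.assoc k h g]
  exact extArr_spec h𝒳 hA hsp v f g a ha i (k ≫ h) (by simpa using hk)

lemma extArr_s {T T' : Over S} (v : T ⟶ V) (w : T ⟶ W) (f : Fin (n + 1) → Arr x T)
    (hs : ∀ i, (f i).s = w) (g : T' ⟶ T) (a : T' ⟶ C) (ha : a ≫ c = g ≫ v ≫ π) :
    (extArr h𝒳 hA hsp v f g a ha).s = g ≫ w := by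
  have hex := hsp.exh (g ≫ v) a (by rw [ha, Category.assoc])
  choose O idx hmem hO using hex
  refine hom_eq_of_sieve (mem_J_of_opens O (fun t => ⟨t, hmem t⟩)) fun Z l hl => ?_
  obtain ⟨_, u, _, ⟨t⟩, rfl⟩ := hl
  have h1 := congrArg Arr.s (extArr_spec h𝒳 hA hsp v f g a ha (idx t) (u ≫ openIncl T' (O t))
    (by rw [Category.assoc, hO t]; simp only [Category.assoc]))
  rw [Arr.pull_s, Arr.pull_s, hs] at h1
  simpa using h1

lemma extArr_self {T : Over S} (v : T ⟶ V) (f : Fin (n + 1) → Arr x T) (i : Fin (n + 1))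
    (e : (v ≫ σ i) ≫ c = 𝟙 T ≫ v ≫ π) :
    extArr h𝒳 hA hsp v f (𝟙 T) (v ≫ σ i) e = f i := by
  refine extArr_eq h𝒳 hA hsp e fun j Z k hk => ?_
  rw [Category.comp_id]
  exact pull_eq_of_sigma_eq h𝒳 hA hsp k v f (by simpa using hk)

/-- The descent datum of a tuple. -/
def ofTuple {T : Over S} (v : T ⟶ V) (w : T ⟶ W) (f : Fin (n + 1) → Arr x T)
    (hs : ∀ i, (f i).s = w) : DescPt x c T where
  b := v ≫ π
  r g a a' ha ha' := Arr.comp (Arr.inv' h𝒳 (extArr h𝒳 hA hsp v f g a ha))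
    (extArr h𝒳 hA hsp v f g a' ha')
    (by rw [Arr.inv'_t, extArr_s h𝒳 hA hsp v w f hs, extArr_s h𝒳 hA hsp v w f hs])
  nat h g a a' ha ha' e e' := by
    refine Arr.rel_comp' ?_ ?_ _ _
    · rw [extArr_nat h𝒳 hA hsp v f h g a ha e, ← Arr.pull_inv']
      exact Arr.pull_rel h𝒳 h _
    · rw [extArr_nat h𝒳 hA hsp v f h g a' ha' e']
      exact Arr.pull_rel h𝒳 h _
  coc g a a' a'' ha ha' ha'' := by
    refine ⟨rfl, ?_⟩
    rw [Arr.comp_assoc']
    refine Arr.comp_congr rfl ?_ _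
    rw [← Arr.comp_assoc' (extArr h𝒳 hA hsp v f g a' ha') (Arr.inv' h𝒳 (extArr h𝒳 hA hsp v f g a' ha'))
      (extArr h𝒳 hA hsp v f g a'' ha'') rfl (by rw [Arr.inv'_t, extArr_s h𝒳 hA hsp v w f hs,
        extArr_s h𝒳 hA hsp v w f hs]), Arr.comp_congr (Arr.hom_inv' h𝒳 _) rfl]
    exact Arr.id_comp' _ _

include hsp in
omit hA in
lemma tuple_sec {T : Over S} {q : DescPt x c T} {v : T ⟶ V} (hv : q.b = v ≫ π) (i : Fin (n + 1)) :
    (v ≫ σ i) ≫ c = 𝟙 T ≫ q.b := by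
  rw [Category.id_comp, hv, Category.assoc, hsp.w]

/-- The tuple of a descent datum over the splitting. -/
def toTuple {T : Over S} (q : DescPt x c T) (v : T ⟶ V) (hv : q.b = v ≫ π) (i : Fin (n + 1)) : Arr x T :=
  q.r (𝟙 T) (v ≫ σ 0) (v ≫ σ i) (tuple_sec hsp hv 0) (tuple_sec hsp hv i)

omit hA in
lemma toTuple_s {T : Over S} (q : DescPt x c T) (v : T ⟶ V) (hv : q.b = v ≫ π) (i : Fin (n + 1)) :
    (toTuple hsp q v hv i).s = (toTuple hsp q v hv 0).s :=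
  DescPt.r_s _ _ _ _ _ _

include h𝒳 in
omit hA in
lemma toTuple_zero {T : Over S} (q : DescPt x c T) (v : T ⟶ V) (hv : q.b = v ≫ π) :
    toTuple hsp q v hv 0 = Arr.id' x (toTuple hsp q v hv 0).s :=
  DescPt.r_self _ h𝒳 _ _ _

/-- A descent datum over the splitting is determined by its tuple. -/
lemma ofTuple_toTuple {T : Over S} (q : DescPt x c T) (v : T ⟶ V) (hv : q.b = v ≫ π) :
    ofTuple h𝒳 hA hsp v (toTuple hsp q v hv 0).s (toTuple hsp q v hv) (toTuple_s hsp q v hv) = q := by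
  refine DescPt.ext' hv.symm fun {T'} g a a' ha ha' => ?_
  have key : ∀ (b : T' ⟶ C) (hb : b ≫ c = g ≫ v ≫ π) (hb' : b ≫ c = g ≫ q.b)
      (h0 : (g ≫ v ≫ σ 0) ≫ c = g ≫ q.b),
      extArr h𝒳 hA hsp v (toTuple hsp q v hv) g b hb = q.r g (g ≫ v ≫ σ 0) b h0 hb' := by
    intro b hb hb' h0
    refine extArr_eq h𝒳 hA hsp hb fun i Z k hk => ?_
    have hq : ∀ j, ((k ≫ g) ≫ v ≫ σ j) ≫ c = ((k ≫ g) ≫ 𝟙 T) ≫ q.b := fun j => by
      simp only [Category.assoc, Category.comp_id, hsp.w, hv]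
    have n2 := q.nat (k ≫ g) (𝟙 T) (v ≫ σ 0) (v ≫ σ i) (tuple_sec hsp hv 0) (tuple_sec hsp hv i) (hq 0) (hq i)
    have n1 := q.nat k g (g ≫ v ≫ σ 0) b h0 hb' (by rw [Category.assoc, h0, Category.assoc])
      (by rw [Category.assoc, hb', Category.assoc])
    refine (Arr.eq_pull h𝒳 n1).symm.trans ?_
    refine Eq.trans ?_ (Arr.eq_pull h𝒳 n2)
    exact q.r_congr (Category.comp_id _).symm (Category.assoc k g _).symm
      (by rw [hk, Category.assoc]) _ _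
  have h0 : (g ≫ v ≫ σ 0) ≫ c = g ≫ q.b := by simp only [Category.assoc, hsp.w, hv]
  have ha₀ : a ≫ c = g ≫ q.b := hv.symm ▸ ha
  have ha₀' : a' ≫ c = g ≫ q.b := hv.symm ▸ ha'
  obtain ⟨e, he⟩ := q.coc g (g ≫ v ≫ σ 0) a a' h0 ha₀ ha₀'
  dsimp only [ofTuple]
  rw [Arr.comp_congr (congrArg (Arr.inv' h𝒳) (key a ha ha₀ h0)) ((key a' ha' ha₀' h0).trans he.symm)]
  exact Arr.inv_comp' h𝒳 _ _ e rfl

/-- The tuple of the datum of a tuple. -/
lemma toTuple_ofTuple {T : Over S} (v : T ⟶ V) (w : T ⟶ W) (f : Fin (n + 1) → Arr x T)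
    (hs : ∀ i, (f i).s = w) (h0 : f 0 = Arr.id' x w) (i : Fin (n + 1)) :
    toTuple hsp (ofTuple h𝒳 hA hsp v w f hs) v rfl i = f i := by
  dsimp only [ofTuple, toTuple]
  have e1 := extArr_self h𝒳 hA hsp v f 0 (tuple_sec hsp (q := ofTuple h𝒳 hA hsp v w f hs) rfl 0)
  have e2 := extArr_self h𝒳 hA hsp v f i (tuple_sec hsp (q := ofTuple h𝒳 hA hsp v w f hs) rfl i)
  have e3 : Arr.inv' h𝒳 (f 0) = Arr.id' x w := by
    rw [h0]
    refine (Arr.id_comp' (Arr.inv' h𝒳 (Arr.id' x w)) rfl).symm.trans ?_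
    exact Arr.hom_inv' h𝒳 (Arr.id' x w)
  rw [Arr.comp_congr ((congrArg (Arr.inv' h𝒳) e1).trans e3) e2]
  exact Arr.id_comp' _ _

end Groth.Agent.H14AlgSt
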