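import Groth.Agent.H14AlgSt.DescPt
import Groth.Agent.H14AlgSt.Props
import Groth.Agent.H14AlgSt.SetoidSpace
import Groth.Agent.H13AlgSp.RelRep
import Groth.Agent.H13AlgSp.Cover
import Groth.Agent.H13AlgSp.LocalST

/-!
# Descent data along a split cover

When the cover `C ⟶ B` becomes `n + 1` copies of the base over `V`, a descent datum over `V` is the same as a
point of `W ×_S V` with `n` arrows starting at it.  These form an algebraic space, smooth over `W ×_S V`
when the chart is smooth.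
-/

set_option autoImplicit false
set_option linter.unusedVariables false
set_option backward.isDefEq.respectTransparency false
set_option backward.isDefEq.respectTransparency.types false

universe u

open CategoryTheory CategoryTheory.Functor Opposite AlgebraicGeometry CategoryTheory.Limits

noncomputable section

namespace Groth.Agent.H14AlgSt

open H14Fib H14Stk Groth.Agent.H13AlgSp

variable {S : Scheme.{u}} {𝒳 : AlgSt.Cat S} {W B C V : Over S} {x : FibCat.overCat W ⥤ᵇ 𝒳}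

/-- `c` becomes `n` disjoint copies of `V` along `π`, through the sections `σ`. -/
structure SplitBy (c : C ⟶ B) (π : V ⟶ B) {n : ℕ} (σ : Fin n → (V ⟶ C)) : Prop where
  w : ∀ i, σ i ≫ c = π
  disj : ∀ i j, i ≠ j → ∀ {T : Over S} (v : T ⟶ V), v ≫ σ i = v ≫ σ j → IsEmpty T.left
  exh : ∀ {T : Over S} (v : T ⟶ V) (a : T ⟶ C), a ≫ c = v ≫ π → ∀ t : T.left,
    ∃ (O : T.left.Opens) (i : Fin n), t ∈ O ∧ openIncl T O ≫ a = openIncl T O ≫ v ≫ σ i

variable (h𝒳 : FibCat.IsFibGrpd 𝒳.p)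

variable (x) in
/-- The source of an arrow. -/
def srcHom : arrPsh x h𝒳 ⟶ (AlgSp.pyon S).obj W where
  app T := ↾fun r => ⟨Arr.s r⟩
  naturality T T' g := by
    apply ConcreteCategory.hom_ext
    intro r
    exact congrArg ULift.up (Arr.pull_s h𝒳 g.unop r)

/-- The sheaf of arrows of a smooth chart is an algebraic space smooth over the chart. -/
theorem arrPsh_smooth (hx : AlgSt.RepByAlgSpWith (AlgSp.LocP @Smooth) x) :
    ∃ h : Presheaf.IsSheaf (AlgSp.J S) (arrPsh x h𝒳), AlgSp.IsAlgSpace (⟨_, h⟩ : AlgSp.Sp S) ∧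
      AlgSp.LocP @Smooth
        (ObjectProperty.homMk (srcHom x h𝒳) : (⟨_, h⟩ : AlgSp.Sp S) ⟶ (AlgSp.yon S).obj W) := by
  have := respectsIso_locP (S := S) @Smooth
  exact (repData_ofPsh_iff _ _).1 (RepData.of_equiv' _ (arrFun_isEquivOver h𝒳)
    (eqToIso (by rfl) : BasedFunctor.comp (arrFun x h𝒳) (FibCat.fpFst x x) ≅
      BasedFunctor.comp (Stk.ofPshMap (srcHom x h𝒳)) (AlgSt.toOverCat W)) (hx W x))

variable (hA : Presheaf.IsSheaf (AlgSp.J S) (arrPsh x h𝒳))

variable (x) in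
/-- The sheaf of arrows. -/
abbrev arrSp : AlgSp.Sp S := ⟨arrPsh x h𝒳, hA⟩

variable (x) in
/-- The source of an arrow, on sheaves. -/
abbrev srcMap : arrSp x h𝒳 hA ⟶ (AlgSp.yon S).obj W := ObjectProperty.homMk (srcHom x h𝒳)

/-- Points of the sheaf of arrows. -/
def arrPt {T : Over S} : ((AlgSp.yon S).obj T ⟶ arrSp x h𝒳 hA) ≃ Arr x T :=
  (AlgSp.J S).uliftYonedaEquiv

lemma arrPt_comp {T T' : Over S} (k : T' ⟶ T) (l : (AlgSp.yon S).obj T ⟶ arrSp x h𝒳 hA) :
    arrPt h𝒳 hA ((AlgSp.yon S).map k ≫ l) = Arr.pull h𝒳 k (arrPt h𝒳 hA l) :=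
  ((AlgSp.J S).uliftYonedaEquiv_naturality l k).symm

lemma arrPt_src {T : Over S} (l : (AlgSp.yon S).obj T ⟶ arrSp x h𝒳 hA) :
    l ≫ srcMap x h𝒳 hA = (AlgSp.yon S).map (arrPt h𝒳 hA l).s := by
  apply (AlgSp.J S).uliftYonedaEquiv.injective
  refine ((AlgSp.J S).uliftYonedaEquiv_comp l _).trans ?_
  exact ((AlgSp.J S).uliftYonedaEquiv_uliftYoneda_map _).symm

variable {W₀ : Over S} (ρ : W₀ ⟶ W)

/-- Tuples of arrows with a common source form an algebraic space, smooth over the source. -/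
theorem exists_tupleSpace (hRA : AlgSp.IsAlgSpace (arrSp x h𝒳 hA))
    (hs : AlgSp.LocP @Smooth (srcMap x h𝒳 hA)) :
    ∀ m : ℕ, ∃ (P : AlgSp.Sp S) (p : P ⟶ (AlgSp.yon S).obj W₀) (f : Fin m → (P ⟶ arrSp x h𝒳 hA)),
      AlgSp.IsAlgSpace P ∧ AlgSp.LocP @Smooth p ∧
      (∀ i, f i ≫ srcMap x h𝒳 hA = p ≫ (AlgSp.yon S).map ρ) ∧
      ∀ (T : Over S) (u : T ⟶ W₀) (g : Fin m → Arr x T), (∀ i, (g i).s = u ≫ ρ) →
        ∃! l : (AlgSp.yon S).obj T ⟶ P,
          l ≫ p = (AlgSp.yon S).map u ∧ ∀ i, arrPt h𝒳 hA (l ≫ f i) = g i := by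
  intro m
  induction m with
  | zero =>
    refine ⟨_, 𝟙 _, Fin.elim0, AlgSp.IsAlgSpace.yon_obj W₀, H13AlgSp.LocalST.locP_smooth_id _, fun i => i.elim0,
      fun T u g hg => ⟨(AlgSp.yon S).map u, ⟨Category.comp_id _, fun i => i.elim0⟩, fun l hl => ?_⟩⟩
    rw [← hl.1, Category.comp_id]
  | succ m ih =>
    obtain ⟨P, p, f, hP, hp, hf, hu⟩ := ih
    let q := p ≫ (AlgSp.yon S).map ρ
    have hW := AlgSp.IsAlgSpace.yon_obj W
    have hfst : AlgSp.LocP @Smooth (pullback.fst q (srcMap x h𝒳 hA)) :=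
      H12AlgSp.locP_of_isPullback H12AlgSp.etLocal_smooth (IsPullback.of_hasPullback q _).flip hRA hW hP hs
    refine ⟨pullback q (srcMap x h𝒳 hA), pullback.fst q _ ≫ p,
      Fin.cons (pullback.snd q _) (fun i => pullback.fst q _ ≫ f i),
      H12AlgSp.isAlgSpace_pullback hW.diag hP hRA _ _,
      H12AlgSp.locP_comp H12AlgSp.etLocal_smooth (H12AlgSp.isAlgSpace_pullback hW.diag hP hRA _ _) hP
        (AlgSp.IsAlgSpace.yon_obj W₀) hfst hp, ?_, fun T u g hg => ?_⟩
    · intro i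
      refine Fin.cases ?_ (fun j => ?_) i
      · rw [Fin.cons_zero, Category.assoc]
        exact pullback.condition.symm
      · rw [Fin.cons_succ, Category.assoc, hf, Category.assoc]
    · obtain ⟨l, ⟨hlp, hlf⟩, hlu⟩ := hu T u (fun i => g i.succ) (fun i => hg i.succ)
      let r := (arrPt h𝒳 hA).symm (g 0)
      have hr : l ≫ q = r ≫ srcMap x h𝒳 hA := by
        rw [arrPt_src, Equiv.apply_symm_apply, hg 0, reassoc_of% hlp, Functor.map_comp]
      refine ⟨pullback.lift l r hr, ⟨by rw [pullback.lift_fst_assoc, hlp], fun i => ?_⟩, fun l' hl' => ?_⟩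
      · refine Fin.cases ?_ (fun j => ?_) i
        · rw [Fin.cons_zero, pullback.lift_snd, Equiv.apply_symm_apply]
        · rw [Fin.cons_succ, pullback.lift_fst_assoc, hlf]
      · apply pullback.hom_ext
        · rw [pullback.lift_fst]
          refine hlu _ ⟨by rw [Category.assoc, hl'.1], fun j => ?_⟩
          have := hl'.2 j.succ
          rwa [Fin.cons_succ, ← Category.assoc] at this
        · rw [pullback.lift_snd]
          apply (arrPt h𝒳 hA).injective
          have := hl'.2 0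
          rw [Fin.cons_zero] at this
          rw [this, Equiv.apply_symm_apply]

end Groth.Agent.H14AlgSt
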