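import Groth.Agent.H14AlgSt.Bootstrap
import Groth.Agent.H14Fib.Magic
import Groth.Agent.H14Fib.FpSelf

/-!
# Representability of the diagonal
-/

set_option autoImplicit false
set_option backward.isDefEq.respectTransparency false
set_option backward.isDefEq.respectTransparency.types false

universe u

open CategoryTheory Opposite AlgebraicGeometry CategoryTheory.Limits

namespace Groth.Agent.H14AlgSt

open H14Fib H14Stk

variable {S : Scheme.{u}} {𝒜 ℬ 𝒳 𝒴 𝒵 : AlgSt.Cat S}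

/-- A functor between categories represented by spaces is representable by spaces. -/
lemma repByAlgSp1_of_rep (hX : AlgSt.RepByAlgSp 𝒳) (hY : AlgSt.RepByAlgSp 𝒴) (f : 𝒳 ⥤ᵇ 𝒴) :
    AlgSt.RepByAlgSp1 f := by
  obtain ⟨F, a, ha⟩ := hX
  obtain ⟨G, b, hb⟩ := hY
  obtain ⟨b', ⟨i⟩, ⟨j⟩⟩ := hb
  let φ := BasedFunctor.comp (BasedFunctor.comp a f) b'
  let m : F.obj ⟶ G.obj := ObjectProperty.homMk (mapOfFun φ)
  have h1 : AlgSt.RepByAlgSp1 (AlgSt.ofSpMap m) := (repBySp_iff m.hom).1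
    ((AlgSp.repBySp_hom_iff m).2 fun U ξ F' fst snd sq =>
      H12AlgSp.isAlgSpace_of_isPullback G.property.diag F.property
        (AlgSp.IsAlgSpace.yon_obj U) sq)
  refine (rep1_square (f := f) (f' := AlgSt.ofSpMap m) (a := a) (b := b) ha
    ⟨b', ⟨i⟩, ⟨j⟩⟩ ?_).2 h1
  exact (post _ b).mapIso (isoOfPshMap φ).symm ≪≫ (Stk.restr (BasedFunctor.comp a f) _).mapIso j

lemma repByAlgSp_fp_of_rep (hA : AlgSt.RepByAlgSp 𝒜) (hB : AlgSt.RepByAlgSp ℬ)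
    (hX : AlgSt.RepByAlgSp 𝒳) (F : 𝒜 ⥤ᵇ 𝒳) (G : ℬ ⥤ᵇ 𝒳) :
    AlgSt.RepByAlgSp (FibCat.fp F G) :=
  repByAlgSp_fp (isFibSetoid_of_rep hB).1 (isFibSetoid_of_rep hX).1 (repByAlgSp1_of_rep hB hX G)
    F hA

/-- The base `(Sch/S)` is the slice at its final object. -/
lemma toSelf_final_isEquivOver :
    FibCat.IsEquivOver (FibCat.toSelf (FibCat.overCat (Over.mk (𝟙 S) : Over S))) := by
  have huniq : ∀ {X : Over S} (a b : X ⟶ Over.mk (𝟙 S)), a = b := fun a b =>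
    Over.OverMorphism.ext (((Category.comp_id _).symm.trans (Over.w a)).trans
      ((Category.comp_id _).symm.trans (Over.w b)).symm)
  refine (isEquivOver_iff _).2 ⟨⟨⟨fun {a b} m => ⟨Over.homMk m (huniq _ _), rfl⟩⟩,
    ⟨fun {a b} m n h => Over.OverMorphism.ext h⟩⟩, fun X => ?_⟩
  exact ⟨Over.mk (Over.homMk X.hom (Category.comp_id _) : X ⟶ Over.mk (𝟙 S)), Iso.refl _,
    IsHomLift.id rfl⟩

lemma repByAlgSp_prod (hA : AlgSt.RepByAlgSp 𝒜) (hB : AlgSt.RepByAlgSp ℬ) :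
    AlgSt.RepByAlgSp (FibCat.fp (FibCat.toSelf 𝒜) (FibCat.toSelf ℬ)) := by
  let E := FibCat.toSelf (FibCat.overCat (Over.mk (𝟙 S) : Over S))
  obtain ⟨⟨_, _⟩, -⟩ := (isEquivOver_iff E).1 toSelf_final_isEquivOver
  obtain ⟨E', -, ⟨j⟩⟩ := toSelf_final_isEquivOver (S := S)
  let a := BasedFunctor.comp (FibCat.toSelf 𝒜) E'
  let b := BasedFunctor.comp (FibCat.toSelf ℬ) E'
  let i₁ : BasedFunctor.comp a E ≅ BasedFunctor.comp (BasedFunctor.id 𝒜) (FibCat.toSelf 𝒜) :=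
    (Stk.restr (FibCat.toSelf 𝒜) _).mapIso j
  let i₂ : BasedFunctor.comp b E ≅ BasedFunctor.comp (BasedFunctor.id ℬ) (FibCat.toSelf ℬ) :=
    (Stk.restr (FibCat.toSelf ℬ) _).mapIso j
  exact repByAlgSp_of_equiv
    (E := fpMap (BasedFunctor.id 𝒜) (BasedFunctor.id ℬ) E i₁ i₂)
    (fpMap_isEquivOver _ _ _ _ _ (essSurjOver_id _) (essSurjOver_id _))
    (repByAlgSp_fp_of_rep hA hB (repByAlgSp_overCat _) a b)

/-- A fibre product is a space if the diagonal is representable and the one below is a space. -/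
lemma repByAlgSp_fp_of_diag (h𝒳 : FibCat.IsFibGrpd 𝒳.p) (h𝒵 : FibCat.IsFibGrpd 𝒵.p)
    (H : 𝒳 ⥤ᵇ 𝒵) (hΔ : AlgSt.RepByAlgSp1 (FibCat.diag H)) (F : 𝒜 ⥤ᵇ 𝒳) (G : ℬ ⥤ᵇ 𝒳)
    (h : AlgSt.RepByAlgSp (FibCat.fp (BasedFunctor.comp F H) (BasedFunctor.comp G H))) :
    AlgSt.RepByAlgSp (FibCat.fp F G) :=
  repByAlgSp_of_equiv' (magicFun_isEquivOver F G H)
    (repByAlgSp_fp h𝒳 (fp_fibGrpd h𝒳 h𝒳 h𝒵) hΔ (pairMap F G H) h)

lemma repByAlgSp_fp_of_diag_toSelf (h𝒳 : FibCat.IsFibGrpd 𝒳.p)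
    (hΔ : AlgSt.RepByAlgSp1 (FibCat.diag (FibCat.toSelf 𝒳))) (F : 𝒜 ⥤ᵇ 𝒳) (G : ℬ ⥤ᵇ 𝒳)
    (hA : AlgSt.RepByAlgSp 𝒜) (hB : AlgSt.RepByAlgSp ℬ) :
    AlgSt.RepByAlgSp (FibCat.fp F G) := by
  refine repByAlgSp_fp_of_diag h𝒳 selfOver_fibGrpd (FibCat.toSelf 𝒳) hΔ F G ?_
  rw [comp_toSelf, comp_toSelf]
  exact repByAlgSp_prod hA hB

lemma repByAlgSp1_of_diag (h𝒳 : FibCat.IsFibGrpd 𝒳.p)
    (hΔ : AlgSt.RepByAlgSp1 (FibCat.diag (FibCat.toSelf 𝒳))) (hA : AlgSt.RepByAlgSp 𝒜)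
    (x : 𝒜 ⥤ᵇ 𝒳) : AlgSt.RepByAlgSp1 x := fun U y =>
  repByAlgSp_fp_of_diag_toSelf h𝒳 hΔ y x (repByAlgSp_overCat U) hA

lemma repByAlgSp1_diag_iff (h𝒳 : FibCat.IsFibGrpd 𝒳.p) :
    AlgSt.RepByAlgSp1 (FibCat.diag (FibCat.toSelf 𝒳)) ↔
      ∀ (U : Over S) (x : FibCat.overCat U ⥤ᵇ 𝒳), AlgSt.RepByAlgSp1 x := by
  refine ⟨fun h U x => repByAlgSp1_of_diag h𝒳 h (repByAlgSp_overCat U) x, fun h U z => ?_⟩
  let H := FibCat.toSelf 𝒳
  let x₁ := BasedFunctor.comp z (FibCat.fpFst H H)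
  let x₂ := BasedFunctor.comp z (FibCat.fpSnd H H)
  let m := pairMap x₁ x₂ H
  let i₀ : BasedFunctor.comp (BasedFunctor.id (FibCat.overCat U)) (BasedFunctor.comp x₁ H) ≅
      BasedFunctor.comp (BasedFunctor.id (FibCat.overCat U)) (BasedFunctor.comp x₂ H) :=
    eqToIso (congrArg (BasedFunctor.comp (BasedFunctor.id (FibCat.overCat U)))
      ((comp_toSelf x₁).trans (comp_toSelf x₂).symm))
  let δ := FibCat.fpLift (F := BasedFunctor.comp x₁ H) (G := BasedFunctor.comp x₂ H)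
    (BasedFunctor.id (FibCat.overCat U)) (BasedFunctor.id (FibCat.overCat U)) i₀
  have i : BasedFunctor.comp δ m ≅ z := by
    refine mkIso (fun s => fpIsoMk (Iso.refl _) (Iso.refl _) ?_) (fun {a b} g => ?_) (fun s => ?_)
    · have hl₁ : (FibCat.selfOver (Over S)).p.IsHomLift (𝟙 s.left)
          ((δ.comp m).obj s).obj.iso.hom :=
        fp_iso_isHomLift _ ((BasedFunctor.comp δ m).w_obj s)
      have hl₂ : (FibCat.selfOver (Over S)).p.IsHomLift (𝟙 s.left) (z.obj s).obj.iso.hom :=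
        fp_iso_isHomLift _ (z.w_obj s)
      change H.map (𝟙 _) ≫ (z.obj s).obj.iso.hom =
        ((δ.comp m).obj s).obj.iso.hom ≫ H.map (𝟙 _)
      rw [H.toFunctor.map_id, H.toFunctor.map_id, Category.id_comp, Category.comp_id]
      exact @selfOver_homLift_unique _ _ _ _ (𝟙 s.left) _ _ _ _ hl₂ hl₁
    · exact fp_hom_ext ((Category.comp_id _).trans (Category.id_comp _).symm)
        ((Category.comp_id _).trans (Category.id_comp _).symm)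
    · exact (fp_isHomLift_iff _ _).2 (IsHomLift.id (x₁.w_obj s))
  obtain ⟨E, hE⟩ := fp_congr_left (G := FibCat.diag H) i
  refine repByAlgSp_of_equiv hE (repByAlgSp_of_equiv
    (pasteBase_isEquivOver m (FibCat.diag H) δ) ?_)
  have hU := repByAlgSp_overCat U
  have hQ : AlgSt.RepByAlgSp (FibCat.fp (BasedFunctor.comp x₁ H) (BasedFunctor.comp x₂ H)) := by
    rw [comp_toSelf, comp_toSelf]
    exact repByAlgSp_prod hU hU
  have hP : AlgSt.RepByAlgSp (FibCat.fp m (FibCat.diag H)) :=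
    repByAlgSp_of_equiv (magicFun_isEquivOver x₁ x₂ H) (h U x₂ U x₁)
  exact repByAlgSp_fp_of_rep hU hP hQ δ (FibCat.fpFst m (FibCat.diag H))

lemma repByAlgSp1_of_comp (h𝒴 : FibCat.IsFibGrpd 𝒴.p) (h𝒵 : FibCat.IsFibGrpd 𝒵.p)
    {f : 𝒳 ⥤ᵇ 𝒴} {g : 𝒴 ⥤ᵇ 𝒵} (hgf : AlgSt.RepByAlgSp1 (BasedFunctor.comp f g))
    (hΔ : AlgSt.RepByAlgSp1 (FibCat.diag g)) : AlgSt.RepByAlgSp1 f := fun U y =>
  repByAlgSp_fp_of_diag h𝒴 h𝒵 g hΔ y f (hgf U (BasedFunctor.comp y g))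

end Groth.Agent.H14AlgSt
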