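import Groth.Agent.H14AlgSt.DiagCalc

/-!
# Graphs, sections and comparison maps of fibre products
-/

set_option autoImplicit false
set_option backward.isDefEq.respectTransparency false
set_option backward.isDefEq.respectTransparency.types false

universe u

open CategoryTheory Opposite AlgebraicGeometry CategoryTheory.Limits

namespace Groth.Agent.H14AlgSt

open H14Fib H14Stk

variable {S : Scheme.{u}} {P : MorphismProperty (AlgSp.Sp S)} {𝒳 𝒴 𝒵 𝒯 : AlgSt.Cat S}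

/-- The graph over the target. -/
def graphSelf (g : 𝒳 ⥤ᵇ 𝒴) : 𝒳 ⥤ᵇ FibCat.fp g (BasedFunctor.id 𝒴) :=
  FibCat.fpLift (F := g) (G := BasedFunctor.id 𝒴) (BasedFunctor.id 𝒳) g (Iso.refl g)

lemma graphSelf_isEquivOver (g : 𝒳 ⥤ᵇ 𝒴) : FibCat.IsEquivOver (graphSelf g) := by
  refine (isEquivOver_iff _).2 ⟨⟨⟨fun {x y} m => ⟨m.hom.fst, fp_hom_ext rfl ?_⟩⟩,
    ⟨fun {x y} m n h => congrArg (fun t => t.hom.fst) h⟩⟩, fun z => ?_⟩
  · have hw : g.map m.hom.fst ≫ 𝟙 _ = 𝟙 _ ≫ m.hom.snd := m.hom.w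
    exact (Category.comp_id _).symm.trans (hw.trans (Category.id_comp _))
  · refine ⟨z.obj.fst, fpIsoMk (Iso.refl _) z.obj.iso ?_, (fp_isHomLift_iff _ _).2 (IsHomLift.id rfl)⟩
    change g.map (𝟙 _) ≫ z.obj.iso.hom = 𝟙 _ ≫ z.obj.iso.hom
    rw [g.toFunctor.map_id]

lemma fpFst_id_isEquivOver (g : 𝒳 ⥤ᵇ 𝒴) :
    FibCat.IsEquivOver (FibCat.fpFst g (BasedFunctor.id 𝒴)) := by
  obtain ⟨E, ⟨i⟩, ⟨j⟩⟩ := graphSelf_isEquivOver g
  refine isEquivOver_of_iso ?_ (F := E) ⟨graphSelf g, ⟨j⟩, ⟨i⟩⟩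
  exact (post _ (FibCat.fpFst g (BasedFunctor.id 𝒴))).mapIso j

lemma fpSnd_id_isEquivOver (g : 𝒳 ⥤ᵇ 𝒴) :
    FibCat.IsEquivOver (FibCat.fpSnd (BasedFunctor.id 𝒴) g) :=
  isEquivOver_comp (fpSwap_isEquivOver (BasedFunctor.id 𝒴) g) (fpFst_id_isEquivOver g)

/-- A graph has the properties of the diagonal of the target. -/
lemma repWith_graph {p : 𝒳 ⥤ᵇ 𝒯} {q : 𝒴 ⥤ᵇ 𝒯} (g : 𝒳 ⥤ᵇ 𝒴)
    (e : BasedFunctor.comp (BasedFunctor.id 𝒳) p ≅ BasedFunctor.comp g q)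
    (h : AlgSt.RepByAlgSpWith P (FibCat.diag q)) :
    AlgSt.RepByAlgSpWith P (FibCat.fpLift (BasedFunctor.id 𝒳) g e) := by
  let M : FibCat.fp (BasedFunctor.comp g q) (BasedFunctor.comp (BasedFunctor.id 𝒴) q) ⥤ᵇ
      FibCat.fp p q :=
    fpMap (F := p) (G := q) (BasedFunctor.id 𝒳) (BasedFunctor.id 𝒴) (BasedFunctor.id 𝒯)
      e.symm (Iso.refl q)
  have hM : FibCat.IsEquivOver M :=
    fpMap_isEquivOver _ _ _ _ _ (essSurjOver_id _) (essSurjOver_id _)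
  have h1 := (repWith_equiv_comp_iff (graphSelf_isEquivOver g)).1
    ((repWith_comp_equiv_iff hM).2 (repWith_fpDown h g (BasedFunctor.id 𝒴)))
  refine repWith_of_iso ?_ h1
  refine mkIso (fun x => fpIsoMk (Iso.refl _) (Iso.refl _) ?_)
    (fun {_ _} _ => fp_hom_ext ((Category.comp_id _).trans (Category.id_comp _).symm)
      ((Category.comp_id _).trans (Category.id_comp _).symm))
    (fun _ => (fp_isHomLift_iff _ _).2 (IsHomLift.id rfl))
  change p.map (𝟙 x) ≫ (appIso e x).hom =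
    ((appIso e x).hom ≫ q.map (𝟙 (g.obj x)) ≫ 𝟙 _) ≫ q.map (𝟙 _)
  rw [p.toFunctor.map_id, q.toFunctor.map_id]
  erw [Category.comp_id, Category.comp_id, Category.id_comp]
  exact (Category.comp_id _).symm

/-- A section has the properties of the diagonal. -/
lemma repWith_section {f : 𝒳 ⥤ᵇ 𝒯} (s : 𝒯 ⥤ᵇ 𝒳)
    (e : BasedFunctor.comp s f ≅ BasedFunctor.id 𝒯) (h : AlgSt.RepByAlgSpWith P (FibCat.diag f)) :
    AlgSt.RepByAlgSpWith P s :=
  (repWith_comp_equiv_iff (fpSnd_id_isEquivOver f)).2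
    (repWith_graph (p := BasedFunctor.id 𝒯) (q := f) s e.symm h)

/-- The comparison of fibre products has the properties of the diagonal. -/
lemma repWith_fpComparison (f : 𝒳 ⥤ᵇ 𝒵) (g : 𝒴 ⥤ᵇ 𝒵) (t : 𝒵 ⥤ᵇ 𝒯)
    (e : BasedFunctor.comp (FibCat.fpFst f g) (BasedFunctor.comp f t) ≅
      BasedFunctor.comp (FibCat.fpSnd f g) (BasedFunctor.comp g t))
    (he : ∀ x, e.hom.toNatTrans.app x = t.map x.obj.iso.hom)
    (h : AlgSt.RepByAlgSpWith P (FibCat.diag t)) :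
    AlgSt.RepByAlgSpWith P (FibCat.fpLift (FibCat.fpFst f g) (FibCat.fpSnd f g) e) := by
  refine repWith_of_iso ?_ (repWith_fpDown h f g)
  refine mkIso (fun x => fpIsoMk (Iso.refl _) (Iso.refl _) ?_)
    (fun {_ _} _ => fp_hom_ext ((Category.comp_id _).trans (Category.id_comp _).symm)
      ((Category.comp_id _).trans (Category.id_comp _).symm))
    (fun _ => (fp_isHomLift_iff _ _).2 (IsHomLift.id rfl))
  change t.map (f.map (𝟙 _)) ≫ e.hom.toNatTrans.app x =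
    t.map x.obj.iso.hom ≫ t.map (g.map (𝟙 _))
  rw [he, f.toFunctor.map_id, g.toFunctor.map_id, t.toFunctor.map_id, t.toFunctor.map_id]
  erw [Category.id_comp, Category.comp_id]

end Groth.Agent.H14AlgSt
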