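import Groth.Agent.H14Fib.GenCalc
import Groth.Agent.H14AlgSt.SetoidSpace
import Groth.Agent.H14AlgSt.AlgFp
import Groth.Agent.H14AlgSt.Graph
import Groth.Agent.H14AlgSt.SpaceStack
import Groth.Agent.H12AlgSp.FppfFamily

/-!
# The diagonal of a large stack with a locally surjective point
-/

set_option autoImplicit false
set_option backward.isDefEq.respectTransparency false
set_option backward.isDefEq.respectTransparency.types false

universe u

open CategoryTheory CategoryTheory.Functor Opposite AlgebraicGeometry CategoryTheory.Limits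

noncomputable section

namespace Groth.Agent.H14AlgSt

open H14Fib H14Stk

variable {S : Scheme.{u}} {P : MorphismProperty (AlgSp.Sp S)}

section Local

variable {𝒢 : AlgSt.Cat S} {U : Over S}

/-- A stack in setoids over a scheme which is a space fppf locally is a space. -/
lemma repByAlgSp_of_local (hs : FibCat.IsFibSetoid 𝒢.p) (hst : Stk.IsStack (AlgSp.J S) 𝒢)
    (p : 𝒢 ⥤ᵇ FibCat.overCat U) {ι : Type u} (D : ι → Over S) (c : ∀ i, D i ⟶ U)
    (hflat : ∀ i, Flat (c i).left) (hlfp : ∀ i, LocallyOfFinitePresentation (c i).left)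
    (hc : ∀ z : U.left, ∃ i, z ∈ Set.range (c i).left)
    (h : ∀ i, AlgSt.RepByAlgSp (FibCat.fp (AlgSt.overMap (c i)) p)) : AlgSt.RepByAlgSp 𝒢 := by
  let C := classFun hs.1
  have hC : FibCat.IsEquivOver C := classFun_isEquivOver hs.1 hs
  let F : AlgSp.Sp S := ⟨classPsh hs.1,
    (isSheaf_iff_isSheaf_of_type _ _).2 ((isStack_ofPsh_iff _).1
      ((isStack_iff (AlgSp.J S) hC).1 hst))⟩
  obtain ⟨C', ⟨iC⟩, ⟨iC'⟩⟩ := hC
  have hC' : FibCat.IsEquivOver C' := ⟨_, ⟨iC'⟩, ⟨iC⟩⟩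
  let Φ : AlgSt.ofSp F ⥤ᵇ FibCat.overCat U := BasedFunctor.comp C' p
  let π := AlgSt.spMapOfOver Φ
  obtain ⟨kΦ⟩ := spMapOfOver_eq Φ
  obtain ⟨-, hsC⟩ := (isEquivOver_iff _).1 hC'
  obtain ⟨⟨_, _⟩, -⟩ := (isEquivOver_iff _).1 hC'
  obtain ⟨⟨_, _⟩, -⟩ := (isEquivOver_iff _).1 (toOverCat_isEquivOver U)
  have hP : ∀ i, AlgSp.IsAlgSpace (pullback π ((AlgSp.yon S).map (c i))) := fun i => by
    obtain ⟨⟨_, _⟩, hsA⟩ := (isEquivOver_iff _).1 (toOverCat_isEquivOver (D i))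
    let mk' : BasedFunctor.comp (Stk.ofPshMap ((AlgSp.yon S).map (c i)).hom) (AlgSt.toOverCat U) ≅
        BasedFunctor.comp (AlgSt.toOverCat (D i)) (AlgSt.overMap (c i)) :=
      mkIso (fun s => Iso.refl _)
        (fun {_ _} φ => (Category.comp_id _).trans ((Category.id_comp _).trans
          (Over.OverMorphism.ext rfl)).symm)
        (fun s => IsHomLift.id rfl)
    let N : FibCat.fp (Stk.ofPshMap ((AlgSp.yon S).map (c i)).hom) (AlgSt.ofSpMap π) ⥤ᵇ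
        FibCat.fp (AlgSt.overMap (c i)) p :=
      fpMap (F := AlgSt.overMap (c i)) (G := p) (AlgSt.toOverCat (D i)) C'
        (AlgSt.toOverCat U) mk' kΦ.symm
    have hN : FibCat.IsEquivOver N := fpMap_isEquivOver _ _ _ _ _ hsA hsC
    have sqp := ((IsPullback.of_hasPullback π ((AlgSp.yon S).map (c i))).flip).map
      (sheafToPresheaf (AlgSp.J S) (Type (u + 1)))
    obtain ⟨hs', hA⟩ := repByAlgSp_ofPsh_iff.1
      (repByAlgSp_of_equiv' (isEquivOver_comp (pshComparison_isEquivOver sqp) hN) (h i))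
    exact hA
  have hcov : AlgSp.IsFppfCover (fun i => (AlgSp.yon S).obj (D i))
      (fun i => (AlgSp.yon S).map (c i)) := by
    refine ⟨fun i => ⟨?_, ?_⟩, fun x => ?_⟩
    · exact H12AlgSp.locP_of_repWith H12AlgSp.etLocal_flat
        ((AlgSp.repWith_yon_map_iff _ _).2 (hflat i))
    · exact H12AlgSp.locP_of_repWith H12AlgSp.etLocal_lfp
        ((AlgSp.repWith_yon_map_iff _ _).2 (hlfp i))
    · obtain ⟨z, rfl⟩ := (AlgSp.Points.schemeEquiv U).surjective x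
      obtain ⟨i, w, rfl⟩ := hc z
      exact ⟨i, AlgSp.Points.ofScheme (D i) w, range_map_yon_map (c i) w⟩
  exact repByAlgSp_of_equiv hC' ⟨⟨F, H12AlgSp.isAlgSpace_of_fppf_local (AlgSp.IsAlgSpace.yon_obj U)
    (fun i => AlgSp.IsAlgSpace.yon_obj (D i)) hcov π hP⟩, BasedFunctor.id _, isEquivOver_id _⟩

/-- A functor to a scheme which has a property fppf locally has it. -/
lemma repData_of_local (hP : AlgSp.IsLocalOnBase AlgSp.IsFppfCover P) (hiso : SourceIsoInv P)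
    (hs : FibCat.IsFibSetoid 𝒢.p) (hst : Stk.IsStack (AlgSp.J S) 𝒢)
    (p : 𝒢 ⥤ᵇ FibCat.overCat U) {ι : Type u} (D : ι → Over S) (c : ∀ i, D i ⟶ U)
    (hflat : ∀ i, Flat (c i).left) (hlfp : ∀ i, LocallyOfFinitePresentation (c i).left)
    (hc : ∀ z : U.left, ∃ i, z ∈ Set.range (c i).left)
    (h : ∀ i, RepData P (FibCat.fpFst (AlgSt.overMap (c i)) p)) : RepData P p := by
  have hG := repByAlgSp_of_local hs hst p D c hflat hlfp hc fun i => RepData.rep P (h i)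
  have hE := fpSnd_id_isEquivOver p
  exact RepData.of_equiv P hE (FibCat.fpIso (BasedFunctor.id _) p).symm
    (repData_of_family hP hiso (BasedFunctor.id _) (repByAlgSp_of_equiv' hE hG) D c hflat hlfp hc h)

end Local

section Big

variable {𝒳 : BasedCategory.{u + 1, u + 2} (Over S)}

lemma comp_toSelfU {𝒜 : AlgSt.Cat S} (F : 𝒜 ⥤ᵇ 𝒳) :
    BasedFunctor.comp F (FibCat.toSelf 𝒳) = FibCat.toSelf 𝒜 := by
  have h : (BasedFunctor.comp F (FibCat.toSelf 𝒳)).toFunctor = (FibCat.toSelf 𝒜).toFunctor := F.w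
  revert h
  generalize BasedFunctor.comp F (FibCat.toSelf 𝒳) = A
  generalize FibCat.toSelf 𝒜 = B
  intro h
  cases A; cases B; cases h; rfl

lemma selfHom_eq {T a b : Over S} (m : (a : (FibCat.selfOver (Over S)).obj) ⟶ b)
    (h : (FibCat.selfOver (Over S)).p.IsHomLift (𝟙 T) m) :
    ∃ e : a = b, m = eqToHom e := by
  have ha : a = T := IsHomLift.domain_eq (FibCat.selfOver (Over S)).p (𝟙 T) m
  have hb : b = T := IsHomLift.codomain_eq (FibCat.selfOver (Over S)).p (𝟙 T) m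
  subst ha hb
  exact ⟨rfl, (IsHomLift.fac' (FibCat.selfOver (Over S)).p (𝟙 b) m).trans (by simp; rfl)⟩

lemma prodIsoU {𝒜 : AlgSt.Cat S}
    {Φ Ψ : 𝒜 ⥤ᵇ FibCat.fp (FibCat.toSelf 𝒳) (FibCat.toSelf 𝒳)}
    (i₁ : BasedFunctor.comp Φ (FibCat.fpFst _ _) ≅ BasedFunctor.comp Ψ (FibCat.fpFst _ _))
    (i₂ : BasedFunctor.comp Φ (FibCat.fpSnd _ _) ≅ BasedFunctor.comp Ψ (FibCat.fpSnd _ _)) :
    Nonempty (Φ ≅ Ψ) := by
  let a₁ := fun a => H14FibU.appIso i₁ a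
  let a₂ := fun a => H14FibU.appIso i₂ a
  refine ⟨H14Stk.mkIso (fun a => fpIsoMk (a₁ a) (a₂ a) ?_)
    (fun {_ _} m => fp_hom_ext (i₁.hom.toNatTrans.naturality m) (i₂.hom.toNatTrans.naturality m))
    (fun a => (fp_isHomLift_iff _ _).2 (H14FibU.appIso_lift i₁ rfl))⟩
  have l₁ : 𝒳.p.IsHomLift (𝟙 (𝒜.p.obj a)) (a₁ a).hom := H14FibU.appIso_lift i₁ rfl
  have l₂ : 𝒳.p.IsHomLift (𝟙 (𝒜.p.obj a)) (a₂ a).hom := H14FibU.appIso_lift i₂ rfl
  have k₁ := IsHomLift.fac' 𝒳.p (𝟙 (𝒜.p.obj a)) (a₁ a).hom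
  have k₂ := IsHomLift.fac' 𝒳.p (𝟙 (𝒜.p.obj a)) (a₂ a).hom
  obtain ⟨_, q₁⟩ := selfHom_eq _ (Φ.obj a).property
  obtain ⟨_, q₂⟩ := selfHom_eq _ (Ψ.obj a).property
  change 𝒳.p.map (a₁ a).hom ≫ (Ψ.obj a).obj.iso.hom =
    (Φ.obj a).obj.iso.hom ≫ 𝒳.p.map (a₂ a).hom
  rw [k₁, k₂, q₁, q₂]
  simp

/-- The point and the identity. -/
def pointPair (w₀ : FibCat.selfOver (Over S) ⥤ᵇ 𝒳) :
    𝒳 ⥤ᵇ FibCat.fp (FibCat.toSelf 𝒳) (FibCat.toSelf 𝒳) :=
  FibCat.fpLift (BasedFunctor.comp (FibCat.toSelf 𝒳) w₀) (BasedFunctor.id 𝒳)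
    (H14Stk.mkIso (fun x => eqToIso (w₀.w_obj (𝒳.p.obj x)))
      (fun {x y} m => by
        change 𝒳.p.map (w₀.map (𝒳.p.map m)) ≫ eqToHom (w₀.w_obj (𝒳.p.obj y)) =
          eqToHom (w₀.w_obj (𝒳.p.obj x)) ≫ 𝒳.p.map m
        have e := Functor.congr_hom w₀.w (𝒳.p.map m)
        change 𝒳.p.map (w₀.map (𝒳.p.map m)) = _ at e
        rw [e]
        simp
        rfl)
      (fun x => IsHomLift.of_fac' _ _ _ (w₀.w_obj _) rfl (by simp; rfl)))

/-- The base change of the diagonal along the pair is the point. -/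
lemma exists_pointPair_equiv (w₀ : FibCat.selfOver (Over S) ⥤ᵇ 𝒳) :
    ∃ E : FibCat.selfOver (Over S) ⥤ᵇ FibCat.fp (pointPair w₀) (FibCat.diag (FibCat.toSelf 𝒳)),
      FibCat.IsEquivOver E ∧ Nonempty (BasedFunctor.comp E (FibCat.fpFst _ _) ≅ w₀) := by
  have hw : ∀ T : Over S, 𝒳.p.obj (w₀.obj T) = T := fun T => w₀.w_obj T
  let c : BasedFunctor.comp w₀ (pointPair w₀) ≅
      BasedFunctor.comp w₀ (FibCat.diag (FibCat.toSelf 𝒳)) :=
    H14Stk.mkIso (fun T => fpIsoMk (w₀.toFunctor.mapIso (eqToIso (hw T))) (Iso.refl _) (by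
        change 𝒳.p.map (w₀.map (eqToHom (hw T))) ≫ 𝟙 _ =
          eqToHom (w₀.w_obj (𝒳.p.obj (w₀.obj T))) ≫ 𝒳.p.map (𝟙 (w₀.obj T))
        have e := Functor.congr_hom w₀.w (eqToHom (hw T) : 𝒳.p.obj (w₀.obj T) ⟶ T)
        change 𝒳.p.map (w₀.map (eqToHom (hw T))) = _ at e
        rw [e]
        change (eqToHom _ ≫ eqToHom (hw T) ≫ eqToHom _) ≫ 𝟙 _ = _
        simp
        exact (Category.comp_id _).symm))
      (fun {T T'} f => fp_hom_ext (by
          change w₀.map (𝒳.p.map (w₀.map f)) ≫ w₀.map (eqToHom (hw T')) =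
            w₀.map (eqToHom (hw T)) ≫ w₀.map f
          rw [← w₀.toFunctor.map_comp, ← w₀.toFunctor.map_comp]
          congr 1
          have e := Functor.congr_hom w₀.w f
          change 𝒳.p.map (w₀.map f) = _ at e
          rw [e]
          simp
          rfl)
        ((Category.comp_id _).trans (Category.id_comp _).symm))
      (fun T => (fp_isHomLift_iff _ _).2 (@BasedFunctor.preserves_isHomLift _ _ _ _ w₀ _ _ _ _
        (𝟙 T) (eqToHom (hw T)) (IsHomLift.of_fac' _ _ _ (hw T) rfl (by simp; rfl))))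
  let E := FibCat.fpLift w₀ w₀ c
  refine ⟨E, (isEquivOver_iff _).2 ⟨⟨⟨fun {T T'} m => ?_⟩, ⟨fun {T T'} f g h => ?_⟩⟩, fun z => ?_⟩,
    ⟨Iso.refl _⟩⟩
  · let a : w₀.obj T ⟶ w₀.obj T' := m.hom.fst
    let b : w₀.obj T ⟶ w₀.obj T' := m.hom.snd
    have hw' := congrArg (fun t => t.hom.fst) m.hom.w
    have hw'' := congrArg (fun t => t.hom.snd) m.hom.w
    change w₀.map (𝒳.p.map a) ≫ w₀.map (eqToHom (hw T')) = w₀.map (eqToHom (hw T)) ≫ b at hw'
    change a ≫ 𝟙 _ = 𝟙 _ ≫ b at hw''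
    rw [Category.comp_id, Category.id_comp] at hw''
    let f : T ⟶ T' := eqToHom (hw T).symm ≫ 𝒳.p.map a ≫ eqToHom (hw T')
    have hf : w₀.map f = a := by
      have he : IsIso (w₀.map (eqToHom (hw T))) :=
        inferInstanceAs (IsIso (w₀.toFunctor.map (eqToHom (hw T))))
      rw [← cancel_epi (w₀.map (eqToHom (hw T)))]
      rw [← hw''] at hw'
      rw [← hw', ← w₀.toFunctor.map_comp, ← w₀.toFunctor.map_comp]
      congr 1
      simp [f]
    exact ⟨f, fp_hom_ext hf (hf.trans hw'')⟩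
  · have h1 : w₀.map f = w₀.map g := congrArg (fun t => t.hom.fst) h
    have e := Functor.congr_hom w₀.w f
    have e' := Functor.congr_hom w₀.w g
    change 𝒳.p.map (w₀.map f) = _ at e
    change 𝒳.p.map (w₀.map g) = _ at e'
    rw [h1, e', cancel_epi, cancel_mono] at e
    exact e.symm
  · obtain ⟨⟨ξ, η, j⟩, hj⟩ := z
    let j₁ : w₀.obj (𝒳.p.obj ξ) ≅ η :=
      (FibCat.fpFst (FibCat.toSelf 𝒳) (FibCat.toSelf 𝒳)).toFunctor.mapIso j
    let j₂ : ξ ≅ η := (FibCat.fpSnd (FibCat.toSelf 𝒳) (FibCat.toSelf 𝒳)).toFunctor.mapIso j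
    have hj₁ : 𝒳.p.IsHomLift (𝟙 (𝒳.p.obj ξ)) j₁.hom :=
      @BasedFunctor.preserves_isHomLift _ _ _ _ (FibCat.fpFst (FibCat.toSelf 𝒳) (FibCat.toSelf 𝒳))
        _ _ _ _ (𝟙 _) j.hom hj
    have hj₂ : 𝒳.p.IsHomLift (𝟙 (𝒳.p.obj ξ)) j₂.hom :=
      @BasedFunctor.preserves_isHomLift _ _ _ _ (FibCat.fpSnd (FibCat.toSelf 𝒳) (FibCat.toSelf 𝒳))
        _ _ _ _ (𝟙 _) j.hom hj
    let d : w₀.obj (𝒳.p.obj ξ) ≅ ξ := j₁ ≪≫ j₂.symm
    have hd : 𝒳.p.IsHomLift (𝟙 (𝒳.p.obj ξ)) d.hom :=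
      homLift_id_comp hj₁ (@IsHomLift.lift_id_inv _ _ _ _ 𝒳.p _ _ _ j₂ hj₂)
    refine ⟨𝒳.p.obj ξ, fpIsoMk d j₁ ?_, (fp_isHomLift_iff _ _).2 ?_⟩
    swap
    · exact hd
    refine fp_hom_ext ?_ ?_
    · change w₀.map (𝒳.p.map d.hom) ≫ j₁.hom = w₀.map (eqToHom (hw _)) ≫ j₁.hom
      congr 2
      rw [IsHomLift.fac' 𝒳.p (𝟙 (𝒳.p.obj ξ)) d.hom]
      simp
    · change d.hom ≫ j₂.hom = 𝟙 _ ≫ j₁.hom
      simp [d]

/-- The diagonal of a stack has the property of a locally surjective point. -/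
theorem repWith_diag_of_point (hP : AlgSp.IsLocalOnBase AlgSp.IsFppfCover P)
    (hiso : SourceIsoInv P) (hX : Stk.IsStack (AlgSp.J S) 𝒳)
    (w₀ : FibCat.selfOver (Over S) ⥤ᵇ 𝒳) (hw : AlgSt.RepByAlgSpWith P w₀)
    (hl : ∀ (U : Over S) (y : FibCat.overCat U ⥤ᵇ 𝒳), ∃ (ι : Type u) (D : ι → Over S)
      (c : ∀ i, D i ⟶ U), (∀ i, Flat (c i).left) ∧ (∀ i, LocallyOfFinitePresentation (c i).left) ∧
      (∀ z : U.left, ∃ i, z ∈ Set.range (c i).left) ∧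
      ∀ i, Nonempty (BasedFunctor.comp (FibCat.toSelf (FibCat.overCat (D i))) w₀ ≅
        BasedFunctor.comp (AlgSt.overMap (c i)) y)) :
    AlgSt.RepByAlgSpWith P (FibCat.diag (FibCat.toSelf 𝒳)) := fun U z => by
  let H := FibCat.toSelf 𝒳
  let x₁ := BasedFunctor.comp z (FibCat.fpFst H H)
  let x₂ := BasedFunctor.comp z (FibCat.fpSnd H H)
  let m := H14FibU.pairMap x₁ x₂ H
  let i₀ : BasedFunctor.comp (BasedFunctor.id (FibCat.overCat U)) (BasedFunctor.comp x₁ H) ≅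
      BasedFunctor.comp (BasedFunctor.id (FibCat.overCat U)) (BasedFunctor.comp x₂ H) :=
    eqToIso (congrArg (BasedFunctor.comp (BasedFunctor.id (FibCat.overCat U)))
      ((comp_toSelfU x₁).trans (comp_toSelfU x₂).symm))
  let δ := FibCat.fpLift (F := BasedFunctor.comp x₁ H) (G := BasedFunctor.comp x₂ H)
    (BasedFunctor.id (FibCat.overCat U)) (BasedFunctor.id (FibCat.overCat U)) i₀
  obtain ⟨i⟩ : Nonempty (BasedFunctor.comp δ m ≅ z) :=
    prodIsoU (Iso.refl _) (Iso.refl _)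
  let π : FibCat.fp x₁ x₂ ⥤ᵇ FibCat.fp (BasedFunctor.comp x₁ H) (BasedFunctor.comp x₂ H) :=
    H14FibU.fpDown x₁ x₂ H
  have := H14FibU.basedId_full (FibCat.fp (BasedFunctor.comp x₁ H) (BasedFunctor.comp x₂ H))
  have := H14FibU.basedId_faithful (FibCat.fp (BasedFunctor.comp x₁ H) (BasedFunctor.comp x₂ H))
  have := H14FibU.basedId_full (FibCat.fp H H)
  have := H14FibU.basedId_faithful (FibCat.fp H H)
  let E₁ : FibCat.fp δ π ⥤ᵇ FibCat.fp δ (FibCat.fpFst m (FibCat.diag H)) :=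
    H14FibU.fpMap (BasedFunctor.id _) (H14FibU.magicFun x₁ x₂ H) (BasedFunctor.id _)
      (Iso.refl _) (Iso.refl _)
  have hE₁ : FibCat.IsEquivOver E₁ := by
    obtain ⟨⟨_, _⟩, hM⟩ := (isEquivOver_iff _).1 (H14FibU.magicFun_isEquivOver x₁ x₂ H)
    exact H14FibU.fpMap_isEquivOver _ _ _ _ _ (H14FibU.essSurjOver_id _) hM
  let E₂ : FibCat.fp (BasedFunctor.comp δ m) (FibCat.diag H) ⥤ᵇ FibCat.fp z (FibCat.diag H) :=
    H14FibU.fpMap (BasedFunctor.id _) (BasedFunctor.id _) (BasedFunctor.id _) i (Iso.refl _)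
  have hE₂ : FibCat.IsEquivOver E₂ :=
    H14FibU.fpMap_isEquivOver _ _ _ _ _ (H14FibU.essSurjOver_id _) (H14FibU.essSurjOver_id _)
  let Ez : FibCat.fp δ π ⥤ᵇ FibCat.fp z (FibCat.diag H) :=
    BasedFunctor.comp (BasedFunctor.comp E₁ (H14FibU.pasteBase m (FibCat.diag H) δ)) E₂
  have hEz : FibCat.IsEquivOver Ez :=
    isEquivOver_comp (isEquivOver_comp hE₁ (H14FibU.pasteBase_isEquivOver m (FibCat.diag H) δ)) hE₂
  refine RepData.of_equiv P (q := FibCat.fpFst δ π) hEz (Iso.refl _) ?_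
  -- the small model
  have hU := isStack_of_repByAlgSp (repByAlgSp_overCat U)
  have hpre := isPrestack_of_isStack hX
  have hQ : Stk.IsStack (AlgSp.J S) (FibCat.fp (BasedFunctor.comp x₁ H) (BasedFunctor.comp x₂ H)) :=
    isStack_fp _ _ hU hU (isPrestack_of_isStack (isStack_selfOver _))
  have hI : Stk.IsStack (AlgSp.J S) (FibCat.fp x₁ x₂) := isStack_fp _ _ hU hU hpre
  have hst : Stk.IsStack (AlgSp.J S) (FibCat.fp δ π) :=
    isStack_fp _ _ hU hI (isPrestack_of_isStack hQ)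
  have hs : FibCat.IsFibSetoid (FibCat.fp δ π).p := by
    refine fibSetoid_iff_faithful.2 ⟨hst.1, ⟨fun {a b} f g h => ?_⟩⟩
    have h' : f.hom.fst.left = g.hom.fst.left := h
    have e : ∀ (k : a ⟶ b), k.hom.snd.hom.fst.left =
        eqToHom (fp_snd_obj a) ≫ k.hom.fst.left ≫ eqToHom (fp_snd_obj b).symm := fun k => Functor.congr_hom (FibCat.fpSnd δ π).w k
    have e' : ∀ (k : a ⟶ b), k.hom.snd.hom.snd.left =
        eqToHom (fp_snd_obj a.obj.snd) ≫ k.hom.snd.hom.fst.left ≫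
          eqToHom (fp_snd_obj b.obj.snd).symm := fun k => Functor.congr_hom (FibCat.fpSnd x₁ x₂).w k.hom.snd
    refine fp_hom_ext (Over.OverMorphism.ext h')
      (fp_hom_ext (Over.OverMorphism.ext ?_) (Over.OverMorphism.ext ?_))
    · rw [e f, e g, h']
    · rw [e' f, e' g, e f, e g, h']
  obtain ⟨ι, D, c, hc₁, hc₂, hc₃, hc₄⟩ := hl U x₁
  refine repData_of_local hP hiso hs hst (FibCat.fpFst δ π) D c hc₁ hc₂ hc₃ fun j => ?_
  obtain ⟨k⟩ := hc₄ j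
  let x' := BasedFunctor.comp (AlgSt.overMap (c j)) x₂
  obtain ⟨i'⟩ : Nonempty (BasedFunctor.comp x' (pointPair w₀) ≅
      BasedFunctor.comp (AlgSt.overMap (c j)) z) :=
    prodIsoU (eqToIso (congrArg (fun t => BasedFunctor.comp t w₀) (comp_toSelfU x')) ≪≫ k)
      (Iso.refl _)
  obtain ⟨E₀, hE₀, ⟨i₀'⟩⟩ := exists_pointPair_equiv w₀
  obtain ⟨⟨_, _⟩, hE₀s⟩ := (isEquivOver_iff _).1 hE₀
  have s1 : RepData P (FibCat.fpFst x' (FibCat.fpFst (pointPair w₀) (FibCat.diag H))) :=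
    RepData.of_equiv P
      (E := H14FibU.fpMap (BasedFunctor.id _) E₀ (BasedFunctor.id 𝒳) (Iso.refl _) i₀'.symm)
      (H14FibU.fpMap_isEquivOver _ _ _ _ _ (H14FibU.essSurjOver_id _) hE₀s) (Iso.refl _)
      (hw (D j) x')
  have s2 : RepData P (FibCat.fpFst (BasedFunctor.comp x' (pointPair w₀)) (FibCat.diag H)) :=
    RepData.of_equiv P (H14FibU.pasteBase_isEquivOver (pointPair w₀) (FibCat.diag H) x')
      (Iso.refl _) s1
  have s3 : RepData P (FibCat.fpFst (BasedFunctor.comp (AlgSt.overMap (c j)) z) (FibCat.diag H)) :=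
    RepData.of_equiv P
      (E := H14FibU.fpMap (BasedFunctor.id _) (BasedFunctor.id _) (BasedFunctor.id _) i' (Iso.refl _))
      (H14FibU.fpMap_isEquivOver _ _ _ _ _ (H14FibU.essSurjOver_id _) (H14FibU.essSurjOver_id _))
      (Iso.refl _) s2
  have s4 : RepData P (FibCat.fpFst (AlgSt.overMap (c j)) (FibCat.fpFst z (FibCat.diag H))) :=
    RepData.of_equiv' P (H14FibU.pasteBase_isEquivOver z (FibCat.diag H) (AlgSt.overMap (c j)))
      (Iso.refl _) s3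
  obtain ⟨⟨_, _⟩, hEs⟩ := (isEquivOver_iff _).1 hEz
  exact RepData.of_equiv' P
    (E := H14FibU.fpMap (F := AlgSt.overMap (c j)) (G := FibCat.fpFst z (FibCat.diag H))
      (BasedFunctor.id _) Ez (BasedFunctor.id (FibCat.overCat U)) (Iso.refl _) (Iso.refl _))
    (H14FibU.fpMap_isEquivOver _ _ _ _ _ (H14FibU.essSurjOver_id _) hEs) (Iso.refl _) s4

end Big

end Groth.Agent.H14AlgSt
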