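import Groth.Agent.H14AlgSt.Substack
import Groth.Agent.H14AlgSt.Faithful
import Groth.Agent.H14AlgSt.Invariance

/-!
# Monomorphisms are equivalences onto their images
-/

set_option autoImplicit false
set_option backward.isDefEq.respectTransparency false
set_option backward.isDefEq.respectTransparency.types false

universe u

open CategoryTheory CategoryTheory.Functor Opposite AlgebraicGeometry CategoryTheory.Limits

noncomputable section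

namespace Groth.Agent.H14AlgSt

open H14Fib H14Stk

variable {S : Scheme.{u}} {𝒳 𝒴 𝒵 : AlgSt.Cat S}

local notation "K₀" => Scheme.fppfPrecoverage

/-- The essential image of a functor. -/
def imPred (i : 𝒵 ⥤ᵇ 𝒳) : 𝒳.obj → Prop := fun a => ∃ z, Nonempty (i.obj z ≅ a)

lemma imPred_obj (i : 𝒵 ⥤ᵇ 𝒳) (z : 𝒵.obj) : imPred i (i.obj z) := ⟨z, ⟨Iso.refl _⟩⟩

lemma imPred_closed (i : 𝒵 ⥤ᵇ 𝒳) : ObjectProperty.IsClosedUnderIsomorphisms (imPred i) :=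
  ⟨fun e ⟨z, ⟨d⟩⟩ => ⟨z, ⟨d ≪≫ e⟩⟩⟩

/-- A monomorphism onto its essential image. -/
def toImage (i : 𝒵 ⥤ᵇ 𝒳) : 𝒵 ⥤ᵇ AlgSt.fullSub 𝒳 (imPred i) := liftSub i (imPred_obj i)

lemma toImage_isEquivOver (hZ : FibCat.IsFibGrpd 𝒵.p) (hX : FibCat.IsFibGrpd 𝒳.p)
    {i : 𝒵 ⥤ᵇ 𝒳} (hi : AlgSt.IsMono i) : FibCat.IsEquivOver (toImage i) := by
  have := faithful_of_repByAlgSp1 hZ hX (repByAlgSp1_of_with hi)
  have := full_of_isMono hZ hX hi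
  refine (isEquivOver_iff _).2 ⟨⟨⟨fun {a b} f => ?_⟩, ⟨fun {a b} f g e => ?_⟩⟩, fun a => ?_⟩
  · exact ⟨i.toFunctor.preimage f.hom, ObjectProperty.hom_ext _ (i.toFunctor.map_preimage f.hom)⟩
  · exact i.toFunctor.map_injective (congrArg (fun t => t.hom) e)
  · obtain ⟨z, ⟨e⟩⟩ := a.property
    let g : 𝒳.p.obj a.obj ⟶ 𝒵.p.obj z := 𝒳.p.map e.inv ≫ eqToHom (i.w_obj z)
    have he : 𝒳.p.IsHomLift g e.inv :=
      IsHomLift.of_fac' 𝒳.p g e.inv rfl (i.w_obj z) (by simp [g])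
    obtain ⟨z', ψ, hψ⟩ := hZ.exists_lift g
    have hψ' : 𝒳.p.IsHomLift g (i.map ψ) := i.preserves_isHomLift g ψ
    obtain ⟨d, hd, -⟩ := exists_vertIso hX g (i.map ψ) e.inv
    exact ⟨z', ObjectProperty.isoMk _ d,
      (BasedFunctor.isHomLift_iff (AlgSt.subIncl 𝒳 (imPred i)) _ _).1 hd⟩

lemma isMono_of_isImm {i : 𝒵 ⥤ᵇ 𝒳} (h : AlgSt.IsImm i) : AlgSt.IsMono i :=
  repWith_mono (fun _ _ _ ha => H12AlgSp.mono_of_repWith (fun _ _ g (_ : IsImmersion g) =>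
    (inferInstanceAs (Mono g) : Mono g)) ha) h

lemma imPred_alg (hZ : AlgSt.IsAlgStack K₀ 𝒵) (hX : FibCat.IsFibGrpd 𝒳.p) {i : 𝒵 ⥤ᵇ 𝒳}
    (hi : AlgSt.IsMono i) : AlgSt.IsAlgStack K₀ (AlgSt.fullSub 𝒳 (imPred i)) :=
  (isAlgStack_iff K₀ (toImage_isEquivOver hZ.isStack.1 hX hi)).1 hZ

lemma imPred_repWith {P : MorphismProperty (AlgSp.Sp S)} (hZ : FibCat.IsFibGrpd 𝒵.p)
    (hX : FibCat.IsFibGrpd 𝒳.p) {i : 𝒵 ⥤ᵇ 𝒳} (hm : AlgSt.IsMono i)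
    (h : AlgSt.RepByAlgSpWith P i) : AlgSt.RepByAlgSpWith P (AlgSt.subIncl 𝒳 (imPred i)) :=
  (repWith_equiv_comp_iff (toImage_isEquivOver hZ hX hm)).2
    (repWith_of_iso (liftSubIso i (imPred_obj i)).symm h)

lemma eq_imPred {Q : 𝒳.obj → Prop} (hc : ObjectProperty.IsClosedUnderIsomorphisms Q)
    {i : 𝒵 ⥤ᵇ 𝒳} {i' : 𝒵 ⥤ᵇ AlgSt.fullSub 𝒳 Q} (he : FibCat.IsEquivOver i')
    (e : BasedFunctor.comp i' (AlgSt.subIncl 𝒳 Q) ≅ i) : Q = imPred i := by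
  funext a
  apply propext
  constructor
  · intro ha
    obtain ⟨z, d, -⟩ := essSurjOver_of_isEquivOver he ⟨a, ha⟩
    exact ⟨z, ⟨(appIso e z).symm ≪≫ (AlgSt.subIncl 𝒳 Q).toFunctor.mapIso d⟩⟩
  · rintro ⟨z, ⟨d⟩⟩
    exact hc.of_iso (appIso e z ≪≫ d) (i'.obj z).property

/-- Properties read on smooth charts are invariant under equivalence. -/
lemma smoothLocally_of_equiv {P : Scheme.{u} → Prop} {e : 𝒳 ⥤ᵇ 𝒴} (he : FibCat.IsEquivOver e)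
    (h : AlgSt.SmoothLocally P 𝒳) : AlgSt.SmoothLocally P 𝒴 := by
  intro U y hy
  obtain ⟨e', ⟨j⟩, ⟨j'⟩⟩ := he
  have he' : FibCat.IsEquivOver e' := ⟨e, ⟨j'⟩, ⟨j⟩⟩
  exact h U (BasedFunctor.comp y e') ((repWith_comp_equiv_iff he').2 hy)

end Groth.Agent.H14AlgSt
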