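import Groth.Agent.H14AlgSt.Points
import Groth.Agent.H14AlgSt.DiagCalc
import Mathlib.AlgebraicGeometry.Morphisms.Affine

/-!
# Morphisms of algebraic stacks read on points
-/

set_option autoImplicit false
set_option backward.isDefEq.respectTransparency false
set_option backward.isDefEq.respectTransparency.types false

universe u

open CategoryTheory CategoryTheory.Functor Opposite AlgebraicGeometry CategoryTheory.Limits

noncomputable section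

namespace Groth.Agent.H14AlgSt

open H14Fib H14Stk

variable {S : Scheme.{u}} {𝒳 𝒴 𝒵 : AlgSt.Cat S}

local notation "K₀" => Scheme.fppfPrecoverage

lemma isAlgStack_fp' (hX : AlgSt.IsAlgStack K₀ 𝒳) (hY : AlgSt.IsAlgStack K₀ 𝒴)
    (hZ : AlgSt.IsAlgStack K₀ 𝒵) (f : 𝒳 ⥤ᵇ 𝒵) (g : 𝒴 ⥤ᵇ 𝒵) :
    AlgSt.IsAlgStack K₀ (FibCat.fp f g) :=
  isAlgStack_fp K₀ hZ.isStack hZ.diag hX hY f g

/-! ### Universally injective morphisms -/

lemma isUnivInjective_comp (hY : AlgSt.IsAlgStack K₀ 𝒴) (hZ : AlgSt.IsAlgStack K₀ 𝒵)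
    {f : 𝒳 ⥤ᵇ 𝒴} {g : 𝒴 ⥤ᵇ 𝒵} (hf : AlgSt.IsUnivInjective K₀ f)
    (hg : AlgSt.IsUnivInjective K₀ g) : AlgSt.IsUnivInjective K₀ (BasedFunctor.comp f g) := by
  intro 𝒲 hW z a b hab
  obtain ⟨a', rfl⟩ := (points_map_bijective (pasteComp_isEquivOver z g f)).2 a
  obtain ⟨b', rfl⟩ := (points_map_bijective (pasteComp_isEquivOver z g f)).2 b
  rw [← points_map_comp, ← points_map_comp] at hab
  have e : BasedFunctor.comp (pasteComp z g f) (FibCat.fpFst z (BasedFunctor.comp f g)) =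
      BasedFunctor.comp (FibCat.fpFst (FibCat.fpSnd z g) f) (FibCat.fpFst z g) := rfl
  rw [e, points_map_comp, points_map_comp] at hab
  rw [hf _ (isAlgStack_fp' hW hY hZ z g) (FibCat.fpSnd z g) (hg _ hW z hab)]

lemma isUnivInjective_fpFst {f : 𝒳 ⥤ᵇ 𝒴} (g : 𝒵 ⥤ᵇ 𝒴) (hf : AlgSt.IsUnivInjective K₀ f) :
    AlgSt.IsUnivInjective K₀ (FibCat.fpFst g f) := by
  intro 𝒲 hW z a b hab
  apply (points_map_bijective (pasteBase_isEquivOver g f z)).1
  apply hf _ hW (BasedFunctor.comp z g)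
  rw [← points_map_comp, ← points_map_comp]
  exact hab

lemma surjective_diag_of_isUnivInjective (hX : AlgSt.IsAlgStack K₀ 𝒳) {f : 𝒳 ⥤ᵇ 𝒴}
    (hf : AlgSt.IsUnivInjective K₀ f) : AlgSt.IsSurjective (FibCat.diag f) := by
  intro w
  refine ⟨AlgSt.Points.map (FibCat.fpFst f f) w, hf 𝒳 hX f ?_⟩
  obtain ⟨p, rfl⟩ := AlgSt.Points.mk_surjective w
  rfl

lemma isUnivInjective_of_surjective_diag (hX : FibCat.IsFibGrpd 𝒳.p) (hY : FibCat.IsFibGrpd 𝒴.p)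
    {f : 𝒳 ⥤ᵇ 𝒴} (hΔ : AlgSt.IsSurjective (FibCat.diag f)) : AlgSt.IsUnivInjective K₀ f := by
  intro 𝒲 hW z a b hab
  let pr := FibCat.fpFst z f
  have hP := fp_fibGrpd (F := z) (G := f) hW.isStack.1 hX hY
  have hPP := fp_fibGrpd (F := pr) (G := pr) hP hP hW.isStack.1
  have hXX := fp_fibGrpd (F := f) (G := f) hX hX hY
  obtain ⟨q, hq₁, hq₂⟩ := exists_points_fp hP hP hW.isStack.1 (F := pr) (G := pr) hab
  obtain ⟨x, hx⟩ := hΔ (AlgSt.Points.map (basePair z f) q)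
  obtain ⟨t, ht, -⟩ := exists_points_fp hPP hX hXX (F := basePair z f) (G := FibCat.diag f) hx.symm
  obtain ⟨v, rfl⟩ := (points_map_bijective (diagBase_isEquivOver z f)).2 t
  rw [← points_map_comp] at ht
  rw [← hq₁, ← hq₂, ← ht]
  obtain ⟨p, rfl⟩ := AlgSt.Points.mk_surjective v
  rfl

/-- A point of `𝒳 ×_𝒴 𝒳` over the image of a cover comes from the cover. -/
lemma exists_point_basePair (hX : FibCat.IsFibGrpd 𝒳.p) (hY : FibCat.IsFibGrpd 𝒴.p)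
    (hZ : FibCat.IsFibGrpd 𝒵.p) {f : 𝒳 ⥤ᵇ 𝒴} {z : 𝒵 ⥤ᵇ 𝒴} (w : AlgSt.Points (FibCat.fp f f))
    (hw : AlgSt.Points.map f (AlgSt.Points.map (FibCat.fpFst f f) w) ∈
      Set.range (AlgSt.Points.map z)) :
    ∃ q, AlgSt.Points.map (basePair z f) q = w := by
  obtain ⟨a, ha⟩ := hw
  rw [← points_map_comp] at ha
  let y := BasedFunctor.comp (FibCat.fpFst f f) f
  obtain ⟨v, -, hv⟩ := exists_points_fp hZ (fp_fibGrpd (F := f) (G := f) hX hX hY) hY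
    (F := z) (G := y) ha
  let 𝒲 := FibCat.fp z y
  let z' : 𝒲 ⥤ᵇ 𝒵 := FibCat.fpFst z y
  let x : 𝒲 ⥤ᵇ FibCat.fp f f := FibCat.fpSnd z y
  let σ₁ := FibCat.fpLift (F := z) (G := f) z' (BasedFunctor.comp x (FibCat.fpFst f f))
    (FibCat.fpIso z y)
  let σ₂ := FibCat.fpLift (F := z) (G := f) z' (BasedFunctor.comp x (FibCat.fpSnd f f))
    (FibCat.fpIso z y ≪≫ (Stk.restr x _).mapIso (FibCat.fpIso f f))
  let σ := FibCat.fpLift (F := FibCat.fpFst z f) (G := FibCat.fpFst z f) σ₁ σ₂ (Iso.refl z')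
  have i : BasedFunctor.comp σ (basePair z f) ≅ x := by
    refine mkIso (fun s => fpIsoMk (Iso.refl _) (Iso.refl _) ?_)
      (fun {_ _} _ => fp_hom_ext ((Category.comp_id _).trans (Category.id_comp _).symm)
        ((Category.comp_id _).trans (Category.id_comp _).symm))
      (fun s => (fp_isHomLift_iff _ _).2
        (IsHomLift.id ((BasedFunctor.comp x (FibCat.fpFst f f)).w_obj s)))
    change f.map (𝟙 _) ≫ (x.obj s).obj.iso.hom =
      (s.obj.iso.inv ≫ z.map (𝟙 (z'.obj s)) ≫ s.obj.iso.hom ≫ (x.obj s).obj.iso.hom) ≫ f.map (𝟙 _)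
    rw [f.toFunctor.map_id, f.toFunctor.map_id]
    erw [z.toFunctor.map_id]
    erw [Category.id_comp, Category.comp_id, Category.id_comp]
    rw [Iso.inv_hom_id_assoc]
  exact ⟨AlgSt.Points.map σ v, by rw [← points_map_comp, points_map_iso i, hv]⟩

lemma surjective_diag_of_cover (hX : AlgSt.IsAlgStack K₀ 𝒳) (hY : AlgSt.IsAlgStack K₀ 𝒴)
    {f : 𝒳 ⥤ᵇ 𝒴}
    (h : ∀ y : AlgSt.Points 𝒴, ∃ (𝒲 : AlgSt.Cat S) (_ : AlgSt.IsAlgStack K₀ 𝒲) (z : 𝒲 ⥤ᵇ 𝒴),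
      y ∈ Set.range (AlgSt.Points.map z) ∧ AlgSt.IsUnivInjective K₀ (FibCat.fpFst z f)) :
    AlgSt.IsSurjective (FibCat.diag f) := by
  intro w
  obtain ⟨𝒲, hW, z, hy, hi⟩ := h (AlgSt.Points.map f (AlgSt.Points.map (FibCat.fpFst f f) w))
  obtain ⟨q, rfl⟩ := exists_point_basePair hX.isStack.1 hY.isStack.1 hW.isStack.1 w hy
  obtain ⟨v, rfl⟩ := surjective_diag_of_isUnivInjective (isAlgStack_fp' hW hX hY z f) hi q
  refine ⟨AlgSt.Points.map (FibCat.fpSnd z f) v, ?_⟩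
  rw [← points_map_comp, ← points_map_comp]
  exact points_map_iso (mkIso (diagBaseIso z f)
    (fun {_ _} m => fp_hom_ext ((Category.comp_id _).trans (Category.id_comp _).symm)
      ((Category.comp_id _).trans (Category.id_comp _).symm))
    (fun s => (fp_isHomLift_iff _ _).2 (IsHomLift.id (fp_snd_obj s)))).symm v

/-! ### Quasi-compactness -/

lemma compactSpace_points (hX : AlgSt.IsAlgStack K₀ 𝒳) (h : AlgSt.IsQuasiCompact 𝒳) :
    CompactSpace (AlgSt.Points 𝒳) := by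
  obtain ⟨U, x, hU, hx, hxs⟩ := h
  have := hU
  refine ⟨?_⟩
  rw [← Set.range_eq_univ.2 (ofChart_surjective hX.isStack.1 hxs)]
  exact isCompact_range (continuous_ofChart hX x)

lemma repWith_overMap_smooth {A U : Over S} (c : A ⟶ U) [Smooth c.left] :
    AlgSt.RepByAlgSpWith (AlgSp.LocP @Smooth) (AlgSt.overMap c) := by
  have h := repWith_locP_of_repWith H12AlgSp.etLocal_smooth ((AlgSp.yon S).map c)
    ((AlgSp.repWith_yon_map_iff @Smooth c).2 ‹_›)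
  refine repWith_of_iso (mkIso (fun s => Iso.refl _)
      (fun {_ _} φ => (Category.comp_id _).trans ((Category.id_comp _).trans
        (Over.OverMorphism.ext rfl)).symm)
      (fun s => IsHomLift.id rfl) :
    BasedFunctor.comp (BasedFunctor.comp (AlgSt.ofOverCat A) (AlgSt.ofSpMap ((AlgSp.yon S).map c)))
      (AlgSt.toOverCat U) ≅ AlgSt.overMap c) ?_
  exact (repWith_comp_equiv_iff (toOverCat_isEquivOver U)).2
    ((repWith_equiv_comp_iff (ofOverCat_isEquivOver A)).1 h)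

lemma isQuasiCompact_of_compactSpace (hX : AlgSt.IsAlgStack K₀ 𝒳)
    (h : CompactSpace (AlgSt.Points 𝒳)) : AlgSt.IsQuasiCompact 𝒳 := by
  obtain ⟨U, x, hx, hxs⟩ := hX.atlas
  have ho := isOpenMap_ofChart hX.isStack.1
    (repWith_mono (fun _ _ _ h => H12AlgSp.locP_mono
      (fun _ _ g (_ : Smooth g) => (inferInstance : Flat g)) h) hx)
    (repWith_mono (fun _ _ _ h => H12AlgSp.locP_mono
      (fun _ _ g (_ : Smooth g) => (inferInstance : LocallyOfFinitePresentation g)) h) hx)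
  obtain ⟨s, hs⟩ := isCompact_univ.elim_finite_subcover
    (fun W : U.left.affineOpens => AlgSt.Points.ofChart x '' (W.1 : Set U.left))
    (fun W => ho _ W.1.isOpen) (fun y _ => by
      obtain ⟨t, rfl⟩ := ofChart_surjective hX.isStack.1 hxs y
      obtain ⟨W, hW⟩ := TopologicalSpace.Opens.mem_iSup.1
        ((iSup_affineOpens_eq_top U.left).ge (Set.mem_univ t))
      exact Set.mem_iUnion.2 ⟨W, t, hW, rfl⟩)
  let W : Fin s.card → U.left.affineOpens := fun i => (s.equivFin.symm i).1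
  have : ∀ i, IsAffine (W i).1.toScheme := fun i => (W i).2
  let σ : (∐ fun i => (W i).1.toScheme) ⟶ U.left := Sigma.desc fun i => (W i).1.ι
  have : Smooth σ := IsZariskiLocalAtSource.sigmaDesc (P := @Smooth) fun i => inferInstance
  let A : Over S := Over.mk (σ ≫ U.hom)
  let c : A ⟶ U := Over.homMk σ rfl
  have : Smooth c.left := ‹Smooth σ›
  have hA := (isFibSetoid_of_rep (repByAlgSp_overCat A)).1
  have hU := (isFibSetoid_of_rep (repByAlgSp_overCat U)).1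
  have hsm := repWith_locP_comp H12AlgSp.etLocal_smooth hA hU (repWith_overMap_smooth c) hx
  refine ⟨A, _, inferInstanceAs (IsAffine (∐ fun i => (W i).1.toScheme)), hsm,
    repWith_surjective_of_points hA hX.isStack.1 (repByAlgSp1_of_with hsm) fun y => ?_⟩
  obtain ⟨V, hV, t, ht, rfl⟩ := Set.mem_iUnion₂.1 (hs (Set.mem_univ y))
  let i := s.equivFin ⟨V, hV⟩
  have e : W i = V := congrArg Subtype.val (Equiv.symm_apply_apply _ _)
  have ht' : t ∈ (W i).1 := by rw [e]; exact ht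
  let a : A.left := Sigma.ι (fun i => (W i).1.toScheme) i ⟨t, ht'⟩
  refine ⟨AlgSt.Points.ofChart (BasedFunctor.id (FibCat.overCat A)) a, ?_⟩
  rw [points_map_comp, map_eq_ofChart, chartPoint_overMap, chartPoint_ofChart]
  congr 1
  change σ a = t
  rw [← Scheme.Hom.comp_apply, Sigma.ι_desc]
  rfl

lemma isQuasiCompact_of_surjective (hX : AlgSt.IsAlgStack K₀ 𝒳) (hY : AlgSt.IsAlgStack K₀ 𝒴)
    (h : AlgSt.IsQuasiCompact 𝒳) (f : 𝒳 ⥤ᵇ 𝒴) (hf : Function.Surjective (AlgSt.Points.map f)) :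
    AlgSt.IsQuasiCompact 𝒴 := by
  refine isQuasiCompact_of_compactSpace hY ⟨?_⟩
  have := compactSpace_points hX h
  rw [← Set.range_eq_univ.2 hf]
  exact isCompact_range (continuous_points_map hY f)

lemma isQCMor_fpFst (hX : AlgSt.IsAlgStack K₀ 𝒳) (hY : AlgSt.IsAlgStack K₀ 𝒴)
    (hZ : AlgSt.IsAlgStack K₀ 𝒵) {f : 𝒳 ⥤ᵇ 𝒴} (g : 𝒵 ⥤ᵇ 𝒴)
    (hf : AlgSt.IsQuasiCompactMor K₀ f) : AlgSt.IsQuasiCompactMor K₀ (FibCat.fpFst g f) := by
  intro 𝒲 hW hWc z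
  obtain ⟨E, ⟨i⟩, ⟨j⟩⟩ := pasteBase_isEquivOver g f z
  exact isQuasiCompact_of_surjective (isAlgStack_fp' hW hX hY _ f)
    (isAlgStack_fp' hW (isAlgStack_fp' hZ hX hY g f) hZ z _) (hf _ hW hWc _) E
    (points_map_bijective ⟨pasteBase g f z, ⟨j⟩, ⟨i⟩⟩).2

lemma isQCMor_comp (hX : AlgSt.IsAlgStack K₀ 𝒳) (hY : AlgSt.IsAlgStack K₀ 𝒴)
    (hZ : AlgSt.IsAlgStack K₀ 𝒵) {f : 𝒳 ⥤ᵇ 𝒴} {g : 𝒴 ⥤ᵇ 𝒵}
    (hf : AlgSt.IsQuasiCompactMor K₀ f) (hg : AlgSt.IsQuasiCompactMor K₀ g) :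
    AlgSt.IsQuasiCompactMor K₀ (BasedFunctor.comp f g) := by
  intro 𝒲 hW hWc z
  have h1 := isAlgStack_fp' hW hY hZ z g
  exact isQuasiCompact_of_surjective (isAlgStack_fp' h1 hX hY _ f) (isAlgStack_fp' hW hX hZ z _)
    (hf _ h1 (hg _ hW hWc z) (FibCat.fpSnd z g)) (pasteComp z g f)
    (points_map_bijective (pasteComp_isEquivOver z g f)).2

lemma isQCMor_of_surjective (hX : AlgSt.IsAlgStack K₀ 𝒳) (hY : AlgSt.IsAlgStack K₀ 𝒴)
    (hZ : AlgSt.IsAlgStack K₀ 𝒵) {f : 𝒳 ⥤ᵇ 𝒴} {p : 𝒳 ⥤ᵇ 𝒵} {q : 𝒴 ⥤ᵇ 𝒵}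
    (e : BasedFunctor.comp f q ≅ p) (hf : AlgSt.IsSurjective f)
    (hp : AlgSt.IsQuasiCompactMor K₀ p) : AlgSt.IsQuasiCompactMor K₀ q := by
  intro 𝒲 hW hWc z
  let E : FibCat.fp z (BasedFunctor.comp f q) ⥤ᵇ FibCat.fp z p :=
    fpMap (F := z) (G := p) (BasedFunctor.id 𝒲) (BasedFunctor.id 𝒳) (BasedFunctor.id 𝒵)
      (Iso.refl z) e
  have hE := isEquivOver_comp (pasteComp_isEquivOver z q f)
    (fpMap_isEquivOver (F := z) (G := p) (BasedFunctor.id 𝒲) (BasedFunctor.id 𝒳)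
      (BasedFunctor.id 𝒵) (Iso.refl z) e (essSurjOver_id _) (essSurjOver_id _))
  obtain ⟨E', ⟨i⟩, ⟨j⟩⟩ := hE
  have hP := isAlgStack_fp' hW hX hZ z p
  have hQ := isAlgStack_fp' hW hY hZ z q
  have hR := isAlgStack_fp' hQ hX hY (FibCat.fpSnd z q) f
  refine isQuasiCompact_of_surjective hR hQ
    (isQuasiCompact_of_surjective hP hR (hp _ hW hWc z) E'
      (points_map_bijective ⟨_, ⟨j⟩, ⟨i⟩⟩).2) (FibCat.fpFst (FibCat.fpSnd z q) f) fun w => ?_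
  obtain ⟨x, hx⟩ := hf (AlgSt.Points.map (FibCat.fpSnd z q) w)
  obtain ⟨t, ht, -⟩ := exists_points_fp hQ.isStack.1 hX.isStack.1 hY.isStack.1
    (F := FibCat.fpSnd z q) (G := f) hx.symm
  exact ⟨t, ht⟩

end Groth.Agent.H14AlgSt
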