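import Groth.Prelude.Def_AlgSt3
import Groth.Agent.H14AlgSt.Graph
import Groth.Agent.H14AlgSt.PointsMor
import Groth.Agent.H13AlgSp.LocalST

/-!
# Properties of morphisms of algebraic stacks read on charts
-/

set_option autoImplicit false
set_option backward.isDefEq.respectTransparency false
set_option backward.isDefEq.respectTransparency.types false

universe u

open CategoryTheory Opposite AlgebraicGeometry CategoryTheory.Limits

noncomputable section

namespace Groth.Agent.H14AlgSt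

open H14Fib H14Stk H13AlgSp

variable {S : Scheme.{u}} {P : MorphismProperty (AlgSp.Sp S)} {𝒳 𝒴 𝒵 : AlgSt.Cat S}

lemma spMapOfOver_overMap {F : AlgSp.Sp S} {U V : Over S}
    (Φ : AlgSt.ofSp F ⥤ᵇ FibCat.overCat U) (h : U ⟶ V) :
    AlgSt.spMapOfOver (BasedFunctor.comp Φ (AlgSt.overMap h)) =
      AlgSt.spMapOfOver Φ ≫ (AlgSp.yon S).map h := by
  apply Sheaf.hom_ext
  ext T x
  apply ULift.ext
  exact (Category.assoc _ _ _).symm

lemma prop_of_repWith_spMap (hiso : SourceIsoInv P) {F : AlgSp.Space S} {V : Over S}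
    {Φ : AlgSt.ofSp F.obj ⥤ᵇ FibCat.overCat V} (h : AlgSt.RepByAlgSpWith P Φ) :
    P (AlgSt.spMapOfOver Φ) := by
  let E : AlgSt.ofSp F.obj ⥤ᵇ FibCat.fp (BasedFunctor.id (FibCat.overCat V)) Φ :=
    BasedFunctor.comp (graphSelf Φ) (fpSwap Φ (BasedFunctor.id (FibCat.overCat V)))
  have hE : FibCat.IsEquivOver E :=
    isEquivOver_comp (graphSelf_isEquivOver Φ) (fpSwap_isEquivOver _ _)
  obtain ⟨k⟩ := spMapOfOver_eq Φ
  exact prop_of_repData hiso (h V (BasedFunctor.id _)) hE k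

lemma prop_of_repWith_ofSpMap (hiso : SourceIsoInv P) (hloc : TestOnSchemes P)
    {G F : AlgSp.Sp S} (hG : AlgSp.IsAlgSpace G) (hF : AlgSp.IsAlgSpace F) {π : G ⟶ F}
    (h : AlgSt.RepByAlgSpWith P (AlgSt.ofSpMap π)) : P π := by
  refine hloc π hG hF fun T x W fst snd sq => ?_
  have sq' : IsPullback snd.hom fst.hom x.hom π.hom :=
    (sq.map (sheafToPresheaf (AlgSp.J S) (Type (u + 1)))).flip
  obtain ⟨E, hE, ⟨i⟩⟩ := exists_comparison π.hom
    (BasedFunctor.comp (AlgSt.ofOverCat T) (Stk.ofPshMap x.hom))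
    (p := snd.hom) (q := fst.hom) (by rw [testMap_ofOverCat]; exact sq')
  obtain ⟨_, hA, X, m, hm, hp⟩ := exists_iso_of_repData (RepData.of_equiv' P hE i (h T _))
  exact @hiso X.obj W ((AlgSp.yon S).obj T) m hm snd X.property (AlgSp.IsAlgSpace.yon_obj T) hp

/-- The composition of an isomorphism of spaces with a morphism. -/
lemma sourceIsoInv_of_smLocal (hP : AlgSp.IsSmoothLocalST P) : SourceIsoInv P := by
  intro A B C m _ π hA hC h
  have hB := hA.of_iso (asIso m)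
  have := hP.precomp hB hA hC (inv m) _
    (H12AlgSp.locP_of_repWith H12AlgSp.etLocal_smooth (H12AlgSp.repWith_of_isIso _)) h
  simpa using this

lemma testOnSchemes_of_smLocal (hP : AlgSp.IsSmoothLocalST P) : TestOnSchemes P := by
  intro G F a hG hF h
  obtain ⟨U, p, hpe, hps⟩ := hF.atlas
  have sq := IsPullback.of_hasPullback a p
  have hW := H12AlgSp.isAlgSpace_of_isPullback hF.diag hG (AlgSp.IsAlgSpace.yon_obj U) sq
  refine (LocalST.localOnBase hP (fun _ : PUnit.{u+1} => (AlgSp.yon S).obj U) (fun _ => p) hF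
    (fun _ => AlgSp.IsAlgSpace.yon_obj U) (LocalST.isCover_single ?_ ?_) a hG
    (fun _ => Limits.pullback a p) (fun _ => Limits.pullback.snd a p)
    (fun _ => Limits.pullback.fst a p) (fun _ => hW) (fun _ => sq)).2 (fun _ => h U p _ _ sq)
  · exact H12AlgSp.locP_of_repWith H12AlgSp.etLocal_smooth
      (H12AlgSp.repWith_le (fun _ _ g (_ : Etale g) => (inferInstance : Smooth g)) hpe)
  · exact fun x => H12AlgSp.surjective_map_of_repWith le_rfl hps x

lemma prop_precomp_cover (hP : AlgSp.IsSmoothLocalST P) {A B C : AlgSp.Sp S}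
    (hA : AlgSp.IsAlgSpace A) (hB : AlgSp.IsAlgSpace B) (hC : AlgSp.IsAlgSpace C) {a : A ⟶ B}
    (ha : AlgSp.LocP @Smooth a) (has : AlgSp.IsSurjectiveMor a) {b : B ⟶ C} (h : P (a ≫ b)) :
    P b :=
  (LocalST.localOnSource hP (fun _ : PUnit.{u+1} => A) (fun _ => a) hB (fun _ => hA)
    (LocalST.isCover_single ha has) b hC).2 fun _ => h

/-- A based functor into a fibre product is the functor given by its projections. -/
def fpLiftEta {𝒲 : AlgSt.Cat S} {f : 𝒳 ⥤ᵇ 𝒵} {g : 𝒴 ⥤ᵇ 𝒵} (a : 𝒲 ⥤ᵇ FibCat.fp f g)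
    {b : 𝒲 ⥤ᵇ 𝒴} (k : BasedFunctor.comp a (FibCat.fpSnd f g) ≅ b) :
    a ≅ FibCat.fpLift (BasedFunctor.comp a (FibCat.fpFst f g)) b
      ((Stk.restr a 𝒵).mapIso (FibCat.fpIso f g) ≪≫ (post 𝒲 g).mapIso k) :=
  mkIso (fun w => fpIsoMk (Iso.refl _) (appIso k w) (by
      change f.map (𝟙 _) ≫ _ ≫ g.map (app k.hom w) = _ ≫ g.map (app k.hom w)
      erw [f.toFunctor.map_id, Category.id_comp]
      rfl))
    (fun {v w} m => fp_hom_ext ((Category.comp_id _).trans (Category.id_comp _).symm)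
      (k.hom.toNatTrans.naturality m))
    (fun w => (fp_isHomLift_iff _ _).2 (IsHomLift.id ((a.w_obj w))))

lemma locP_smooth_of_repWith {F G : AlgSp.Space S} {π : F.obj ⟶ G.obj}
    (h : AlgSt.RepByAlgSpWith (AlgSp.LocP @Smooth) (AlgSt.ofSpMap π)) : AlgSp.LocP @Smooth π :=
  prop_of_repWith_ofSpMap (sourceIsoInv_locP _) (testOnSchemes_locP _) F.property G.property h

/-- The morphism of every square with smooth map to the fibre product has the property. -/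
theorem prop_of_locQ (hP : AlgSp.IsSmoothLocalST P) {f : 𝒳 ⥤ᵇ 𝒴} (hf : AlgSt.LocQ P f)
    {U' V' : Over S} {y' : FibCat.overCat V' ⥤ᵇ 𝒴}
    (hy' : AlgSt.RepByAlgSpWith (AlgSp.LocP @Smooth) y')
    (Θ : FibCat.overCat U' ⥤ᵇ FibCat.fp f y')
    (hΘ : AlgSt.RepByAlgSpWith (AlgSp.LocP @Smooth) Θ) {h' : U' ⟶ V'}
    (j : BasedFunctor.comp Θ (FibCat.fpSnd f y') ≅ AlgSt.overMap h') :
    P ((AlgSp.yon S).map h') := by
  obtain ⟨U, V, x, y, h, α, hxm, hxs, hym, hh⟩ := hf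
  have hU := AlgSp.IsAlgSpace.yon_obj U
  have hV := AlgSp.IsAlgSpace.yon_obj V
  have hU' := AlgSp.IsAlgSpace.yon_obj U'
  have hV' := AlgSp.IsAlgSpace.yon_obj V'
  obtain ⟨G, eG, heG, hσ⟩ := hy' V y
  let qσ := BasedFunctor.comp eG (FibCat.fpFst y y')
  let qσ' := BasedFunctor.comp eG (FibCat.fpSnd y y')
  let σ := AlgSt.spMapOfOver qσ
  have hσ' : AlgSp.LocP @Smooth (AlgSt.spMapOfOver qσ') :=
    prop_of_repWith_spMap (sourceIsoInv_locP _)
      ((repWith_equiv_comp_iff heG).1 (repWith_fpSnd y' hym))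
  obtain ⟨kσ⟩ := spMapOfOver_eq qσ
  have sq := IsPullback.of_hasPullback ((AlgSp.yon S).map h) σ
  let T : AlgSp.Space S := ⟨pullback ((AlgSp.yon S).map h) σ,
    H12AlgSp.isAlgSpace_of_isPullback hV.diag hU G.property sq⟩
  let π : T.obj ⟶ G.obj := pullback.snd _ _
  have hπ : P π := hP.baseChange hU hV T.property G.property _ σ π (pullback.fst _ _) sq hσ hh
  have sqp := sq.map (sheafToPresheaf (AlgSp.J S) (Type (u + 1)))
  obtain ⟨⟨_, _⟩, htU⟩ := (isEquivOver_iff _).1 (toOverCat_isEquivOver U)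
  obtain ⟨⟨_, _⟩, -⟩ := (isEquivOver_iff _).1 (toOverCat_isEquivOver V)
  obtain ⟨⟨_, _⟩, hsG⟩ := (isEquivOver_iff _).1 heG
  have : (BasedFunctor.id (AlgSt.ofSp G.obj)).toFunctor.Full :=
    inferInstanceAs (𝟭 (Stk.EltObj G.obj.obj)).Full
  have : (BasedFunctor.id (AlgSt.ofSp G.obj)).toFunctor.Faithful :=
    inferInstanceAs (𝟭 (Stk.EltObj G.obj.obj)).Faithful
  have : (BasedFunctor.id (FibCat.overCat U)).toFunctor.Full := inferInstanceAs (𝟭 (Over U)).Full
  have : (BasedFunctor.id (FibCat.overCat U)).toFunctor.Faithful :=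
    inferInstanceAs (𝟭 (Over U)).Faithful
  have : (BasedFunctor.id (FibCat.overCat V)).toFunctor.Full := inferInstanceAs (𝟭 (Over V)).Full
  have : (BasedFunctor.id (FibCat.overCat V)).toFunctor.Faithful :=
    inferInstanceAs (𝟭 (Over V)).Faithful
  let m : BasedFunctor.comp (Stk.ofPshMap ((AlgSp.yon S).map h).hom) (AlgSt.toOverCat V) ≅
      BasedFunctor.comp (AlgSt.toOverCat U) (AlgSt.overMap h) :=
    mkIso (fun s => Iso.refl _)
      (fun {_ _} φ => (Category.comp_id _).trans ((Category.id_comp _).trans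
        (Over.OverMorphism.ext rfl)).symm)
      (fun s => IsHomLift.id rfl)
  let M₁ : FibCat.fp (Stk.ofPshMap ((AlgSp.yon S).map h).hom) (Stk.ofPshMap σ.hom) ⥤ᵇ
      FibCat.fp (AlgSt.overMap h) qσ :=
    fpMap (F := AlgSt.overMap h) (G := qσ) (AlgSt.toOverCat U)
      (BasedFunctor.id (AlgSt.ofSp G.obj)) (AlgSt.toOverCat V) m kσ.symm
  have hM₁ : FibCat.IsEquivOver M₁ := fpMap_isEquivOver _ _ _ _ _ htU (essSurjOver_id _)
  let M₂ : FibCat.fp (AlgSt.overMap h) qσ ⥤ᵇ FibCat.fp (AlgSt.overMap h) (FibCat.fpFst y y') :=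
    fpMap (BasedFunctor.id _) eG (BasedFunctor.id (FibCat.overCat V)) (Iso.refl _) (Iso.refl qσ)
  have hM₂ : FibCat.IsEquivOver M₂ := fpMap_isEquivOver _ _ _ _ _ (essSurjOver_id _) hsG
  let M₃ : FibCat.fp (BasedFunctor.comp (AlgSt.overMap h) y) y' ⥤ᵇ
      FibCat.fp (BasedFunctor.comp x f) y' :=
    fpMap (F := BasedFunctor.comp x f) (G := y') (BasedFunctor.id (FibCat.overCat U))
      (BasedFunctor.id (FibCat.overCat V')) (BasedFunctor.id 𝒴) α.symm
      (Iso.refl (BasedFunctor.comp y' (BasedFunctor.id 𝒴)))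
  have hM₃ : FibCat.IsEquivOver M₃ :=
    fpMap_isEquivOver _ _ _ _ _ (essSurjOver_id _) (essSurjOver_id _)
  let ET : AlgSt.ofSp T.obj ⥤ᵇ FibCat.fp (BasedFunctor.comp x f) y' :=
    BasedFunctor.comp (BasedFunctor.comp (BasedFunctor.comp (BasedFunctor.comp
      (pshComparison sqp.w) M₁) M₂) (pasteBase y y' (AlgSt.overMap h))) M₃
  have hET : FibCat.IsEquivOver ET :=
    isEquivOver_comp (isEquivOver_comp (isEquivOver_comp (isEquivOver_comp
      (pshComparison_isEquivOver sqp) hM₁) hM₂) (pasteBase_isEquivOver y y' _)) hM₃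
  let sn := FibCat.fpSnd x (FibCat.fpFst f y')
  obtain ⟨A₀, e₀, he₀, ha⟩ := repWith_fpSnd (FibCat.fpFst f y') hxm U' Θ
  let q₀ := BasedFunctor.comp e₀ (FibCat.fpFst Θ sn)
  obtain ⟨k₀⟩ := spMapOfOver_eq q₀
  have has : AlgSp.IsSurjectiveMor (AlgSt.spMapOfOver q₀) :=
    prop_of_repData sourceIsoInv_surjective (repWith_fpSnd (FibCat.fpFst f y') hxs U' Θ) he₀ k₀
  obtain ⟨ET', ⟨jT⟩, ⟨jT'⟩⟩ := hET
  have hET' : FibCat.IsEquivOver ET' := ⟨ET, ⟨jT'⟩, ⟨jT⟩⟩
  let φ₀ : AlgSt.ofSp A₀.obj ⥤ᵇ FibCat.fp (BasedFunctor.comp x f) y' :=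
    BasedFunctor.comp (BasedFunctor.comp e₀ (FibCat.fpSnd Θ sn)) (pasteBase f y' x)
  let φ := BasedFunctor.comp φ₀ ET'
  let δ : A₀.obj ⟶ T.obj := ObjectProperty.homMk (mapOfFun φ)
  let kδ : φ ≅ AlgSt.ofSpMap δ := isoOfPshMap φ
  have hδ : AlgSp.LocP @Smooth δ := locP_smooth_of_repWith (repWith_of_iso kδ
    ((repWith_comp_equiv_iff hET').2 ((repWith_comp_equiv_iff (pasteBase_isEquivOver f y' x)).2
      ((repWith_equiv_comp_iff he₀).1 (repWith_fpSnd sn hΘ)))))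
  let i₁ : BasedFunctor.comp q₀ (AlgSt.overMap h') ≅
      BasedFunctor.comp φ₀ (FibCat.fpSnd (BasedFunctor.comp x f) y') :=
    (Stk.restr q₀ _).mapIso j.symm ≪≫
      (post (AlgSt.ofSp A₀.obj) (FibCat.fpSnd f y')).mapIso
        ((Stk.restr e₀ _).mapIso (FibCat.fpIso Θ sn))
  let i₂ : BasedFunctor.comp φ₀ (FibCat.fpSnd (BasedFunctor.comp x f) y') ≅
      BasedFunctor.comp (BasedFunctor.comp (AlgSt.ofSpMap δ) (AlgSt.ofSpMap π)) qσ' :=
    (post (AlgSt.ofSp A₀.obj) (FibCat.fpSnd (BasedFunctor.comp x f) y')).mapIso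
      ((Stk.restr φ₀ _).mapIso jT'.symm) ≪≫
      (post (AlgSt.ofSp A₀.obj) (BasedFunctor.comp ET (FibCat.fpSnd (BasedFunctor.comp x f) y'))).mapIso kδ
  have key := spMapOfOver_congr (i₁ ≪≫ i₂)
  rw [spMapOfOver_overMap] at key
  have key' : AlgSt.spMapOfOver q₀ ≫ (AlgSp.yon S).map h' =
      δ ≫ π ≫ AlgSt.spMapOfOver qσ' := by
    rw [key, ← spMapOfOver_comp π qσ', ← spMapOfOver_comp δ]
    rfl
  refine prop_precomp_cover hP A₀.property hU' hV' ha has ?_
  rw [key']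
  exact hP.precomp A₀.property T.property hV' δ _ hδ
    (LocalST.postcomp hP T.property G.property hV' hπ hσ')

end Groth.Agent.H14AlgSt
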