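import Groth.Prelude.Def_AlgSp4
import Groth.Agent.H14AlgSt.PointsMor
import Groth.Agent.H14AlgSt.LocQ
import Groth.Agent.H12AlgSp.QC

/-!
# Points of algebraic spaces and of their stacks; topological properties of representable morphisms
-/

set_option autoImplicit false
set_option backward.isDefEq.respectTransparency false
set_option backward.isDefEq.respectTransparency.types false

universe u

open CategoryTheory CategoryTheory.Functor Opposite AlgebraicGeometry CategoryTheory.Limits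

noncomputable section

namespace Groth.Agent.H14AlgSt

open H14Fib H14Stk

variable {S : Scheme.{u}} {𝒳 𝒴 𝒵 : AlgSt.Cat S}

local notation "K₀" => Scheme.fppfPrecoverage

/-- A field-valued point of a sheaf as a point of its category. -/
def toStPoint (F : AlgSp.Sp S) : AlgSp.Points F → AlgSt.Points (AlgSt.ofSp F) :=
  Quotient.lift (fun p => AlgSt.Points.mk (ofFieldPt p)) fun p q h => by
    obtain ⟨Ω, _, w, a, b, hab⟩ := h
    exact AlgSt.Points.sound ⟨(⟨Ω, w, (⟨Over.mk w, F.obj.map a.op p.val⟩ : Stk.EltObj F.obj), rfl⟩ :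
      AlgSt.FPt (AlgSt.ofSp F)), ⟨a, rfl⟩, ⟨b, hab.symm⟩, trivial⟩

lemma toFieldPt_rel {F : AlgSp.Sp S} {p q : AlgSt.FPt (AlgSt.ofSp F)} (a : p.obj ⟶ q.obj) :
    AlgSp.FieldPt.Rel (toFieldPt p) (toFieldPt q) := by
  refine ⟨p.K, inferInstance, p.str, 𝟙 _, baseHom a, ?_⟩
  have hs : F.obj.map a.hom.op q.obj.sec = p.obj.sec := a.map_sec
  change F.obj.map (𝟙 _) (F.obj.map (eqToHom (p.lies : p.obj.base = Over.mk p.str).symm).op p.obj.sec) =
    F.obj.map (baseHom a).op (F.obj.map (eqToHom (q.lies : q.obj.base = Over.mk q.str).symm).op q.obj.sec)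
  rw [CategoryTheory.Functor.map_id_apply, ← hs]
  erw [← CategoryTheory.Functor.map_comp_apply, ← CategoryTheory.Functor.map_comp_apply]
  refine congrArg (fun t => F.obj.map t q.obj.sec) (Quiver.Hom.unop_inj ?_)
  change eqToHom (p.lies : p.obj.base = Over.mk p.str).symm ≫ a.hom =
    (eqToHom (p.lies : p.obj.base = Over.mk p.str).symm ≫ a.hom ≫
      eqToHom (q.lies : q.obj.base = Over.mk q.str)) ≫ eqToHom (q.lies : q.obj.base = Over.mk q.str).symm
  simp

/-- A point of the category of a sheaf as a point of the sheaf. -/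
def ofStPoint (F : AlgSp.Sp S) : AlgSt.Points (AlgSt.ofSp F) → AlgSp.Points F :=
  Quot.lift (fun q => AlgSp.Points.mk (toFieldPt q)) fun p q h => by
    obtain ⟨r, a, b, -⟩ := h
    exact (AlgSp.Points.sound (toFieldPt_rel a)).symm.trans (AlgSp.Points.sound (toFieldPt_rel b))

/-- Points of a sheaf and of its category. -/
def spEquiv (F : AlgSp.Sp S) : AlgSp.Points F ≃ AlgSt.Points (AlgSt.ofSp F) where
  toFun := toStPoint F
  invFun := ofStPoint F
  left_inv x := by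
    obtain ⟨p, rfl⟩ := AlgSp.Points.mk_surjective x
    change AlgSp.Points.mk (toFieldPt (ofFieldPt p)) = _
    congr 1
    obtain ⟨K, str, val⟩ := p
    exact congrArg (fun v => (⟨K, str, v⟩ : AlgSp.FieldPt F))
      (show F.obj.map (eqToHom (rfl : Over.mk str = Over.mk str)).op val = val by simp)
  right_inv y := by
    obtain ⟨q, rfl⟩ := AlgSt.Points.mk_surjective y
    exact mk_eq_of_hom (p := ofFieldPt (toFieldPt q))
      (⟨eqToHom (q.lies : q.obj.base = Over.mk q.str).symm, rfl⟩ :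
        (ofFieldPt (toFieldPt q)).obj ⟶ q.obj)

lemma spEquiv_map {F G : AlgSp.Sp S} (π : F ⟶ G) (x : AlgSp.Points F) :
    spEquiv G (AlgSp.Points.map π x) = AlgSt.Points.map (AlgSt.ofSpMap π) (spEquiv F x) := by
  obtain ⟨p, rfl⟩ := AlgSp.Points.mk_surjective x
  rfl

lemma spEquiv_ofPt {F : AlgSp.Sp S} {T : Over S} (g : (AlgSp.yon S).obj T ⟶ F) (t : T.left) :
    spEquiv F (AlgSp.Points.ofPt g t) =
      AlgSt.Points.ofChart (BasedFunctor.comp (AlgSt.ofOverCat T) (AlgSt.ofSpMap g)) t := rfl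

lemma isAlgStack_ofSp (F : AlgSp.Space S) : AlgSt.IsAlgStack K₀ (AlgSt.ofSp F.obj) :=
  (isDM_of_repByAlgSp (repByAlgSp_ofSp F)).1

/-- The topologies on the points of an algebraic space and of its stack agree. -/
def spHomeo (F : AlgSp.Space S) : AlgSp.Points F.obj ≃ₜ AlgSt.Points (AlgSt.ofSp F.obj) :=
  (spEquiv F.obj).toHomeomorph fun W => by
    constructor
    · intro h U x _
      let g : (AlgSp.yon S).obj U ⟶ F.obj :=
        ObjectProperty.homMk (mapOfFun (BasedFunctor.comp (AlgSt.toOverCat U) x))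
      let i : x ≅ BasedFunctor.comp (AlgSt.ofOverCat U) (AlgSt.ofSpMap g) :=
        (Stk.restr (AlgSt.ofOverCat U) _).mapIso
          (isoOfPshMap (BasedFunctor.comp (AlgSt.toOverCat U) x))
      have e : AlgSt.Points.ofChart x ⁻¹' W = AlgSp.Points.ofPt g ⁻¹' (spEquiv F.obj ⁻¹' W) := by
        ext t
        simp only [Set.mem_preimage, spEquiv_ofPt, ofChart_iso i]
      rw [e]
      exact AlgSp.Points.isOpen_iff.1 h U g
    · intro h
      refine AlgSp.Points.isOpen_iff.2 fun T g => ?_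
      exact (continuous_ofChart (isAlgStack_ofSp F)
        (BasedFunctor.comp (AlgSt.ofOverCat T) (AlgSt.ofSpMap g))).isOpen_preimage _ h

lemma spHomeo_map {F G : AlgSp.Space S} (π : F.obj ⟶ G.obj) :
    spHomeo G ∘ AlgSp.Points.map π = AlgSt.Points.map (AlgSt.ofSpMap π) ∘ spHomeo F :=
  funext fun x => spEquiv_map π x

/-- An equivalence of algebraic stacks is a homeomorphism on points. -/
def pointsHomeo (hX : AlgSt.IsAlgStack K₀ 𝒳) (hY : AlgSt.IsAlgStack K₀ 𝒴) {e : 𝒳 ⥤ᵇ 𝒴}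
    (he : FibCat.IsEquivOver e) : AlgSt.Points 𝒳 ≃ₜ AlgSt.Points 𝒴 :=
  (Equiv.ofBijective _ (points_map_bijective he)).toHomeomorph fun W => by
    refine ⟨fun h => ?_, fun h => (continuous_points_map hY e).isOpen_preimage W h⟩
    obtain ⟨e', ⟨i⟩, ⟨j⟩⟩ := he
    have key : ∀ y, AlgSt.Points.map e (AlgSt.Points.map e' y) = y := fun y => by
      rw [← points_map_comp, points_map_iso j]
      obtain ⟨p, rfl⟩ := AlgSt.Points.mk_surjective y
      rfl
    have h2 := (continuous_points_map hX e').isOpen_preimage _ h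
    convert h2 using 1
    ext y
    simp only [Set.mem_preimage, Equiv.ofBijective_apply, key]

@[simp] lemma pointsHomeo_apply (hX : AlgSt.IsAlgStack K₀ 𝒳) (hY : AlgSt.IsAlgStack K₀ 𝒴)
    {e : 𝒳 ⥤ᵇ 𝒴} (he : FibCat.IsEquivOver e) (x : AlgSt.Points 𝒳) :
    pointsHomeo hX hY he x = AlgSt.Points.map e x := rfl

/-- A property of maps of topological spaces. -/
abbrev TopProp : Type (u + 2) :=
  ∀ (X Y : Type (u + 1)) [TopologicalSpace X] [TopologicalSpace Y], (X → Y) → Prop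

/-- Invariance under homeomorphisms of source and target. -/
def HomeoInv (Φ : TopProp.{u}) : Prop :=
  ∀ {X Y X' Y' : Type (u + 1)} [TopologicalSpace X] [TopologicalSpace Y] [TopologicalSpace X']
    [TopologicalSpace Y'] (e₁ : X' ≃ₜ X) (e₂ : Y ≃ₜ Y') (f : X → Y), Φ X Y f → Φ X' Y' (e₂ ∘ f ∘ e₁)

/-- Descent along open surjections. -/
def DescendsOpen (Φ : TopProp.{u}) : Prop :=
  ∀ {P' P U Z : Type (u + 1)} [TopologicalSpace P'] [TopologicalSpace P] [TopologicalSpace U]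
    [TopologicalSpace Z] (p : P' → P) (π' : P' → U) (π : P → Z) (z : U → Z),
    Continuous p → Function.Surjective p → Continuous π → Continuous z → IsOpenMap z →
    Function.Surjective z → (∀ a, π (p a) = z (π' a)) →
    (∀ t b, z t = π b → ∃ a, π' a = t ∧ p a = b) → Φ P' U π' → Φ P Z π

/-- The morphisms of spaces with a property on points. -/
def spTop (Φ : TopProp.{u}) : MorphismProperty (AlgSp.Sp S) := fun _ _ f =>
  Φ _ _ (AlgSp.Points.map f)

/-- A base change of a representable morphism to a space. -/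
lemma exists_equiv_pullback {f : 𝒳 ⥤ᵇ 𝒴} {U : Over S} (y : FibCat.overCat U ⥤ᵇ 𝒴)
    {G : AlgSp.Space S} {e : AlgSt.ofSp G.obj ⥤ᵇ FibCat.fp y f} (he : FibCat.IsEquivOver e)
    {Z Z' : AlgSp.Space S} (g : Z.obj ⟶ (AlgSp.yon S).obj U) {fst : Z'.obj ⟶ G.obj}
    {snd : Z'.obj ⟶ Z.obj}
    (sq : IsPullback fst snd (AlgSt.spMapOfOver (BasedFunctor.comp e (FibCat.fpFst y f))) g) :
    ∃ e' : AlgSt.ofSp Z'.obj ⥤ᵇ FibCat.fp
        (BasedFunctor.comp (BasedFunctor.comp (AlgSt.ofSpMap g) (AlgSt.toOverCat U)) y) f,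
      FibCat.IsEquivOver e' ∧
      Nonempty (BasedFunctor.comp e' (FibCat.fpFst _ f) ≅ AlgSt.ofSpMap snd) := by
  let q := BasedFunctor.comp e (FibCat.fpFst y f)
  obtain ⟨kq⟩ := spMapOfOver_eq q
  let gU := BasedFunctor.comp (AlgSt.ofSpMap g) (AlgSt.toOverCat U)
  obtain ⟨⟨_, _⟩, -⟩ := (isEquivOver_iff _).1 (toOverCat_isEquivOver U)
  obtain ⟨⟨_, _⟩, hes⟩ := (isEquivOver_iff _).1 he
  have : (BasedFunctor.id (AlgSt.ofSp Z.obj)).toFunctor.Full :=
    inferInstanceAs (𝟭 (Stk.EltObj Z.obj.obj)).Full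
  have : (BasedFunctor.id (AlgSt.ofSp Z.obj)).toFunctor.Faithful :=
    inferInstanceAs (𝟭 (Stk.EltObj Z.obj.obj)).Faithful
  have : (BasedFunctor.id (AlgSt.ofSp G.obj)).toFunctor.Full :=
    inferInstanceAs (𝟭 (Stk.EltObj G.obj.obj)).Full
  have : (BasedFunctor.id (AlgSt.ofSp G.obj)).toFunctor.Faithful :=
    inferInstanceAs (𝟭 (Stk.EltObj G.obj.obj)).Faithful
  have sqp := (sq.flip).map (sheafToPresheaf (AlgSp.J S) (Type (u + 1)))
  let M₁ : FibCat.fp (Stk.ofPshMap g.hom) (Stk.ofPshMap (AlgSt.spMapOfOver q).hom) ⥤ᵇ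
      FibCat.fp gU q :=
    fpMap (F := gU) (G := q) (BasedFunctor.id (AlgSt.ofSp Z.obj)) (BasedFunctor.id (AlgSt.ofSp G.obj))
      (AlgSt.toOverCat U) (Iso.refl gU) kq.symm
  have hM₁ : FibCat.IsEquivOver M₁ :=
    fpMap_isEquivOver _ _ _ _ _ (essSurjOver_id _) (essSurjOver_id _)
  let M₂ : FibCat.fp gU q ⥤ᵇ FibCat.fp gU (FibCat.fpFst y f) :=
    fpMap (BasedFunctor.id _) e (BasedFunctor.id (FibCat.overCat U)) (Iso.refl gU) (Iso.refl q)
  have hM₂ : FibCat.IsEquivOver M₂ := fpMap_isEquivOver _ _ _ _ _ (essSurjOver_id _) hes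
  exact ⟨BasedFunctor.comp (BasedFunctor.comp (BasedFunctor.comp (pshComparison sqp.w) M₁) M₂)
      (pasteBase y f gU),
    isEquivOver_comp (isEquivOver_comp (isEquivOver_comp (pshComparison_isEquivOver sqp) hM₁) hM₂)
      (pasteBase_isEquivOver y f gU), ⟨Iso.refl _⟩⟩

variable {Φ : TopProp.{u}}

lemma prop_points_of_repWith (hi : HomeoInv Φ) (hd : DescendsOpen Φ)
    (hX : AlgSt.IsAlgStack K₀ 𝒳) (hY : AlgSt.IsAlgStack K₀ 𝒴) {f : 𝒳 ⥤ᵇ 𝒴}
    (hf : AlgSt.RepByAlgSpWith (AlgSp.UnivSp (spTop (S := S) Φ)) f)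
    (hW : AlgSt.IsAlgStack K₀ 𝒵) (g : 𝒵 ⥤ᵇ 𝒴) :
    Φ _ _ (AlgSt.Points.map (FibCat.fpFst g f)) := by
  obtain ⟨U, z, hz, hzs⟩ := hW.atlas
  obtain ⟨G, e, he, hσ⟩ := hf U (BasedFunctor.comp z g)
  let σ := AlgSt.spMapOfOver (BasedFunctor.comp e (FibCat.fpFst (BasedFunctor.comp z g) f))
  have h0 : spTop Φ σ := hσ (AlgSp.IsAlgSpace.yon_obj U) (𝟙 _) (𝟙 _) σ IsPullback.of_id_fst
  have hU := isAlgStack_fp' hW hX hY g f
  have hUc : AlgSt.IsAlgStack K₀ (FibCat.overCat U) :=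
    (isDM_of_repByAlgSp (repByAlgSp_overCat U)).1
  have hP' := isAlgStack_fp' hUc hU hW z (FibCat.fpFst g f)
  obtain ⟨k⟩ := spMapOfOver_eq (BasedFunctor.comp e (FibCat.fpFst (BasedFunctor.comp z g) f))
  obtain ⟨E, ⟨i⟩, ⟨i'⟩⟩ := pasteBase_isEquivOver g f z
  let e'' := BasedFunctor.comp e E
  have he'' : FibCat.IsEquivOver e'' := isEquivOver_comp he ⟨_, ⟨i'⟩, ⟨i⟩⟩
  let kk : BasedFunctor.comp e'' (FibCat.fpFst z (FibCat.fpFst g f)) ≅
      BasedFunctor.comp (AlgSt.ofSpMap σ) (AlgSt.toOverCat U) :=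
    (post (AlgSt.ofSp G.obj) (FibCat.fpFst (BasedFunctor.comp z g) f)).mapIso
      ((Stk.restr e _).mapIso i') ≪≫ k
  let W : AlgSp.Space S := ⟨(AlgSp.yon S).obj U, AlgSp.IsAlgSpace.yon_obj U⟩
  let H₁ := pointsHomeo (isAlgStack_ofSp G) hP' he''
  let H₂ := pointsHomeo (isAlgStack_ofSp W) hUc (toOverCat_isEquivOver U)
  have h1 : Φ _ _ (AlgSt.Points.map (FibCat.fpFst z (FibCat.fpFst g f))) := by
    have h2 := hi (H₁.symm.trans (spHomeo G).symm) ((spHomeo W).trans H₂) _ h0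
    convert h2 using 1
    funext a
    obtain ⟨b, rfl⟩ := H₁.surjective a
    obtain ⟨x, rfl⟩ := (spHomeo G).surjective b
    simp only [Function.comp_apply, Homeomorph.trans_apply, Homeomorph.symm_apply_apply]
    change _ = AlgSt.Points.map (AlgSt.toOverCat U) (spHomeo W (AlgSp.Points.map σ x))
    rw [show spHomeo W (AlgSp.Points.map σ x) = _ from spEquiv_map σ x]
    change AlgSt.Points.map _ (AlgSt.Points.map e'' (spHomeo G x)) = _
    rw [← points_map_comp, points_map_iso kk, points_map_comp]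
    rfl
  refine hd (AlgSt.Points.map (FibCat.fpSnd z (FibCat.fpFst g f))) _ _ (AlgSt.Points.map z)
    (continuous_points_map hU _) (fun b => ?_) (continuous_points_map hW _)
    (continuous_points_map hW z) (fun O hO => ?_) (surjective_of_repWith hW.isStack.1 hzs)
    (fun a => ?_) (fun t b h => ?_) h1
  · obtain ⟨t, ht⟩ := surjective_of_repWith hW.isStack.1 hzs (AlgSt.Points.map (FibCat.fpFst g f) b)
    obtain ⟨a, -, ha⟩ := exists_points_fp hUc.isStack.1 hU.isStack.1 hW.isStack.1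
      (F := z) (G := FibCat.fpFst g f) ht
    exact ⟨a, ha⟩
  · have hz1 := repWith_mono (P' := AlgSp.LocP @Flat) (fun _ _ _ h => H12AlgSp.locP_mono
      (fun _ _ g (_ : Smooth g) => (inferInstance : Flat g)) h) hz
    have hz2 := repWith_mono (P' := AlgSp.LocP @LocallyOfFinitePresentation) (fun _ _ _ h =>
      H12AlgSp.locP_mono
      (fun _ _ g (_ : Smooth g) => (inferInstance : LocallyOfFinitePresentation g)) h) hz
    have e1 : AlgSt.Points.map z '' O = AlgSt.Points.ofChart z ''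
        (AlgSt.Points.ofChart (BasedFunctor.id (FibCat.overCat U)) ⁻¹' O) := by
      conv_lhs => rw [← Set.image_preimage_eq O
        (f := AlgSt.Points.ofChart (BasedFunctor.id (FibCat.overCat U)))
        (fun q => ⟨chartPoint q, ofChart_chartPoint q⟩), Set.image_image]
      rfl
    rw [e1]
    exact isOpenMap_ofChart hW.isStack.1 hz1 hz2 _
      ((continuous_ofChart hUc _).isOpen_preimage _ hO)
  · rw [← points_map_comp, ← points_map_comp]
    exact (points_map_iso (FibCat.fpIso z (FibCat.fpFst g f)) a).symm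
  · exact exists_points_fp hUc.isStack.1 hU.isStack.1 hW.isStack.1 h

lemma repWith_of_prop_points (hi : HomeoInv Φ) (hX : AlgSt.IsAlgStack K₀ 𝒳)
    (hY : AlgSt.IsAlgStack K₀ 𝒴) {f : 𝒳 ⥤ᵇ 𝒴} (hf : AlgSt.RepByAlgSp1 f)
    (h : ∀ (𝒵 : AlgSt.Cat S), AlgSt.IsAlgStack K₀ 𝒵 → ∀ g : 𝒵 ⥤ᵇ 𝒴,
      Φ _ _ (AlgSt.Points.map (FibCat.fpFst g f))) :
    AlgSt.RepByAlgSpWith (AlgSp.UnivSp (spTop (S := S) Φ)) f := by
  intro U y
  obtain ⟨G, e, he⟩ := hf U y
  refine ⟨G, e, he, fun Z Z' hZ g fst snd sq => ?_⟩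
  let Z₁ : AlgSp.Space S := ⟨Z, hZ⟩
  let Z₂ : AlgSp.Space S := ⟨Z', H12AlgSp.isAlgSpace_of_isPullback
    (AlgSp.IsAlgSpace.yon_obj U).diag G.property hZ sq⟩
  obtain ⟨e', he', ⟨k⟩⟩ := exists_equiv_pullback y he (Z := Z₁) (Z' := Z₂) g sq
  let w := BasedFunctor.comp (BasedFunctor.comp (AlgSt.ofSpMap g) (AlgSt.toOverCat U)) y
  have h0 := h _ (isAlgStack_ofSp Z₁) w
  have h2 := hi ((spHomeo Z₂).trans (pointsHomeo (isAlgStack_ofSp Z₂)
    (isAlgStack_fp' (isAlgStack_ofSp Z₁) hX hY w f) he')) (spHomeo Z₁).symm _ h0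
  change Φ _ _ (AlgSp.Points.map snd)
  convert h2 using 1
  funext x
  simp only [Function.comp_apply, Homeomorph.trans_apply]
  rw [Homeomorph.eq_symm_apply]
  change _ = AlgSt.Points.map (FibCat.fpFst w f) (AlgSt.Points.map e' (spHomeo Z₂ x))
  rw [← points_map_comp, points_map_iso k]
  exact spEquiv_map snd x

end Groth.Agent.H14AlgSt
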