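import Groth.Agent.H14AlgSt.FieldPoint
import Groth.Agent.H14AlgSt.Image
import Groth.Agent.H14AlgSt.PointsSpace
import Groth.Agent.H12AlgSp.Immersion
import Groth.Agent.H14Stk.Local

/-!
# Monomorphisms into stacks covered by a field
-/

set_option autoImplicit false
set_option backward.isDefEq.respectTransparency false
set_option backward.isDefEq.respectTransparency.types false

universe u

open CategoryTheory CategoryTheory.Functor Opposite AlgebraicGeometry CategoryTheory.Limits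

noncomputable section

namespace Groth.Agent.H14AlgSt

open H14Fib H14Stk

variable {S : Scheme.{u}} {𝒳 𝒴 : AlgSt.Cat S}

local notation "K₀" => Scheme.fppfPrecoverage

/-- A surjective monomorphism lifts every field-valued point. -/
lemma exists_lift_field_of_mono (hX : AlgSt.IsAlgStack K₀ 𝒳) (hY : AlgSt.IsAlgStack K₀ 𝒴)
    {f : 𝒳 ⥤ᵇ 𝒴} (hf : AlgSt.IsMono f) {k : Type u} [Field k]
    {a : Spec (CommRingCat.of k) ⟶ S} (z : FibCat.overCat (Over.mk a) ⥤ᵇ 𝒴)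
    (p : AlgSt.Points 𝒳) (hp : ∀ t, AlgSt.Points.ofChart z t = AlgSt.Points.map f p) :
    ∃ ζ : FibCat.overCat (Over.mk a) ⥤ᵇ 𝒳, Nonempty (BasedFunctor.comp ζ f ≅ z) := by
  obtain ⟨G, e, he, hσ⟩ := hf (Over.mk a) z
  let p₀ := BasedFunctor.comp e (FibCat.fpFst z f)
  have : Mono (AlgSt.spMapOfOver p₀) := hσ
  let q : AlgSt.Points (FibCat.overCat (Over.mk a)) :=
    AlgSt.Points.mk ⟨k, a, topObj (Over.mk a), rfl⟩
  obtain ⟨w, -, -⟩ := exists_points_fp (fibGrpd_overCat _) hX.isStack.1 hY.isStack.1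
    (F := z) (G := f) (x := q) (y := p) ((map_eq_ofChart z q).trans (hp _))
  obtain ⟨s, -⟩ := (points_map_bijective he).2 w
  have : Nonempty (AlgSp.Points G.obj) := ⟨(spEquiv G.obj).symm s⟩
  have : IsIso (AlgSt.spMapOfOver p₀) := H12AlgSp.isIso_of_mono_to_field_space G.property _
  obtain ⟨k₀⟩ := spMapOfOver_eq p₀
  let l := BasedFunctor.comp (AlgSt.ofOverCat (Over.mk a))
    (AlgSt.ofSpMap (inv (AlgSt.spMapOfOver p₀)))
  have hl : BasedFunctor.comp l (BasedFunctor.comp (AlgSt.ofSpMap (AlgSt.spMapOfOver p₀))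
      (AlgSt.toOverCat (Over.mk a))) = BasedFunctor.id _ := by
    change BasedFunctor.comp (AlgSt.ofOverCat (Over.mk a)) (BasedFunctor.comp
      (Stk.ofPshMap ((inv (AlgSt.spMapOfOver p₀)).hom ≫ (AlgSt.spMapOfOver p₀).hom)) _) = _
    rw [show (inv (AlgSt.spMapOfOver p₀)).hom ≫ (AlgSt.spMapOfOver p₀).hom = 𝟙 _ from
      congrArg (·.hom) (IsIso.inv_hom_id (AlgSt.spMapOfOver p₀))]
    rfl
  refine ⟨BasedFunctor.comp l (BasedFunctor.comp e (FibCat.fpSnd z f)), ⟨?_⟩⟩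
  exact (Stk.restr (BasedFunctor.comp l e) 𝒴).mapIso (FibCat.fpIso z f).symm ≪≫
    (post (FibCat.overCat (Over.mk a)) z).mapIso ((Stk.restr l _).mapIso k₀ ≪≫ eqToIso hl)

/-- A monomorphism hit by a surjective flat finitely presented field point is an equivalence. -/
lemma isEquivOver_of_mono_of_field_point (hX : AlgSt.IsAlgStack K₀ 𝒳)
    (hY : AlgSt.IsAlgStack K₀ 𝒴) {f : 𝒳 ⥤ᵇ 𝒴} (hf : AlgSt.IsMono f) {k : Type u} [Field k]
    {a : Spec (CommRingCat.of k) ⟶ S} {z : FibCat.overCat (Over.mk a) ⥤ᵇ 𝒴}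
    (hzp : AlgSt.RepByAlgSpWith (AlgSp.LocP @LocallyOfFinitePresentation) z)
    (hzs : AlgSt.RepByAlgSpWith AlgSp.IsSurjectiveMor z)
    (hzf : AlgSt.RepByAlgSpWith (AlgSp.LocP @Flat) z) (p : AlgSt.Points 𝒳) :
    FibCat.IsEquivOver f := by
  obtain ⟨ζ, ⟨jζ⟩⟩ := exists_lift_field_of_mono hX hY hf z p fun t =>
    @Subsingleton.elim _ (subsingleton_points_of_field_point hY.isStack.1 hzs).2 _ _
  have := faithful_of_repByAlgSp1 hX.isStack.1 hY.isStack.1 (repByAlgSp1_of_with hf)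
  have := full_of_isMono hX.isStack.1 hY.isStack.1 hf
  refine isEquivOver_of_locEssSurj hX.isStack (isPrestack_of_isStack hY.isStack) f fun ξ => ?_
  have := isFibered_of_fibGrpd hY.isStack.1
  obtain ⟨y, ey, -, hey⟩ := exists_fromOver (𝒳 := 𝒴) (U := 𝒴.p.obj ξ) (x := ξ) rfl
  have hT := isAlgStack_overCat (Over.mk a : Over S)
  obtain ⟨ι, C, c, hc₁, hc₂, hc₃, hc₄⟩ := exists_lift_of_locQ hY hT
    (locQ_of_repWith smLocal_flat hT hY hzf) (locQ_of_repWith smLocal_lfp hT hY hzp)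
    (surjective_of_repWith hY.isStack.1 hzs) (𝒴.p.obj ξ) y
  refine ⟨Sieve.ofArrows C c, H13AlgSp.ofArrows_mem_J c hc₁ hc₂ hc₃, fun V g hg => ?_⟩
  obtain ⟨_, u, _, ⟨i⟩, rfl⟩ := hg
  obtain ⟨z', ⟨jz⟩⟩ := hc₄ i
  let F := BasedFunctor.comp (AlgSt.overMap u) (BasedFunctor.comp z' ζ)
  let j : BasedFunctor.comp F f ≅ BasedFunctor.comp (AlgSt.overMap (u ≫ c i)) y :=
    (Stk.restr (AlgSt.overMap u) 𝒴).mapIso
      ((Stk.restr z' 𝒴).mapIso jζ ≪≫ jz) ≪≫ (post (FibCat.overCat V) y).mapIso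
        (overMapCompIso u (c i))
  let b : (FibCat.overCat (𝒴.p.obj ξ)).obj := (AlgSt.overMap (u ≫ c i)).obj (topObj V)
  let μ : b ⟶ topObj (𝒴.p.obj ξ) := Over.homMk (u ≫ c i) (by
    change (u ≫ c i) ≫ 𝟙 _ = 𝟙 V ≫ u ≫ c i
    simp)
  refine ⟨F.obj (topObj V), (appIso j (topObj V)).hom ≫ y.map μ ≫ ey.hom, ?_⟩
  have h1 : 𝒴.p.IsHomLift (𝟙 V) (appIso j (topObj V)).hom := appIso_lift j rfl
  have h0 : (FibCat.overCat (𝒴.p.obj ξ)).p.IsHomLift (u ≫ c i) μ := overCat_isHomLift μ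
  have h2 : 𝒴.p.IsHomLift (u ≫ c i) (y.map μ) := y.preserves_isHomLift _ μ
  have h3 : 𝒴.p.IsHomLift (u ≫ c i) (y.map μ ≫ ey.hom) :=
    IsHomLift.comp_lift_id_right' 𝒴.p (u ≫ c i) (y.map μ) (𝒴.p.obj ξ) ey.hom
  exact IsHomLift.comp_lift_id_left' 𝒴.p V (appIso j (topObj V)).hom (u ≫ c i) _

end Groth.Agent.H14AlgSt
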