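import Groth.Agent.H14AlgSt.DiagLFT
import Groth.Agent.H14AlgSt.MonoPoint
import Groth.Agent.H14AlgSt.SetoidSpace
import Groth.Agent.S10532

/-!
# Morphisms whose diagonal is an isomorphism; fpqc descent along field extensions
-/

set_option autoImplicit false
set_option backward.isDefEq.respectTransparency false
set_option backward.isDefEq.respectTransparency.types false

universe u

open CategoryTheory CategoryTheory.Functor Opposite AlgebraicGeometry CategoryTheory.Limits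

noncomputable section

namespace Groth.Agent.H14AlgSt

open H14Fib H14Stk

variable {S : Scheme.{u}} {𝒳 𝒴 : AlgSt.Cat S} {P : MorphismProperty (AlgSp.Sp S)}

local notation "K₀" => Scheme.fppfPrecoverage
local notation "ISO" => MorphismProperty.isomorphisms (AlgSp.Sp _)

lemma repWith_iso_id (𝒳 : AlgSt.Cat S) :
    AlgSt.RepByAlgSpWith (MorphismProperty.isomorphisms (AlgSp.Sp S)) (BasedFunctor.id 𝒳) := by
  intro U y
  let F : AlgSp.Space S := ⟨(AlgSp.yon S).obj U, AlgSp.IsAlgSpace.yon_obj U⟩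
  let s : FibCat.overCat U ⥤ᵇ FibCat.fp y (BasedFunctor.id 𝒳) :=
    FibCat.fpLift (F := y) (G := BasedFunctor.id 𝒳) (BasedFunctor.id _) y (Iso.refl _)
  have hs : FibCat.IsEquivOver s := by
    refine ⟨FibCat.fpFst y (BasedFunctor.id 𝒳), ⟨Iso.refl _⟩, ⟨mkIso (fun c =>
      fpIsoMk (Iso.refl _) c.obj.iso ?_) (fun {c d} m => fp_hom_ext
        ((Category.comp_id _).trans (Category.id_comp _).symm) m.hom.w)
      (fun c => (fp_isHomLift_iff _ _).2 (IsHomLift.id rfl))⟩⟩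
    change y.map (𝟙 _) ≫ c.obj.iso.hom = 𝟙 _ ≫ c.obj.iso.hom
    rw [y.toFunctor.map_id]
  refine ⟨F, BasedFunctor.comp (AlgSt.toOverCat U) s,
    isEquivOver_comp (toOverCat_isEquivOver U) hs, ?_⟩
  change IsIso (AlgSt.spMapOfOver (AlgSt.toOverCat U))
  rw [spMapOfOver_toOverCat]
  infer_instance

lemma repWith_iso_of_isEquivOver {E : 𝒳 ⥤ᵇ 𝒴} (hE : FibCat.IsEquivOver E) :
    AlgSt.RepByAlgSpWith (MorphismProperty.isomorphisms (AlgSp.Sp S)) E :=
  (repWith_square (f := BasedFunctor.id 𝒴) (f' := E) hE (isEquivOver_id 𝒴) (Iso.refl _)).1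
    (repWith_iso_id 𝒴)

/-- Descent along an affine flat surjective morphism of the test scheme. -/
lemma repData_of_fpqc {U : Over S} {f : 𝒳 ⥤ᵇ 𝒴} (hP : AlgSp.IsLocalOnBase AlgSp.IsFpqcCover P)
    (hiso : SourceIsoInv P) (y : FibCat.overCat U ⥤ᵇ 𝒴) (hf : AlgSt.RepByAlgSp (FibCat.fp y f))
    {C : Over S} (c : C ⟶ U) [IsAffineHom c.left] [Flat c.left] [Surjective c.left]
    (h : RepData P (FibCat.fpFst (BasedFunctor.comp (AlgSt.overMap c) y) f)) :
    RepData P (FibCat.fpFst y f) := by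
  obtain ⟨G, e, he⟩ := hf
  refine ⟨G, e, he, ?_⟩
  let q := BasedFunctor.comp e (FibCat.fpFst y f)
  let π := AlgSt.spMapOfOver q
  obtain ⟨kq⟩ := spMapOfOver_eq q
  let T := (AlgSp.yon S).map c
  have sq := IsPullback.of_hasPullback π T
  have hA : AlgSp.IsAlgSpace (pullback π T) :=
    H12AlgSp.isAlgSpace_of_isPullback (AlgSp.IsAlgSpace.yon_obj U).diag G.property
      (AlgSp.IsAlgSpace.yon_obj C) sq
  refine (hP (fun _ : PUnit.{u+1} => (AlgSp.yon S).obj C) (fun _ => T) (AlgSp.IsAlgSpace.yon_obj U)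
    (fun _ => AlgSp.IsAlgSpace.yon_obj C) ⟨fun _ => ?_, fun Z hZ h₀ => ?_⟩ π G.property
    (fun _ => pullback π T) (fun _ => pullback.snd π T) (fun _ => pullback.fst π T)
    (fun _ => hA) (fun _ => sq)).2 fun _ => ?_
  · exact H12AlgSp.locP_of_repWith H12AlgSp.etLocal_flat
      ((AlgSp.repWith_yon_map_iff _ _).2 inferInstance)
  · obtain ⟨z, rfl⟩ := (AlgSp.yon S).map_surjective h₀
    have := hZ
    let W : Over S := Over.mk (pullback.fst z.left c.left ≫ Z.hom)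
    let a : W ⟶ Z := Over.homMk (pullback.fst z.left c.left)
    let b : W ⟶ C := Over.homMk (pullback.snd z.left c.left) (by
      change _ = pullback.fst z.left c.left ≫ Z.hom
      rw [← Over.w c, ← pullback.condition_assoc, Over.w])
    have hab : b ≫ c = a ≫ z := Over.OverMorphism.ext pullback.condition.symm
    refine ⟨1, fun _ => W, fun _ => a,
      fun _ => @isAffine_of_isAffineHom _ _ (pullback.fst z.left c.left)
        (MorphismProperty.pullback_fst (P := @IsAffineHom) _ _ inferInstance) hZ,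
      fun _ => MorphismProperty.pullback_fst (P := @Flat) z.left c.left inferInstance,
      fun t => ⟨0, (MorphismProperty.pullback_fst (P := @Surjective) z.left c.left inferInstance).surj t⟩,
      fun _ => ⟨PUnit.unit, (AlgSp.yon S).map b, ?_⟩⟩
    exact ((AlgSp.yon S).map_comp _ _).symm.trans
      ((congrArg (AlgSp.yon S).map hab).trans ((AlgSp.yon S).map_comp _ _))
  have : (BasedFunctor.id (FibCat.overCat U)).toFunctor.Full :=
    inferInstanceAs (𝟭 (Over U)).Full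
  have : (BasedFunctor.id (FibCat.overCat U)).toFunctor.Faithful :=
    inferInstanceAs (𝟭 (Over U)).Faithful
  obtain ⟨⟨_, _⟩, -⟩ := (isEquivOver_iff _).1 (toOverCat_isEquivOver U)
  obtain ⟨⟨_, _⟩, hes⟩ := (isEquivOver_iff _).1 he
  have : (BasedFunctor.id (AlgSt.ofSp G.obj)).toFunctor.Full :=
    inferInstanceAs (𝟭 (Stk.EltObj G.obj.obj)).Full
  have : (BasedFunctor.id (AlgSt.ofSp G.obj)).toFunctor.Faithful :=
    inferInstanceAs (𝟭 (Stk.EltObj G.obj.obj)).Faithful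
  let y₀ := BasedFunctor.comp (AlgSt.ofOverCat C) (Stk.ofPshMap T.hom)
  have sq' : IsPullback (pullback.snd π T).hom (pullback.fst π T).hom (testMap y₀) π.hom := by
    rw [testMap_ofOverCat]
    exact (sq.map (sheafToPresheaf (AlgSp.J S) (Type (u + 1)))).flip
  obtain ⟨E, hE, ⟨k⟩⟩ := exists_comparison π.hom y₀ sq'
  let m : AlgSt.overMap c ≅ BasedFunctor.comp y₀ (AlgSt.toOverCat U) :=
    mkIso (fun s => Iso.refl _)
      (fun {_ _} φ => (Category.comp_id _).trans ((Category.id_comp _).trans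
        (Over.OverMorphism.ext rfl)).symm)
      (fun s => IsHomLift.id rfl)
  let M₁ : FibCat.fp y₀ (AlgSt.ofSpMap π) ⥤ᵇ FibCat.fp (AlgSt.overMap c) q :=
    fpMap (BasedFunctor.id _) (BasedFunctor.id (AlgSt.ofSp G.obj)) (AlgSt.toOverCat U) m.symm kq.symm
  have hM₁ : FibCat.IsEquivOver M₁ :=
    fpMap_isEquivOver _ _ _ _ _ (essSurjOver_id _) (essSurjOver_id _)
  let M₂ : FibCat.fp (AlgSt.overMap c) q ⥤ᵇ FibCat.fp (AlgSt.overMap c) (FibCat.fpFst y f) :=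
    fpMap (BasedFunctor.id _) e (BasedFunctor.id (FibCat.overCat U)) (Iso.refl _) (Iso.refl q)
  have hM₂ : FibCat.IsEquivOver M₂ := fpMap_isEquivOver _ _ _ _ _ (essSurjOver_id _) hes
  exact prop_of_repData hiso h (G := ⟨pullback π T, hA⟩)
    (e := BasedFunctor.comp (BasedFunctor.comp (BasedFunctor.comp E M₁) M₂)
      (pasteBase y f (AlgSt.overMap c)))
    (isEquivOver_comp (isEquivOver_comp (isEquivOver_comp hE hM₁) hM₂)
      (pasteBase_isEquivOver y f (AlgSt.overMap c))) k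

/-- Two lifts of the components give a lift along `pairMap`. -/
lemma exists_pair_lift {U T : Over S} (z : FibCat.overCat U ⥤ᵇ 𝒳) (F : 𝒳 ⥤ᵇ 𝒴)
    (y : FibCat.overCat T ⥤ᵇ FibCat.fp F F) (z₁ z₂ : FibCat.overCat T ⥤ᵇ FibCat.overCat U)
    (α : BasedFunctor.comp z₁ z ≅ BasedFunctor.comp y (FibCat.fpFst F F))
    (β : BasedFunctor.comp z₂ z ≅ BasedFunctor.comp y (FibCat.fpSnd F F)) :
    ∃ w : FibCat.overCat T ⥤ᵇ FibCat.fp (BasedFunctor.comp z F) (BasedFunctor.comp z F),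
      Nonempty (BasedFunctor.comp w (pairMap z z F) ≅ y) := by
  let e : BasedFunctor.comp z₁ (BasedFunctor.comp z F) ≅ BasedFunctor.comp z₂ (BasedFunctor.comp z F) :=
    (post _ F).mapIso α ≪≫ (Stk.restr y _).mapIso (FibCat.fpIso F F) ≪≫ (post _ F).mapIso β.symm
  refine ⟨FibCat.fpLift z₁ z₂ e, ⟨mkIso (fun s => fpIsoMk (isoApp α s) (isoApp β s) ?_)
    (fun {s t} f => fp_hom_ext (α.hom.toNatTrans.naturality f) (β.hom.toNatTrans.naturality f))
    (fun s => (fp_isHomLift_iff _ _).2 (isoApp_lift α s))⟩⟩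
  change F.map (isoApp α s).hom ≫ (y.obj s).obj.iso.hom =
    (𝟙 _ ≫ (F.map (isoApp α s).hom ≫ (y.obj s).obj.iso.hom ≫ F.map (isoApp β s).inv) ≫ 𝟙 _) ≫
      F.map (isoApp β s).hom
  simp only [Category.id_comp, Category.comp_id, Category.assoc, ← Functor.map_comp,
    Iso.inv_hom_id]
  erw [F.toFunctor.map_id, Category.comp_id]

/-- A morphism that is an isomorphism at every test is essentially surjective over the base. -/
lemma exists_lift_of_repData_iso {U : Over S} {f : 𝒳 ⥤ᵇ 𝒴} (y : FibCat.overCat U ⥤ᵇ 𝒴)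
    (h : RepData (MorphismProperty.isomorphisms (AlgSp.Sp S)) (FibCat.fpFst y f)) :
    ∃ w : FibCat.overCat U ⥤ᵇ 𝒳, Nonempty (BasedFunctor.comp w f ≅ y) := by
  obtain ⟨G, e, he, hσ⟩ := h
  let p₀ := BasedFunctor.comp e (FibCat.fpFst y f)
  have : IsIso (AlgSt.spMapOfOver p₀) := hσ
  obtain ⟨k₀⟩ := spMapOfOver_eq p₀
  let l := BasedFunctor.comp (AlgSt.ofOverCat U) (AlgSt.ofSpMap (inv (AlgSt.spMapOfOver p₀)))
  have hl : BasedFunctor.comp l (BasedFunctor.comp (AlgSt.ofSpMap (AlgSt.spMapOfOver p₀))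
      (AlgSt.toOverCat U)) = BasedFunctor.id _ := by
    change BasedFunctor.comp (AlgSt.ofOverCat U) (BasedFunctor.comp
      (Stk.ofPshMap ((inv (AlgSt.spMapOfOver p₀)).hom ≫ (AlgSt.spMapOfOver p₀).hom)) _) = _
    rw [show (inv (AlgSt.spMapOfOver p₀)).hom ≫ (AlgSt.spMapOfOver p₀).hom = 𝟙 _ from
      congrArg (·.hom) (IsIso.inv_hom_id (AlgSt.spMapOfOver p₀))]
    exact ofOverCat_toOverCat U
  exact ⟨BasedFunctor.comp l (BasedFunctor.comp e (FibCat.fpSnd y f)),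
    ⟨(Stk.restr (BasedFunctor.comp l e) 𝒴).mapIso (FibCat.fpIso y f).symm ≪≫
      (post (FibCat.overCat U) y).mapIso ((Stk.restr l _).mapIso k₀ ≪≫ eqToIso hl)⟩⟩

lemma essSurjOver_of_repWith_iso (h𝒴 : FibCat.IsFibGrpd 𝒴.p) {f : 𝒳 ⥤ᵇ 𝒴}
    (h : AlgSt.RepByAlgSpWith (MorphismProperty.isomorphisms (AlgSp.Sp S)) f) :
    EssSurjOver f := fun η => by
  have := isFibered_of_fibGrpd h𝒴
  obtain ⟨y, e, -, he⟩ := exists_fromOver (𝒳 := 𝒴) (U := 𝒴.p.obj η) (x := η) rfl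
  obtain ⟨w, ⟨j⟩⟩ := exists_lift_of_repData_iso y (h _ y)
  exact ⟨w.obj (topObj _), appIso j (topObj _) ≪≫ e, homLift_id_comp (appIso_lift j rfl) he⟩

/-- A morphism whose diagonal is an isomorphism is fully faithful. -/
lemma ff_of_diag_iso {K : Precoverage Scheme.{u}} (h𝒳 : AlgSt.IsAlgStack K 𝒳)
    (h𝒴 : AlgSt.IsAlgStack K 𝒴) {F : 𝒳 ⥤ᵇ 𝒴}
    (h : AlgSt.RepByAlgSpWith (MorphismProperty.isomorphisms (AlgSp.Sp S)) (FibCat.diag F)) :
    F.toFunctor.Full ∧ F.toFunctor.Faithful := by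
  have hP := fp_fibGrpd (F := F) (G := F) h𝒳.isStack.1 h𝒳.isStack.1 h𝒴.isStack.1
  have hfull := full_of_isMono h𝒳.isStack.1 hP (f := FibCat.diag F)
    (repWith_mono (fun {A B} a _ _ (ha : IsIso a) =>
      (inferInstance : Mono a)) h)
  refine ⟨?_, faithful_of_full_diag hfull⟩
  have := isFibered_of_fibGrpd h𝒳.isStack.1
  refine full_of_vertFull (MapSC.of_fibGrpd F h𝒴.isStack.1) fun U a b ha hb ψ hψ => ?_
  have := isIso_of_fibGrpd h𝒴.isStack.1 (𝟙 U) ψ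
  let z : (FibCat.fp F F).obj := fpObj a b (asIso ψ) ha hψ
  obtain ⟨c, j, hj⟩ := essSurjOver_of_repWith_iso hP h z
  let j₁ : c ≅ a := (FibCat.fpFst F F).toFunctor.mapIso j
  let j₂ : c ≅ b := (FibCat.fpSnd F F).toFunctor.mapIso j
  have hz : (FibCat.fp F F).p.obj z = U := ha
  rw [hz] at hj
  have hj₁ : 𝒳.p.IsHomLift (𝟙 U) j₁.hom :=
    @BasedFunctor.preserves_isHomLift _ _ _ _ (FibCat.fpFst F F) _ _ _ _ (𝟙 U) j.hom hj
  have hj₂ : 𝒳.p.IsHomLift (𝟙 U) j₂.hom :=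
    @BasedFunctor.preserves_isHomLift _ _ _ _ (FibCat.fpSnd F F) _ _ _ _ (𝟙 U) j.hom hj
  refine ⟨j₁.inv ≫ j₂.hom, homLift_id_comp (@IsHomLift.lift_id_inv _ _ _ _ 𝒳.p U _ _ j₁ hj₁) hj₂, ?_⟩
  have hw : F.map j₁.hom ≫ ψ = 𝟙 _ ≫ F.map j₂.hom := j.hom.hom.w
  rw [Category.id_comp] at hw
  rw [F.toFunctor.map_comp, ← hw, ← Functor.map_comp_assoc, j₁.inv_hom_id, F.toFunctor.map_id,
    Category.id_comp]

/-- Two field-valued points of a one-point stack have a common extension. -/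
lemma exists_common_field {𝒵 : AlgSt.Cat S} (hZ : FibCat.IsFibGrpd 𝒵.p)
    (hs : Subsingleton (AlgSt.Points 𝒵)) {k k' : Type u} [Field k] [Field k']
    {a : Spec (CommRingCat.of k) ⟶ S} {a' : Spec (CommRingCat.of k') ⟶ S}
    (z' : FibCat.overCat (Over.mk a') ⥤ᵇ 𝒵) (ζ : FibCat.overCat (Over.mk a) ⥤ᵇ 𝒵) :
    ∃ (L : Type u) (_ : Field L) (s : Spec (CommRingCat.of L) ⟶ S)
      (m : Over.mk s ⟶ Over.mk a') (b : Over.mk s ⟶ Over.mk a),
      Nonempty (BasedFunctor.comp (AlgSt.overMap m) z' ≅ BasedFunctor.comp (AlgSt.overMap b) ζ) := by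
  obtain ⟨w, -, -⟩ := exists_points_fp (fibGrpd_overCat _) (fibGrpd_overCat _) hZ (F := z') (G := ζ)
    (x := AlgSt.Points.mk ⟨k', a', topObj (Over.mk a'), rfl⟩)
    (y := AlgSt.Points.mk ⟨k, a, topObj (Over.mk a), rfl⟩) (Subsingleton.elim _ _)
  obtain ⟨r, rfl⟩ := AlgSt.Points.mk_surjective w
  have := isFibered_of_fibGrpd (fp_fibGrpd (F := z') (G := ζ) (fibGrpd_overCat _) (fibGrpd_overCat _) hZ)
  obtain ⟨G, -, -, -⟩ := exists_fromOver (𝒳 := FibCat.fp z' ζ) (U := Over.mk r.str) r.lies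
  obtain ⟨m, ⟨im⟩⟩ := exists_overMap_iso (BasedFunctor.comp G (FibCat.fpFst z' ζ))
  obtain ⟨b, ⟨ib⟩⟩ := exists_overMap_iso (BasedFunctor.comp G (FibCat.fpSnd z' ζ))
  exact ⟨r.K, r.field, r.str, m, b, ⟨(post _ z').mapIso im.symm ≪≫
    (Stk.restr G _).mapIso (FibCat.fpIso z' ζ) ≪≫ (post _ ζ).mapIso ib⟩⟩

/-- The diagonal is an isomorphism if it is so after base change to a field-valued point of a
one-point stack with an fppf field-valued point. -/
lemma repWith_iso_diag_of_field (h𝒳 : AlgSt.IsAlgStack K₀ 𝒳) (h𝒴 : AlgSt.IsAlgStack K₀ 𝒴)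
    (F : 𝒳 ⥤ᵇ 𝒴) (hsub : Subsingleton (AlgSt.Points 𝒳)) {k k' : Type u} [Field k] [Field k']
    {a : Spec (CommRingCat.of k) ⟶ S} {a' : Spec (CommRingCat.of k') ⟶ S}
    (z' : FibCat.overCat (Over.mk a') ⥤ᵇ 𝒳)
    (hzp : AlgSt.RepByAlgSpWith (AlgSp.LocP @LocallyOfFinitePresentation) z')
    (hzs : AlgSt.RepByAlgSpWith AlgSp.IsSurjectiveMor z')
    (hzf : AlgSt.RepByAlgSpWith (AlgSp.LocP @Flat) z')
    (ζ : FibCat.overCat (Over.mk a) ⥤ᵇ 𝒳)
    (h : AlgSt.RepByAlgSpWith (MorphismProperty.isomorphisms (AlgSp.Sp S)) (fpDown ζ ζ F)) :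
    AlgSt.RepByAlgSpWith (MorphismProperty.isomorphisms (AlgSp.Sp S)) (FibCat.diag F) := by
  have hiso : SourceIsoInv (MorphismProperty.isomorphisms (AlgSp.Sp S)) :=
    sourceIsoInv_of_respectsIso _
  have hΔ := rep1_diag_of_algStack h𝒳 h𝒴 F
  have h' := (repWith_equiv_comp_iff (f := FibCat.fpFst (pairMap ζ ζ F) (FibCat.diag F))
    (magicFun_isEquivOver ζ ζ F)).2 h
  obtain ⟨L, _, sL, mL, bL, ⟨jL⟩⟩ := exists_common_field h𝒳.isStack.1 hsub z' ζ
  have hm : Flat mL.left ∧ IsAffineHom mL.left ∧ Surjective mL.left := by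
    let m₀ : Spec (CommRingCat.of L) ⟶ Spec (CommRingCat.of k') := mL.left
    have h1 : IsAffineHom m₀ := inferInstance
    have h2 : Surjective m₀ := ⟨fun t => ⟨default, Subsingleton.elim _ _⟩⟩
    have h3 : Flat m₀ := by
      obtain ⟨φ, hφ⟩ := Spec.map_surjective m₀
      rw [← hφ, Flat.SpecMap_iff]
      let : Algebra k' L := φ.hom.toAlgebra
      exact (inferInstance : Module.Flat k' L)
    exact ⟨h3, h1, h2⟩
  obtain ⟨_, _, _⟩ := hm
  intro T y
  obtain ⟨ι, C, c, hc1, hc2, hc3, hc4⟩ :=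
    exists_lift_of_fppf hzf hzp hzs T (BasedFunctor.comp y (FibCat.fpFst F F))
  choose z hz using hc4
  have hd := fun i => exists_lift_of_fppf hzf hzp hzs (C i)
    (BasedFunctor.comp (AlgSt.overMap (c i)) (BasedFunctor.comp y (FibCat.fpSnd F F)))
  choose κ D d hd1 hd2 hd3 hd4 using hd
  choose z₂ hz₂ using hd4
  refine repData_of_family (localFppf_of_fpqc (S10532.result S)) hiso y (hΔ T y)
    (fun p : Σ i, κ i => D p.1 p.2) (fun p => d p.1 p.2 ≫ c p.1) (fun p => ?_) (fun p => ?_)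
    (fun t => ?_) (fun p => ?_)
  · have := hd1 p.1 p.2
    have := hc1 p.1
    rw [Over.comp_left]
    infer_instance
  · have := hd2 p.1 p.2
    have := hc2 p.1
    rw [Over.comp_left]
    infer_instance
  · obtain ⟨i, a, rfl⟩ := hc3 t
    obtain ⟨j, b, rfl⟩ := hd3 i a
    exact ⟨⟨i, j⟩, b, rfl⟩
  obtain ⟨i, j⟩ := p
  obtain ⟨j₁⟩ := hz i
  obtain ⟨j₂⟩ := hz₂ i j
  let dc := overMapCompIso (d i j) (c i)
  let y₁ := BasedFunctor.comp (AlgSt.overMap (d i j ≫ c i)) y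
  obtain ⟨φ₁, ⟨i₁⟩⟩ := exists_overMap_iso (BasedFunctor.comp (AlgSt.overMap (d i j)) (z i))
  obtain ⟨φ₂, ⟨i₂⟩⟩ := exists_overMap_iso (z₂ i j)
  let α : BasedFunctor.comp (AlgSt.overMap φ₁) z' ≅ BasedFunctor.comp y₁ (FibCat.fpFst F F) :=
    (post _ z').mapIso i₁.symm ≪≫ (Stk.restr (AlgSt.overMap (d i j)) _).mapIso j₁ ≪≫
      (post _ (BasedFunctor.comp y (FibCat.fpFst F F))).mapIso dc
  let β : BasedFunctor.comp (AlgSt.overMap φ₂) z' ≅ BasedFunctor.comp y₁ (FibCat.fpSnd F F) :=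
    (post _ z').mapIso i₂.symm ≪≫ j₂ ≪≫
      (post _ (BasedFunctor.comp y (FibCat.fpSnd F F))).mapIso dc
  let p₁ := pullback.fst φ₁.left mL.left
  let p₂ := pullback.fst (p₁ ≫ φ₂.left) mL.left
  let D₂ : Over S := Over.mk ((p₂ ≫ p₁) ≫ (D i j).hom)
  let c₂ : D₂ ⟶ D i j := Over.homMk (p₂ ≫ p₁)
  let r₁ : D₂ ⟶ Over.mk sL := Over.homMk (p₂ ≫ pullback.snd φ₁.left mL.left) (by
    change _ = (p₂ ≫ p₁) ≫ (D i j).hom
    rw [Category.assoc, Category.assoc, ← Over.w φ₁, ← Over.w mL, pullback.condition_assoc])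
  let r₂ : D₂ ⟶ Over.mk sL := Over.homMk (pullback.snd (p₁ ≫ φ₂.left) mL.left) (by
    change _ = (p₂ ≫ p₁) ≫ (D i j).hom
    rw [← Over.w φ₂, ← Over.w mL, ← pullback.condition_assoc, Category.assoc, Category.assoc])
  have e₁ : r₁ ≫ mL = c₂ ≫ φ₁ := Over.OverMorphism.ext (by
    change (p₂ ≫ _) ≫ mL.left = (p₂ ≫ p₁) ≫ φ₁.left
    rw [Category.assoc, Category.assoc, pullback.condition])
  have e₂ : r₂ ≫ mL = c₂ ≫ φ₂ := Over.OverMorphism.ext (by
    change _ ≫ mL.left = (p₂ ≫ p₁) ≫ φ₂.left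
    rw [Category.assoc]
    exact pullback.condition.symm)
  have : IsAffineHom c₂.left := MorphismProperty.comp_mem _ p₂ p₁
    (MorphismProperty.pullback_fst _ _ inferInstance) (MorphismProperty.pullback_fst _ _ inferInstance)
  have : Flat c₂.left := MorphismProperty.comp_mem _ p₂ p₁
    (MorphismProperty.pullback_fst _ _ inferInstance) (MorphismProperty.pullback_fst _ _ inferInstance)
  have : Surjective c₂.left := MorphismProperty.comp_mem _ p₂ p₁
    (MorphismProperty.pullback_fst _ _ inferInstance) (MorphismProperty.pullback_fst _ _ inferInstance)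
  refine repData_of_fpqc (S10532.result S) hiso y₁ (hΔ _ y₁) c₂ ?_
  have key : ∀ {r : D₂ ⟶ Over.mk sL} {φ : D i j ⟶ Over.mk a'} (_ : r ≫ mL = c₂ ≫ φ)
      {v : FibCat.overCat (D i j) ⥤ᵇ 𝒳} (_ : BasedFunctor.comp (AlgSt.overMap φ) z' ≅ v),
      Nonempty (BasedFunctor.comp (BasedFunctor.comp (AlgSt.overMap r) (AlgSt.overMap bL)) ζ ≅
        BasedFunctor.comp (AlgSt.overMap c₂) v) := fun {r φ} er {v} γ =>
    ⟨(Stk.restr (AlgSt.overMap r) _).mapIso jL.symm ≪≫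
      (post _ z').mapIso (overMapCompIso r mL ≪≫ eqToIso (congrArg AlgSt.overMap er) ≪≫
        (overMapCompIso c₂ φ).symm) ≪≫ (Stk.restr (AlgSt.overMap c₂) _).mapIso γ⟩
  obtain ⟨γ₁⟩ := key e₁ α
  obtain ⟨γ₂⟩ := key e₂ β
  obtain ⟨w, ⟨l⟩⟩ := exists_pair_lift ζ F (BasedFunctor.comp (AlgSt.overMap c₂) y₁) _ _ γ₁ γ₂
  exact repData_congr l (RepData.of_equiv _
    (pasteBase_isEquivOver (pairMap ζ ζ F) (FibCat.diag F) w) (Iso.refl _) (h' D₂ w))

end Groth.Agent.H14AlgSt
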