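import Groth.Agent.H14AlgSt.Descent
import Groth.Agent.H14AlgSt.DiagProps
import Groth.Agent.H14AlgSt.Graph
import Groth.Agent.S10505
import Groth.Agent.S10526

/-!
# Diagonals of morphisms of algebraic stacks are locally of finite type
-/

set_option autoImplicit false
set_option backward.isDefEq.respectTransparency false
set_option backward.isDefEq.respectTransparency.types false

universe u

open CategoryTheory Opposite AlgebraicGeometry CategoryTheory.Limits

namespace Groth.Agent.H14AlgSt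

open H14Fib H14Stk

variable {S : Scheme.{u}} {𝒳 𝒴 : AlgSt.Cat S}

lemma localFppf_of_fpqc {P : MorphismProperty (AlgSp.Sp S)}
    (hP : AlgSp.IsLocalOnBase AlgSp.IsFpqcCover P) : AlgSp.IsLocalOnBase AlgSp.IsFppfCover P :=
  fun ι Y Yi g hY hYi hg X f hX Xi p q hXi sq =>
    hP Yi g hY hYi (S10505.result (⟨Y, hY⟩ : AlgSp.Space S) (fun i => ⟨Yi i, hYi i⟩)
      (fun i => ObjectProperty.homMk (g i)) hg) f hX Xi p q hXi sq

lemma cancelsLeft_lft :
    CancelsLeft (S := S) (AlgSp.LocP @LocallyOfFiniteType) ⊤ :=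
  cancelsLeft_locP H12AlgSp.etLocal_lft (fun _ _ _ f g (_ : LocallyOfFiniteType (f ≫ g)) =>
    locallyOfFiniteType_of_comp f g)

/-- The composite of two pullback functors of slices. -/
def overMapCompIso {U V W : Over S} (d : W ⟶ V) (c : V ⟶ U) :
    BasedFunctor.comp (AlgSt.overMap d) (AlgSt.overMap c) ≅ AlgSt.overMap (d ≫ c) :=
  mkIso (fun s => Over.isoMk (Iso.refl _) ((Category.id_comp _).trans (Category.assoc _ _ _).symm))
    (fun {_ _} φ => Over.OverMorphism.ext ((Category.comp_id _).trans (Category.id_comp _).symm))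
    (fun s => IsHomLift.id rfl)

lemma repWith_diag_of_atlas {P : MorphismProperty (AlgSp.Sp S)}
    (hP : AlgSp.IsLocalOnBase AlgSp.IsFppfCover P) (hiso : SourceIsoInv P)
    (hΔ : AlgSt.RepByAlgSp1 (FibCat.diag (FibCat.toSelf 𝒳))) {U : Over S}
    {x : FibCat.overCat U ⥤ᵇ 𝒳} (h1 : AlgSt.RepByAlgSpWith (AlgSp.LocP @Flat) x)
    (h2 : AlgSt.RepByAlgSpWith (AlgSp.LocP @LocallyOfFinitePresentation) x)
    (h3 : AlgSt.RepByAlgSpWith AlgSp.IsSurjectiveMor x)
    (h : AlgSt.RepByAlgSpWith P (fpDown x x (FibCat.toSelf 𝒳))) :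
    AlgSt.RepByAlgSpWith P (FibCat.diag (FibCat.toSelf 𝒳)) := by
  let H := FibCat.toSelf 𝒳
  refine repWith_of_cover hP hiso hΔ (pairMap x x H) (fun T y => ?_)
    ((repWith_equiv_comp_iff (magicFun_isEquivOver x x H)).2 h)
  obtain ⟨ι, C, c, hc1, hc2, hc3, hc4⟩ :=
    exists_lift_of_fppf h1 h2 h3 T (BasedFunctor.comp y (FibCat.fpFst H H))
  choose z hz using hc4
  have hd := fun i => exists_lift_of_fppf h1 h2 h3 (C i)
    (BasedFunctor.comp (AlgSt.overMap (c i)) (BasedFunctor.comp y (FibCat.fpSnd H H)))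
  choose κ D d hd1 hd2 hd3 hd4 using hd
  choose z' hz' using hd4
  refine ⟨Σ i, κ i, fun p => D p.1 p.2, fun p => d p.1 p.2 ≫ c p.1, fun p => ?_, fun p => ?_,
    fun t => ?_, fun p => ?_⟩
  · have := hd1 p.1 p.2
    have := hc1 p.1
    rw [Over.comp_left]
    infer_instance
  · have := hd2 p.1 p.2
    have := hc2 p.1
    rw [Over.comp_left]
    infer_instance
  · obtain ⟨i, a, rfl⟩ := hc3 t
    obtain ⟨j, b, rfl⟩ := hd3 i a
    exact ⟨⟨i, j⟩, b, rfl⟩
  obtain ⟨i, j⟩ := p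
  obtain ⟨j₁⟩ := hz i
  obtain ⟨j₂⟩ := hz' i j
  let z₁ := BasedFunctor.comp (AlgSt.overMap (d i j)) (z i)
  let w := FibCat.fpLift (F := BasedFunctor.comp x H) (G := BasedFunctor.comp x H) z₁ (z' i j)
    (eqToIso ((comp_toSelf (BasedFunctor.comp z₁ x)).trans
      (comp_toSelf (BasedFunctor.comp (z' i j) x)).symm))
  let m := overMapCompIso (d i j) (c i)
  let α : BasedFunctor.comp z₁ x ≅
      BasedFunctor.comp (BasedFunctor.comp (AlgSt.overMap (d i j ≫ c i)) y) (FibCat.fpFst H H) :=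
    (Stk.restr (AlgSt.overMap (d i j)) _).mapIso j₁ ≪≫
      (post _ (BasedFunctor.comp y (FibCat.fpFst H H))).mapIso m
  let β : BasedFunctor.comp (z' i j) x ≅
      BasedFunctor.comp (BasedFunctor.comp (AlgSt.overMap (d i j ≫ c i)) y) (FibCat.fpSnd H H) :=
    j₂ ≪≫ (post _ (BasedFunctor.comp y (FibCat.fpSnd H H))).mapIso m
  refine ⟨w, ⟨mkIso (fun s => fpIsoMk (isoApp α s) (isoApp β s) ?_) (fun {s t} f => fp_hom_ext
    (α.hom.toNatTrans.naturality f) (β.hom.toNatTrans.naturality f))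
    (fun s => (fp_isHomLift_iff _ _).2 ?_)⟩⟩
  · exact selfFp_w (𝟙 ((FibCat.overCat (D i j)).p.obj s)) (isoApp_lift α s) (isoApp_lift β s)
  · exact isoApp_lift α s

lemma repWith_lft_diag_toSelf {K : Precoverage Scheme.{u}} (h : AlgSt.IsAlgStack K 𝒳) :
    AlgSt.RepByAlgSpWith (AlgSp.LocP @LocallyOfFiniteType) (FibCat.diag (FibCat.toSelf 𝒳)) := by
  obtain ⟨U, x, hx, hxs⟩ := h.atlas
  let H := FibCat.toSelf 𝒳
  have le1 : (@Smooth : MorphismProperty Scheme.{u}) ≤ @Flat := fun _ _ g (_ : Smooth g) =>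
    (inferInstance : Flat g)
  have le2 : (@Smooth : MorphismProperty Scheme.{u}) ≤ @LocallyOfFinitePresentation :=
    fun _ _ g (_ : Smooth g) => (inferInstance : LocallyOfFinitePresentation g)
  have le3 : (@Smooth : MorphismProperty Scheme.{u}) ≤ @LocallyOfFiniteType :=
    fun _ _ g (_ : Smooth g) => (inferInstance : LocallyOfFiniteType g)
  have hU := repByAlgSp_overCat U
  have hR : AlgSt.RepByAlgSp (FibCat.fp x x) := repByAlgSp1_of_with hx U x
  have hQ : AlgSt.RepByAlgSp (FibCat.fp (BasedFunctor.comp x H) (BasedFunctor.comp x H)) := by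
    rw [comp_toSelf]
    exact repByAlgSp_prod hU hU
  refine repWith_diag_of_atlas (localFppf_of_fpqc (S10526.result S))
    (sourceIsoInv_locP _) h.diag
    (repWith_mono (fun _ _ _ h => H12AlgSp.locP_mono le1 h) hx)
    (repWith_mono (fun _ _ _ h => H12AlgSp.locP_mono le2 h) hx) hxs ?_
  exact repWith_cancel (baseStable_locP H12AlgSp.etLocal_lft) cancelsLeft_lft
    (isFibSetoid_of_rep hR).1 (isFibSetoid_of_rep hQ).1
    (g := FibCat.fpFst (BasedFunctor.comp x H) (BasedFunctor.comp x H))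
    (repByAlgSp1_of_rep hR hQ _)
    (repWith_mono (fun _ _ _ h => H12AlgSp.locP_mono le3 h) (repWith_fpFst x hx))
    (with_top_of_repByAlgSp1 (repByAlgSp1_of_rep hQ hU _))

lemma repWith_lft_diag (h𝒳 : AlgSt.IsAlgStack Scheme.fppfPrecoverage 𝒳)
    (h𝒴 : AlgSt.IsAlgStack Scheme.fppfPrecoverage 𝒴) (f : 𝒳 ⥤ᵇ 𝒴) :
    AlgSt.RepByAlgSpWith (AlgSp.LocP @LocallyOfFiniteType) (FibCat.diag f) :=
  repWith_diag_cancel (g := FibCat.toSelf 𝒴) (baseStable_locP H12AlgSp.etLocal_lft) cancelsLeft_lft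
    h𝒳.isStack.1 h𝒴.isStack.1 (rep1_diag_of_algStack h𝒳 h𝒴 f)
    (with_top_of_repByAlgSp1 h𝒴.diag)
    (by rw [comp_toSelf]; exact repWith_lft_diag_toSelf h𝒳)

end Groth.Agent.H14AlgSt
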