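import Groth.Agent.H14AlgSt.FieldPoint
import Groth.Agent.H14AlgSt.PointsMor
import Mathlib.AlgebraicGeometry.AlgClosed.Basic
import Mathlib.FieldTheory.IsAlgClosed.AlgebraicClosure

/-!
# Surjectivity of the diagonal and algebraically closed points
-/

set_option autoImplicit false
set_option backward.isDefEq.respectTransparency false
set_option backward.isDefEq.respectTransparency.types false

universe u

open CategoryTheory CategoryTheory.Functor Opposite AlgebraicGeometry CategoryTheory.Limits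

noncomputable section

namespace Groth.Agent.H14AlgSt

open H14Fib H14Stk

variable {S : Scheme.{u}} {𝒳 𝒴 : AlgSt.Cat S}

local notation "K₀" => Scheme.fppfPrecoverage

lemma exists_section_of_lft {k : Type u} [Field k] [IsAlgClosed k] {s : Spec (CommRingCat.of k) ⟶ S}
    {F : AlgSp.Space S} (π : F.obj ⟶ (AlgSp.yon S).obj (Over.mk s))
    (hπ : AlgSp.LocP @LocallyOfFiniteType π) (hne : Nonempty (AlgSp.Points F.obj)) :
    ∃ σ : (AlgSp.yon S).obj (Over.mk s) ⟶ F.obj, σ ≫ π = 𝟙 _ := by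
  obtain ⟨V, a, ha, has⟩ := F.property.atlas
  obtain ⟨x⟩ := hne
  obtain ⟨v, -⟩ := H12AlgSp.surjective_ofPt_of_repWith le_rfl has x
  obtain ⟨h, hh⟩ := (AlgSp.yon S).map_surjective (a ≫ π)
  have hl : LocallyOfFiniteType h.left :=
    hπ a (𝟙 _) h ha (AlgSp.repWith_id _ _) (hh.symm.trans (Category.comp_id _).symm)
  let f : V.left ⟶ Spec (CommRingCat.of k) := h.left
  have : LocallyOfFiniteType f := hl
  have : JacobsonSpace V.left := LocallyOfFiniteType.jacobsonSpace f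
  obtain ⟨p, -, hp⟩ := nonempty_inter_closedPoints (X := V.left) (Z := Set.univ) ⟨v, trivial⟩ isOpen_univ.isLocallyClosed
  let τ := pointOfClosedPoint f p hp
  have hτ : τ ≫ V.hom = s := by
    rw [← Over.w h, ← Category.assoc]
    exact (congrArg (· ≫ s) (pointOfClosedPoint_comp f p hp)).trans (Category.id_comp _)
  let t : Over.mk s ⟶ V := Over.homMk τ hτ
  have ht : t ≫ h = 𝟙 _ := Over.OverMorphism.ext (pointOfClosedPoint_comp f p hp)
  refine ⟨(AlgSp.yon S).map t ≫ a, ?_⟩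
  rw [Category.assoc, ← hh, ← Functor.map_comp, ht, CategoryTheory.Functor.map_id]

/-- The top object of a slice chart, from a section of a representing space. -/
lemma exists_topObj_of_section {k : Type u} [Field k] {s : Spec (CommRingCat.of k) ⟶ S}
    {F : AlgSp.Sp S} (Φ : AlgSt.ofSp F ⥤ᵇ FibCat.overCat (Over.mk s))
    (σ : (AlgSp.yon S).obj (Over.mk s) ⟶ F) (hσ : σ ≫ AlgSt.spMapOfOver Φ = 𝟙 _) :
    ∃ z : (AlgSt.ofSp F).obj, ∃ hc : (Φ.obj z).left = Over.mk s, (Φ.obj z).hom = eqToHom hc := by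
  let z : (AlgSt.ofSp F).obj := ⟨Over.mk s, σ.hom.app (op (Over.mk s)) ⟨𝟙 _⟩⟩
  refine ⟨z, Φ.w_obj z, ?_⟩
  have hz : AlgSt.secHom Φ z = 𝟙 _ :=
    congrArg ULift.down ((AlgSt.spMapOfOver_app _ _ _).symm.trans
      (ConcreteCategory.congr_hom (NatTrans.congr_app ((sheafToPresheaf _ _).congr_map hσ) (op (Over.mk s))) ⟨𝟙 _⟩))
  have hz' : eqToHom (Φ.w_obj z).symm ≫ (Φ.obj z).hom = 𝟙 _ := hz
  calc (Φ.obj z).hom = eqToHom (Φ.w_obj z) ≫ eqToHom (Φ.w_obj z).symm ≫ (Φ.obj z).hom :=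
        (Category.id_comp _).symm.trans ((congrArg (· ≫ (Φ.obj z).hom) (eqToHom_trans (Φ.w_obj z)
          (Φ.w_obj z).symm).symm).trans (Category.assoc _ _ _))
    _ = eqToHom (Φ.w_obj z) := (congrArg (_ ≫ ·) hz').trans (Category.comp_id _)

/-- An object of the base change of the diagonal over the point gives a lift of the morphism. -/
lemma exists_lift_of_fp_obj (h𝒳 : FibCat.IsFibGrpd 𝒳.p) {f : 𝒳 ⥤ᵇ 𝒴} {T : Over S}
    (y : FibCat.overCat T ⥤ᵇ FibCat.fp f f) (d : (FibCat.fp f f).obj) (e₀ : y.obj (topObj T) ≅ d)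
    (he₀ : (FibCat.fp f f).p.IsHomLift (𝟙 T) e₀.hom) (c : (FibCat.fp y (FibCat.diag f)).obj)
    (hc : c.obj.fst.left = T) (hc2 : c.obj.fst.hom = eqToHom hc) :
    ∃ α : d.obj.fst ⟶ d.obj.snd, 𝒳.p.IsHomLift (𝟙 T) α ∧ f.map α = d.obj.iso.hom := by
  let m : (FibCat.diag f).obj c.obj.snd ⟶ d := c.obj.iso.inv ≫ y.map (toTop c.obj.fst) ≫ e₀.hom
  have hm : (FibCat.fp f f).p.IsHomLift (eqToHom hc) m := by
    have hi : (FibCat.fp f f).p.IsHomLift (𝟙 c.obj.fst.left) c.obj.iso.hom := c.property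
    have h3 : (FibCat.fp f f).p.IsHomLift c.obj.fst.hom (y.map (toTop c.obj.fst)) :=
      have : (FibCat.overCat (T)).p.IsHomLift c.obj.fst.hom (toTop c.obj.fst) :=
        IsHomLift.map (Over.forget (T)) (toTop c.obj.fst)
      BasedFunctor.preserves_isHomLift y _ _
    have hi' : (FibCat.fp f f).p.IsHomLift (𝟙 c.obj.fst.left) c.obj.iso.inv :=
      IsHomLift.lift_id_inv _ c.obj.fst.left c.obj.iso
    have := homLift_comp' hi' (homLift_comp' h3 he₀)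
    rwa [Category.id_comp, Category.comp_id, hc2] at this
  have hm1 : 𝒳.p.IsHomLift (eqToHom hc) m.hom.fst :=
    BasedFunctor.preserves_isHomLift (FibCat.fpFst f f) _ m
  have hm2 : 𝒳.p.IsHomLift (eqToHom hc) m.hom.snd :=
    BasedFunctor.preserves_isHomLift (FibCat.fpSnd f f) _ m
  have := isIso_of_fibGrpd h𝒳 (eqToHom hc) m.hom.fst
  refine ⟨inv m.hom.fst ≫ m.hom.snd, ?_, ?_⟩
  · have := IsHomLift.inv 𝒳.p (eqToHom hc) m.hom.fst
    have h4 := homLift_comp' this hm2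
    rwa [IsIso.inv_hom_id] at h4
  · have w : f.map m.hom.fst ≫ d.obj.iso.hom = 𝟙 _ ≫ f.map m.hom.snd := m.hom.w
    rw [f.toFunctor.map_comp, Functor.map_inv, IsIso.inv_comp_eq]
    exact ((Category.id_comp _).symm.trans w.symm)


lemma exists_lift_hom_of_surjective_diag (h𝒳 : AlgSt.IsAlgStack K₀ 𝒳) (h𝒴 : AlgSt.IsAlgStack K₀ 𝒴)
    {f : 𝒳 ⥤ᵇ 𝒴} (hΔ : AlgSt.IsSurjective (FibCat.diag f)) {k : Type u} [Field k] [IsAlgClosed k]
    {s : Spec (CommRingCat.of k) ⟶ S} {a₁ a₂ : 𝒳.obj} (h₁ : 𝒳.p.obj a₁ = Over.mk s)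
    (h₂ : 𝒳.p.obj a₂ = Over.mk s) (β : f.obj a₁ ⟶ f.obj a₂) (hβ : 𝒴.p.IsHomLift (𝟙 (Over.mk s)) β) :
    ∃ α : a₁ ⟶ a₂, 𝒳.p.IsHomLift (𝟙 (Over.mk s)) α ∧ f.map α = β := by
  have hG := fp_fibGrpd (F := f) (G := f) h𝒳.isStack.1 h𝒳.isStack.1 h𝒴.isStack.1
  have : IsIso β := isIso_of_fibGrpd h𝒴.isStack.1 (𝟙 (Over.mk s)) β
  let d : (FibCat.fp f f).obj := ⟨{ fst := a₁, snd := a₂, iso := asIso β }, by
    change 𝒴.p.IsHomLift (𝟙 (𝒳.p.obj a₁)) β
    rw [h₁]; exact hβ⟩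
  have := isFibered_of_fibGrpd hG
  obtain ⟨y, e₀, -, he₀⟩ := exists_fromOver (𝒳 := FibCat.fp f f) (U := Over.mk s) (x := d) h₁
  have hlft := repWith_lft_diag h𝒳 h𝒴 f
  obtain ⟨F, e, he, hF⟩ := hlft (Over.mk s) y
  have hne : Nonempty (AlgSp.Points F.obj) := by
    obtain ⟨F', e', he', hF'⟩ := repWith_surjective_of_points h𝒳.isStack.1 hG
      (repByAlgSp1_of_with hlft) hΔ (Over.mk s) y
    obtain ⟨x', -⟩ := hF' (AlgSp.Points.schemeEquiv (Over.mk s) (IsLocalRing.closedPoint k))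
    obtain ⟨w, -⟩ := (points_map_bijective he).2 (AlgSt.Points.map e' (spEquiv _ x'))
    exact ⟨(spEquiv _).symm w⟩
  obtain ⟨σ, hσ⟩ := exists_section_of_lft _ hF hne
  obtain ⟨z, hc, hc2⟩ := exists_topObj_of_section _ σ hσ
  exact exists_lift_of_fp_obj h𝒳.isStack.1 y d e₀ he₀ (e.obj z) hc hc2

lemma surjective_diag_of_lift_hom (h𝒳 : FibCat.IsFibGrpd 𝒳.p) (h𝒴 : FibCat.IsFibGrpd 𝒴.p)
    {f : 𝒳 ⥤ᵇ 𝒴}
    (h : ∀ (k : Type u) [Field k] [IsAlgClosed k] (s : Spec (CommRingCat.of k) ⟶ S) (a₁ a₂ : 𝒳.obj)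
      (_ : 𝒳.p.obj a₁ = Over.mk s) (_ : 𝒳.p.obj a₂ = Over.mk s) (β : f.obj a₁ ⟶ f.obj a₂),
      𝒴.p.IsHomLift (𝟙 (Over.mk s)) β →
        ∃ α : a₁ ⟶ a₂, 𝒳.p.IsHomLift (𝟙 (Over.mk s)) α ∧ f.map α = β) :
    AlgSt.IsSurjective (FibCat.diag f) := by
  intro w
  obtain ⟨q, rfl⟩ := AlgSt.Points.mk_surjective w
  let Ω := AlgebraicClosure q.K
  let j : Spec (CommRingCat.of Ω) ⟶ Spec (CommRingCat.of q.K) :=
    Spec.map (CommRingCat.ofHom (algebraMap q.K Ω))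
  let g : Over.mk (j ≫ q.str) ⟶ Over.mk q.str := Over.homMk j rfl
  obtain ⟨r, φ, hφ⟩ := exists_sc_lift (fp_fibGrpd (F := f) (G := f) h𝒳 h𝒳 h𝒴) q.lies g
  have hrl : (FibCat.fp f f).p.obj r = Over.mk (j ≫ q.str) :=
    IsHomLift.domain_eq (FibCat.fp f f).p g φ
  have h₁ : 𝒳.p.obj r.obj.fst = Over.mk (j ≫ q.str) := hrl
  have h₂ : 𝒳.p.obj r.obj.snd = Over.mk (j ≫ q.str) := (fp_snd_obj r).trans hrl
  have hβ : 𝒴.p.IsHomLift (𝟙 (Over.mk (j ≫ q.str))) r.obj.iso.hom := h₁ ▸ r.property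
  obtain ⟨α, hα, hfα⟩ := h Ω (j ≫ q.str) r.obj.fst r.obj.snd h₁ h₂ r.obj.iso.hom hβ
  let p : AlgSt.FPt 𝒳 := { K := Ω, str := j ≫ q.str, obj := r.obj.fst, lies := h₁ }
  refine ⟨AlgSt.Points.mk p, ?_⟩
  let μ : (FibCat.diag f).obj r.obj.fst ⟶ r :=
    fpHom (𝟙 r.obj.fst) α (by
      exact (congrArg (· ≫ r.obj.iso.hom) (f.toFunctor.map_id _)).trans
        ((Category.id_comp _).trans ((Category.id_comp _).trans hfα).symm))
  exact mk_eq_of_hom (p := p.map (FibCat.diag f)) (q := q) (μ ≫ φ)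

end Groth.Agent.H14AlgSt
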