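import Groth.Agent.H14AlgSt.FieldPoint
import Groth.Agent.H14AlgSt.Descent
import Groth.Agent.H12AlgSp.RepBySp2
import Groth.Agent.H12AlgSp.LQFScheme2
import Groth.Agent.H12AlgSp.Unramified
import Groth.Agent.H13AlgSp.DecentCriteria
import Groth.Agent.S10519

/-!
# Quasi-compactness of monomorphisms which lift generically
-/

set_option autoImplicit false
set_option backward.isDefEq.respectTransparency false
set_option backward.isDefEq.respectTransparency.types false

universe u

open CategoryTheory CategoryTheory.Functor Opposite AlgebraicGeometry CategoryTheory.Limits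
open TopologicalSpace

noncomputable section

namespace Groth.Agent.H14AlgSt

open H14Fib H14Stk

/-- A monomorphism with values in a locally Noetherian scheme with generic sections over its
image is quasi-compact. -/
theorem quasiCompact_of_mono_dense {G U : Scheme.{u}} (g : G ⟶ U) [Mono g]
    [IsLocallyNoetherian U]
    (H : ∀ (A : Type u) [CommRing A] [IsDomain A] (i : Spec (CommRingCat.of A) ⟶ U)
      (D : Set ↥(Spec (CommRingCat.of A))), Dense D → (∀ p ∈ D, i p ∈ Set.range g) →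
      ∃ O : (Spec (CommRingCat.of A)).Opens, (O : Set ↥(Spec (CommRingCat.of A))).Nonempty ∧
        ∃ s : O.toScheme ⟶ G, s ≫ g = O.ι ≫ i)
    (hinj : Function.Injective g) : QuasiCompact g := by
  rw [quasiCompact_iff_forall_isAffineOpen]
  intro W hW
  let B := Γ(U, W)
  have : IsNoetherianRing B := IsLocallyNoetherian.component_noetherian ⟨W, hW⟩
  let j : Spec (CommRingCat.of B) ⟶ U := hW.fromSpec
  suffices key : ∀ Z : TopologicalSpace.Closeds (PrimeSpectrum B),
      IsCompact (g ⁻¹' (j '' (Z : Set (PrimeSpectrum B)))) by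
    have h := key ⊤
    rwa [TopologicalSpace.Closeds.coe_top, Set.image_univ, show Set.range j = W from
      hW.range_fromSpec] at h
  intro Z
  induction Z using WellFoundedLT.induction with
  | ind Z ih =>
  by_cases hne : (Z : Set (PrimeSpectrum B)).Nonempty
  swap
  · rw [Set.not_nonempty_iff_eq_empty.1 hne]
    simp
  by_cases hirr : IsPreirreducible (Z : Set (PrimeSpectrum B))
  swap
  · rw [isPreirreducible_iff_isClosed_union_isClosed] at hirr
    push Not at hirr
    obtain ⟨z₁, z₂, h₁, h₂, hsub, hn₁, hn₂⟩ := hirr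
    let Z₁ : TopologicalSpace.Closeds (PrimeSpectrum B) := ⟨Z ∩ z₁, Z.isClosed.inter h₁⟩
    let Z₂ : TopologicalSpace.Closeds (PrimeSpectrum B) := ⟨Z ∩ z₂, Z.isClosed.inter h₂⟩
    have c₁ := ih Z₁ (lt_of_le_of_ne (fun _ h => h.1) fun e => hn₁ fun p hp =>
      ((congrArg SetLike.coe e).ge hp).2)
    have c₂ := ih Z₂ (lt_of_le_of_ne (fun _ h => h.1) fun e => hn₂ fun p hp =>
      ((congrArg SetLike.coe e).ge hp).2)
    convert c₁.union c₂ using 1
    rw [← Set.preimage_union, ← Set.image_union]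
    congr 2
    exact Set.Subset.antisymm (fun p hp => (hsub hp).imp (fun h => ⟨hp, h⟩) fun h => ⟨hp, h⟩)
      (fun p hp => hp.elim And.left And.left)
  let q := PrimeSpectrum.vanishingIdeal (Z : Set (PrimeSpectrum B))
  have hq : q.IsPrime := PrimeSpectrum.isIrreducible_iff_vanishingIdeal_isPrime.1 ⟨hne, hirr⟩
  let A : Type u := B ⧸ q
  let π : Spec (CommRingCat.of A) ⟶ Spec (CommRingCat.of B) :=
    Spec.map (CommRingCat.ofHom (Ideal.Quotient.mk q))
  have : IsClosedImmersion π :=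
    IsClosedImmersion.spec_of_surjective _ Ideal.Quotient.mk_surjective
  have hπ : Set.range π = (Z : Set (PrimeSpectrum B)) := by
    have h := range_comap_of_surjective (B ⧸ q) (Ideal.Quotient.mk q)
      Ideal.Quotient.mk_surjective
    rw [Ideal.mk_ker] at h
    refine (Eq.trans ?_ h).trans ?_
    · rfl
    · rw [PrimeSpectrum.zeroLocus_vanishingIdeal_eq_closure, Z.isClosed.closure_eq]
  let D : Set ↥(Spec (CommRingCat.of A)) := (π ≫ j) ⁻¹' Set.range g
  by_cases hD : Dense D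
  · obtain ⟨O, ⟨o, ho⟩, s, hs⟩ := H A (π ≫ j) D hD fun p hp => hp
    let Z' : TopologicalSpace.Closeds (PrimeSpectrum B) :=
      ⟨π '' (O : Set ↥(Spec (CommRingCat.of A)))ᶜ,
        π.isClosedEmbedding.isClosedMap _ O.isOpen.isClosed_compl⟩
    have hlt : Z' < Z := lt_of_le_of_ne
      (fun p hp => hπ.le (Set.image_subset_range _ _ hp)) fun e => by
        obtain ⟨o', ho', eo⟩ := (congrArg SetLike.coe e).ge (hπ.le ⟨o, rfl⟩)
        exact ho' (π.isClosedEmbedding.injective eo ▸ ho)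
    have : NoetherianSpace ↥(Spec (CommRingCat.of A)) :=
      inferInstanceAs (NoetherianSpace (PrimeSpectrum A))
    have hc : IsCompact (Set.range s) := by
      have : CompactSpace O.toScheme :=
        isCompact_iff_compactSpace.1 (NoetherianSpace.isCompact (O : Set ↥(Spec (CommRingCat.of A))))
      exact isCompact_range s.continuous
    have hpt : ∀ (a : ↥(Spec (CommRingCat.of A))) (h : a ∈ O), g (s ⟨a, h⟩) = j (π a) :=
      fun a h => by
      rw [← Scheme.Hom.comp_apply, hs]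
      rfl
    convert (ih Z' hlt).union hc using 1
    ext t
    constructor
    · rintro ⟨p, hp, e⟩
      obtain ⟨a, rfl⟩ := hπ.ge hp
      by_cases ha : a ∈ O
      · exact Or.inr ⟨⟨a, ha⟩, hinj ((hpt a ha).trans e)⟩
      · exact Or.inl ⟨π a, ⟨a, ha, rfl⟩, e⟩
    · rintro (⟨p, hp, e⟩ | ⟨⟨a, ha⟩, rfl⟩)
      · exact ⟨p, hlt.le hp, e⟩
      · exact ⟨π a, hπ.le ⟨a, rfl⟩, (hpt a ha).symm⟩
  · let Z' : TopologicalSpace.Closeds (PrimeSpectrum B) :=
      ⟨π '' closure D, π.isClosedEmbedding.isClosedMap _ isClosed_closure⟩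
    have hlt : Z' < Z := lt_of_le_of_ne
      (fun p hp => hπ.le (Set.image_subset_range _ _ hp)) fun e => hD fun a => by
        obtain ⟨a', ha', ea⟩ := (congrArg SetLike.coe e).ge (hπ.le ⟨a, rfl⟩)
        exact π.isClosedEmbedding.injective ea ▸ ha'
    convert ih Z' hlt using 1
    ext t
    constructor
    · rintro ⟨p, hp, e⟩
      obtain ⟨a, rfl⟩ := hπ.ge hp
      exact ⟨π a, ⟨a, subset_closure ⟨t, e.symm⟩, rfl⟩, e⟩
    · rintro ⟨p, hp, e⟩
      exact ⟨p, hlt.le hp, e⟩

variable {S : Scheme.{u}} {𝒳 𝒴 : AlgSt.Cat S}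

local notation "K₀" => Scheme.fppfPrecoverage

/-- A monomorphism of stacks which lifts generically is quasi-compact. -/
theorem repWith_qc_of_mono_dense (h𝒳 : AlgSt.IsAlgStack K₀ 𝒳)
    (hn : AlgSt.SmoothLocally (fun X => IsLocallyNoetherian X) 𝒳) {f : 𝒴 ⥤ᵇ 𝒳}
    (hlfp : AlgSt.RepByAlgSpWith (AlgSp.LocP @LocallyOfFinitePresentation) f)
    (ha : AlgSt.IsMono f)
    (hc : ∀ (A : Type u) [CommRing A] [IsDomain A] (sA : Spec (CommRingCat.of A) ⟶ S)
      (a : FibCat.overCat (Over.mk sA) ⥤ᵇ 𝒳) (D : Set ↥(Spec (CommRingCat.of A))), Dense D →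
      (∀ p ∈ D, ∃ yp : FibCat.overCat (Over.mk ((Spec (CommRingCat.of A)).fromSpecResidueField p ≫ sA)) ⥤ᵇ 𝒴,
          Nonempty (BasedFunctor.comp yp f ≅ BasedFunctor.comp (AlgSt.overMap (Over.homMk ((Spec (CommRingCat.of A)).fromSpecResidueField p) rfl : Over.mk (((Spec (CommRingCat.of A)).fromSpecResidueField p) ≫ sA) ⟶ Over.mk sA)) a)) →
      ∃ U : (Spec (CommRingCat.of A)).Opens, (U : Set ↥(Spec (CommRingCat.of A))).Nonempty ∧
        ∃ yU : FibCat.overCat (Over.mk (U.ι ≫ sA)) ⥤ᵇ 𝒴,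
          Nonempty (BasedFunctor.comp yU f ≅ BasedFunctor.comp (AlgSt.overMap (Over.homMk (U.ι) rfl : Over.mk ((U.ι) ≫ sA) ⟶ Over.mk sA)) a)) :
    AlgSt.RepByAlgSpWith AlgSp.IsQuasiCompactMor f := by
  obtain ⟨U, x, hx, hxs⟩ := id h𝒳.atlas
  have := hn U x hx
  obtain ⟨G, e, he, hσ⟩ := hlfp U x
  let q := BasedFunctor.comp e (FibCat.fpFst x f)
  let π : G.obj ⟶ (AlgSp.yon S).obj U := AlgSt.spMapOfOver q
  obtain ⟨kq⟩ := spMapOfOver_eq q
  have hmono : Mono π :=
    prop_of_repData (sourceIsoInv_of_respectsIso (MorphismProperty.monomorphisms (AlgSp.Sp S)))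
      (ha U x) he kq
  have hl : AlgSp.LocP @LocallyOfFiniteType π :=
    H12AlgSp.locP_mono (fun _ _ g (_ : LocallyOfFinitePresentation g) =>
      (inferInstance : LocallyOfFiniteType g)) hσ
  obtain ⟨W, γ, μ, hμ, hγ⟩ := H12AlgSp.exists_iso_of_lqf_separated G.property
    (H12AlgSp.isSeparatedMor_of_mono π) (H12AlgSp.locP_lqf_of_mono G.property π hl)
  have : Mono γ := (AlgSp.yon S).mono_of_mono_map (show Mono ((AlgSp.yon S).map γ) by
    rw [← hγ]; exact mono_comp _ _)
  have : Mono ((AlgSp.yon S).map γ) := by rw [← hγ]; exact mono_comp _ _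
  let E := BasedFunctor.comp (BasedFunctor.comp (AlgSt.ofOverCat W) (AlgSt.ofSpMap μ)) e
  have : IsIso μ.hom := inferInstanceAs (IsIso ((sheafToPresheaf _ _).map μ))
  have hE : FibCat.IsEquivOver E := isEquivOver_comp (isEquivOver_comp (ofOverCat_isEquivOver W)
    (isEquivOver_ofPshMap μ.hom)) he
  let mγ : BasedFunctor.comp (BasedFunctor.comp (AlgSt.ofOverCat W) (AlgSt.ofSpMap (μ ≫ π)))
      (AlgSt.toOverCat U) ≅ AlgSt.overMap γ := by
    rw [hγ]
    exact mkIso (fun s => Iso.refl _)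
      (fun {_ _} φ => (Category.comp_id _).trans ((Category.id_comp _).trans
        (Over.OverMorphism.ext rfl)).symm)
      (fun s => IsHomLift.id rfl)
  let iE : BasedFunctor.comp E (FibCat.fpFst x f) ≅ AlgSt.overMap γ :=
    (Stk.restr (BasedFunctor.comp (AlgSt.ofOverCat W) (AlgSt.ofSpMap μ)) _).mapIso kq ≪≫ mγ
  let iW : BasedFunctor.comp (BasedFunctor.comp E (FibCat.fpSnd x f)) f ≅
      BasedFunctor.comp (AlgSt.overMap γ) x :=
    ((Stk.restr E 𝒳).mapIso (FibCat.fpIso x f)).symm ≪≫ (post _ x).mapIso iE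
  have hqc : QuasiCompact γ.left := by
    refine quasiCompact_of_mono_dense γ.left (fun A _ _ i D hD hDr => ?_) ?_
    · let sA := i ≫ U.hom
      let c : Over.mk sA ⟶ U := Over.homMk i rfl
      obtain ⟨O, hO, yU, ⟨j⟩⟩ := hc A sA (BasedFunctor.comp (AlgSt.overMap c) x) D hD fun p hp => by
        obtain ⟨w, hw⟩ := hDr p hp
        let ρ := (Spec (CommRingCat.of A)).fromSpecResidueField p
        let P := pullback γ.left (ρ ≫ i)
        have : Nonempty P := by
          obtain ⟨z, -⟩ := Scheme.Pullback.exists_preimage_pullback (f := γ.left) (g := ρ ≫ i) w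
            (IsLocalRing.closedPoint _) (by
              rw [Scheme.Hom.comp_apply, Scheme.fromSpecResidueField_apply]
              exact hw)
          exact ⟨z⟩
        have : IsIso (pullback.snd γ.left (ρ ≫ i)) := H13AlgSp.isIso_of_mono_nonempty _
        let l₀ := inv (pullback.snd γ.left (ρ ≫ i)) ≫ pullback.fst γ.left (ρ ≫ i)
        have hl₀ : l₀ ≫ γ.left = ρ ≫ i := by
          rw [Category.assoc, pullback.condition, IsIso.inv_hom_id_assoc]
        let l : Over.mk (ρ ≫ sA) ⟶ W := Over.homMk l₀ (by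
          change l₀ ≫ W.hom = ρ ≫ i ≫ U.hom
          rw [← Over.w γ, ← Category.assoc, hl₀, Category.assoc])
        let r : Over.mk (ρ ≫ sA) ⟶ Over.mk sA := Over.homMk ρ rfl
        have hr : l ≫ γ = r ≫ c := Over.OverMorphism.ext hl₀
        exact ⟨BasedFunctor.comp (AlgSt.overMap l) (BasedFunctor.comp E (FibCat.fpSnd x f)),
          ⟨(Stk.restr (AlgSt.overMap l) 𝒳).mapIso iW ≪≫ (post _ x).mapIso
            (overMapCompIso l γ ≪≫ eqToIso (congrArg AlgSt.overMap hr) ≪≫
              (overMapCompIso r c).symm)⟩⟩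
      let r : Over.mk (O.ι ≫ sA) ⟶ Over.mk sA := Over.homMk O.ι rfl
      let F : FibCat.overCat (Over.mk (O.ι ≫ sA)) ⥤ᵇ FibCat.fp x f :=
        FibCat.fpLift (AlgSt.overMap (r ≫ c)) yU
          ((post _ x).mapIso (overMapCompIso r c).symm ≪≫ j.symm)
      obtain ⟨N, ⟨iN⟩, ⟨iN'⟩⟩ := id hE
      obtain ⟨l, ⟨jl⟩⟩ := exists_overMap_iso (BasedFunctor.comp F N)
      have key : l ≫ γ = r ≫ c := overMap_injective ((overMapCompIso l γ).symm ≪≫
        (Stk.restr (AlgSt.overMap l) _).mapIso iE.symm ≪≫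
          (post _ (BasedFunctor.comp E (FibCat.fpFst x f))).mapIso jl.symm ≪≫
            (Stk.restr F _).mapIso ((post _ (FibCat.fpFst x f)).mapIso iN') ≪≫ Iso.refl _)
      exact ⟨O, hO, l.left, congrArg (fun m : Over.mk (O.ι ≫ sA) ⟶ U => m.left) key⟩
    · intro a b hab
      obtain ⟨z, hz₁, hz₂⟩ := Scheme.Pullback.exists_preimage_pullback (f := γ.left) (g := γ.left)
        a b hab
      rw [← hz₁, ← hz₂, show pullback.fst γ.left γ.left = pullback.snd γ.left γ.left from
        (cancel_mono γ.left).1 pullback.condition]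
  have hπq : AlgSp.IsQuasiCompactMor π := by
    refine H12AlgSp.isQuasiCompactMor_of_repWith G.property (AlgSp.IsAlgSpace.yon_obj U) ?_
    rw [show π = inv μ ≫ (AlgSp.yon S).map γ by rw [← hγ, IsIso.inv_hom_id_assoc]]
    exact H12AlgSp.repWith_comp (H12AlgSp.repWith_of_isIso _)
      ((AlgSp.repWith_yon_map_iff _ _).2 hqc)
  let V : AlgSp.Space S := ⟨(AlgSp.yon S).obj U, AlgSp.IsAlgSpace.yon_obj U⟩
  let w : AlgSt.ofSp V.obj ⥤ᵇ 𝒳 := BasedFunctor.comp (AlgSt.toOverCat U) x
  obtain ⟨⟨_, _⟩, hUs⟩ := (isEquivOver_iff _).1 (toOverCat_isEquivOver U)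
  have : (BasedFunctor.id 𝒴).toFunctor.Full := inferInstanceAs (Functor.id _).Full
  have : (BasedFunctor.id 𝒴).toFunctor.Faithful := inferInstanceAs (Functor.id _).Faithful
  have : (BasedFunctor.id 𝒳).toFunctor.Full := inferInstanceAs (Functor.id _).Full
  have : (BasedFunctor.id 𝒳).toFunctor.Faithful := inferInstanceAs (Functor.id _).Faithful
  let M : FibCat.fp w f ⥤ᵇ FibCat.fp x f :=
    fpMap (F := x) (G := f) (AlgSt.toOverCat U) (BasedFunctor.id 𝒴) (BasedFunctor.id 𝒳)
      (Iso.refl _) (Iso.refl _)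
  have hM : FibCat.IsEquivOver M := fpMap_isEquivOver _ _ _ _ _ hUs (essSurjOver_id _)
  obtain ⟨N, ⟨iN⟩, ⟨iN'⟩⟩ := id hM
  let e' := BasedFunctor.comp e N
  have : (post (AlgSt.ofSp G.obj) (AlgSt.toOverCat U)).Full := post_full _
  have : (post (AlgSt.ofSp G.obj) (AlgSt.toOverCat U)).Faithful := post_faithful _
  let k : BasedFunctor.comp e' (FibCat.fpFst w f) ≅ AlgSt.ofSpMap π :=
    (post (AlgSt.ofSp G.obj) (AlgSt.toOverCat U)).preimageIso
      ((Stk.restr e _).mapIso ((post _ (FibCat.fpFst x f)).mapIso iN') ≪≫ kq)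
  have hbase : BaseStable (S := S) AlgSp.IsQuasiCompactMor :=
    fun _ _ _ _ _ _ _ _ _ _ _ _ sq h => H12AlgSp.isQuasiCompactMor_of_isPullback sq h
  refine repWith_of_fppf (localFppf_of_fpqc (S10519.result S)) hbase.sourceIsoInv
    (repByAlgSp1_of_with hlfp) ?_ ?_ ?_
    (repWith_fpFst_of_space hbase (isEquivOver_comp he ⟨M, ⟨iN'⟩, ⟨iN⟩⟩) k hπq)
  · exact (repWith_equiv_comp_iff (toOverCat_isEquivOver U)).1
      (repWith_locP_mono smooth_le_flat hx)
  · exact (repWith_equiv_comp_iff (toOverCat_isEquivOver U)).1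
      (repWith_locP_mono smooth_le_lfp hx)
  · exact (repWith_equiv_comp_iff (toOverCat_isEquivOver U)).1 hxs

end Groth.Agent.H14AlgSt
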