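import Groth.Agent.H14AlgSt.Diag2
import Groth.Agent.H12AlgSp.QC

/-!
# Quasi-compactness over a locally Noetherian scheme from generic data on integral schemes
-/

set_option autoImplicit false
set_option linter.unusedVariables false
set_option backward.isDefEq.respectTransparency false
set_option backward.isDefEq.respectTransparency.types false

universe u v

open CategoryTheory CategoryTheory.Limits AlgebraicGeometry TopologicalSpace AlgSp

noncomputable section

namespace Groth.Agent.H14AlgSt

/-- Compactness of the preimages of affine opens, by Noetherian induction. -/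
theorem isCompact_preimage_of_generic {U : Scheme.{u}} [IsLocallyNoetherian U] {α : Type v} [TopologicalSpace α]
    (φ : α → U)
    (H : ∀ (A : Type u) [CommRing A] [IsDomain A] (i : Spec (CommRingCat.of A) ⟶ U),
      Dense (i ⁻¹' Set.range φ) →
      ∃ O : (Spec (CommRingCat.of A)).Opens, (O : Set ↥(Spec (CommRingCat.of A))).Nonempty ∧
        IsCompact (φ ⁻¹' (i '' (O : Set ↥(Spec (CommRingCat.of A))))))
    (W : U.Opens) (hW : IsAffineOpen W) : IsCompact (φ ⁻¹' (W : Set U)) := by
  let B := Γ(U, W)
  have : IsNoetherianRing B := IsLocallyNoetherian.component_noetherian ⟨W, hW⟩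
  let j : Spec (CommRingCat.of B) ⟶ U := hW.fromSpec
  suffices key : ∀ Z : TopologicalSpace.Closeds (PrimeSpectrum B),
      IsCompact (φ ⁻¹' (j '' (Z : Set (PrimeSpectrum B)))) by
    have h := key ⊤
    rwa [TopologicalSpace.Closeds.coe_top, Set.image_univ, show Set.range j = W from
      hW.range_fromSpec] at h
  intro Z
  induction Z using WellFoundedLT.induction with
  | ind Z ih =>
  by_cases hne : (Z : Set (PrimeSpectrum B)).Nonempty
  swap
  · rw [Set.not_nonempty_iff_eq_empty.1 hne]
    simp
  by_cases hirr : IsPreirreducible (Z : Set (PrimeSpectrum B))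
  swap
  · rw [isPreirreducible_iff_isClosed_union_isClosed] at hirr
    push Not at hirr
    obtain ⟨z₁, z₂, h₁, h₂, hsub, hn₁, hn₂⟩ := hirr
    let Z₁ : TopologicalSpace.Closeds (PrimeSpectrum B) := ⟨Z ∩ z₁, Z.isClosed.inter h₁⟩
    let Z₂ : TopologicalSpace.Closeds (PrimeSpectrum B) := ⟨Z ∩ z₂, Z.isClosed.inter h₂⟩
    have c₁ := ih Z₁ (lt_of_le_of_ne (fun _ h => h.1) fun e => hn₁ fun p hp =>
      ((congrArg SetLike.coe e).ge hp).2)
    have c₂ := ih Z₂ (lt_of_le_of_ne (fun _ h => h.1) fun e => hn₂ fun p hp =>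
      ((congrArg SetLike.coe e).ge hp).2)
    convert c₁.union c₂ using 1
    rw [← Set.preimage_union, ← Set.image_union]
    congr 2
    exact Set.Subset.antisymm (fun p hp => (hsub hp).imp (fun h => ⟨hp, h⟩) fun h => ⟨hp, h⟩)
      (fun p hp => hp.elim And.left And.left)
  let q := PrimeSpectrum.vanishingIdeal (Z : Set (PrimeSpectrum B))
  have hq : q.IsPrime := PrimeSpectrum.isIrreducible_iff_vanishingIdeal_isPrime.1 ⟨hne, hirr⟩
  let A : Type u := B ⧸ q
  let π : Spec (CommRingCat.of A) ⟶ Spec (CommRingCat.of B) :=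
    Spec.map (CommRingCat.ofHom (Ideal.Quotient.mk q))
  have : IsClosedImmersion π :=
    IsClosedImmersion.spec_of_surjective _ Ideal.Quotient.mk_surjective
  have hπ : Set.range π = (Z : Set (PrimeSpectrum B)) := by
    have h := range_comap_of_surjective (B ⧸ q) (Ideal.Quotient.mk q)
      Ideal.Quotient.mk_surjective
    rw [Ideal.mk_ker] at h
    refine (Eq.trans ?_ h).trans ?_
    · rfl
    · rw [PrimeSpectrum.zeroLocus_vanishingIdeal_eq_closure, Z.isClosed.closure_eq]
  let D : Set ↥(Spec (CommRingCat.of A)) := (π ≫ j) ⁻¹' Set.range φ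
  by_cases hD : Dense D
  · obtain ⟨O, ⟨o, ho⟩, hc⟩ := H A (π ≫ j) hD
    let Z' : TopologicalSpace.Closeds (PrimeSpectrum B) :=
      ⟨π '' (O : Set ↥(Spec (CommRingCat.of A)))ᶜ,
        π.isClosedEmbedding.isClosedMap _ O.isOpen.isClosed_compl⟩
    have hlt : Z' < Z := lt_of_le_of_ne
      (fun p hp => hπ.le (Set.image_subset_range _ _ hp)) fun e => by
        obtain ⟨o', ho', eo⟩ := (congrArg SetLike.coe e).ge (hπ.le ⟨o, rfl⟩)
        exact ho' (π.isClosedEmbedding.injective eo ▸ ho)
    convert (ih Z' hlt).union hc using 1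
    ext t
    constructor
    · rintro ⟨p, hp, e⟩
      obtain ⟨a, rfl⟩ := hπ.ge hp
      by_cases ha : a ∈ O
      · exact Or.inr ⟨a, ha, e⟩
      · exact Or.inl ⟨π a, ⟨a, ha, rfl⟩, e⟩
    · rintro (⟨p, hp, e⟩ | ⟨a, ha, e⟩)
      · exact ⟨p, hlt.le hp, e⟩
      · exact ⟨π a, hπ.le ⟨a, rfl⟩, e⟩
  · let Z' : TopologicalSpace.Closeds (PrimeSpectrum B) :=
      ⟨π '' closure D, π.isClosedEmbedding.isClosedMap _ isClosed_closure⟩
    have hlt : Z' < Z := lt_of_le_of_ne
      (fun p hp => hπ.le (Set.image_subset_range _ _ hp)) fun e => hD fun a => by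
        obtain ⟨a', ha', ea⟩ := (congrArg SetLike.coe e).ge (hπ.le ⟨a, rfl⟩)
        exact π.isClosedEmbedding.injective ea ▸ ha'
    convert ih Z' hlt using 1
    ext t
    constructor
    · rintro ⟨p, hp, e⟩
      obtain ⟨a, rfl⟩ := hπ.ge hp
      exact ⟨π a, ⟨a, subset_closure ⟨t, e.symm⟩, rfl⟩, e⟩
    · rintro ⟨p, hp, e⟩
      exact ⟨p, hlt.le hp, e⟩

variable {S : Scheme.{u}}

/-- A point with values in a field is the image of the closed point. -/
lemma map_ofScheme_closedPoint {F : Sp S} (P : FieldPt F) :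
    Points.map ((AlgSp.J S).uliftYonedaEquiv.symm P.val : (yon S).obj P.pt ⟶ F)
      (Points.ofScheme P.pt (IsLocalRing.closedPoint P.K)) = Points.mk P := by
  have e := Points.ofScheme_apply_eq_mk P.pt (K := P.K) (str := P.str)
    (𝟙 (Spec (CommRingCat.of P.K))) (Category.id_comp _)
  refine (congrArg (Points.map _) e).trans ?_
  change Points.mk _ = Points.mk P
  congr 1
  obtain ⟨K, str, val⟩ := P
  change FieldPt.mk K str _ = FieldPt.mk K str val
  congr 1
  rw [GrothendieckTopology.uliftYonedaEquiv_symm_app_apply]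
  change F.obj.map (Over.homMk (U := Over.mk str) (V := Over.mk str) (𝟙 _) _).op val = val
  rw [show (Over.homMk (U := Over.mk str) (V := Over.mk str) (𝟙 _) _) = 𝟙 (Over.mk str) from rfl]
  simp

/-- A morphism to a locally Noetherian scheme is quasi-compact when the preimages of affine opens are. -/
theorem isQuasiCompactMor_of_compact_preimage {G : Sp S} {V : Over S} (hG : IsAlgSpace G)
    [QuasiSeparatedSpace V.left] (π : G ⟶ (yon S).obj V)
    (h : ∀ W : V.left.Opens, IsAffineOpen W →
      IsCompact ((fun t => Points.toScheme V (Points.map π t)) ⁻¹' (W : Set V.left))) :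
    IsQuasiCompactMor π := by
  classical
  refine H12AlgSp.isQuasiCompactMor_of_affine hG (IsAlgSpace.yon_obj V) fun T hT g => ?_
  obtain ⟨c, hc⟩ := (yon S).map_surjective g
  have hg : ∀ t, ∃ W : V.left.affineOpens, c.left t ∈ W.1 := fun t => by
    obtain ⟨W, hW, hm, -⟩ := exists_isAffineOpen_mem_and_subset (U := (⊤ : V.left.Opens))
      (x := c.left t) (Set.mem_univ _)
    exact ⟨⟨W, hW⟩, hm⟩
  choose W hW using hg
  obtain ⟨s, hs⟩ := (isCompact_univ (X := ↥T.left)).elim_finite_subcover
    (fun t => c.left ⁻¹' ((W t).1 : Set V.left)) (fun t => (W t).1.isOpen.preimage c.left.continuous)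
    fun t _ => Set.mem_iUnion.2 ⟨t, hW t⟩
  let φ := fun t => Points.toScheme V (Points.map π t)
  let K : Set (Points G) := φ ⁻¹' (⋃ t ∈ s, ((W t).1 : Set V.left))
  have hKc : IsCompact K := by
    simp only [K, Set.preimage_iUnion]
    exact s.isCompact_biUnion fun t _ => h _ (W t).2
  have hcont : Continuous φ :=
    (Points.schemeHomeo V).symm.continuous.comp (Points.continuous_map π)
  have hKo : IsOpen K := (isOpen_biUnion fun t _ => (W t).1.isOpen).preimage hcont
  obtain ⟨A, a, hA, -, hr⟩ := H12AlgSp.exists_affine_chart hG hKo hKc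
  obtain ⟨b, hb⟩ := (yon S).map_surjective (a ≫ π)
  let R : Over S := Over.mk (pullback.fst b.left c.left ≫ A.hom)
  let r₁ : R ⟶ A := Over.homMk (pullback.fst b.left c.left) rfl
  let r₂ : R ⟶ T := Over.homMk (pullback.snd b.left c.left) (by
    change pullback.snd b.left c.left ≫ T.hom = pullback.fst b.left c.left ≫ A.hom
    rw [← Over.w b, ← Over.w c, pullback.condition_assoc])
  have : IsAffine A.left := hA
  have : IsAffine T.left := hT
  have hR : CompactSpace R.left := inferInstanceAs (CompactSpace ↥(pullback b.left c.left))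
  have hw : r₁ ≫ b = r₂ ≫ c := Over.OverMorphism.ext pullback.condition
  let k : (yon S).obj R ⟶ pullback π g := pullback.lift ((yon S).map r₁ ≫ a) ((yon S).map r₂) (by
    rw [Category.assoc, ← hb, ← hc, ← Functor.map_comp, ← Functor.map_comp, hw])
  refine H12AlgSp.isQuasiCompactSp_of_surjective
    (H12AlgSp.isAlgSpace_pullback (IsAlgSpace.yon_obj V).diag hG (IsAlgSpace.yon_obj T) π g) k ?_
    (H12AlgSp.isQuasiCompactSp_yon_iff.2 hR)
  intro z
  let fst := pullback.fst π g
  have hzK : Points.map fst z ∈ K := by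
    change φ (Points.map fst z) ∈ ⋃ t ∈ s, ((W t).1 : Set V.left)
    obtain ⟨t, ht⟩ := (Points.schemeEquiv T).surjective (Points.map (pullback.snd π g) z)
    have e : φ (Points.map fst z) = c.left t := by
      change Points.toScheme V (Points.map π (Points.map fst z)) = _
      rw [← Points.map_comp, pullback.condition, Points.map_comp, ← ht, ← hc]
      exact (congrArg (Points.toScheme V) (range_map_yon_map c t)).trans ((Points.schemeEquiv V).symm_apply_apply _)
    rw [e]
    simpa using hs (Set.mem_univ t)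
  obtain ⟨w, hw'⟩ := hr.ge hzK
  let Y := pullback fst a
  obtain ⟨y, hy₁, -⟩ := H12AlgSp.exists_point_of_isPullback (IsPullback.of_hasPullback fst a) z
    (Points.ofScheme A w) (by rw [← Points.ofPt_eq_map_ofScheme, hw'])
  induction y using Points.ind with | h P =>
  let l : (yon S).obj P.pt ⟶ Y := (AlgSp.J S).uliftYonedaEquiv.symm P.val
  obtain ⟨l₁, hl₁⟩ := (yon S).map_surjective (l ≫ pullback.snd fst a)
  obtain ⟨l₂, hl₂⟩ := (yon S).map_surjective (l ≫ pullback.fst fst a ≫ pullback.snd π g)
  have hl : l₁ ≫ b = l₂ ≫ c := (yon S).map_injective (by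
    rw [Functor.map_comp, Functor.map_comp, hl₁, hl₂, hb, hc]
    simp only [Category.assoc]
    rw [← pullback.condition (f := π) (g := g), pullback.condition_assoc (f := fst) (g := a)])
  let m : P.pt ⟶ R := Over.homMk (pullback.lift l₁.left l₂.left (congrArg (fun f => f.left) hl)) (by
    change pullback.lift _ _ _ ≫ pullback.fst _ _ ≫ A.hom = _
    rw [pullback.lift_fst_assoc]
    exact Over.w l₁)
  have hm₁ : m ≫ r₁ = l₁ := Over.OverMorphism.ext (pullback.lift_fst _ _ _)
  have hm₂ : m ≫ r₂ = l₂ := Over.OverMorphism.ext (pullback.lift_snd _ _ _)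
  have hk : (yon S).map m ≫ k = l ≫ pullback.fst fst a := by
    apply pullback.hom_ext
    · simp only [k, Category.assoc, pullback.lift_fst]
      rw [← Category.assoc, ← Functor.map_comp, hm₁, hl₁, Category.assoc,
        ← pullback.condition (f := fst) (g := a)]
    · simp only [k, Category.assoc, pullback.lift_snd]
      rw [← Functor.map_comp, hm₂, hl₂]
  refine ⟨Points.map ((yon S).map m) (Points.ofScheme P.pt (IsLocalRing.closedPoint P.K)), ?_⟩
  rw [← Points.map_comp, hk, Points.map_comp, ← hy₁]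
  congr 1
  exact map_ofScheme_closedPoint P

end Groth.Agent.H14AlgSt
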