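import Groth.Agent.H14AlgSt.SquareChart
import Groth.Agent.H14AlgSt.QCNoeth
import Groth.Agent.H14AlgSt.MonoQC

/-!
# Quasi-compactness of the diagonal of a stack from generic isomorphisms
-/

set_option autoImplicit false
set_option linter.unusedVariables false
set_option backward.isDefEq.respectTransparency false
set_option backward.isDefEq.respectTransparency.types false

universe u

open CategoryTheory CategoryTheory.Functor Opposite AlgebraicGeometry CategoryTheory.Limits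
open TopologicalSpace

noncomputable section

namespace Groth.Agent.H14AlgSt

open H14Fib H14Stk

variable {S : Scheme.{u}} {𝒳 𝒴 𝒜 : AlgSt.Cat S}

/-- Two functors into the square over the base are isomorphic when their components are. -/
def pairIso (a b : 𝒜 ⥤ᵇ FibCat.fp (FibCat.toSelf 𝒳) (FibCat.toSelf 𝒳))
    (i₁ : BasedFunctor.comp a (FibCat.fpFst _ _) ≅ BasedFunctor.comp b (FibCat.fpFst _ _))
    (i₂ : BasedFunctor.comp a (FibCat.fpSnd _ _) ≅ BasedFunctor.comp b (FibCat.fpSnd _ _)) :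
    a ≅ b :=
  mkIso (fun s => fpIsoMk (isoApp i₁ s) (isoApp i₂ s) (by
      let p := FibCat.toSelf 𝒳
      have l1 : (FibCat.selfOver (Over S)).p.IsHomLift (𝟙 (𝒜.p.obj s)) (a.obj s).obj.iso.hom :=
        BasedNatTrans.isHomLift
          ((Stk.restr a _).mapIso (FibCat.fpIso p p)).hom rfl
      have l2 : (FibCat.selfOver (Over S)).p.IsHomLift (𝟙 (𝒜.p.obj s)) (b.obj s).obj.iso.hom :=
        BasedNatTrans.isHomLift
          ((Stk.restr b _).mapIso (FibCat.fpIso p p)).hom rfl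
      have l3 : (FibCat.selfOver (Over S)).p.IsHomLift (𝟙 (𝒜.p.obj s)) (p.map (isoApp i₁ s).hom) :=
        BasedNatTrans.isHomLift ((post 𝒜 p).mapIso i₁).hom rfl
      have l4 : (FibCat.selfOver (Over S)).p.IsHomLift (𝟙 (𝒜.p.obj s)) (p.map (isoApp i₂ s).hom) :=
        BasedNatTrans.isHomLift ((post 𝒜 p).mapIso i₂).hom rfl
      exact selfOver_hom_eq (𝟙 (𝒜.p.obj s) ≫ 𝟙 (𝒜.p.obj s)) _ _
        (@IsHomLift.comp _ _ _ _ (FibCat.selfOver (Over S)).p _ _ _ _ _ _ _ _ _ _ l3 l2)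
        (@IsHomLift.comp _ _ _ _ (FibCat.selfOver (Over S)).p _ _ _ _ _ _ _ _ _ _ l1 l4)))
    (fun {x y} φ => fp_hom_ext (i₁.hom.toNatTrans.naturality φ) (i₂.hom.toNatTrans.naturality φ))
    (fun x => (fp_isHomLift_iff _ _).2 (isoApp_lift i₁ x))

/-- A map of representable sheaves as a functor of slices. -/
def overMapYonIso {U V : Over S} (c : U ⟶ V) :
    BasedFunctor.comp (BasedFunctor.comp (AlgSt.ofOverCat U) (AlgSt.ofSpMap ((AlgSp.yon S).map c)))
      (AlgSt.toOverCat V) ≅ AlgSt.overMap c :=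
  mkIso (fun s => Iso.refl _)
    (fun {_ _} φ => (Category.comp_id _).trans ((Category.id_comp _).trans
      (Over.OverMorphism.ext rfl)).symm)
    (fun s => IsHomLift.id rfl)

/-- The property of the base change to a scheme, for the pullback of the representing map. -/
theorem prop_snd_of_repData {P : MorphismProperty (AlgSp.Sp S)} (hiso : SourceIsoInv P)
    {f : 𝒳 ⥤ᵇ 𝒴} {F G : AlgSp.Space S}
    {z : AlgSt.ofSp F.obj ⥤ᵇ 𝒴} {e : AlgSt.ofSp G.obj ⥤ᵇ FibCat.fp z f}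
    (he : FibCat.IsEquivOver e) {π : G.obj ⟶ F.obj}
    (k : BasedFunctor.comp e (FibCat.fpFst z f) ≅ AlgSt.ofSpMap π) {U : Over S}
    (y₀ : FibCat.overCat U ⥤ᵇ AlgSt.ofSp F.obj) {s : (AlgSp.yon S).obj U ⟶ F.obj}
    (hs : testMap y₀ = s.hom)
    (h : RepData P (FibCat.fpFst (BasedFunctor.comp y₀ z) f)) : P (pullback.snd π s) := by
  have sq := IsPullback.of_hasPullback π s
  have hW := H12AlgSp.isAlgSpace_of_isPullback F.property.diag G.property
    (AlgSp.IsAlgSpace.yon_obj U) sq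
  have sq' : IsPullback (pullback.snd π s).hom (pullback.fst π s).hom (testMap y₀) π.hom :=
    hs ▸ (sq.map (sheafToPresheaf (AlgSp.J S) (Type (u + 1)))).flip
  obtain ⟨E, hE, ⟨i⟩⟩ := exists_comparison π.hom y₀ sq'
  obtain ⟨⟨_, _⟩, hs'⟩ := (isEquivOver_iff _).1 he
  have : (BasedFunctor.id (AlgSt.ofSp F.obj)).toFunctor.Full :=
    inferInstanceAs (𝟭 (Stk.EltObj F.obj.obj)).Full
  have : (BasedFunctor.id (AlgSt.ofSp F.obj)).toFunctor.Faithful :=
    inferInstanceAs (𝟭 (Stk.EltObj F.obj.obj)).Faithful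
  let E' : FibCat.fp y₀ (AlgSt.ofSpMap π) ⥤ᵇ FibCat.fp y₀ (FibCat.fpFst z f) :=
    fpMap (BasedFunctor.id (FibCat.overCat U)) e (BasedFunctor.id (AlgSt.ofSp F.obj)) (Iso.refl y₀)
      k.symm
  have hE' : FibCat.IsEquivOver E' := fpMap_isEquivOver _ _ _ _ _ (essSurjOver_id _) hs'
  have h1 : RepData P (FibCat.fpFst y₀ (FibCat.fpFst z f)) :=
    RepData.of_equiv' P (pasteBase_isEquivOver z f y₀) (Iso.refl _) h
  exact prop_of_repData hiso (RepData.of_equiv' P hE' (Iso.refl _) h1)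
    (G := ⟨pullback π s, hW⟩) (π := pullback.snd π s) hE i

/-- The diagonal is quasi-compact at a pair of objects over a locally Noetherian scheme. -/
theorem isQuasiCompactMor_of_generic_isom
    (hi : ∀ (U : Over S), IsAffine U.left → ∀ (x : FibCat.overCat U ⥤ᵇ 𝒳),
      RepData AlgSp.IsQuasiCompactMor
        (FibCat.fpFst (FibCat.fpLift x x (Iso.refl _)) (FibCat.diag (FibCat.toSelf 𝒳))))
    (hii : ∀ (U : Over S), IsAffine U.left → IsIntegral U.left → ∀ (x y : FibCat.overCat U ⥤ᵇ 𝒳)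
      (D : Set ↥U.left), Dense D →
      (∀ t ∈ D, ∃ (L : Type u) (_ : Field L) (g : Spec (CommRingCat.of L) ⟶ U.left), Set.range g.base = {t} ∧
        Nonempty (BasedFunctor.comp (AlgSt.overMap (Over.homMk g rfl : Over.mk (g ≫ U.hom) ⟶ U)) x ≅
          BasedFunctor.comp (AlgSt.overMap (Over.homMk g rfl : Over.mk (g ≫ U.hom) ⟶ U)) y)) →
      ∃ V : U.left.Opens, Dense (V : Set ↥U.left) ∧
        Nonempty (BasedFunctor.comp (AlgSt.overMap (Over.homMk V.ι rfl : Over.mk (V.ι ≫ U.hom) ⟶ U)) x ≅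
          BasedFunctor.comp (AlgSt.overMap (Over.homMk V.ι rfl : Over.mk (V.ι ≫ U.hom) ⟶ U)) y))
    {V : Over S} [IsLocallyNoetherian V.left]
    {w : AlgSt.ofSp ((AlgSp.yon S).obj V) ⥤ᵇ FibCat.fp (FibCat.toSelf 𝒳) (FibCat.toSelf 𝒳)}
    {G : AlgSp.Space S} {e : AlgSt.ofSp G.obj ⥤ᵇ FibCat.fp w (FibCat.diag (FibCat.toSelf 𝒳))}
    (he : FibCat.IsEquivOver e) {π : G.obj ⟶ (AlgSp.yon S).obj V}
    (k : BasedFunctor.comp e (FibCat.fpFst w (FibCat.diag (FibCat.toSelf 𝒳))) ≅ AlgSt.ofSpMap π) :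
    AlgSp.IsQuasiCompactMor π := by
  let p := FibCat.toSelf 𝒳
  let Δ := FibCat.diag p
  let φ := fun t => AlgSp.Points.toScheme V (AlgSp.Points.map π t)
  refine isQuasiCompactMor_of_compact_preimage G.property π fun W hW => ?_
  refine isCompact_preimage_of_generic φ (fun A _ _ i hD => ?_) W hW
  let T : Over S := Over.mk (i ≫ V.hom)
  let c : T ⟶ V := Over.homMk i rfl
  let wf : ∀ {R : Over S}, (R ⟶ V) → (FibCat.overCat R ⥤ᵇ FibCat.fp p p) := fun {R} d =>
    BasedFunctor.comp (BasedFunctor.comp (AlgSt.ofOverCat R) (AlgSt.ofSpMap ((AlgSp.yon S).map d))) w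
  let x₁ := BasedFunctor.comp (wf c) (FibCat.fpFst p p)
  let x₂ := BasedFunctor.comp (wf c) (FibCat.fpSnd p p)
  have restrIso : ∀ {R : Over S} (r : R ⟶ T),
      Nonempty (BasedFunctor.comp (AlgSt.overMap r) (wf c) ≅ wf (r ≫ c)) := fun {R} r => by
    obtain ⟨N, ⟨iN⟩, ⟨iN'⟩⟩ := id (toOverCat_isEquivOver (S := S) V)
    let a : ∀ {R : Over S} (d : R ⟶ V), wf d ≅
        BasedFunctor.comp (AlgSt.overMap d) (BasedFunctor.comp N w) := fun {R} d =>
      (Stk.restr (BasedFunctor.comp (AlgSt.ofOverCat R) (AlgSt.ofSpMap ((AlgSp.yon S).map d))) _).mapIso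
        ((post _ w).mapIso iN.symm) ≪≫ (post _ (BasedFunctor.comp N w)).mapIso (overMapYonIso d)
    exact ⟨(Stk.restr (AlgSt.overMap r) _).mapIso (a c) ≪≫
      (post _ (BasedFunctor.comp N w)).mapIso (overMapCompIso r c) ≪≫ (a (r ≫ c)).symm⟩
  -- the two objects are isomorphic at the points under the diagonal
  obtain ⟨O₁, hO₁, ⟨j₁⟩⟩ := hii T (inferInstanceAs (IsAffine (Spec (CommRingCat.of A))))
    (inferInstanceAs (IsIntegral (Spec (CommRingCat.of A)))) x₁ x₂ (i ⁻¹' Set.range φ) hD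
    fun t ht => by
      obtain ⟨q, hq⟩ := ht
      induction q using AlgSp.Points.ind with | h P =>
      let l : (AlgSp.yon S).obj P.pt ⟶ G.obj := (AlgSp.J S).uliftYonedaEquiv.symm P.val
      obtain ⟨l₁, hl₁⟩ := (AlgSp.yon S).map_surjective (l ≫ π)
      have hcl : l₁.left (IsLocalRing.closedPoint P.K) = i t := by
        rw [← hq]
        change _ = AlgSp.Points.toScheme V (AlgSp.Points.map π (AlgSp.Points.mk P))
        rw [← map_ofScheme_closedPoint P, ← AlgSp.Points.map_comp, ← hl₁]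
        exact (((congrArg (AlgSp.Points.toScheme V) (range_map_yon_map l₁ _))).trans
          ((AlgSp.Points.schemeEquiv V).symm_apply_apply _)).symm
      let ρ := (Spec (CommRingCat.of A)).fromSpecResidueField t
      obtain ⟨z, -, -⟩ := Scheme.Pullback.exists_preimage_pullback (f := l₁.left) (g := ρ ≫ i)
        (IsLocalRing.closedPoint P.K) (IsLocalRing.closedPoint _) (by
          rw [hcl, Scheme.Hom.comp_apply, Scheme.fromSpecResidueField_apply])
      let Q := pullback l₁.left (ρ ≫ i)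
      let L : Type u := Q.residueField z
      let g : Spec (CommRingCat.of L) ⟶ T.left :=
        Q.fromSpecResidueField z ≫ pullback.snd l₁.left (ρ ≫ i) ≫ ρ
      let m : Spec (CommRingCat.of L) ⟶ P.pt.left :=
        Q.fromSpecResidueField z ≫ pullback.fst l₁.left (ρ ≫ i)
      refine ⟨L, inferInstance, g, Set.eq_singleton_iff_unique_mem.2
        ⟨⟨IsLocalRing.closedPoint L, ?_⟩, ?_⟩, ?_⟩
      · exact Scheme.fromSpecResidueField_apply t _
      · rintro _ ⟨b, rfl⟩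
        exact Scheme.fromSpecResidueField_apply t _
      let TL : Over S := Over.mk (g ≫ T.hom)
      let gT : TL ⟶ T := Over.homMk g rfl
      have hm : m ≫ l₁.left = g ≫ i := by simp [m, g, pullback.condition]
      let mL : TL ⟶ P.pt := Over.homMk m (by
        change m ≫ P.pt.hom = g ≫ i ≫ V.hom
        rw [← Over.w l₁, ← Category.assoc, hm, Category.assoc])
      have hmL : mL ≫ l₁ = gT ≫ c := Over.OverMorphism.ext hm
      let E := BasedFunctor.comp (BasedFunctor.comp (AlgSt.ofOverCat TL)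
        (AlgSt.ofSpMap ((AlgSp.yon S).map mL ≫ l))) e
      let iE : BasedFunctor.comp (BasedFunctor.comp E (FibCat.fpSnd w Δ)) Δ ≅ wf (gT ≫ c) :=
        ((Stk.restr E _).mapIso (FibCat.fpIso w Δ)).symm ≪≫ (post _ w).mapIso
          ((Stk.restr (BasedFunctor.comp (AlgSt.ofOverCat TL)
            (AlgSt.ofSpMap ((AlgSp.yon S).map mL ≫ l))) _).mapIso k ≪≫ eqToIso (by
            change BasedFunctor.comp (AlgSt.ofOverCat TL)
              (AlgSt.ofSpMap (((AlgSp.yon S).map mL ≫ l) ≫ π)) = _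
            rw [← hmL, Functor.map_comp, hl₁, Category.assoc]))
      obtain ⟨rc⟩ := restrIso gT
      exact ⟨(post _ (FibCat.fpFst p p)).mapIso (rc ≪≫ iE.symm) ≪≫
        ((post _ (FibCat.fpSnd p p)).mapIso (rc ≪≫ iE.symm)).symm⟩
  have : Nonempty ↥T.left := inferInstanceAs (Nonempty (PrimeSpectrum A))
  obtain ⟨o, ho⟩ : (O₁ : Set ↥T.left).Nonempty := hO₁.nonempty
  obtain ⟨O, hO, hoO, hle⟩ := exists_isAffineOpen_mem_and_subset (U := O₁) ho
  let O' : (Spec (CommRingCat.of A)).Opens := O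
  refine ⟨O', ⟨o, hoO⟩, ?_⟩
  let T' : Over S := Over.mk (O.ι ≫ T.hom)
  let r : T' ⟶ T := Over.homMk O.ι rfl
  let r₁ : Over.mk (O₁.ι ≫ T.hom) ⟶ T := Over.homMk O₁.ι rfl
  let d : T' ⟶ Over.mk (O₁.ι ≫ T.hom) := Over.homMk (T.left.homOfLE hle) (by simp [T'])
  have hr : d ≫ r₁ = r := Over.OverMorphism.ext (Scheme.homOfLE_ι _ hle)
  let c' := r ≫ c
  obtain ⟨rc⟩ := restrIso r
  let j : BasedFunctor.comp (wf c') (FibCat.fpFst p p) ≅
      BasedFunctor.comp (wf c') (FibCat.fpSnd p p) :=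
    ((post _ (FibCat.fpFst p p)).mapIso rc).symm ≪≫
      (post _ x₁).mapIso (eqToIso (congrArg AlgSt.overMap hr.symm) ≪≫ (overMapCompIso d r₁).symm) ≪≫
      (Stk.restr (AlgSt.overMap d) _).mapIso j₁ ≪≫
      (post _ x₂).mapIso (overMapCompIso d r₁ ≪≫ eqToIso (congrArg AlgSt.overMap hr)) ≪≫
      (post _ (FibCat.fpSnd p p)).mapIso rc
  let x' := BasedFunctor.comp (wf c') (FibCat.fpFst p p)
  have hd : RepData AlgSp.IsQuasiCompactMor (FibCat.fpFst (wf c') Δ) :=
    repData_congr (pairIso (FibCat.fpLift x' x' (Iso.refl _)) (wf c') (Iso.refl _) j)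
      (hi T' hO x')
  let y₀ := BasedFunctor.comp (AlgSt.ofOverCat T') (AlgSt.ofSpMap ((AlgSp.yon S).map c'))
  let s := (AlgSp.yon S).map c'
  have hq : AlgSp.IsQuasiCompactMor (pullback.snd π s) :=
    prop_snd_of_repData sourceIsoInv_qc (F := ⟨_, AlgSp.IsAlgSpace.yon_obj V⟩) he k y₀
      (testMap_ofOverCat _) hd
  have : IsAffine T'.left := hO
  have hW' : AlgSp.IsQuasiCompactSp (pullback π s) :=
    hq (AlgSp.IsAlgSpace.yon_obj T') (H12AlgSp.isQuasiCompactSp_yon_iff.2 inferInstance) (𝟙 _) (𝟙 _)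
      (pullback.snd π s) (IsPullback.of_horiz_isIso ⟨by simp⟩)
  have := H12AlgSp.compactSpace_points_of_isQuasiCompactSp hW'
  convert isCompact_range (AlgSp.Points.continuous_map (pullback.fst π s)) using 1
  ext t
  constructor
  · rintro ⟨a, ha, ea⟩
    obtain ⟨u, hu, -⟩ := H12AlgSp.exists_point_of_isPullback (IsPullback.of_hasPullback π s) t
      (AlgSp.Points.ofScheme T' ⟨a, ha⟩) (by
        refine Eq.trans ?_ (range_map_yon_map c' _).symm
        change _ = AlgSp.Points.ofScheme V (i a)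
        exact ((AlgSp.Points.schemeEquiv V).apply_symm_apply _).symm.trans
          (congrArg (AlgSp.Points.ofScheme V) ea.symm))
    exact ⟨u, hu⟩
  · rintro ⟨u, rfl⟩
    obtain ⟨b, hb⟩ := (AlgSp.Points.schemeEquiv T').surjective (AlgSp.Points.map (pullback.snd π s) u)
    refine ⟨b.1, b.2, ?_⟩
    change i b.1 = AlgSp.Points.toScheme V (AlgSp.Points.map π (AlgSp.Points.map (pullback.fst π s) u))
    rw [← AlgSp.Points.map_comp, pullback.condition, AlgSp.Points.map_comp, ← hb]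
    exact ((congrArg (AlgSp.Points.toScheme V) (range_map_yon_map c' b)).trans
      ((AlgSp.Points.schemeEquiv V).symm_apply_apply _)).symm

/-- A chart of the square gives quasi-compactness of the diagonal. -/
theorem repWith_qc_diag_of_generic_isom [IsLocallyNoetherian S]
    (h𝒳 : AlgSt.IsAlgStack Scheme.fppfPrecoverage 𝒳)
    (hlfp : ∀ (U : Over S) (x : FibCat.overCat U ⥤ᵇ 𝒳),
      AlgSt.RepByAlgSpWith (AlgSp.LocP @Smooth) x → LocallyOfFinitePresentation U.hom)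
    (hi : ∀ (U : Over S), IsAffine U.left → ∀ (x : FibCat.overCat U ⥤ᵇ 𝒳),
      RepData AlgSp.IsQuasiCompactMor
        (FibCat.fpFst (FibCat.fpLift x x (Iso.refl _)) (FibCat.diag (FibCat.toSelf 𝒳))))
    (hii : ∀ (U : Over S), IsAffine U.left → IsIntegral U.left → ∀ (x y : FibCat.overCat U ⥤ᵇ 𝒳)
      (D : Set ↥U.left), Dense D →
      (∀ t ∈ D, ∃ (L : Type u) (_ : Field L) (g : Spec (CommRingCat.of L) ⟶ U.left), Set.range g.base = {t} ∧
        Nonempty (BasedFunctor.comp (AlgSt.overMap (Over.homMk g rfl : Over.mk (g ≫ U.hom) ⟶ U)) x ≅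
          BasedFunctor.comp (AlgSt.overMap (Over.homMk g rfl : Over.mk (g ≫ U.hom) ⟶ U)) y)) →
      ∃ V : U.left.Opens, Dense (V : Set ↥U.left) ∧
        Nonempty (BasedFunctor.comp (AlgSt.overMap (Over.homMk V.ι rfl : Over.mk (V.ι ≫ U.hom) ⟶ U)) x ≅
          BasedFunctor.comp (AlgSt.overMap (Over.homMk V.ι rfl : Over.mk (V.ι ≫ U.hom) ⟶ U)) y)) :
    AlgSt.RepByAlgSpWith AlgSp.IsQuasiCompactMor (FibCat.diag (FibCat.toSelf 𝒳)) := by
  obtain ⟨W, x, hx, hxs⟩ := id h𝒳.atlas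
  have := hlfp W x hx
  have : LocallyOfFiniteType (sqObj W).hom :=
    inferInstanceAs (LocallyOfFiniteType (pullback.fst W.hom W.hom ≫ W.hom))
  have : IsLocallyNoetherian (sqObj W).left := LocallyOfFiniteType.isLocallyNoetherian (sqObj W).hom
  let w₀ := pairFun W x
  let Δ := FibCat.diag (FibCat.toSelf 𝒳)
  let V : AlgSp.Space S := ⟨(AlgSp.yon S).obj (sqObj W), AlgSp.IsAlgSpace.yon_obj _⟩
  let w : AlgSt.ofSp V.obj ⥤ᵇ FibCat.fp (FibCat.toSelf 𝒳) (FibCat.toSelf 𝒳) :=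
    BasedFunctor.comp (AlgSt.toOverCat (sqObj W)) w₀
  obtain ⟨G₀, e₀, he₀⟩ := h𝒳.diag (sqObj W) w₀
  obtain ⟨kq⟩ := spMapOfOver_eq (BasedFunctor.comp e₀ (FibCat.fpFst w₀ Δ))
  let π := AlgSt.spMapOfOver (BasedFunctor.comp e₀ (FibCat.fpFst w₀ Δ))
  obtain ⟨⟨_, _⟩, hUs⟩ := (isEquivOver_iff _).1 (toOverCat_isEquivOver (sqObj W))
  have : (BasedFunctor.id 𝒳).toFunctor.Full := inferInstanceAs (Functor.id _).Full
  have : (BasedFunctor.id 𝒳).toFunctor.Faithful := inferInstanceAs (Functor.id _).Faithful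
  have : (BasedFunctor.id (FibCat.fp (FibCat.toSelf 𝒳) (FibCat.toSelf 𝒳))).toFunctor.Full :=
    inferInstanceAs (Functor.id _).Full
  have : (BasedFunctor.id (FibCat.fp (FibCat.toSelf 𝒳) (FibCat.toSelf 𝒳))).toFunctor.Faithful :=
    inferInstanceAs (Functor.id _).Faithful
  let M : FibCat.fp w Δ ⥤ᵇ FibCat.fp w₀ Δ :=
    fpMap (F := w₀) (G := Δ) (AlgSt.toOverCat (sqObj W)) (BasedFunctor.id 𝒳)
      (BasedFunctor.id (FibCat.fp (FibCat.toSelf 𝒳) (FibCat.toSelf 𝒳))) (Iso.refl _) (Iso.refl _)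
  have hM : FibCat.IsEquivOver M := fpMap_isEquivOver _ _ _ _ _ hUs (essSurjOver_id _)
  obtain ⟨N, ⟨iN⟩, ⟨iN'⟩⟩ := id hM
  let e' := BasedFunctor.comp e₀ N
  have he' : FibCat.IsEquivOver e' := isEquivOver_comp he₀ ⟨M, ⟨iN'⟩, ⟨iN⟩⟩
  have : (post (AlgSt.ofSp G₀.obj) (AlgSt.toOverCat (sqObj W))).Full := post_full _
  have : (post (AlgSt.ofSp G₀.obj) (AlgSt.toOverCat (sqObj W))).Faithful := post_faithful _
  let k : BasedFunctor.comp e' (FibCat.fpFst w Δ) ≅ AlgSt.ofSpMap π :=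
    (post (AlgSt.ofSp G₀.obj) (AlgSt.toOverCat (sqObj W))).preimageIso
      ((Stk.restr e₀ _).mapIso ((post _ (FibCat.fpFst w₀ Δ)).mapIso iN') ≪≫ kq)
  have hbase : BaseStable (S := S) AlgSp.IsQuasiCompactMor :=
    fun _ _ _ _ _ _ _ _ _ _ _ _ sq h => H12AlgSp.isQuasiCompactMor_of_isPullback sq h
  have hπq : AlgSp.IsQuasiCompactMor π :=
    isQuasiCompactMor_of_generic_isom hi hii (V := sqObj W) (w := w) he' k
  have hfib := h𝒳.isStack.1
  refine repWith_of_fppf (localFppf_of_fpqc (S10519.result S)) hbase.sourceIsoInv h𝒳.diag ?_ ?_ ?_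
    (repWith_fpFst_of_space hbase (W := V) (V := G₀) he' k hπq)
  · exact (repWith_equiv_comp_iff (toOverCat_isEquivOver (sqObj W))).1
      (repWith_locP_mono smooth_le_flat (repWith_pairFun W hfib (sourceIsoInv_locP _)
        (testOnSchemes_locP _)
        (fun _ _ _ hA hB hC _ _ ha hb => H12AlgSp.locP_comp H12AlgSp.etLocal_smooth hA hB hC ha hb)
        hx))
  · exact (repWith_equiv_comp_iff (toOverCat_isEquivOver (sqObj W))).1
      (repWith_locP_mono smooth_le_lfp (repWith_pairFun W hfib (sourceIsoInv_locP _)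
        (testOnSchemes_locP _)
        (fun _ _ _ hA hB hC _ _ ha hb => H12AlgSp.locP_comp H12AlgSp.etLocal_smooth hA hB hC ha hb)
        hx))
  · exact (repWith_equiv_comp_iff (toOverCat_isEquivOver (sqObj W))).1
      (repWith_pairFun W hfib sourceIsoInv_surjective testOnSchemes_surjective
        (fun _ _ _ _ _ _ a b ha hb z => by
          obtain ⟨y, rfl⟩ := hb z
          obtain ⟨x', rfl⟩ := ha y
          exact ⟨x', AlgSp.Points.map_comp _ _ _⟩) hxs)

end Groth.Agent.H14AlgSt
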