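import Groth.Agent.H14Stk.Glue
import Groth.Agent.H14AlgSt.Descent
import Mathlib.AlgebraicGeometry.Limits
import Mathlib.AlgebraicGeometry.Morphisms.Etale

/-!
# Objects of a stack glue on a disjoint union
-/

set_option autoImplicit false
set_option linter.unusedVariables false
set_option backward.isDefEq.respectTransparency false
set_option backward.isDefEq.respectTransparency.types false

universe u

open CategoryTheory CategoryTheory.Functor CategoryTheory.Limits AlgebraicGeometry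

noncomputable section

namespace Groth.Agent.H14AlgSt

open H14Fib H14Stk

variable {S : Scheme.{u}} {𝒳 : AlgSt.Cat S} {K : Precoverage Scheme.{u}}

lemma sieve_mem_of_family (hK : Scheme.etalePrecoverage ≤ K) {Z : Over S} {ι : Type u}
    {V : ι → Over S} (v : ∀ i, V i ⟶ Z) (he : ∀ i, Etale (v i).left)
    (hs : ∀ z : Z.left, ∃ i, z ∈ Set.range (v i).left) {R : Sieve Z} (hR : ∀ i, R (v i)) :
    R ∈ QuotSh.J K S Z := by
  refine GrothendieckTopology.superset_covering _ (S := Sieve.ofArrows V v) ?_ ?_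
  · rw [Sieve.generate_le_iff]
    rintro W _ ⟨i⟩
    exact hR i
  · rw [QuotSh.J, GrothendieckTopology.mem_over_iff]
    refine GrothendieckTopology.superset_covering _ ?_
      (Precoverage.generate_mem_toGrothendieck (J := K)
        (R := Presieve.ofArrows (fun i => (V i).left) fun i => (v i).left) (hK _ ?_))
    · rw [Sieve.generate_le_iff]
      rintro W _ ⟨i⟩
      exact (Sieve.overEquiv_iff _ _).2 ⟨V i, Over.homMk (𝟙 _) (by simp),
        v i, ⟨i⟩, Over.OverMorphism.ext (Category.id_comp _)⟩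
    · rw [Scheme.etalePrecoverage, Scheme.ofArrows_mem_precoverage_iff]
      exact ⟨fun z => hs z, he⟩

variable (hK : Scheme.etalePrecoverage ≤ K) (h : Stk.IsStack (QuotSh.J K S) 𝒳)

include hK h in
/-- A vertical morphism over the empty scheme exists. -/
lemma exists_vert_of_isEmpty {T : Over S} [IsEmpty T.left] {a b : 𝒳.obj} (ha : 𝒳.p.obj a = T)
    (hb : 𝒳.p.obj b = T) : ∃ α : a ⟶ b, 𝒳.p.IsHomLift (𝟙 T) α := by
  obtain ⟨α, hα, -⟩ := exists_vert_of_local (isPrestack_of_isStack h) (R := (⊥ : Sieve T))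
    (sieve_mem_of_family hK (ι := PEmpty.{u + 1}) (V := fun i => i.elim) (fun i => i.elim)
      (fun i => i.elim) (fun z => isEmptyElim z) fun i => i.elim)
    ha hb (fun _ _ _ => True) (fun _ _ _ _ _ _ => trivial)
    (fun V f hf => hf.elim) (fun V f hf => hf.elim)
  exact ⟨α, hα⟩

include hK h in
/-- Two lifts of a morphism from the empty scheme are equal. -/
lemma lift_ext_of_isEmpty {T' T : Over S} [IsEmpty T'.left] (g : T' ⟶ T) {a b : 𝒳.obj}
    (χ χ' : a ⟶ b) [𝒳.p.IsHomLift g χ] [𝒳.p.IsHomLift g χ'] : χ = χ' := by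
  obtain ⟨e, he, he'⟩ := exists_vertIso h.1 g χ χ'
  have : 𝒳.p.IsHomLift (𝟙 T') (𝟙 a) := IsHomLift.id (IsHomLift.domain_eq 𝒳.p g χ)
  have := he
  have h1 : e.hom = 𝟙 a := vert_ext_of_local (isPrestack_of_isStack h) (R := (⊥ : Sieve T'))
    (sieve_mem_of_family hK (ι := PEmpty.{u + 1}) (V := fun i => i.elim) (fun i => i.elim)
      (fun i => i.elim) (fun z => isEmptyElim z) fun i => i.elim)
    e.hom (𝟙 a) fun V f hf => hf.elim
  rw [← he', h1, Category.id_comp]

/-- The disjoint union over the base. -/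
abbrev sigmaOver {ι : Type u} (U : ι → Over S) : Over S := Over.mk (Sigma.desc fun i => (U i).hom)

/-- An inclusion in the disjoint union. -/
def sigmaIncl {ι : Type u} (U : ι → Over S) (i : ι) : U i ⟶ sigmaOver U :=
  Over.homMk (Sigma.ι (fun i => (U i).left) i) (Sigma.ι_desc _ _)

instance {ι : Type u} (U : ι → Over S) (i : ι) : IsOpenImmersion (sigmaIncl U i).left :=
  inferInstanceAs (IsOpenImmersion (Sigma.ι (fun i => (U i).left) i))

lemma sigmaIncl_surjective {ι : Type u} (U : ι → Over S) (z : (sigmaOver U).left) :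
    ∃ i, z ∈ Set.range (sigmaIncl U i).left := by
  obtain ⟨⟨i, t⟩, rfl⟩ := (sigmaMk fun i => (U i).left).surjective z
  refine ⟨i, t, ?_⟩
  rw [sigmaMk_mk]
  rfl

lemma eq_or_isEmpty {ι : Type u} {U : ι → Over S} {T : Over S} (x y : Σ i, T ⟶ U i)
    (e : x.2 ≫ sigmaIncl U x.1 = y.2 ≫ sigmaIncl U y.1) : x = y ∨ IsEmpty T.left := by
  obtain ⟨i, k⟩ := x
  obtain ⟨j, l⟩ := y
  by_cases hij : i = j
  · subst hij
    exact Or.inl (by rw [show k = l from Over.OverMorphism.ext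
      ((cancel_mono (sigmaIncl U i).left).1 (congrArg (fun m => m.left) e))])
  · exact Or.inr (isEmpty_of_commSq_sigmaι_of_ne
      ⟨(congrArg (fun m : T ⟶ sigmaOver U => m.left) e :)⟩ hij)

section Glue

variable {ι : Type u} {U : ι → Over S} (p : ∀ i, FibCat.overCat (U i) ⥤ᵇ 𝒳)

/-- The value at a factorisation. -/
abbrev facVal {T : Over S} (x : Σ i, T ⟶ U i) : 𝒳.obj := (p x.1).obj (Over.mk x.2)

lemma facVal_obj {T : Over S} (x : Σ i, T ⟶ U i) : 𝒳.p.obj (facVal p x) = T := (p x.1).w_obj _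

/-- The explicit morphism between compatible factorisations. -/
def facMap {T' T : Over S} (φ : T' ⟶ T) (x : Σ i, T ⟶ U i) (y : Σ i, T' ⟶ U i)
    (e : y = ⟨x.1, φ ≫ x.2⟩) : facVal p y ⟶ facVal p x :=
  eqToHom (congrArg (facVal p) e) ≫
    (p x.1).map (Over.homMk φ rfl : (Over.mk (φ ≫ x.2) : (FibCat.overCat (U x.1)).obj) ⟶ Over.mk x.2)

lemma facMap_lift {T' T : Over S} (φ : T' ⟶ T) (x : Σ i, T ⟶ U i) (y : Σ i, T' ⟶ U i)
    (e : y = ⟨x.1, φ ≫ x.2⟩) : 𝒳.p.IsHomLift φ (facMap p φ x y e) := by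
  subst e
  rw [facMap, eqToHom_refl, Category.id_comp]
  exact @BasedFunctor.preserves_isHomLift _ _ _ _ (p x.1) _ _ _ _ φ _ (overCat_isHomLift
    (Over.homMk φ rfl : (Over.mk (φ ≫ x.2) : (FibCat.overCat (U x.1)).obj) ⟶ Over.mk x.2))

/-- A morphism between values is the explicit one where that makes sense. -/
def IsFacMap {T' T : Over S} (φ : T' ⟶ T) (x : Σ i, T ⟶ U i) (y : Σ i, T' ⟶ U i)
    (χ : facVal p y ⟶ facVal p x) : Prop :=
  𝒳.p.IsHomLift φ χ ∧ ∀ e : y = ⟨x.1, φ ≫ x.2⟩, χ = facMap p φ x y e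

include hK h in
lemma existsUnique_facMap {T' T : Over S} (φ : T' ⟶ T) (x : Σ i, T ⟶ U i) (y : Σ i, T' ⟶ U i)
    (e : y.2 ≫ sigmaIncl U y.1 = φ ≫ x.2 ≫ sigmaIncl U x.1) :
    ∃! χ, IsFacMap p φ x y χ := by
  rcases eq_or_isEmpty y ⟨x.1, φ ≫ x.2⟩ (e.trans (Category.assoc _ _ _).symm) with hy | hy
  · exact ⟨facMap p φ x y hy, ⟨facMap_lift p φ x y hy, fun _ => rfl⟩, fun χ hχ => hχ.2 hy⟩
  · obtain ⟨α, hα⟩ := exists_vert_of_isEmpty hK h (facVal_obj p y) (facVal_obj p ⟨x.1, φ ≫ x.2⟩)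
    have hl : 𝒳.p.IsHomLift φ (α ≫ facMap p φ x ⟨x.1, φ ≫ x.2⟩ rfl) := by
      simpa using homLift_comp' hα (facMap_lift p φ x ⟨x.1, φ ≫ x.2⟩ rfl)
    refine ⟨α ≫ facMap p φ x ⟨x.1, φ ≫ x.2⟩ rfl, ⟨hl, fun e' => ?_⟩, fun χ hχ => ?_⟩
    · have := hl
      have := facMap_lift p φ x y e'
      exact lift_ext_of_isEmpty hK h φ _ _
    · have := hl
      have := hχ.1
      exact lift_ext_of_isEmpty hK h φ _ _

lemma isFacMap_id {T : Over S} (x : Σ i, T ⟶ U i) : IsFacMap p (𝟙 T) x x (𝟙 _) := by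
  refine ⟨IsHomLift.id (facVal_obj p x), fun e => ?_⟩
  have h1 : ∀ (k : T ⟶ U x.1) (hk : k = x.2) (e : facVal p x = (p x.1).obj (Over.mk k)),
      eqToHom e ≫ (p x.1).map (Over.homMk (𝟙 T) (by simp [hk]) :
        (Over.mk k : (FibCat.overCat (U x.1)).obj) ⟶ Over.mk x.2) = 𝟙 _ := by
    rintro k rfl e
    rw [eqToHom_refl, Category.id_comp]
    exact (congrArg (p x.1).map (Over.OverMorphism.ext rfl)).trans ((p x.1).toFunctor.map_id _)
  exact (h1 _ (Category.id_comp _) _).symm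

include hK h in
lemma isFacMap_comp {T'' T' T : Over S} (ψ : T'' ⟶ T') (φ : T' ⟶ T) (x : Σ i, T ⟶ U i)
    (y : Σ i, T' ⟶ U i) (z : Σ i, T'' ⟶ U i) (hy : y.2 ≫ sigmaIncl U y.1 = φ ≫ x.2 ≫ sigmaIncl U x.1)
    {χ : facVal p y ⟶ facVal p x} {ω : facVal p z ⟶ facVal p y}
    (hχ : IsFacMap p φ x y χ) (hω : IsFacMap p ψ y z ω) : IsFacMap p (ψ ≫ φ) x z (ω ≫ χ) := by
  have hl : 𝒳.p.IsHomLift (ψ ≫ φ) (ω ≫ χ) := homLift_comp' hω.1 hχ.1
  refine ⟨hl, fun e => ?_⟩
  by_cases hT : IsEmpty T''.left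
  · have := hl
    have := facMap_lift p (ψ ≫ φ) x z e
    exact lift_ext_of_isEmpty hK h (ψ ≫ φ) _ _
  · have hy' : y = ⟨x.1, φ ≫ x.2⟩ :=
      (eq_or_isEmpty y ⟨x.1, φ ≫ x.2⟩ (hy.trans (Category.assoc _ _ _).symm)).resolve_right
        fun h1 => hT ⟨fun t => h1.false (ψ.left t)⟩
    subst hy'
    have hz : z = ⟨x.1, ψ ≫ φ ≫ x.2⟩ := e.trans (by rw [Category.assoc])
    subst hz
    rw [hχ.2 rfl, hω.2 rfl, facMap, facMap, facMap, eqToHom_refl, eqToHom_refl, Category.id_comp,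
      Category.id_comp, ← (p x.1).toFunctor.map_comp]
    have h1 : ∀ (k : T'' ⟶ U x.1) (hk : k = ψ ≫ φ ≫ x.2)
        (e : facVal p ⟨x.1, ψ ≫ φ ≫ x.2⟩ = facVal p ⟨x.1, k⟩),
        eqToHom e ≫ (p x.1).map (Over.homMk (ψ ≫ φ) (by simp [hk]) :
          (Over.mk k : (FibCat.overCat (U x.1)).obj) ⟶ Over.mk x.2) =
        (p x.1).map ((Over.homMk ψ rfl :
          (Over.mk (ψ ≫ φ ≫ x.2) : (FibCat.overCat (U x.1)).obj) ⟶ Over.mk (φ ≫ x.2)) ≫
            (Over.homMk φ rfl :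
              (Over.mk (φ ≫ x.2) : (FibCat.overCat (U x.1)).obj) ⟶ Over.mk x.2)) := by
      rintro k rfl e
      rw [eqToHom_refl, Category.id_comp]
      exact congrArg (p x.1).map (Over.OverMorphism.ext rfl)
    exact (h1 _ (Category.assoc _ _ _) (by rw [Category.assoc])).symm

variable (U) in
/-- The sieve of factorisations. -/
def sigmaSieve : Sieve (sigmaOver U) where
  arrows T g := ∃ x : Σ i, T ⟶ U i, x.2 ≫ sigmaIncl U x.1 = g
  downward_closed := by
    rintro T T' g ⟨⟨i, k⟩, rfl⟩ w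
    exact ⟨⟨i, w ≫ k⟩, Category.assoc _ _ _⟩

include hK in
lemma sigmaSieve_mem : sigmaSieve U ∈ QuotSh.J K S (sigmaOver U) :=
  sieve_mem_of_family hK (sigmaIncl U) (fun i => inferInstance) (sigmaIncl_surjective U)
    fun i => ⟨⟨i, 𝟙 _⟩, Category.id_comp _⟩

include hK h in
/-- A family of points of a stack is a point of the disjoint union. -/
theorem exists_sigma_glue : ∃ P : FibCat.overCat (sigmaOver U) ⥤ᵇ 𝒳,
    ∀ i, Nonempty (BasedFunctor.comp (AlgSt.overMap (sigmaIncl U i)) P ≅ p i) := by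
  choose x hx using fun a : (Stk.sieveCat (sigmaSieve U)).obj => a.property
  have hm : ∀ {a b : (Stk.sieveCat (sigmaSieve U)).obj} (f : a ⟶ b),
      (x a).2 ≫ sigmaIncl U (x a).1 = f.hom.left ≫ (x b).2 ≫ sigmaIncl U (x b).1 := fun f => by
    rw [hx, hx]
    exact (Over.w f.hom).symm
  let M : ∀ {a b : (Stk.sieveCat (sigmaSieve U)).obj} (f : a ⟶ b), facVal p (x a) ⟶ facVal p (x b) :=
    fun f => (existsUnique_facMap hK h p f.hom.left (x _) (x _) (hm f)).choose
  have hM : ∀ {a b : (Stk.sieveCat (sigmaSieve U)).obj} (f : a ⟶ b),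
      IsFacMap p f.hom.left (x b) (x a) (M f) :=
    fun f => (existsUnique_facMap hK h p f.hom.left (x _) (x _) (hm f)).choose_spec.1
  let Φ : Stk.sieveCat (sigmaSieve U) ⥤ᵇ 𝒳 :=
    { toFunctor :=
        { obj := fun a => facVal p (x a)
          map := M
          map_id := fun a => (existsUnique_facMap hK h p _ _ _ (hm (𝟙 a))).unique (hM (𝟙 a))
            (isFacMap_id p (x a))
          map_comp := fun f g => (existsUnique_facMap hK h p _ _ _ (hm (f ≫ g))).unique (hM (f ≫ g))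
            (isFacMap_comp hK h p f.hom.left g.hom.left _ _ _ (hm g) (hM g) (hM f)) }
      w := CategoryTheory.Functor.ext (fun a => facVal_obj p (x a)) (fun a b f =>
        @IsHomLift.fac' _ _ _ _ 𝒳.p _ _ _ _ f.hom.left _ (hM f).1) }
  have : (Stk.resSieve (sigmaSieve U) 𝒳).IsEquivalence := h.2 (sigmaSieve U) (sigmaSieve_mem hK)
  obtain ⟨P, ⟨j⟩⟩ : ∃ P, Nonempty ((Stk.resSieve (sigmaSieve U) 𝒳).obj P ≅ Φ) :=
    ⟨_, ⟨(Stk.resSieve (sigmaSieve U) 𝒳).objObjPreimageIso Φ⟩⟩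
  refine ⟨P, fun i => ?_⟩
  let c : (Stk.sieveCat (sigmaSieve U)).obj :=
    ⟨Over.mk (sigmaIncl U i), ⟨⟨i, 𝟙 _⟩, Category.id_comp _⟩⟩
  let G := BasedFunctor.comp (AlgSt.overMap (sigmaIncl U i)) P
  have e₀ : G.obj (topObj (U i)) = P.obj c.obj :=
    congrArg P.obj (congrArg Over.mk (Category.id_comp (sigmaIncl U i)))
  have h1 : 𝒳.p.IsHomLift (𝟙 (U i)) (app j.hom c) :=
    BasedNatTrans.isHomLift j.hom rfl
  obtain ⟨χ, hχ⟩ := (existsUnique_facMap hK h p (𝟙 (U i)) ⟨i, 𝟙 _⟩ (x c) (by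
    rw [hx]
    exact ((Category.id_comp _).trans (Category.id_comp _)).symm)).exists
  have h2 : 𝒳.p.IsHomLift (𝟙 (U i)) (eqToHom e₀ ≫ app j.hom c ≫ χ) :=
    homLift_id_comp (IsHomLift.of_fac' 𝒳.p _ _ (G.w_obj _) (P.w_obj _) (by simp [eqToHom_map]))
      (homLift_id_comp h1 hχ.1)
  have := isIso_of_fibGrpd h.1 (𝟙 (U i)) (eqToHom e₀ ≫ app j.hom c ≫ χ)
  exact ⟨isoOfTop (topSC_of_fibGrpd h.1 _) (topSC_of_fibGrpd h.1 _)
    (asIso (eqToHom e₀ ≫ app j.hom c ≫ χ)) h2⟩

include hK h in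
/-- Points of a stack on a disjoint union are isomorphic if their restrictions are. -/
theorem nonempty_iso_of_sigma {P Q : FibCat.overCat (sigmaOver U) ⥤ᵇ 𝒳}
    (e : ∀ i, BasedFunctor.comp (AlgSt.overMap (sigmaIncl U i)) P ≅
      BasedFunctor.comp (AlgSt.overMap (sigmaIncl U i)) Q) : Nonempty (P ≅ Q) := by
  choose x hx using fun a : (Stk.sieveCat (sigmaSieve U)).obj => a.property
  let obs : ∀ {T : Over S} (y : Σ i, T ⟶ U i),
      P.obj (Over.mk (y.2 ≫ sigmaIncl U y.1)) ⟶ Q.obj (Over.mk (y.2 ≫ sigmaIncl U y.1)) :=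
    fun y => app (e y.1).hom (Over.mk y.2)
  have hobs : ∀ {T : Over S} (y : Σ i, T ⟶ U i), 𝒳.p.IsHomLift (𝟙 T) (obs y) :=
    fun y => BasedNatTrans.isHomLift (e y.1).hom rfl
  have htr : ∀ {T : Over S} (g : T ⟶ sigmaOver U) (y : Σ i, T ⟶ U i)
      (hy : y.2 ≫ sigmaIncl U y.1 = g), ∃ χ : P.obj (Over.mk g) ⟶ Q.obj (Over.mk g),
        𝒳.p.IsHomLift (𝟙 T) χ ∧ HEq χ (obs y) := by
    rintro T _ y rfl
    exact ⟨obs y, hobs y, HEq.rfl⟩
  choose η hηl hη using fun a : (Stk.sieveCat (sigmaSieve U)).obj => htr a.obj.hom (x a) (hx a)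
  let μ : (Stk.resSieve (sigmaSieve U) 𝒳).obj P ⟶ (Stk.resSieve (sigmaSieve U) 𝒳).obj Q :=
    { toNatTrans :=
        { app := fun a => η a
          naturality := fun a b f => by
            change P.map f.hom ≫ η b = η a ≫ Q.map f.hom
            have hl₁ : 𝒳.p.IsHomLift f.hom.left (P.map f.hom ≫ η b) := by
              simpa using homLift_comp'
                (@BasedFunctor.preserves_isHomLift _ _ _ _ P _ _ _ _ _ _ (overCat_isHomLift f.hom)) (hηl b)
            have hl₂ : 𝒳.p.IsHomLift f.hom.left (η a ≫ Q.map f.hom) := by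
              simpa using homLift_comp' (hηl a)
                (@BasedFunctor.preserves_isHomLift _ _ _ _ Q _ _ _ _ _ _ (overCat_isHomLift f.hom))
            by_cases hT : IsEmpty a.obj.left.left
            · have := hl₁
              have := hl₂
              exact lift_ext_of_isEmpty hK h f.hom.left _ _
            · have hxa : x a = ⟨(x b).1, f.hom.left ≫ (x b).2⟩ :=
                (eq_or_isEmpty _ _ (by rw [hx, Category.assoc, hx]; exact (Over.w f.hom).symm)).resolve_right hT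
              have key : ∀ (g : a.obj.left ⟶ sigmaOver U) (g' : b.obj.left ⟶ sigmaOver U)
                  (hg : (f.hom.left ≫ (x b).2) ≫ sigmaIncl U (x b).1 = g)
                  (hg' : (x b).2 ≫ sigmaIncl U (x b).1 = g')
                  (m : (Over.mk g : (FibCat.overCat (sigmaOver U)).obj) ⟶ Over.mk g')
                  (hm : m.left = f.hom.left)
                  (ηa : P.obj (Over.mk g) ⟶ Q.obj (Over.mk g))
                  (ηb : P.obj (Over.mk g') ⟶ Q.obj (Over.mk g')),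
                  HEq ηa (obs ⟨(x b).1, f.hom.left ≫ (x b).2⟩) → HEq ηb (obs (x b)) →
                    P.map m ≫ ηb = ηa ≫ Q.map m := by
                intro g g' hg hg' m hm ηa ηb h1 h2
                subst hg hg'
                obtain rfl := eq_of_heq h1
                obtain rfl := eq_of_heq h2
                have := (e (x b).1).hom.toNatTrans.naturality
                  (Over.homMk f.hom.left rfl :
                    (Over.mk (f.hom.left ≫ (x b).2) : (FibCat.overCat (U (x b).1)).obj) ⟶ Over.mk (x b).2)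
                rw [show m = (Over.homMk (U := Over.mk ((f.hom.left ≫ (x b).2) ≫ sigmaIncl U (x b).1))
                  (V := Over.mk ((x b).2 ≫ sigmaIncl U (x b).1)) f.hom.left (Category.assoc _ _ _).symm) from
                  Over.OverMorphism.ext hm]
                exact this
              exact key a.obj.hom b.obj.hom (by rw [Category.assoc, hx]; exact Over.w f.hom) (hx b)
                f.hom rfl (η a) (η b) ((hη a).trans (by rw [hxa])) (hη b) }
      isHomLift' := hηl }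
  obtain ⟨_, _⟩ := (isPrestack_of_isStack h).2 (sigmaSieve U) (sigmaSieve_mem hK)
  obtain ⟨γ, -⟩ := (Stk.resSieve (sigmaSieve U) 𝒳).map_surjective μ
  have hg : 𝒳.p.IsHomLift (𝟙 (sigmaOver U)) (app γ (topObj _)) := BasedNatTrans.isHomLift γ rfl
  have := isIso_of_fibGrpd h.1 (𝟙 (sigmaOver U)) (app γ (topObj (sigmaOver U)))
  exact ⟨isoOfTop (topSC_of_fibGrpd h.1 _) (topSC_of_fibGrpd h.1 _)
    (asIso (app γ (topObj (sigmaOver U)))) hg⟩

end Glue

end Groth.Agent.H14AlgSt
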