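import Groth.Agent.H14AlgSt.LocQ
import Groth.Agent.H14AlgSt.DiagLFT
import Groth.Agent.H13AlgSp.FppfSource
import Groth.Agent.S10526
import Groth.Agent.S10527
import Groth.Agent.S10530

/-!
# Properties of morphisms of algebraic stacks read on atlases
-/

set_option autoImplicit false
set_option backward.isDefEq.respectTransparency false
set_option backward.isDefEq.respectTransparency.types false

universe u

open CategoryTheory Opposite AlgebraicGeometry CategoryTheory.Limits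

noncomputable section

namespace Groth.Agent.H14AlgSt

open H14Fib H14Stk H13AlgSp

variable {S : Scheme.{u}} {P : MorphismProperty (AlgSp.Sp S)} {𝒳 𝒴 𝒵 : AlgSt.Cat S}

local notation "K₀" => Scheme.fppfPrecoverage

lemma smooth_le_flat : (@Smooth : MorphismProperty Scheme.{u}) ≤ @Flat :=
  fun _ _ g (_ : Smooth g) => (inferInstance : Flat g)

lemma smooth_le_lfp : (@Smooth : MorphismProperty Scheme.{u}) ≤ @LocallyOfFinitePresentation :=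
  fun _ _ g (_ : Smooth g) => (inferInstance : LocallyOfFinitePresentation g)

lemma smooth_le_lft : (@Smooth : MorphismProperty Scheme.{u}) ≤ @LocallyOfFiniteType :=
  fun _ _ g (_ : Smooth g) => (inferInstance : LocallyOfFiniteType g)

lemma repWith_locP_mono {Q Q' : MorphismProperty Scheme.{u}} (h : Q ≤ Q') {f : 𝒳 ⥤ᵇ 𝒴}
    (hf : AlgSt.RepByAlgSpWith (AlgSp.LocP Q) f) : AlgSt.RepByAlgSpWith (AlgSp.LocP Q') f :=
  repWith_mono (fun _ _ _ hg => H12AlgSp.locP_mono h hg) hf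

lemma locP_yon_iff {Q : MorphismProperty Scheme.{u}} (hQ : H12AlgSp.EtLocal Q) {U V : Over S}
    (c : U ⟶ V) : AlgSp.LocP Q ((AlgSp.yon S).map c) ↔ Q c.left :=
  have := hQ.baseChange
  ⟨fun h => AlgSp.locP_yon_map h,
    fun h => H12AlgSp.locP_of_repWith hQ ((AlgSp.repWith_yon_map_iff _ _).2 h)⟩

lemma smLocal_locP {Q : MorphismProperty Scheme.{u}} (hQ : H12AlgSp.EtLocal Q)
    (hle : (@Smooth : MorphismProperty Scheme.{u}) ≤ Q)
    (hs : AlgSp.IsLocalOnSource (AlgSp.IsSmCover (S := S)) (AlgSp.LocP Q))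
    (hb : AlgSp.IsLocalOnBase (AlgSp.IsFppfCover (S := S)) (AlgSp.LocP Q)) :
    AlgSp.IsSmoothLocalST (AlgSp.LocP (S := S) Q) := by
  refine LocalST.mk_of_local hs (fun ι Y Yi g hY hYi hg => ?_)
    fun X Y Z hX hY hZ f g hf hg => H12AlgSp.locP_comp hQ hX hY hZ hf (H12AlgSp.locP_mono hle hg)
  exact hb Yi g hY hYi ⟨fun i => ⟨H12AlgSp.locP_mono smooth_le_flat (hg.1 i),
    H12AlgSp.locP_mono smooth_le_lfp (hg.1 i)⟩, hg.2⟩

lemma smLocal_flat : AlgSp.IsSmoothLocalST (AlgSp.LocP (S := S) @Flat) :=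
  smLocal_locP H12AlgSp.etLocal_flat smooth_le_flat
    (isLocalOnSource_of_descent (P' := @Flat) le_rfl
      (fun _ g _ _ hg => ⟨fun i => H12AlgSp.locP_mono smooth_le_flat (hg.1 i), hg.2⟩)
      flat_of_jointly_surjective) (localFppf_of_fpqc (S10530.result S))

lemma smLocal_lfp : AlgSp.IsSmoothLocalST (AlgSp.LocP (S := S) @LocallyOfFinitePresentation) :=
  smLocal_locP H12AlgSp.etLocal_lfp smooth_le_lfp
    (fun ι X Xi g hX hXi hg => isLocalOnSource_fppf_lfp Xi g hX hXi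
      ⟨fun i => ⟨H12AlgSp.locP_mono smooth_le_flat (hg.1 i),
        H12AlgSp.locP_mono smooth_le_lfp (hg.1 i)⟩, hg.2⟩)
    (localFppf_of_fpqc (S10527.result S))

lemma smLocal_lft : AlgSp.IsSmoothLocalST (AlgSp.LocP (S := S) @LocallyOfFiniteType) :=
  smLocal_locP H12AlgSp.etLocal_lft smooth_le_lft
    (fun ι X Xi g hX hXi hg => isLocalOnSource_fppf_lft Xi g hX hXi
      ⟨fun i => ⟨H12AlgSp.locP_mono smooth_le_flat (hg.1 i),
        H12AlgSp.locP_mono smooth_le_lfp (hg.1 i)⟩, hg.2⟩)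
    (localFppf_of_fpqc (S10526.result S))

lemma isAlgStack_overCat (U : Over S) : AlgSt.IsAlgStack K₀ (FibCat.overCat U) :=
  (isDM_of_repByAlgSp (repByAlgSp_overCat U)).1

lemma fibGrpd_overCat (U : Over S) : FibCat.IsFibGrpd (FibCat.overCat U).p :=
  (isFibSetoid_of_rep (repByAlgSp_overCat U)).1

/-- An atlas of the fibre product with a chart. -/
lemma exists_atlas_fp (h𝒳 : AlgSt.IsAlgStack K₀ 𝒳) (h𝒴 : AlgSt.IsAlgStack K₀ 𝒴) (f : 𝒳 ⥤ᵇ 𝒴)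
    {V : Over S} (y : FibCat.overCat V ⥤ᵇ 𝒴) :
    ∃ (A : Over S) (a : FibCat.overCat A ⥤ᵇ FibCat.fp f y) (h : A ⟶ V),
      AlgSt.RepByAlgSpWith (AlgSp.LocP @Smooth) a ∧
      AlgSt.RepByAlgSpWith AlgSp.IsSurjectiveMor a ∧
      Nonempty (BasedFunctor.comp a (FibCat.fpSnd f y) ≅ AlgSt.overMap h) := by
  obtain ⟨A, a, ha, has⟩ := (isAlgStack_fp' h𝒳 (isAlgStack_overCat V) h𝒴 f y).atlas
  obtain ⟨h, hh⟩ := exists_overMap_iso (BasedFunctor.comp a (FibCat.fpSnd f y))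
  exact ⟨A, a, h, ha, has, hh⟩

lemma chart_of_atlas_fp (h𝒳 : FibCat.IsFibGrpd 𝒳.p) (h𝒴 : FibCat.IsFibGrpd 𝒴.p) {f : 𝒳 ⥤ᵇ 𝒴}
    {V A : Over S} {y : FibCat.overCat V ⥤ᵇ 𝒴}
    (hy : AlgSt.RepByAlgSpWith (AlgSp.LocP @Smooth) y)
    {a : FibCat.overCat A ⥤ᵇ FibCat.fp f y} (ha : AlgSt.RepByAlgSpWith (AlgSp.LocP @Smooth) a) :
    AlgSt.RepByAlgSpWith (AlgSp.LocP @Smooth) (BasedFunctor.comp a (FibCat.fpFst f y)) :=
  repWith_locP_comp H12AlgSp.etLocal_smooth (fibGrpd_overCat A)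
    (fp_fibGrpd h𝒳 (fibGrpd_overCat V) h𝒴) ha (repWith_fpFst f hy)

lemma chartSurj_of_atlas_fp (h𝒳 : FibCat.IsFibGrpd 𝒳.p) (h𝒴 : FibCat.IsFibGrpd 𝒴.p)
    {f : 𝒳 ⥤ᵇ 𝒴} {V A : Over S} {y : FibCat.overCat V ⥤ᵇ 𝒴}
    (hy : AlgSt.RepByAlgSpWith AlgSp.IsSurjectiveMor y) {a : FibCat.overCat A ⥤ᵇ FibCat.fp f y}
    (ha : AlgSt.RepByAlgSpWith AlgSp.IsSurjectiveMor a) :
    AlgSt.RepByAlgSpWith AlgSp.IsSurjectiveMor (BasedFunctor.comp a (FibCat.fpFst f y)) :=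
  repWith_surjective_comp (fibGrpd_overCat A) (fp_fibGrpd h𝒳 (fibGrpd_overCat V) h𝒴) ha
    (repWith_fpFst f hy)

lemma locQ_of_atlas (h𝒳 : FibCat.IsFibGrpd 𝒳.p) (h𝒴 : FibCat.IsFibGrpd 𝒴.p) {f : 𝒳 ⥤ᵇ 𝒴}
    {V A : Over S} {y : FibCat.overCat V ⥤ᵇ 𝒴}
    (hy : AlgSt.RepByAlgSpWith (AlgSp.LocP @Smooth) y)
    (hys : AlgSt.RepByAlgSpWith AlgSp.IsSurjectiveMor y) {a : FibCat.overCat A ⥤ᵇ FibCat.fp f y}
    (ha : AlgSt.RepByAlgSpWith (AlgSp.LocP @Smooth) a)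
    (has : AlgSt.RepByAlgSpWith AlgSp.IsSurjectiveMor a) {h : A ⟶ V}
    (j : BasedFunctor.comp a (FibCat.fpSnd f y) ≅ AlgSt.overMap h)
    (hh : P ((AlgSp.yon S).map h)) : AlgSt.LocQ P f :=
  ⟨A, V, BasedFunctor.comp a (FibCat.fpFst f y), y, h,
    (Stk.restr a 𝒴).mapIso (FibCat.fpIso f y) ≪≫ (post (FibCat.overCat A) y).mapIso j,
    chart_of_atlas_fp h𝒳 h𝒴 hy ha, chartSurj_of_atlas_fp h𝒳 h𝒴 hys has, hy, hh⟩

lemma locQ_iff_forall_square (hP : AlgSp.IsSmoothLocalST P) (h𝒳 : AlgSt.IsAlgStack K₀ 𝒳)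
    (h𝒴 : AlgSt.IsAlgStack K₀ 𝒴) (f : 𝒳 ⥤ᵇ 𝒴) :
    AlgSt.LocQ P f ↔
      ∀ (U V : Over S) (x : FibCat.overCat U ⥤ᵇ 𝒳) (y : FibCat.overCat V ⥤ᵇ 𝒴) (h : U ⟶ V)
        (α : BasedFunctor.comp x f ≅ BasedFunctor.comp (AlgSt.overMap h) y),
        AlgSt.RepByAlgSpWith (AlgSp.LocP @Smooth) x → AlgSt.RepByAlgSpWith (AlgSp.LocP @Smooth) y →
        AlgSt.RepByAlgSpWith (AlgSp.LocP @Smooth) (FibCat.fpLift x (AlgSt.overMap h) α) →
          P ((AlgSp.yon S).map h) := by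
  refine ⟨fun hf U V x y h α _ hy hΘ => prop_of_locQ hP hf hy _ hΘ (Iso.refl _), fun H => ?_⟩
  obtain ⟨V, y, hy, hys⟩ := h𝒴.atlas
  obtain ⟨A, a, h, ha, has, ⟨j⟩⟩ := exists_atlas_fp h𝒳 h𝒴 f y
  exact locQ_of_atlas h𝒳.isStack.1 h𝒴.isStack.1 hy hys ha has j (H A V _ y h _
    (chart_of_atlas_fp h𝒳.isStack.1 h𝒴.isStack.1 hy ha) hy (repWith_of_iso (fpLiftEta a j) ha))

lemma ofChart_comp_overMap {U V : Over S} (y : FibCat.overCat V ⥤ᵇ 𝒴) (h : U ⟶ V) (t : U.left) :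
    AlgSt.Points.ofChart (BasedFunctor.comp (AlgSt.overMap h) y) t =
      AlgSt.Points.ofChart y (h.left t) := by
  rw [ofChart_comp, ofChart_eq_map (AlgSt.overMap h) t, map_eq_ofChart, chartPoint_overMap,
    chartPoint_ofChart]

/-- Flat locally finitely presented morphisms are open on points. -/
lemma isOpenMor_of_locQ (h𝒳 : AlgSt.IsAlgStack K₀ 𝒳) (h𝒴 : AlgSt.IsAlgStack K₀ 𝒴)
    {f : 𝒳 ⥤ᵇ 𝒴} (h1 : AlgSt.LocQ (AlgSp.LocP @Flat) f)
    (h2 : AlgSt.LocQ (AlgSp.LocP @LocallyOfFinitePresentation) f) : AlgSt.IsOpenMor f := by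
  obtain ⟨V, y, hy, hys⟩ := h𝒴.atlas
  obtain ⟨A, a, h, ha, has, ⟨j⟩⟩ := exists_atlas_fp h𝒳 h𝒴 f y
  have hl : Flat h.left :=
    (locP_yon_iff H12AlgSp.etLocal_flat h).1 (prop_of_locQ smLocal_flat h1 hy a ha j)
  have hp : LocallyOfFinitePresentation h.left :=
    (locP_yon_iff H12AlgSp.etLocal_lfp h).1 (prop_of_locQ smLocal_lfp h2 hy a ha j)
  let x := BasedFunctor.comp a (FibCat.fpFst f y)
  have hxs := ofChart_surjective h𝒳.isStack.1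
    (chartSurj_of_atlas_fp h𝒳.isStack.1 h𝒴.isStack.1 hys has)
  let α : BasedFunctor.comp x f ≅ BasedFunctor.comp (AlgSt.overMap h) y :=
    (Stk.restr a 𝒴).mapIso (FibCat.fpIso f y) ≪≫ (post (FibCat.overCat A) y).mapIso j
  intro O hO
  have hxO : IsOpen (AlgSt.Points.ofChart x ⁻¹' O) :=
    (continuous_ofChart h𝒳 x).isOpen_preimage O hO
  have e : AlgSt.Points.map f '' O =
      AlgSt.Points.ofChart y '' (h.left '' (AlgSt.Points.ofChart x ⁻¹' O)) := by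
    conv_lhs => rw [← Set.image_preimage_eq O hxs, Set.image_image]
    rw [Set.image_image]
    refine Set.image_congr fun t _ => ?_
    rw [← ofChart_comp, ofChart_iso α, ofChart_comp_overMap]
  rw [e]
  exact isOpenMap_ofChart h𝒴.isStack.1 (repWith_locP_mono smooth_le_flat hy)
    (repWith_locP_mono smooth_le_lfp hy) _ (h.left.isOpenMap _ hxO)

/-- An atlas of the base change to a chart of a representable morphism. -/
lemma exists_atlas_of_rep {f : 𝒳 ⥤ᵇ 𝒴}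
    {V : Over S} (y : FibCat.overCat V ⥤ᵇ 𝒴) (hf : AlgSt.RepByAlgSp (FibCat.fp y f)) :
    ∃ (G : AlgSp.Space S) (e : AlgSt.ofSp G.obj ⥤ᵇ FibCat.fp y f) (A : Over S)
      (p : (AlgSp.yon S).obj A ⟶ G.obj) (a : FibCat.overCat A ⥤ᵇ FibCat.fp f y) (h : A ⟶ V),
      FibCat.IsEquivOver e ∧ AlgSp.LocP @Smooth p ∧ AlgSp.IsSurjectiveMor p ∧
      AlgSt.RepByAlgSpWith (AlgSp.LocP @Smooth) a ∧
      AlgSt.RepByAlgSpWith AlgSp.IsSurjectiveMor a ∧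
      (AlgSp.yon S).map h = p ≫ AlgSt.spMapOfOver (BasedFunctor.comp e (FibCat.fpFst y f)) ∧
      Nonempty (BasedFunctor.comp a (FibCat.fpSnd f y) ≅ AlgSt.overMap h) := by
  obtain ⟨G, e, he⟩ := hf
  obtain ⟨A, p, hpe, hps⟩ := G.property.atlas
  let σ := AlgSt.spMapOfOver (BasedFunctor.comp e (FibCat.fpFst y f))
  obtain ⟨k⟩ := spMapOfOver_eq (BasedFunctor.comp e (FibCat.fpFst y f))
  obtain ⟨h, hh⟩ := (AlgSp.yon S).map_surjective (p ≫ σ)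
  let b := BasedFunctor.comp (AlgSt.ofOverCat A) (AlgSt.ofSpMap p)
  let a : FibCat.overCat A ⥤ᵇ FibCat.fp f y :=
    BasedFunctor.comp (BasedFunctor.comp b e) (fpSwap y f)
  have hp : AlgSp.LocP @Smooth p := H12AlgSp.locP_of_repWith H12AlgSp.etLocal_smooth
    (H12AlgSp.repWith_le (fun _ _ g (_ : Etale g) => (inferInstance : Smooth g)) hpe)
  refine ⟨G, e, A, p, a, h, he, hp, fun x => H12AlgSp.surjective_map_of_repWith le_rfl hps x,
    ?_, ?_, hh, ⟨?_⟩⟩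
  · exact (repWith_comp_equiv_iff (fpSwap_isEquivOver y f)).2 ((repWith_comp_equiv_iff he).2
      ((repWith_equiv_comp_iff (ofOverCat_isEquivOver A)).1
        (repWith_locP_of_repWith H12AlgSp.etLocal_smooth p
          (H12AlgSp.repWith_le (fun _ _ g (_ : Etale g) => (inferInstance : Smooth g)) hpe))))
  · exact (repWith_comp_equiv_iff (fpSwap_isEquivOver y f)).2 ((repWith_comp_equiv_iff he).2
      ((repWith_equiv_comp_iff (ofOverCat_isEquivOver A)).1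
        (repWith_surjective_of_repWith p hps)))
  · let m : BasedFunctor.comp (BasedFunctor.comp (AlgSt.ofOverCat A) (AlgSt.ofSpMap (p ≫ σ)))
        (AlgSt.toOverCat V) ≅ AlgSt.overMap h := by
      rw [← hh]
      exact mkIso (fun s => Iso.refl _)
        (fun {_ _} φ => (Category.comp_id _).trans ((Category.id_comp _).trans
          (Over.OverMorphism.ext rfl)).symm)
        (fun s => IsHomLift.id rfl)
    exact (Stk.restr b _).mapIso k ≪≫ m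

/-- The base changes of a morphism to schemes over a scheme with the property have it. -/
lemma repWith_fpFst_of_data (hb : BaseStable P) {f : 𝒳 ⥤ᵇ 𝒴} {V : Over S}
    (y : FibCat.overCat V ⥤ᵇ 𝒴) {G : AlgSp.Space S} {e : AlgSt.ofSp G.obj ⥤ᵇ FibCat.fp y f}
    (he : FibCat.IsEquivOver e)
    (h : P (AlgSt.spMapOfOver (BasedFunctor.comp e (FibCat.fpFst y f)))) :
    AlgSt.RepByAlgSpWith P (FibCat.fpFst y f) := by
  let W : AlgSp.Space S := ⟨(AlgSp.yon S).obj V, AlgSp.IsAlgSpace.yon_obj V⟩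
  let w : AlgSt.ofSp W.obj ⥤ᵇ 𝒴 := BasedFunctor.comp (AlgSt.toOverCat V) y
  obtain ⟨⟨_, _⟩, ht⟩ := (isEquivOver_iff _).1 (toOverCat_isEquivOver V)
  let M : FibCat.fp w f ⥤ᵇ FibCat.fp y f :=
    fpMap (AlgSt.toOverCat V) (BasedFunctor.id 𝒳) (BasedFunctor.id 𝒴) (Iso.refl w)
      (Iso.refl (BasedFunctor.comp f (BasedFunctor.id 𝒴)))
  have hM : FibCat.IsEquivOver M := fpMap_isEquivOver _ _ _ _ _ ht (essSurjOver_id _)
  obtain ⟨M', ⟨i⟩, ⟨i'⟩⟩ := hM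
  obtain ⟨k⟩ := spMapOfOver_eq (BasedFunctor.comp e (FibCat.fpFst y f))
  have k' : BasedFunctor.comp (BasedFunctor.comp e M') (FibCat.fpFst w f) ≅
      AlgSt.ofSpMap (AlgSt.spMapOfOver (BasedFunctor.comp e (FibCat.fpFst y f))) :=
    (post (AlgSt.ofSp G.obj) (AlgSt.ofOverCat V)).mapIso
      ((post (AlgSt.ofSp G.obj) (FibCat.fpFst y f)).mapIso ((Stk.restr e _).mapIso i') ≪≫ k)
  exact (repWith_square (f := FibCat.fpFst y f) (f' := FibCat.fpFst w f) ⟨M', ⟨i⟩, ⟨i'⟩⟩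
    (toOverCat_isEquivOver V) (Iso.refl _)).2
      (repWith_fpFst_of_space hb (W := W) (w := w)
        (isEquivOver_comp he ⟨M, ⟨i'⟩, ⟨i⟩⟩) k' h)

lemma locQ_of_repWith (hP : AlgSp.IsSmoothLocalST P) (h𝒳 : AlgSt.IsAlgStack K₀ 𝒳)
    (h𝒴 : AlgSt.IsAlgStack K₀ 𝒴) {f : 𝒳 ⥤ᵇ 𝒴} (hf : AlgSt.RepByAlgSpWith P f) :
    AlgSt.LocQ P f := by
  obtain ⟨V, y, hy, hys⟩ := h𝒴.atlas
  obtain ⟨G, e, A, p, a, h, he, hp, hps, ha, has, hh, ⟨j⟩⟩ :=
    exists_atlas_of_rep y (repByAlgSp1_of_with hf V y)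
  refine locQ_of_atlas h𝒳.isStack.1 h𝒴.isStack.1 hy hys ha has j ?_
  obtain ⟨k⟩ := spMapOfOver_eq (BasedFunctor.comp e (FibCat.fpFst y f))
  rw [hh]
  exact hP.precomp (AlgSp.IsAlgSpace.yon_obj A) G.property (AlgSp.IsAlgSpace.yon_obj V) p _ hp
    (prop_of_repData (sourceIsoInv_of_smLocal hP) (hf V y) he k)

lemma repWith_of_locQ (hP : AlgSp.IsSmoothLocalST P) (hb : BaseStable P)
    (hP₂ : AlgSp.IsLocalOnBase AlgSp.IsFppfCover P) (h𝒳 : AlgSt.IsAlgStack K₀ 𝒳)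
    (h𝒴 : AlgSt.IsAlgStack K₀ 𝒴) {f : 𝒳 ⥤ᵇ 𝒴} (hf : AlgSt.RepByAlgSp1 f)
    (hq : AlgSt.LocQ P f) : AlgSt.RepByAlgSpWith P f := by
  obtain ⟨V, y, hy, hys⟩ := h𝒴.atlas
  obtain ⟨G, e, A, p, a, h, he, hp, hps, ha, has, hh, ⟨j⟩⟩ :=
    exists_atlas_of_rep y (hf V y)
  refine repWith_of_fppf hP₂ hb.sourceIsoInv hf (repWith_locP_mono smooth_le_flat hy)
    (repWith_locP_mono smooth_le_lfp hy) hys (repWith_fpFst_of_data hb y he ?_)
  refine prop_precomp_cover hP (AlgSp.IsAlgSpace.yon_obj A) G.property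
    (AlgSp.IsAlgSpace.yon_obj V) hp hps ?_
  rw [← hh]
  exact prop_of_locQ hP hq hy a ha j

end Groth.Agent.H14AlgSt
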