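import Groth.Agent.H14AlgSt.PointsSpace
import Groth.Agent.H14AlgSt.LocQ4
import Groth.Agent.H14AlgSt.Diag2

/-!
# Quasi-compact morphisms of algebraic stacks
-/

set_option autoImplicit false
set_option backward.isDefEq.respectTransparency false
set_option backward.isDefEq.respectTransparency.types false

universe u

open CategoryTheory Opposite AlgebraicGeometry CategoryTheory.Limits

noncomputable section

namespace Groth.Agent.H14AlgSt

open H14Fib H14Stk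

variable {S : Scheme.{u}} {𝒳 𝒴 𝒵 : AlgSt.Cat S}

local notation "K₀" => Scheme.fppfPrecoverage

lemma isQuasiCompact_ofSp_iff (F : AlgSp.Space S) :
    AlgSt.IsQuasiCompact (AlgSt.ofSp F.obj) ↔ AlgSp.IsQuasiCompactSp F.obj := by
  rw [H12AlgSp.isQuasiCompactSp_iff F.property]
  refine ⟨fun h => ?_, fun h => isQuasiCompact_of_compactSpace (isAlgStack_ofSp F) ?_⟩
  · have := compactSpace_points (isAlgStack_ofSp F) h
    exact (spHomeo F).symm.compactSpace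
  · exact (spHomeo F).compactSpace

lemma isQuasiCompact_overCat (U : Over S) [CompactSpace U.left] :
    AlgSt.IsQuasiCompact (FibCat.overCat U) :=
  isQuasiCompact_of_surjective
    (isAlgStack_ofSp (⟨(AlgSp.yon S).obj U, AlgSp.IsAlgSpace.yon_obj U⟩ : AlgSp.Space S))
    (isAlgStack_overCat U)
    ((isQuasiCompact_ofSp_iff ⟨(AlgSp.yon S).obj U, AlgSp.IsAlgSpace.yon_obj U⟩).2
      (H12AlgSp.isQuasiCompactSp_yon_iff.2 ‹_›))
    (AlgSt.toOverCat U) (points_map_bijective (toOverCat_isEquivOver U)).2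

lemma isQCMor_of_repWith (hX : AlgSt.IsAlgStack K₀ 𝒳) (hY : AlgSt.IsAlgStack K₀ 𝒴)
    {f : 𝒳 ⥤ᵇ 𝒴} (hf : AlgSt.RepByAlgSpWith AlgSp.IsQuasiCompactMor f) :
    AlgSt.IsQuasiCompactMor K₀ f := by
  intro 𝒵 hZ hZc g
  obtain ⟨U, z, hU, hz, hzs⟩ := hZc
  have := hU
  obtain ⟨G, e, he, hσ⟩ := hf U (BasedFunctor.comp z g)
  have hG : AlgSp.IsQuasiCompactSp G.obj := hσ (AlgSp.IsAlgSpace.yon_obj U)
    (H12AlgSp.isQuasiCompactSp_yon_iff.2 inferInstance) (𝟙 _) (𝟙 _) _ IsPullback.of_id_fst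
  have hfp := isAlgStack_fp' hZ hX hY g f
  obtain ⟨E, ⟨i⟩, ⟨i'⟩⟩ := pasteBase_isEquivOver g f z
  refine isQuasiCompact_of_surjective (isAlgStack_ofSp G) hfp ((isQuasiCompact_ofSp_iff G).2 hG)
    (BasedFunctor.comp (BasedFunctor.comp e E) (FibCat.fpSnd z (FibCat.fpFst g f))) fun b => ?_
  obtain ⟨t, ht⟩ := surjective_of_repWith hZ.isStack.1 hzs (AlgSt.Points.map (FibCat.fpFst g f) b)
  obtain ⟨a, -, rfl⟩ := exists_points_fp (fibGrpd_overCat U) hfp.isStack.1 hZ.isStack.1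
    (F := z) (G := FibCat.fpFst g f) ht
  obtain ⟨x, rfl⟩ := (points_map_bijective
    (isEquivOver_comp he ⟨pasteBase g f z, ⟨i'⟩, ⟨i⟩⟩)).2 a
  exact ⟨x, points_map_comp _ _ x⟩

lemma repWith_of_isQCMor (hX : AlgSt.IsAlgStack K₀ 𝒳) (hY : AlgSt.IsAlgStack K₀ 𝒴)
    {f : 𝒳 ⥤ᵇ 𝒴} (hf : AlgSt.RepByAlgSp1 f) (h : AlgSt.IsQuasiCompactMor K₀ f) :
    AlgSt.RepByAlgSpWith AlgSp.IsQuasiCompactMor f := by
  intro U y
  obtain ⟨G, e, he⟩ := hf U y
  refine ⟨G, e, he, fun Z Z' hZ hZc g fst snd sq => ?_⟩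
  let Z₁ : AlgSp.Space S := ⟨Z, hZ⟩
  let Z₂ : AlgSp.Space S := ⟨Z', H12AlgSp.isAlgSpace_of_isPullback
    (AlgSp.IsAlgSpace.yon_obj U).diag G.property hZ sq⟩
  obtain ⟨e', ⟨E, ⟨i⟩, ⟨i'⟩⟩, -⟩ := exists_equiv_pullback y he (Z := Z₁) (Z' := Z₂) g sq
  let w := BasedFunctor.comp (BasedFunctor.comp (AlgSt.ofSpMap g) (AlgSt.toOverCat U)) y
  have hfp := isAlgStack_fp' (isAlgStack_ofSp Z₁) hX hY w f
  refine (isQuasiCompact_ofSp_iff Z₂).1 (isQuasiCompact_of_surjective hfp (isAlgStack_ofSp Z₂)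
    (h _ (isAlgStack_ofSp Z₁) ((isQuasiCompact_ofSp_iff Z₁).2 hZc) w) E
    (points_map_bijective ⟨e', ⟨i'⟩, ⟨i⟩⟩).2)

lemma isQCMor_cancel (hX : AlgSt.IsAlgStack K₀ 𝒳) (hY : AlgSt.IsAlgStack K₀ 𝒴)
    (hZ : AlgSt.IsAlgStack K₀ 𝒵) {f : 𝒳 ⥤ᵇ 𝒴} {g : 𝒴 ⥤ᵇ 𝒵}
    (hfg : AlgSt.IsQuasiCompactMor K₀ (BasedFunctor.comp f g))
    (hg : AlgSt.RepByAlgSpWith AlgSp.IsQuasiCompactMor (FibCat.diag g)) :
    AlgSt.IsQuasiCompactMor K₀ f := by
  let p := BasedFunctor.comp f g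
  have hP := isAlgStack_fp' hX hY hZ p g
  let ee : BasedFunctor.comp (BasedFunctor.id 𝒳) p ≅ BasedFunctor.comp f g := Iso.refl p
  have h1 : AlgSt.IsQuasiCompactMor K₀ (FibCat.fpLift (BasedFunctor.id 𝒳) f ee) :=
    isQCMor_of_repWith hX hP (repWith_graph f ee hg)
  have h2 : AlgSt.IsQuasiCompactMor K₀ (FibCat.fpSnd p g) :=
    isQCMor_of_surjective (isAlgStack_fp' hY hX hZ g p) hP hY (f := fpSwap g p)
      (p := FibCat.fpFst g p) (q := FibCat.fpSnd p g) (Iso.refl _)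
      (points_map_bijective (fpSwap_isEquivOver g p)).2 (isQCMor_fpFst hX hZ hY g hfg)
  exact isQCMor_comp hX hP hY h1 h2

/-- Finitely many affines of a chart cover a quasi-compact stack. -/
lemma exists_affine_cover (hc : CompactSpace (AlgSt.Points 𝒳)) {A : Over S}
    (x : FibCat.overCat A ⥤ᵇ 𝒳) (ho : IsOpenMap (AlgSt.Points.ofChart x))
    (hs : Function.Surjective (AlgSt.Points.ofChart x)) :
    ∃ (A' : Over S) (c : A' ⟶ A), CompactSpace A'.left ∧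
      ∀ y : AlgSt.Points 𝒳, ∃ t, AlgSt.Points.ofChart x (c.left t) = y := by
  obtain ⟨s, hs'⟩ := isCompact_univ.elim_finite_subcover
    (fun W : A.left.affineOpens => AlgSt.Points.ofChart x '' (W.1 : Set A.left))
    (fun W => ho _ W.1.isOpen) (fun y _ => by
      obtain ⟨t, rfl⟩ := hs y
      obtain ⟨W, hW⟩ := TopologicalSpace.Opens.mem_iSup.1
        ((iSup_affineOpens_eq_top A.left).ge (Set.mem_univ t))
      exact Set.mem_iUnion.2 ⟨W, t, hW, rfl⟩)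
  let W : Fin s.card → A.left.affineOpens := fun i => (s.equivFin.symm i).1
  have : ∀ i, IsAffine (W i).1.toScheme := fun i => (W i).2
  let σ : (∐ fun i => (W i).1.toScheme) ⟶ A.left := Sigma.desc fun i => (W i).1.ι
  have : IsAffine (∐ fun i => (W i).1.toScheme) := inferInstance
  refine ⟨Over.mk (σ ≫ A.hom), Over.homMk σ rfl,
    inferInstanceAs (CompactSpace ↥(∐ fun i => (W i).1.toScheme)), fun y => ?_⟩
  obtain ⟨V, hV, t, ht, rfl⟩ := Set.mem_iUnion₂.1 (hs' (Set.mem_univ y))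
  let i := s.equivFin ⟨V, hV⟩
  have e : W i = V := congrArg Subtype.val (Equiv.symm_apply_apply _ _)
  have ht' : t ∈ (W i).1 := by rw [e]; exact ht
  refine ⟨Sigma.ι (fun i => (W i).1.toScheme) i ⟨t, ht'⟩, ?_⟩
  congr 1
  change σ (Sigma.ι (fun i => (W i).1.toScheme) i ⟨t, ht'⟩) = t
  rw [← Scheme.Hom.comp_apply, Sigma.ι_desc]
  rfl

lemma isQCMor_of_fppf (hX : AlgSt.IsAlgStack K₀ 𝒳) (hY : AlgSt.IsAlgStack K₀ 𝒴)
    (hZ : AlgSt.IsAlgStack K₀ 𝒵) {f : 𝒳 ⥤ᵇ 𝒴} {z : 𝒵 ⥤ᵇ 𝒴}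
    (hz₁ : AlgSt.LocQ (AlgSp.LocP @Flat) z)
    (hz₂ : AlgSt.LocQ (AlgSp.LocP @LocallyOfFinitePresentation) z) (hz₃ : AlgSt.IsSurjective z)
    (h : AlgSt.IsQuasiCompactMor K₀ (FibCat.fpFst z f)) : AlgSt.IsQuasiCompactMor K₀ f := by
  intro 𝒲 hW hWc g
  have hP := isAlgStack_fp' hW hZ hY g z
  obtain ⟨A, a, ha, has⟩ := hP.atlas
  let x := BasedFunctor.comp a (FibCat.fpFst g z)
  have hop : AlgSt.IsOpenMor (FibCat.fpFst g z) := isOpenMor_of_locQ hP hW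
    (locQ_baseChange smLocal_flat (baseStable_locP H12AlgSp.etLocal_flat) hZ hY hW g hz₁)
    (locQ_baseChange smLocal_lfp (baseStable_locP H12AlgSp.etLocal_lfp) hZ hY hW g hz₂)
  have hoa : IsOpenMap (AlgSt.Points.ofChart a) := isOpenMap_ofChart hP.isStack.1
    (repWith_locP_mono smooth_le_flat ha) (repWith_locP_mono smooth_le_lfp ha)
  have ho : IsOpenMap (AlgSt.Points.ofChart x) := fun O hO => by
    have e : AlgSt.Points.ofChart x '' O =
        AlgSt.Points.map (FibCat.fpFst g z) '' (AlgSt.Points.ofChart a '' O) := by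
      rw [Set.image_image]
      rfl
    rw [e]
    exact hop _ (hoa _ hO)
  have hsx : Function.Surjective (AlgSt.Points.ofChart x) := fun w => by
    obtain ⟨b, hb⟩ := hz₃ (AlgSt.Points.map g w)
    obtain ⟨v, rfl, -⟩ := exists_points_fp hW.isStack.1 hZ.isStack.1 hY.isStack.1
      (F := g) (G := z) hb.symm
    obtain ⟨s, rfl⟩ := ofChart_surjective hP.isStack.1 has v
    exact ⟨s, rfl⟩
  obtain ⟨A', c, hc, hcov⟩ := exists_affine_cover (compactSpace_points hW hWc) x ho hsx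
  have hA := isAlgStack_overCat A'
  let u := BasedFunctor.comp (AlgSt.overMap c) x
  let m := BasedFunctor.comp (BasedFunctor.comp (AlgSt.overMap c) a) (FibCat.fpSnd g z)
  let κ : BasedFunctor.comp u g ≅ BasedFunctor.comp m z :=
    (Stk.restr (BasedFunctor.comp (AlgSt.overMap c) a) 𝒴).mapIso (FibCat.fpIso g z)
  let M : FibCat.fp (BasedFunctor.comp m z) f ⥤ᵇ FibCat.fp (BasedFunctor.comp u g) f :=
    fpMap (F := BasedFunctor.comp u g) (G := f) (BasedFunctor.id (FibCat.overCat A'))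
      (BasedFunctor.id 𝒳) (BasedFunctor.id 𝒴) κ.symm
      (Iso.refl (BasedFunctor.comp f (BasedFunctor.id 𝒴)))
  have hM : FibCat.IsEquivOver M :=
    fpMap_isEquivOver _ _ _ _ _ (essSurjOver_id _) (essSurjOver_id _)
  obtain ⟨N, ⟨i⟩, ⟨i'⟩⟩ := pasteBase_isEquivOver g f u
  have hgf := isAlgStack_fp' hW hX hY g f
  refine isQuasiCompact_of_surjective
    (isAlgStack_fp' hA (isAlgStack_fp' hZ hX hY z f) hZ m (FibCat.fpFst z f)) hgf
    (h _ hA (isQuasiCompact_overCat A') m)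
    (BasedFunctor.comp (BasedFunctor.comp (BasedFunctor.comp (pasteBase z f m) M) N)
      (FibCat.fpSnd u (FibCat.fpFst g f))) fun b => ?_
  obtain ⟨t, ht⟩ := hcov (AlgSt.Points.map (FibCat.fpFst g f) b)
  have ht' : AlgSt.Points.map u (AlgSt.Points.ofChart (BasedFunctor.id (FibCat.overCat A')) t) =
      AlgSt.Points.map (FibCat.fpFst g f) b := by
    rw [← ofChart_eq_map, ofChart_comp_overMap]
    exact ht
  obtain ⟨v, -, rfl⟩ := exists_points_fp hA.isStack.1 hgf.isStack.1 hW.isStack.1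
    (F := u) (G := FibCat.fpFst g f) ht'
  obtain ⟨w, rfl⟩ := (points_map_bijective (isEquivOver_comp (isEquivOver_comp
    (pasteBase_isEquivOver z f m) hM) ⟨pasteBase g f u, ⟨i'⟩, ⟨i⟩⟩)).2 v
  exact ⟨w, points_map_comp _ _ w⟩

lemma isQuasiSeparatedMor_iff (hX : AlgSt.IsAlgStack K₀ 𝒳) (hY : AlgSt.IsAlgStack K₀ 𝒴)
    (f : 𝒳 ⥤ᵇ 𝒴) :
    AlgSt.IsQuasiSeparatedMor f ↔
      AlgSt.RepByAlgSpWith AlgSp.IsQuasiCompactMor (FibCat.diag f) ∧
        AlgSt.RepByAlgSpWith AlgSp.IsQuasiCompactMor (FibCat.diag (FibCat.diag f)) := by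
  have hff := isAlgStack_fp' hX hX hY f f
  have hr := rep1_diag_of_algStack hX hY f
  have hsi : SourceIsoInv (S := S) (AlgSp.RepWith @QuasiCompact) :=
    sourceIsoInv_of_respectsIso _
  have hqs : SourceIsoInv (S := S) AlgSp.IsQuasiSeparatedMor :=
    BaseStable.sourceIsoInv fun _ _ _ _ _ _ _ _ _ _ _ _ sq h =>
      isQuasiSeparatedMor_of_isPullback sq h
  have key : AlgSt.RepByAlgSpWith AlgSp.IsQuasiSeparatedMor (FibCat.diag f) ↔
      AlgSt.RepByAlgSpWith AlgSp.IsQuasiCompactMor (FibCat.diag (FibCat.diag f)) :=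
    (repWith_diag_iff_diagonal @QuasiCompact hr).symm.trans
      ⟨repWith_diag_transfer hsi sourceIsoInv_qc hX hff hr fun _ _ v _ _ h =>
          (isQuasiCompactMor_yon_iff v).2 ((AlgSp.repWith_yon_map_iff _ v).1 h),
        repWith_diag_transfer sourceIsoInv_qc hsi hX hff hr fun _ _ v _ _ h =>
          (AlgSp.repWith_yon_map_iff _ v).2 ((isQuasiCompactMor_yon_iff v).1 h)⟩
  rw [← key]
  constructor
  · exact fun h => ⟨repWith_mono (fun _ _ _ hh => hh.1) h, repWith_mono (fun _ _ _ hh => hh.2) h⟩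
  · rintro ⟨h1, h2⟩ U z
    obtain ⟨G, e, he, hq⟩ := h1 U z
    obtain ⟨k⟩ := spMapOfOver_eq (BasedFunctor.comp e (FibCat.fpFst z (FibCat.diag f)))
    exact ⟨G, e, he, hq, prop_of_repData hqs (h2 U z) he k⟩

end Groth.Agent.H14AlgSt
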