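import Groth.Agent.H14AlgSt.EtaleCriterion
import Groth.Agent.H14AlgSt.SourceDescent
import Groth.Agent.H14AlgSt.Props

/-!
# Étale atlases of stacks with unramified diagonal
-/

set_option autoImplicit false
set_option backward.isDefEq.respectTransparency false
set_option backward.isDefEq.respectTransparency.types false

universe u

open CategoryTheory CategoryTheory.Functor Opposite AlgebraicGeometry CategoryTheory.Limits

noncomputable section

namespace Groth.Agent.H14AlgSt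

open H14Fib H14Stk

variable {S : Scheme.{u}} {𝒳 𝒴 : AlgSt.Cat S} {A U V : Over S}

local notation "K₀" => Scheme.fppfPrecoverage

/-- Slices whose chart covers the new source. -/
lemma exists_slice_surjective {S U A : Scheme.{u}} (π : U ⟶ S) (σ τ : A ⟶ U) (hw : σ ≫ π = τ ≫ π)
    [Smooth σ] [Smooth τ] [FormallyUnramified (pullback.lift σ τ hw)] (r : A) :
    ∃ (U' T : Scheme.{u}) (c : U' ⟶ U) (j : T ⟶ pullback τ c), IsOpenImmersion j ∧
      Etale (j ≫ pullback.fst τ c ≫ σ) ∧ Surjective (j ≫ pullback.snd τ c) ∧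
      ∃ t, (j ≫ pullback.fst τ c ≫ σ) t = σ r := by
  obtain ⟨U', T, c, j, hj, het, t, ht⟩ := exists_slice π σ τ hw r
  let ρ := j ≫ pullback.snd τ c
  let W : U'.Opens := ⟨Set.range ρ, ρ.isOpenMap.isOpen_range⟩
  let ρ₀ : T ⟶ W.toScheme := IsOpenImmersion.lift W.ι ρ W.range_ι.ge
  have hρ₀ : ρ₀ ≫ W.ι = ρ := IsOpenImmersion.lift_fac _ _ _
  let g : pullback τ (W.ι ≫ c) ⟶ pullback τ c :=
    pullback.lift (pullback.fst _ _) (pullback.snd _ _ ≫ W.ι)
      (by rw [pullback.condition, Category.assoc])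
  have sq : IsPullback g (pullback.snd τ (W.ι ≫ c)) (pullback.snd τ c) W.ι :=
    IsPullback.of_right (h₁₂ := pullback.fst τ c) (h₂₂ := c)
      (by rw [pullback.lift_fst]; exact IsPullback.of_hasPullback _ _)
      (pullback.lift_snd _ _ _) (IsPullback.of_hasPullback τ c)
  have hg : IsOpenImmersion g := MorphismProperty.of_isPullback sq.flip inferInstance
  let j' : T ⟶ pullback τ (W.ι ≫ c) := pullback.lift (j ≫ pullback.fst _ _) ρ₀
    (by rw [Category.assoc, pullback.condition, reassoc_of% hρ₀]; simp [ρ])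
  have e : j' ≫ g = j := by
    apply pullback.hom_ext <;> simp [j', g, hρ₀, ρ]
  have : IsOpenImmersion (j' ≫ g) := by rwa [e]
  have e₁ : j' ≫ pullback.fst _ _ ≫ σ = j ≫ pullback.fst _ _ ≫ σ := by
    simp [j']
  refine ⟨W.toScheme, T, W.ι ≫ c, j', IsOpenImmersion.of_comp j' g, by rwa [e₁], ?_, t,
    by rw [e₁, ht]⟩
  rw [show j' ≫ pullback.snd τ (W.ι ≫ c) = ρ₀ by simp [j']]
  refine ⟨fun w => ?_⟩
  obtain ⟨s, hs⟩ := W.range_ι.le ⟨w, rfl⟩
  exact ⟨s, W.ι.isOpenEmbedding.injective (by rw [← Scheme.Hom.comp_apply, hρ₀]; exact hs)⟩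

/-- Smoothness descends along smooth surjective morphisms of the source. -/
lemma repWith_smooth_of_comp_cover (h𝒳 : FibCat.IsFibGrpd 𝒳.p) {𝒵 : AlgSt.Cat S}
    (h𝒴 : FibCat.IsFibGrpd 𝒴.p) {x : 𝒳 ⥤ᵇ 𝒴} {y : 𝒴 ⥤ᵇ 𝒵} (hy : AlgSt.RepByAlgSp1 y)
    (hx₁ : AlgSt.RepByAlgSpWith (AlgSp.LocP @Smooth) x)
    (hx₂ : AlgSt.RepByAlgSpWith AlgSp.IsSurjectiveMor x)
    (h : AlgSt.RepByAlgSpWith (AlgSp.LocP @Smooth) (BasedFunctor.comp x y)) :
    AlgSt.RepByAlgSpWith (AlgSp.LocP @Smooth) y :=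
  repWith_of_comp_cover (Q := AlgSp.LocP @Smooth ⊓ AlgSp.IsSurjectiveMor) (sourceIsoInv_locP _)
    (sourceIsoInv_inf (sourceIsoInv_locP _) sourceIsoInv_surjective)
    (testOnSchemes_inf (testOnSchemes_locP _) testOnSchemes_surjective)
    (fun A _ _ hA hB hC τ π hτ hh => (H13AlgSp.isLocalOnSource_smooth (fun _ : PUnit.{u+1} => A)
      (fun _ => τ) hB (fun _ => hA) ⟨fun _ => hτ.1, fun b => ⟨PUnit.unit, hτ.2 b⟩⟩ π hC).2
        fun _ => hh)
    h𝒳 h𝒴 hy (repWith_inf sourceIsoInv_surjective hx₁ hx₂) h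

lemma overCat_hom_ext {U T : Over S} {a b : (FibCat.overCat U).obj} (φ ψ : a ⟶ b)
    (h : (FibCat.overCat U).p.IsHomLift (𝟙 T) φ)
    (h' : (FibCat.overCat U).p.IsHomLift (𝟙 T) ψ) : φ = ψ :=
  Over.OverMorphism.ext ((IsHomLift.fac' (FibCat.overCat U).p (𝟙 T) φ).trans
    (IsHomLift.fac' (FibCat.overCat U).p (𝟙 T) ψ).symm)

/-- The pullback along the identity. -/
def overMapIdIso (T : Over S) :
    AlgSt.overMap (𝟙 T) ≅ BasedFunctor.id (FibCat.overCat T) :=
  mkIso (fun s => Over.isoMk (Iso.refl _) (by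
      simp only [Iso.refl_hom, Category.id_comp]; exact (Category.comp_id s.hom).symm))
    (fun {_ _} φ => Over.OverMorphism.ext ((Category.comp_id _).trans (Category.id_comp _).symm))
    (fun s => IsHomLift.of_fac' _ _ _ rfl rfl (by simp; rfl))

/-- Surjective morphisms of schemes give surjective pullback functors. -/
lemma repWith_overMap_surj {A U : Over S} (c : A ⟶ U) (hc : Surjective c.left) :
    AlgSt.RepByAlgSpWith AlgSp.IsSurjectiveMor (AlgSt.overMap c) :=
  repWith_surjective_of_points (fibGrpd_overCat _) (fibGrpd_overCat _)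
    (repByAlgSp1_of_rep (repByAlgSp_overCat A) (repByAlgSp_overCat U) _) fun w => by
      have ht := ofChart_chartPoint w
      generalize chartPoint w = t at ht
      obtain ⟨s, rfl⟩ := hc.surj t
      exact ⟨_, (ofChart_eq_map (AlgSt.overMap c) s).symm.trans
        ((ofChart_comp_overMap (BasedFunctor.id (FibCat.overCat U)) c s).trans ht)⟩

/-- An étale chart through every point of a smooth chart. -/
lemma exists_etale_chart_at {K : Precoverage Scheme.{u}} (hX : AlgSt.IsAlgStack K 𝒳)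
    (hΔ : AlgSt.RepByAlgSpWith (AlgSp.LocP (@LocallyOfFiniteType ⊓ @FormallyUnramified))
      (FibCat.diag (FibCat.toSelf 𝒳)))
    {x : FibCat.overCat U ⥤ᵇ 𝒳} (hx : AlgSt.RepByAlgSpWith (AlgSp.LocP @Smooth) x)
    {a : FibCat.overCat A ⥤ᵇ FibCat.fp x x}
    (ha : AlgSt.RepByAlgSpWith (AlgSp.LocP @Etale) a) {σ τ : A ⟶ U}
    (j₁ : BasedFunctor.comp a (FibCat.fpFst x x) ≅ AlgSt.overMap σ)
    (j₂ : BasedFunctor.comp a (FibCat.fpSnd x x) ≅ AlgSt.overMap τ) [Smooth σ.left] [Smooth τ.left]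
    (r : A.left) :
    ∃ (W : Over S) (c : W ⟶ U),
      AlgSt.RepByAlgSpWith (AlgSp.LocP @Etale) (BasedFunctor.comp (AlgSt.overMap c) x) ∧
      AlgSt.Points.ofChart x (σ.left r) ∈
        Set.range (AlgSt.Points.ofChart (BasedFunctor.comp (AlgSt.overMap c) x)) := by
  have : FormallyUnramified (pullback.lift σ.left τ.left ((Over.w σ).trans (Over.w τ).symm)) := by
    have := formallyUnramified_pair hX hΔ ha j₁ j₂
    rw [show pullback.lift σ.left τ.left _ =
      pullback.lift τ.left σ.left ((Over.w τ).trans (Over.w σ).symm) ≫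
        (pullbackSymmetry U.hom U.hom).hom by apply pullback.hom_ext <;> simp]
    exact (MorphismProperty.cancel_right_of_respectsIso @FormallyUnramified _ _).2 this
  obtain ⟨U₁, T₁, c₁, j₁', hj, het, hsurj, t, ht⟩ :=
    exists_slice_surjective U.hom σ.left τ.left ((Over.w σ).trans (Over.w τ).symm) r
  let U' : Over S := Over.mk (c₁ ≫ U.hom)
  let c : U' ⟶ U := Over.homMk c₁ rfl
  let T : Over S := Over.mk (j₁' ≫ pullback.fst τ.left c₁ ≫ A.hom)
  let tA : T ⟶ A := Over.homMk (j₁' ≫ pullback.fst τ.left c₁) (Category.assoc _ _ _)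
  let ρ : T ⟶ U' := Over.homMk (j₁' ≫ pullback.snd τ.left c₁) (by
    simp only [U', T, Over.mk_hom, Category.assoc, ← pullback.condition_assoc, Over.w τ])
  let jT : T ⟶ pullback c τ := pullback.lift ρ tA (Over.OverMorphism.ext (by
    simp [ρ, tA, c, pullback.condition]))
  have : IsOpenImmersion jT.left := by
    have sqT : IsPullback (pullback.snd c τ).left (pullback.fst c τ).left τ.left c₁ :=
      (((IsPullback.of_hasPullback c τ).map (Over.forget S)).flip)
    have : jT.left ≫ sqT.isoPullback.hom = j₁' := by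
      apply pullback.hom_ext
      · simp [← Over.comp_left, jT, tA]
      · simp [← Over.comp_left, jT, ρ]
    rw [show jT.left = j₁' ≫ sqT.isoPullback.inv by rw [← this]; simp]
    infer_instance
  obtain ⟨b, hb, ⟨k₁⟩, ⟨k₂⟩⟩ := exists_pullback_chart a (FibCat.fpSnd x x) τ j₂ c
  let x' := BasedFunctor.comp (AlgSt.overMap c) x
  let E := BasedFunctor.comp (fpSwap (AlgSt.overMap c) (FibCat.fpSnd x x))
    (pasteComp x x (AlgSt.overMap c))
  have hE : FibCat.IsEquivOver E :=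
    isEquivOver_comp (fpSwap_isEquivOver _ _) (pasteComp_isEquivOver _ _ _)
  let B : FibCat.overCat (pullback c τ) ⥤ᵇ FibCat.fp x x' := BasedFunctor.comp b E
  have hB : AlgSt.RepByAlgSpWith (AlgSp.LocP @Etale) B := (repWith_comp_equiv_iff hE).2 (hb ha)
  let bT := BasedFunctor.comp (AlgSt.overMap jT) B
  have hF := fp_fibGrpd (fibGrpd_overCat U) (fibGrpd_overCat U') hX.isStack.1 (F := x) (G := x')
  have hbT : AlgSt.RepByAlgSpWith (AlgSp.LocP @Etale) bT :=
    repWith_locP_comp H12AlgSp.etLocal_etale (fibGrpd_overCat _) (fibGrpd_overCat _)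
      (repWith_overMap H12AlgSp.etLocal_etale jT inferInstance) hB
  let σT : T ⟶ U := tA ≫ σ
  have : Etale σT.left := by rwa [show σT.left = j₁' ≫ pullback.fst τ.left c₁ ≫ σ.left from
    Category.assoc _ _ _]
  have : Smooth ρ.left := inferInstanceAs (Smooth (j₁' ≫ pullback.snd τ.left c₁))
  let i₁ : BasedFunctor.comp bT (FibCat.fpFst x x') ≅ AlgSt.overMap σT :=
    (post (FibCat.overCat T) (FibCat.fpFst x x)).mapIso
      ((Stk.restr (AlgSt.overMap jT) _).mapIso k₂ ≪≫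
        (post (FibCat.overCat T) a).mapIso (overMapCompIso jT (pullback.snd c τ) ≪≫
          eqToIso (congrArg AlgSt.overMap (pullback.lift_snd _ _ _ : jT ≫ pullback.snd c τ = tA)))) ≪≫
      (Stk.restr (AlgSt.overMap tA) _).mapIso j₁ ≪≫ overMapCompIso tA σ
  let i₂ : BasedFunctor.comp bT (FibCat.fpSnd x x') ≅ AlgSt.overMap ρ :=
    (Stk.restr (AlgSt.overMap jT) _).mapIso k₁ ≪≫ overMapCompIso jT (pullback.fst c τ) ≪≫
      eqToIso (congrArg AlgSt.overMap (pullback.lift_fst _ _ _ : jT ≫ pullback.fst c τ = ρ))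
  let α : BasedFunctor.comp (AlgSt.overMap σT) x ≅ BasedFunctor.comp (AlgSt.overMap ρ) x' :=
    ((post (FibCat.overCat T) x).mapIso i₁).symm ≪≫
      (Stk.restr bT 𝒳).mapIso (FibCat.fpIso x x') ≪≫ (post (FibCat.overCat T) x').mapIso i₂
  have hρs : AlgSt.RepByAlgSpWith AlgSp.IsSurjectiveMor (AlgSt.overMap ρ) :=
    repWith_overMap_surj ρ hsurj
  have hρ := repWith_overMap_smooth ρ
  have hx' : AlgSt.RepByAlgSpWith (AlgSp.LocP @Smooth) x' :=
    repWith_smooth_of_comp_cover (fibGrpd_overCat _) (fibGrpd_overCat _) (rep1_chart hX x') hρ hρs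
      (repWith_of_iso α (repWith_locP_comp H12AlgSp.etLocal_smooth (fibGrpd_overCat _)
        (fibGrpd_overCat _) (repWith_overMap_smooth σT) hx))
  obtain ⟨m, hm, ⟨m₁⟩, ⟨m₂⟩⟩ := exists_pair_chart H12AlgSp.etLocal_etale hF hbT i₁
  let q := FibCat.fpFst x x'
  let Δ := pullback.diagonal σT
  have : IsOpenImmersion Δ.left := by
    let e := ((IsPullback.of_hasPullback σT σT).map (Over.forget S)).isoPullback
    have : Δ.left ≫ e.hom = pullback.diagonal σT.left := by
      apply pullback.hom_ext <;> simp [e, Δ, ← Over.comp_left]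
    rw [show Δ.left = pullback.diagonal σT.left ≫ e.inv by rw [← this]; simp]
    infer_instance
  let n₁ : BasedFunctor.comp (BasedFunctor.comp (AlgSt.overMap Δ) m) (FibCat.fpFst q q) ≅ bT :=
    (Stk.restr (AlgSt.overMap Δ) _).mapIso m₁ ≪≫
      (post (FibCat.overCat T) bT).mapIso (overMapCompIso Δ _ ≪≫
        eqToIso (congrArg AlgSt.overMap (pullback.diagonal_fst σT)) ≪≫ overMapIdIso T)
  let n₂ : BasedFunctor.comp (BasedFunctor.comp (AlgSt.overMap Δ) m) (FibCat.fpSnd q q) ≅ bT :=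
    (Stk.restr (AlgSt.overMap Δ) _).mapIso m₂ ≪≫
      (post (FibCat.overCat T) bT).mapIso (overMapCompIso Δ _ ≪≫
        eqToIso (congrArg AlgSt.overMap (pullback.diagonal_snd σT)) ≪≫ overMapIdIso T)
  let Q₁ := BasedFunctor.comp (AlgSt.overMap Δ) m
  let Q₀ := BasedFunctor.comp bT (FibCat.diag q)
  have hw : ∀ s, q.map (app n₁.hom s) ≫ (Q₀.obj s).obj.iso.hom =
      (Q₁.obj s).obj.iso.hom ≫ q.map (app n₂.hom s) := fun s => by
    have h1 : (FibCat.overCat U).p.IsHomLift (𝟙 s.left) (q.map (app n₁.hom s)) :=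
      @BasedFunctor.preserves_isHomLift _ _ _ _ q _ _ _ _ (𝟙 s.left) _
        (BasedNatTrans.isHomLift n₁.hom rfl)
    have h2 : (FibCat.overCat U).p.IsHomLift (𝟙 s.left) (q.map (app n₂.hom s)) :=
      @BasedFunctor.preserves_isHomLift _ _ _ _ q _ _ _ _ (𝟙 s.left) _
        (BasedNatTrans.isHomLift n₂.hom rfl)
    exact overCat_hom_ext _ _ (homLift_id_comp h1 (fp_iso_isHomLift (Q₀.obj s) (Q₀.w_obj s)))
      (homLift_id_comp (fp_iso_isHomLift (Q₁.obj s) (Q₁.w_obj s)) h2)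
  have n : Q₁ ≅ Q₀ :=
    mkIso (fun s => fpIsoMk (appIso n₁ s) (appIso n₂ s) (hw s))
      (fun {s s'} φ => fp_hom_ext (n₁.hom.toNatTrans.naturality φ) (n₂.hom.toNatTrans.naturality φ))
      (fun s => (fp_isHomLift_iff _ _).2 (appIso_lift n₁ rfl))
  have hQ₀ : AlgSt.RepByAlgSpWith (AlgSp.LocP @Smooth) Q₀ :=
    repWith_of_iso n (repWith_locP_comp H12AlgSp.etLocal_smooth (fibGrpd_overCat _)
      (fibGrpd_overCat _) (repWith_overMap_smooth Δ)
      (repWith_locP_mono (fun _ _ g (_ : Etale g) => (inferInstance : Smooth g)) hm))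
  let d : BasedFunctor.comp Q₀ (basePair x x') ≅
      BasedFunctor.comp (AlgSt.overMap ρ) (FibCat.diag x') :=
    (Stk.restr bT _).mapIso ((Stk.restr (diagBase x x') _).mapIso
      (FibCat.fpIso (basePair x x') (FibCat.diag x'))) ≪≫
      (post (FibCat.overCat T) (FibCat.diag x')).mapIso i₂
  have hFF := fp_fibGrpd hF hF (fibGrpd_overCat U) (F := q) (G := q)
  have hdx : AlgSt.RepByAlgSpWith (AlgSp.LocP @Smooth) (FibCat.diag x') :=
    repWith_smooth_of_comp_cover (fibGrpd_overCat _) (fibGrpd_overCat _)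
      (repByAlgSp1_of_rep (repByAlgSp_overCat U')
        (repByAlgSp_fp (fibGrpd_overCat _) hX.isStack.1 (rep1_chart hX x') x' (repByAlgSp_overCat U'))
        _) hρ hρs
      (repWith_of_iso d (repWith_locP_comp H12AlgSp.etLocal_smooth (fibGrpd_overCat _) hFF hQ₀
        (repWith_basePair x x' hx)))
  refine ⟨U', c, repWith_etale_of_smooth_diag hx' hdx, ρ.left t, ?_⟩
  rw [← ofChart_comp_overMap x' ρ t, ← ofChart_iso α t, ofChart_comp_overMap]
  exact congrArg _ ht

/-- Etaleness descends along étale surjective morphisms of the source. -/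
lemma repWith_etale_of_comp_cover (h𝒳 : FibCat.IsFibGrpd 𝒳.p) {𝒵 : AlgSt.Cat S}
    (h𝒴 : FibCat.IsFibGrpd 𝒴.p) {x : 𝒳 ⥤ᵇ 𝒴} {y : 𝒴 ⥤ᵇ 𝒵} (hy : AlgSt.RepByAlgSp1 y)
    (hx₁ : AlgSt.RepByAlgSpWith (AlgSp.LocP @Etale) x)
    (hx₂ : AlgSt.RepByAlgSpWith AlgSp.IsSurjectiveMor x)
    (h : AlgSt.RepByAlgSpWith (AlgSp.LocP @Etale) (BasedFunctor.comp x y)) :
    AlgSt.RepByAlgSpWith (AlgSp.LocP @Etale) y :=
  repWith_of_comp_cover (Q := AlgSp.LocP @Etale ⊓ AlgSp.IsSurjectiveMor) (sourceIsoInv_locP _)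
    (sourceIsoInv_inf (sourceIsoInv_locP _) sourceIsoInv_surjective)
    (testOnSchemes_inf (testOnSchemes_locP _) testOnSchemes_surjective)
    (fun A _ _ hA hB hC τ π hτ hh => (H13AlgSp.isLocalOnSource_etale (P := @Etale)
      (fun k h => H12AlgSp.EtaleSource.of_etale_covering @Etale H12AlgSp.EtaleSource.descends_etale k h)
      (fun _ : PUnit.{u+1} => A) (fun _ => τ) hB (fun _ => hA)
      ⟨fun _ => H12AlgSp.isEtaleMor_of_locP_etale hB hτ.1, fun b => ⟨PUnit.unit, hτ.2 b⟩⟩ π hC).2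
        fun _ => hh)
    h𝒳 h𝒴 hy (repWith_inf sourceIsoInv_surjective hx₁ hx₂) h

/-- A chart étale on the members of an open cover is étale. -/
lemma repWith_etale_of_openCover {K : Precoverage Scheme.{u}} (hX : AlgSt.IsAlgStack K 𝒳) {κ : Type u} {W : κ → Over S}
    (ι : ∀ k, W k ⟶ U) [∀ k, IsOpenImmersion (ι k).left]
    (hι : ∀ t : U.left, ∃ k, t ∈ Set.range (ι k).left) (x : FibCat.overCat U ⥤ᵇ 𝒳)
    (h : ∀ k, AlgSt.RepByAlgSpWith (AlgSp.LocP @Etale)
      (BasedFunctor.comp (AlgSt.overMap (ι k)) x)) :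
    AlgSt.RepByAlgSpWith (AlgSp.LocP @Etale) x := by
  intro V y
  obtain ⟨G, e, he⟩ := rep1_chart hX x V y
  refine ⟨G, e, he, ?_⟩
  obtain ⟨A, p, hp, hps⟩ := G.property.atlas
  let a : FibCat.overCat A ⥤ᵇ FibCat.fp y x :=
    BasedFunctor.comp (BasedFunctor.comp (AlgSt.ofOverCat A) (AlgSt.ofSpMap p)) e
  have ha : AlgSt.RepByAlgSpWith (AlgSp.LocP @Etale) a :=
    (repWith_comp_equiv_iff he).2 ((repWith_equiv_comp_iff (ofOverCat_isEquivOver A)).1
      (repWith_locP_of_repWith H12AlgSp.etLocal_etale p hp))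
  have has : AlgSt.RepByAlgSpWith AlgSp.IsSurjectiveMor a :=
    (repWith_comp_equiv_iff he).2 ((repWith_equiv_comp_iff (ofOverCat_isEquivOver A)).1
      (repWith_surjective_of_repWith p hps))
  obtain ⟨φ, ⟨jφ⟩⟩ := exists_overMap_iso (BasedFunctor.comp a (FibCat.fpSnd y x))
  obtain ⟨g, ⟨jg⟩⟩ := exists_overMap_iso (BasedFunctor.comp a (FibCat.fpFst y x))
  have hk : ∀ k, Etale ((pullback.snd (ι k) φ).left ≫ g.left) := fun k => by
    obtain ⟨b, hb, -, ⟨k₂⟩⟩ := exists_pullback_chart a (FibCat.fpSnd y x) φ jφ (ι k)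
    let E := BasedFunctor.comp (fpSwap (AlgSt.overMap (ι k)) (FibCat.fpSnd y x))
      (pasteComp y x (AlgSt.overMap (ι k)))
    have hE : FibCat.IsEquivOver E :=
      isEquivOver_comp (fpSwap_isEquivOver _ _) (pasteComp_isEquivOver _ _ _)
    let x' := BasedFunctor.comp (AlgSt.overMap (ι k)) x
    have hq := repWith_locP_comp H12AlgSp.etLocal_etale (fibGrpd_overCat _)
      (fp_fibGrpd (fibGrpd_overCat V) (fibGrpd_overCat (W k)) hX.isStack.1)
      ((repWith_comp_equiv_iff hE).2 (hb ha)) (repWith_fpFst y (h k))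
    let i : BasedFunctor.comp (BasedFunctor.comp b E) (FibCat.fpFst y x') ≅
        AlgSt.overMap (pullback.snd (ι k) φ ≫ g) :=
      (post _ (FibCat.fpFst y x)).mapIso k₂ ≪≫
        (Stk.restr (AlgSt.overMap (pullback.snd (ι k) φ)) _).mapIso jg ≪≫ overMapCompIso _ g
    have hq' := (repWith_equiv_comp_iff (toOverCat_isEquivOver _)).1 (repWith_of_iso i hq)
    have hd := prop_of_repWith_spMap (sourceIsoInv_locP _)
      (F := ⟨_, AlgSp.IsAlgSpace.yon_obj (pullback (ι k) φ)⟩) hq'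
    rw [spMapOfOver_overMap, spMapOfOver_toOverCat, Category.id_comp] at hd
    exact (locP_yon_iff H12AlgSp.etLocal_etale _).1 hd
  have hg : Etale g.left := by
    have ho : ∀ k, IsOpenImmersion (pullback.snd (ι k) φ).left := fun k =>
      MorphismProperty.of_isPullback ((IsPullback.of_hasPullback (ι k) φ).map (Over.forget S))
        (inferInstance : IsOpenImmersion (ι k).left)
    refine H12AlgSp.EtaleSource.of_etale_covering @Etale H12AlgSp.EtaleSource.descends_etale g.left fun t => ?_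
    obtain ⟨k, s, hs⟩ := hι (φ.left t)
    have := ho k
    obtain ⟨t', -, ht'⟩ :=
      Scheme.exists_preimage_of_isPullback
        ((IsPullback.of_hasPullback (ι k) φ).map (Over.forget S)) s t hs
    exact ⟨_, _, inferInstanceAs (Etale (pullback.snd (ι k) φ).left), ⟨t', ht'⟩, hk k⟩
  let Φ := BasedFunctor.comp e (FibCat.fpFst y x)
  have hq : AlgSt.RepByAlgSpWith (AlgSp.LocP @Etale) (FibCat.fpFst y x) :=
    repWith_etale_of_comp_cover (fibGrpd_overCat A)
      (fp_fibGrpd (fibGrpd_overCat V) (fibGrpd_overCat U) hX.isStack.1)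
      (repByAlgSp1_of_rep ⟨G, e, he⟩ (repByAlgSp_overCat V) _) ha has
      (repWith_of_iso jg.symm (repWith_overMap H12AlgSp.etLocal_etale g hg))
  exact prop_of_repWith_spMap (sourceIsoInv_locP _) ((repWith_equiv_comp_iff he).1 hq)

/-- A stack with unramified diagonal has an étale atlas. -/
theorem hasAtlas_etale {K : Precoverage Scheme.{u}} (hX : AlgSt.IsAlgStack K 𝒳)
    (hΔ : AlgSt.RepByAlgSpWith (AlgSp.LocP (@LocallyOfFiniteType ⊓ @FormallyUnramified))
      (FibCat.diag (FibCat.toSelf 𝒳))) :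
    AlgSt.HasAtlas (AlgSp.LocP @Etale) 𝒳 := by
  obtain ⟨U, x, hx, hxs⟩ := hX.atlas
  obtain ⟨A, a, ha, has⟩ := exists_etale_square_atlas (rep1_chart hX x)
  obtain ⟨σ, ⟨j₁⟩⟩ := exists_overMap_iso (BasedFunctor.comp a (FibCat.fpFst x x))
  obtain ⟨τ, ⟨j₂⟩⟩ := exists_overMap_iso (BasedFunctor.comp a (FibCat.fpSnd x x))
  have hF := fp_fibGrpd (fibGrpd_overCat U) (fibGrpd_overCat U) hX.isStack.1 (F := x) (G := x)
  have key : ∀ {φ : A ⟶ U} (Φ : FibCat.overCat A ⥤ᵇ FibCat.overCat U) (_ : Φ ≅ AlgSt.overMap φ),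
      AlgSt.RepByAlgSpWith (AlgSp.LocP @Smooth) Φ → Smooth φ.left := fun {φ} Φ j h => by
    have hd := prop_of_repWith_spMap (sourceIsoInv_locP _)
      (F := ⟨_, AlgSp.IsAlgSpace.yon_obj A⟩)
      ((repWith_equiv_comp_iff (toOverCat_isEquivOver A)).1 (repWith_of_iso j h))
    rw [spMapOfOver_overMap, spMapOfOver_toOverCat, Category.id_comp] at hd
    exact (locP_yon_iff H12AlgSp.etLocal_smooth φ).1 hd
  have ha' : AlgSt.RepByAlgSpWith (AlgSp.LocP @Smooth) a :=
    repWith_locP_mono (fun _ _ g (_ : Etale g) => (inferInstance : Smooth g)) ha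
  have : Smooth σ.left := key _ j₁ (repWith_locP_comp H12AlgSp.etLocal_smooth (fibGrpd_overCat A)
    hF ha' (repWith_fpFst x hx))
  have : Smooth τ.left := key _ j₂ (repWith_locP_comp H12AlgSp.etLocal_smooth (fibGrpd_overCat A)
    hF ha' (repWith_fpSnd x hx))
  have := fun r => exists_etale_chart_at hX hΔ hx ha j₁ j₂ r
  choose W c hc hcr using this
  let U₁ : Over S := Over.mk (Sigma.desc fun r => (W r).hom)
  let ι : ∀ r, W r ⟶ U₁ := fun r =>
    Over.homMk (Sigma.ι (fun r => (W r).left) r) (Sigma.ι_desc _ _)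
  have : ∀ r, IsOpenImmersion (ι r).left := fun r =>
    inferInstanceAs (IsOpenImmersion (Sigma.ι (fun r => (W r).left) r))
  let d : U₁ ⟶ U := Over.homMk (Sigma.desc fun r => (c r).left) (Sigma.hom_ext _ _ fun r => by
    simp [U₁])
  have hd : ∀ r, ι r ≫ d = c r := fun r => Over.OverMorphism.ext (Sigma.ι_desc _ _)
  have hcov : ∀ t : U₁.left, ∃ r, t ∈ Set.range (ι r).left := fun t => by
    obtain ⟨⟨r, v⟩, hv⟩ := (sigmaMk fun r => (W r).left).surjective t
    exact ⟨r, v, (sigmaMk_mk (fun r => (W r).left) r v).symm.trans hv⟩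
  let w := BasedFunctor.comp (AlgSt.overMap d) x
  have hιw : ∀ r, BasedFunctor.comp (AlgSt.overMap (ι r)) w ≅
      BasedFunctor.comp (AlgSt.overMap (c r)) x := fun r =>
    (post _ x).mapIso (overMapCompIso (ι r) d ≪≫ eqToIso (congrArg AlgSt.overMap (hd r)))
  have hw : AlgSt.RepByAlgSpWith (AlgSp.LocP @Etale) w :=
    repWith_etale_of_openCover hX ι hcov w fun r => repWith_of_iso (hιw r).symm (hc r)
  refine ⟨U₁, w, hw, repWith_surjective_of_points (fibGrpd_overCat U₁) hX.isStack.1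
    (repByAlgSp1_of_with hw) fun q => ?_⟩
  obtain ⟨t, rfl⟩ := ofChart_surjective hX.isStack.1 hxs q
  obtain ⟨v, hv⟩ : ∃ r : A.left, σ.left r = t := by
    have hsurj : AlgSt.RepByAlgSpWith AlgSp.IsSurjectiveMor (BasedFunctor.comp a
        (FibCat.fpFst x x)) := repWith_surjective_comp (fibGrpd_overCat A) hF has (repWith_fpFst x hxs)
    obtain ⟨s, hs⟩ := surjective_of_repWith (fibGrpd_overCat U) (repWith_of_iso j₁ hsurj)
      (AlgSt.Points.ofChart (BasedFunctor.id (FibCat.overCat U)) t)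
    refine ⟨chartPoint s, ?_⟩
    rw [← chartPoint_overMap, hs, chartPoint_ofChart]
  obtain ⟨s, hs⟩ := hcr v
  rw [hv] at hs
  refine ⟨AlgSt.Points.ofChart (BasedFunctor.id (FibCat.overCat U₁)) ((ι v).left s), ?_⟩
  rw [← ofChart_eq_map, ← hs, ← ofChart_iso (hιw v)]
  exact (ofChart_comp_overMap w (ι v) s).symm

end Groth.Agent.H14AlgSt
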