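import Groth.Agent.H06Desc.SchDominant
import Groth.Agent.H13AlgSp.EtaleLocally
import Groth.Agent.H13Desc.Fpqc
import Groth.Agent.H18Descent.Basic

/-!
# Reduced closed subschemes under smooth and flat morphisms
-/

set_option autoImplicit false
set_option backward.isDefEq.respectTransparency false
set_option backward.isDefEq.respectTransparency.types false

universe u

open CategoryTheory CategoryTheory.Limits AlgebraicGeometry TopologicalSpace

noncomputable section

namespace Groth.Agent.H14AlgSt

variable {X Y : Scheme.{u}}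

lemma comap_eq_bot_iff_factors (I : Y.IdealSheafData) (f : X ⟶ Y) :
    I.comap f = ⊥ ↔ ∃ g : X ⟶ I.subscheme, g ≫ I.subschemeι = f := by
  constructor
  · intro h
    have hι : IsIso (I.comap f).subschemeι := by
      rw [h]
      infer_instance
    have h1 : IsIso (pullback.fst f I.subschemeι) := by
      rw [← Scheme.IdealSheafData.comapIso_inv_subschemeι]
      infer_instance
    refine ⟨inv (pullback.fst f I.subschemeι) ≫ pullback.snd f I.subschemeι, ?_⟩
    rw [Category.assoc, ← pullback.condition, IsIso.inv_hom_id_assoc]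
  · rintro ⟨g, rfl⟩
    rw [eq_bot_iff]
    refine Scheme.IdealSheafData.le_map_iff_comap_le.1 ?_
    rw [Scheme.IdealSheafData.map_comp, Scheme.IdealSheafData.map_bot]
    calc I = I.subschemeι.ker := I.ker_subschemeι.symm
      _ = (⊥ : I.subscheme.IdealSheafData).map I.subschemeι :=
        (Scheme.IdealSheafData.map_bot _).symm
      _ ≤ g.ker.map I.subschemeι := (Scheme.IdealSheafData.map_gc _).monotone_u bot_le

lemma vanishingIdeal_top_of_isReduced [IsReduced X] :
    Scheme.IdealSheafData.vanishingIdeal (⊤ : Closeds X) = ⊥ := by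
  rw [Scheme.IdealSheafData.vanishingIdeal_top, Scheme.nilradical_eq_bot]

lemma eq_vanishingIdeal_of_isReduced (J : X.IdealSheafData) [IsReduced J.subscheme] :
    J = Scheme.IdealSheafData.vanishingIdeal J.support := by
  conv_lhs => rw [← J.ker_subschemeι, ← Scheme.IdealSheafData.map_bot,
    ← vanishingIdeal_top_of_isReduced, Scheme.IdealSheafData.map_vanishingIdeal]
  congr 1
  ext1
  rw [Closeds.coe_closure, Closeds.coe_top, Set.image_univ,
    Scheme.IdealSheafData.range_subschemeι, J.support.isClosed.closure_eq]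

lemma isReduced_of_forall_isRadical (J : X.IdealSheafData)
    (h : ∀ U, (J.ideal U).IsRadical) : IsReduced J.subscheme := by
  have : ∀ i, IsReduced (J.subschemeCover.openCover.X i) := fun (U : X.affineOpens) => by
    change IsReduced (Spec (CommRingCat.of (Γ(X, U.1) ⧸ J.ideal U)))
    have : _root_.IsReduced (Γ(X, U) ⧸ J.ideal U) :=
      (Ideal.isRadical_iff_quotient_reduced _).1 (h U)
    infer_instance
  exact IsReduced.of_openCover J.subscheme J.subschemeCover.openCover

lemma isReduced_vanishingIdeal (Z : Closeds X) :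
    IsReduced (Scheme.IdealSheafData.vanishingIdeal Z).subscheme :=
  isReduced_of_forall_isRadical _ fun U => by
    rw [Scheme.IdealSheafData.vanishingIdeal_ideal]
    exact PrimeSpectrum.isRadical_vanishingIdeal _

/-- Reduced induced closed subschemes pull back to such along smooth morphisms. -/
lemma comap_vanishingIdeal_of_smooth (h : X ⟶ Y) [Smooth h] (Z : Closeds Y) :
    (Scheme.IdealSheafData.vanishingIdeal Z).comap h =
      Scheme.IdealSheafData.vanishingIdeal (Z.preimage h.continuous) := by
  let I := Scheme.IdealSheafData.vanishingIdeal Z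
  have := isReduced_vanishingIdeal Z
  have : IsReduced (pullback h I.subschemeι) :=
    H13AlgSp.isReduced_of_smooth_mor (pullback.snd h I.subschemeι)
  have : IsReduced (I.comap h).subscheme :=
    isReduced_of_isOpenImmersion (I.comapIso h).hom
  rw [eq_vanishingIdeal_of_isReduced (I.comap h), Scheme.IdealSheafData.support_comap]
  congr 2

/-- From a reduced scheme, maps with image in a closed subset factor through the reduced structure. -/
lemma comap_vanishingIdeal_eq_bot [IsReduced X] (f : X ⟶ Y) (Z : Closeds Y)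
    (h : ∀ x, f x ∈ Z) : (Scheme.IdealSheafData.vanishingIdeal Z).comap f = ⊥ := by
  rw [eq_bot_iff]
  refine Scheme.IdealSheafData.le_map_iff_comap_le.1 ?_
  rw [← vanishingIdeal_top_of_isReduced (X := X), Scheme.IdealSheafData.map_vanishingIdeal]
  refine Scheme.IdealSheafData.vanishingIdeal_antimono ?_
  exact Closeds.closure_le.2 (by rintro _ ⟨x, -, rfl⟩; exact h x)

lemma eq_bot_of_comap_eq_bot {ι : Type*} (J : X.IdealSheafData) (C : ι → Scheme.{u})
    (c : ∀ i, C i ⟶ X) [∀ i, Flat (c i)] (hs : ∀ x, ∃ i, x ∈ Set.range (c i))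
    (h : ∀ i, J.comap (c i) = ⊥) : J = ⊥ := by
  rw [eq_bot_iff, ← J.ker_subschemeι]
  intro T
  rw [Scheme.Hom.ker_apply, Scheme.IdealSheafData.ideal_bot, Pi.bot_apply]
  intro f hf
  rw [Ideal.mem_bot]
  refine TopCat.Presheaf.section_ext X.sheaf T.1 f 0 fun y hy => ?_
  obtain ⟨i, z, rfl⟩ := hs y
  obtain ⟨g, hg⟩ := (comap_eq_bot_iff_factors J (c i)).1 (h i)
  apply Groth.Agent.H22Alg.stalkMap_injective_of_flat (c i) z
  change ((c i).stalkMap z).hom (X.presheaf.germ T.1 (c i z) hy f) =
    ((c i).stalkMap z).hom (X.presheaf.germ T.1 (c i z) hy 0)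
  rw [map_zero, map_zero, Scheme.Hom.germ_stalkMap_apply (c i) T.1 z hy f]
  have hf0 : (c i).app T.1 f = 0 := by
    rw [Scheme.Hom.congr_app hg.symm T.1, Scheme.Hom.comp_app]
    simp [RingHom.mem_ker.1 hf]
  exact (congrArg ((C i).presheaf.germ ((c i) ⁻¹ᵁ T.1) z hy) hf0).trans (map_zero _)

instance : MorphismProperty.DescendsAlong (@IsClosedImmersion : MorphismProperty Scheme.{u})
    (@Surjective ⊓ @Flat ⊓ @LocallyOfFinitePresentation : MorphismProperty Scheme.{u}) := by
  constructor
  intro A X Y Z fst snd f g h ⟨⟨hf₁, hf₂⟩, hf₃⟩ hfst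
  have hmem := Scheme.fppfPrecoverage_le_fpqcPrecoverage _
    (Scheme.Hom.singleton_mem_fppfPrecoverage f)
  have hmem' : Presieve.ofArrows (fun _ : PUnit.{u + 1} => X) (fun _ => f) ∈
      Scheme.fpqcPrecoverage Z := by
    rw [Presieve.ofArrows_pUnit]
    exact hmem
  refine Groth.Agent.H13Desc.of_fpqc_target @IsClosedImmersion hmem' g fun _ => ?_
  rw [← (h.flip.isoPullback_inv_snd)]
  exact (MorphismProperty.cancel_left_of_respectsIso @IsClosedImmersion _ _).2 hfst

end Groth.Agent.H14AlgSt
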