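import Groth.Agent.H14AlgSt.QC
import Groth.Agent.H14AlgSt.Faithful

/-!
# Properties of algebraic stacks read on smooth charts
-/

set_option autoImplicit false
set_option backward.isDefEq.respectTransparency false
set_option backward.isDefEq.respectTransparency.types false

universe u

open CategoryTheory CategoryTheory.Functor Opposite AlgebraicGeometry CategoryTheory.Limits

noncomputable section

namespace Groth.Agent.H14AlgSt

open H14Fib H14Stk

variable {S : Scheme.{u}} {𝒳 𝒴 𝒵 : AlgSt.Cat S}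

local notation "K₀" => Scheme.fppfPrecoverage

/-- A property of schemes local in the smooth topology. -/
def SmoothLocalSch (P : Scheme.{u} → Prop) : Prop :=
  ∀ (U : Scheme.{u}) (R : Presieve U), R ∈ Scheme.precoverage @Smooth U →
    (P U ↔ ∀ ⦃V : Scheme.{u}⦄ (g : V ⟶ U), R g → P V)

variable {P : Scheme.{u} → Prop}

lemma SmoothLocalSch.ascend (hP : SmoothLocalSch P) {U V : Scheme.{u}} (g : V ⟶ U) [Smooth g]
    (h : P U) : P V := by
  let X : ULift.{u} Bool → Scheme.{u} := fun b => bif b.down then U else V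
  let f : ∀ b, X b ⟶ U := fun b => match b with | ⟨true⟩ => 𝟙 U | ⟨false⟩ => g
  have hR : Presieve.ofArrows X f ∈ Scheme.precoverage @Smooth U := by
    rw [Scheme.ofArrows_mem_precoverage_iff]
    refine ⟨fun x => ⟨⟨true⟩, x, rfl⟩, ?_⟩
    rintro ⟨_ | _⟩
    exacts [‹Smooth g›, inferInstanceAs (Smooth (𝟙 U))]
  exact (hP U _ hR).1 h _ (Presieve.ofArrows.mk (Y := X) (f := f) ⟨false⟩)

lemma SmoothLocalSch.descend (hP : SmoothLocalSch P) {U V : Scheme.{u}} (g : V ⟶ U) [Smooth g]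
    [Surjective g] (h : P V) : P U := by
  refine (hP U (Presieve.singleton g) ?_).2 ?_
  · rw [Scheme.singleton_mem_precoverage_iff]
    exact ⟨g.surjective, ‹_›⟩
  · rintro _ _ ⟨⟩
    exact h

lemma SmoothLocalSch.of_etale_surjective (hP : SmoothLocalSch P) {F : AlgSp.Sp S} {U : Over S}
    {A : Over S} {p : (AlgSp.yon S).obj A ⟶ F} (hp : AlgSp.RepWith @Etale p)
    (hps : AlgSp.RepWith @Surjective p) (e : F ≅ (AlgSp.yon S).obj U) (h : P A.left) :
    P U.left := by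
  obtain ⟨c, hc⟩ := (AlgSp.yon S).map_surjective (p ≫ e.hom)
  have h1 : AlgSp.RepWith @Etale (p ≫ e.hom) :=
    ((AlgSp.RepWith @Etale).cancel_right_of_respectsIso p e.hom).2 hp
  have h2 : AlgSp.RepWith @Surjective (p ≫ e.hom) :=
    ((AlgSp.RepWith @Surjective).cancel_right_of_respectsIso p e.hom).2 hps
  rw [← hc] at h1 h2
  have : Etale c.left := (AlgSp.repWith_yon_map_iff _ c).1 h1
  have : Surjective c.left := (AlgSp.repWith_yon_map_iff _ c).1 h2
  exact hP.descend c.left h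

lemma smoothLocally_iff_atlas (hP : SmoothLocalSch P) (h𝒳 : FibCat.IsFibGrpd 𝒳.p) {U : Over S}
    {x : FibCat.overCat U ⥤ᵇ 𝒳} (hx : AlgSt.RepByAlgSpWith (AlgSp.LocP @Smooth) x)
    (hxs : AlgSt.RepByAlgSpWith AlgSp.IsSurjectiveMor x) :
    AlgSt.SmoothLocally P 𝒳 ↔ P U.left := by
  refine ⟨fun h => h U x hx, fun h U' x' hx' => ?_⟩
  obtain ⟨A, c, d, hc, hd, hcs⟩ := exists_common_chart h𝒳 hx hxs hx'
  have := hc
  have := hd
  have := hcs
  exact hP.descend c.left (hP.ascend d.left h)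

lemma smooth_surjective_ofOverCat (U : Over S) :
    AlgSt.RepByAlgSpWith (AlgSp.LocP @Smooth) (AlgSt.ofOverCat U) ∧
      AlgSt.RepByAlgSpWith AlgSp.IsSurjectiveMor (AlgSt.ofOverCat U) :=
  ⟨(repWith_equiv_comp_iff (f := BasedFunctor.id (AlgSt.ofSch U)) (ofOverCat_isEquivOver U)).1
      (repWith_locP_of_repWith H12AlgSp.etLocal_smooth (𝟙 ((AlgSp.yon S).obj U))
        (H12AlgSp.repWith_of_isIso _)),
    (repWith_equiv_comp_iff (f := BasedFunctor.id (AlgSt.ofSch U)) (ofOverCat_isEquivOver U)).1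
      (repWith_surjective_of_repWith (𝟙 ((AlgSp.yon S).obj U)) (H12AlgSp.repWith_of_isIso _))⟩

/-- A space chart gives a scheme chart through an etale atlas of the space. -/
lemma chart_of_space_chart {F : AlgSp.Space S} {x : AlgSt.ofSp F.obj ⥤ᵇ 𝒳} {A : Over S}
    {p : (AlgSp.yon S).obj A ⟶ F.obj} (hpe : AlgSp.RepWith @Etale p)
    (hx : AlgSt.RepByAlgSpWith (AlgSp.LocP @Smooth) x) :
    AlgSt.RepByAlgSpWith (AlgSp.LocP @Smooth)
        (BasedFunctor.comp (BasedFunctor.comp (AlgSt.ofOverCat A) (AlgSt.ofSpMap p)) x) ∧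
      (AlgSp.RepWith @Surjective p → AlgSt.RepByAlgSpWith AlgSp.IsSurjectiveMor x →
        AlgSt.RepByAlgSpWith AlgSp.IsSurjectiveMor
          (BasedFunctor.comp (BasedFunctor.comp (AlgSt.ofOverCat A) (AlgSt.ofSpMap p)) x)) := by
  have hA := fibGrpd_overCat A
  have hF := (isAlgStack_ofSp F).isStack.1
  exact ⟨repWith_locP_comp H12AlgSp.etLocal_smooth hA hF
      ((repWith_equiv_comp_iff (ofOverCat_isEquivOver A)).1
        (repWith_locP_of_repWith H12AlgSp.etLocal_smooth p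
          (H12AlgSp.repWith_le (fun _ _ g (_ : Etale g) => (inferInstance : Smooth g)) hpe))) hx,
    fun hps hxs => repWith_surjective_comp hA hF
      ((repWith_equiv_comp_iff (ofOverCat_isEquivOver A)).1
        (repWith_surjective_of_repWith p hps)) hxs⟩

lemma etaleLocally_yon {U : Over S} (h : P U.left) :
    AlgSp.EtaleLocally P ((AlgSp.yon S).obj U) :=
  ⟨U, 𝟙 _, H12AlgSp.repWith_of_isIso _, H12AlgSp.repWith_of_isIso _, h⟩

/-- Monomorphisms are injective on points. -/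
lemma points_map_injective_of_ff (h𝒳 : FibCat.IsFibGrpd 𝒳.p) (h𝒴 : FibCat.IsFibGrpd 𝒴.p)
    (f : 𝒳 ⥤ᵇ 𝒴) [f.toFunctor.Full] : Function.Injective (AlgSt.Points.map f) := by
  intro x y e
  obtain ⟨p, rfl⟩ := AlgSt.Points.mk_surjective x
  obtain ⟨q, rfl⟩ := AlgSt.Points.mk_surjective y
  obtain ⟨r, a, b, -⟩ := rel_of_mk_eq h𝒴 e
  have := isFibered_of_fibGrpd h𝒳
  have key : ∀ (p : AlgSt.FPt 𝒳) (a : r.obj ⟶ (p.map f).obj),
      ∃ (o : 𝒳.obj) (_ : o ⟶ p.obj), 𝒳.p.obj o = Over.mk r.str ∧ Nonempty (r.obj ≅ f.obj o) := by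
    intro p a
    obtain ⟨o, χ, hχ⟩ := isFibered_exists_sc 𝒳.p p.lies (baseHom (p := p.map f) a)
    have hd := IsHomLift.domain_eq 𝒳.p (baseHom (p := p.map f) a) χ
    have : 𝒴.p.IsHomLift (baseHom (p := p.map f) a) (f.map χ) :=
      BasedFunctor.preserves_isHomLift f _ χ
    have := sc_of_fibGrpd h𝒴 (baseHom (p := p.map f) a) (f.map χ)
    have : 𝒴.p.IsHomLift (baseHom (p := p.map f) a) a := baseHom_lift (p := p.map f) a
    obtain ⟨u, ⟨hu, -⟩, -⟩ := IsStronglyCartesian.universal_property 𝒴.p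
      (baseHom (p := p.map f) a) (f.map χ) (𝟙 _) _ (Category.id_comp _).symm a
    have := hu
    have := isIso_of_fibGrpd h𝒴 (𝟙 (Over.mk r.str)) u
    exact ⟨o, χ, hd, ⟨asIso u⟩⟩
  obtain ⟨o₁, χ₁, h₁, ⟨i₁⟩⟩ := key p a
  obtain ⟨o₂, χ₂, -, ⟨i₂⟩⟩ := key q b
  exact AlgSt.Points.sound
    ⟨⟨r.K, r.str, o₁, h₁⟩, χ₁, f.toFunctor.preimage (i₁.inv ≫ i₂.hom) ≫ χ₂, trivial⟩

end Groth.Agent.H14AlgSt
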