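import Groth.Agent.H14AlgSt.SubstackGen
import Groth.Agent.H14AlgSt.ClosedSub
import Groth.Agent.H14AlgSt.StackProps
import Groth.Agent.H14AlgSt.IdealLemmas
import Groth.Agent.H14AlgSt.PointsMor
import Groth.Agent.H12AlgSp.Bootstrap
import Groth.Agent.S9841

/-!
# The reduced closed substack on a closed set of points
-/

set_option autoImplicit false
set_option backward.isDefEq.respectTransparency false
set_option backward.isDefEq.respectTransparency.types false

universe u

open CategoryTheory CategoryTheory.Functor Opposite AlgebraicGeometry CategoryTheory.Limits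

noncomputable section

namespace Groth.Agent.H14AlgSt

open H14Fib H14Stk

variable {S : Scheme.{u}} {𝒳 : AlgSt.Cat S} {U V : Over S} {x : FibCat.overCat U ⥤ᵇ 𝒳}
  {I : U.left.IdealSheafData}

local notation "K₀" => Scheme.fppfPrecoverage

/-- Isomorphic pullbacks of slices come from equal morphisms. -/
lemma overMap_injective {T : Over S} {d d' : T ⟶ U} (e : AlgSt.overMap d ≅ AlgSt.overMap d') :
    d = d' := by
  let m := (appIso e (topObj T))
  have h1 : (FibCat.overCat U).p.IsHomLift (𝟙 T) m.hom := appIso_lift e rfl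
  have h2 := IsHomLift.fac' (FibCat.overCat U).p (𝟙 T) m.hom
  change m.hom.left = _ at h2
  have h3 := Over.w m.hom
  rw [h2] at h3
  simp only [eqToHom_refl, Category.id_comp, Category.comp_id] at h3
  exact (Category.id_comp d).symm.trans ((Eq.symm h3).trans
    ((Category.id_comp _).trans (Category.id_comp d')))

/-- A morphism out of the value of a chart gives an isomorphism of charts. -/
lemma exists_iso_of_hom (hX : FibCat.IsFibGrpd 𝒳.p) (x : FibCat.overCat U ⥤ᵇ 𝒳)
    (H : FibCat.overCat V ⥤ᵇ 𝒳) {T : Over S} (d : T ⟶ U) (s : (FibCat.overCat V).obj)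
    (φ : x.obj (Over.mk d) ⟶ H.obj s) :
    ∃ f : T ⟶ s.left, Nonempty (BasedFunctor.comp (AlgSt.overMap d) x ≅
      BasedFunctor.comp (AlgSt.overMap (f ≫ s.hom)) H) := by
  let f : T ⟶ s.left := eqToHom (x.w_obj (Over.mk d)).symm ≫ 𝒳.p.map φ ≫ eqToHom (H.w_obj s)
  let a : (FibCat.overCat U).obj := (AlgSt.overMap d).obj (topObj T)
  let b : (FibCat.overCat V).obj := (AlgSt.overMap (f ≫ s.hom)).obj (topObj T)
  let μ : a ⟶ (Over.mk d : (FibCat.overCat U).obj) :=
    Over.homMk (𝟙 T) (by change 𝟙 T ≫ d = 𝟙 T ≫ d; rfl)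
  let ν : b ⟶ s := Over.homMk f (by change f ≫ s.hom = 𝟙 T ≫ f ≫ s.hom; rw [Category.id_comp])
  have hφ : 𝒳.p.IsHomLift f φ :=
    IsHomLift.of_fac' 𝒳.p f φ (x.w_obj (Over.mk d)) (H.w_obj s) (by simp [f])
  have hμ₀ : (FibCat.overCat U).p.IsHomLift (𝟙 T) μ := overCat_isHomLift μ
  have hμ : 𝒳.p.IsHomLift (𝟙 T) (x.map μ) := x.preserves_isHomLift (𝟙 T) μ
  have hν₀ : (FibCat.overCat V).p.IsHomLift f ν := overCat_isHomLift ν
  have hν : 𝒳.p.IsHomLift f (H.map ν) := H.preserves_isHomLift f ν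
  have h1 : 𝒳.p.IsHomLift f (x.map μ ≫ φ) :=
    IsHomLift.comp_lift_id_left' 𝒳.p T (x.map μ) f φ
  obtain ⟨e, he, -⟩ := exists_vertIso hX f (x.map μ ≫ φ) (H.map ν)
  exact ⟨f, ⟨isoOfTop (topSC_of_fibGrpd hX _) (topSC_of_fibGrpd hX _) e he⟩⟩

lemma isoOfTop_app {T : Over S} {F G : FibCat.overCat T ⥤ᵇ 𝒳} (e : F ≅ G)
    {T' : Over S} (h : T' ⟶ T) :
    Nonempty (F.obj (Over.mk h) ≅ G.obj (Over.mk h)) := ⟨appIso e (Over.mk h)⟩

/-- The ideal `I` pulls back alike along two points of the chart equal in the stack. -/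
def Invariant (x : FibCat.overCat U ⥤ᵇ 𝒳) (I : U.left.IdealSheafData) : Prop :=
  ∀ (T : Over S) (d d' : T ⟶ U), Nonempty (BasedFunctor.comp (AlgSt.overMap d) x ≅
    BasedFunctor.comp (AlgSt.overMap d') x) → I.comap d.left = I.comap d'.left

/-- The objects whose lifts to the chart lie in the closed subscheme of `I`. -/
def redPred (x : FibCat.overCat U ⥤ᵇ 𝒳) (I : U.left.IdealSheafData) : 𝒳.obj → Prop :=
  fun a => ∀ (A : Over S) (d : A ⟶ U), Nonempty (x.obj (Over.mk d) ⟶ a) → I.comap d.left = ⊥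

lemma redPred_of_hom {a b : 𝒳.obj} (φ : b ⟶ a) (h : redPred x I a) : redPred x I b :=
  fun A d ⟨ψ⟩ => h A d ⟨ψ ≫ φ⟩

lemma redPred_closed : ObjectProperty.IsClosedUnderIsomorphisms (redPred x I) :=
  ⟨fun e h => redPred_of_hom e.inv h⟩

lemma redPred_chart_iff (hX : FibCat.IsFibGrpd 𝒳.p) (hI : Invariant x I)
    (s : (FibCat.overCat U).obj) : redPred x I (x.obj s) ↔ I.comap s.hom.left = ⊥ := by
  refine ⟨fun h => h _ s.hom ⟨x.map (Over.homMk (𝟙 _) (Category.id_comp _) :
    (Over.mk s.hom : (FibCat.overCat U).obj) ⟶ s)⟩, fun h A d ⟨φ⟩ => ?_⟩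
  obtain ⟨f, hf⟩ := exists_iso_of_hom hX x x d s φ
  rw [hI A d (f ≫ s.hom) hf, Over.comp_left, Scheme.IdealSheafData.comap_comp, h,
    Scheme.IdealSheafData.comap_bot]

lemma redPred_local (hX : AlgSt.IsAlgStack K₀ 𝒳) : LocalPred (redPred x I) := by
  intro W R hR H hH s A d ⟨φ⟩
  obtain ⟨C, c, hfl, -, hs, hc⟩ := exists_fppf_family hR
  obtain ⟨f, ⟨α⟩⟩ := exists_iso_of_hom hX.isStack.1 x H d s φ
  let g := f ≫ s.hom
  have hp : ∀ j, IsPullback (pullback.fst g (c j)).left (pullback.snd g (c j)).left g.left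
      (c j).left := fun j => (IsPullback.of_hasPullback g (c j)).map (Over.forget S)
  have : ∀ j, Flat (pullback.fst g (c j)).left := fun j =>
    MorphismProperty.of_isPullback (hp j).flip (hfl j)
  refine eq_bot_of_comap_eq_bot _ _ (fun j => (pullback.fst g (c j)).left) (fun t => ?_) fun j => ?_
  · obtain ⟨j, w, hw⟩ := hs (g.left t)
    obtain ⟨z, hz, -⟩ := Scheme.exists_preimage_of_isPullback (hp j) t w hw.symm
    exact ⟨j, z, hz⟩
  · let pr := pullback.fst g (c j)
    rw [← Scheme.IdealSheafData.comap_comp, ← Over.comp_left]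
    refine hH ⟨Over.mk (c j), hc j⟩ _ (pr ≫ d) ⟨?_⟩
    let k : (AlgSt.overMap g).obj (Over.mk pr) ⟶ (Over.mk (c j) : (FibCat.overCat W).obj) :=
      Over.homMk (pullback.snd g (c j)) (pullback.condition (f := g) (g := c j)).symm
    exact (appIso α (Over.mk pr)).hom ≫ H.map k

lemma redPred_lift_iff (hX : FibCat.IsFibGrpd 𝒳.p) (hI : Invariant x I)
    (z : FibCat.overCat V ⥤ᵇ 𝒳) {A : Over S} {c : A ⟶ V} {d : A ⟶ U}
    (i : BasedFunctor.comp (AlgSt.overMap c) z ≅ BasedFunctor.comp (AlgSt.overMap d) x)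
    {T : Over S} (h : T ⟶ A) :
    redPred x I (z.obj (Over.mk (h ≫ c))) ↔ (I.comap d.left).comap h.left = ⊥ := by
  have e : z.obj (Over.mk (h ≫ c)) ≅ x.obj (Over.mk (h ≫ d)) := appIso i (Over.mk h)
  have h1 : redPred x I (z.obj (Over.mk (h ≫ c))) ↔ redPred x I (x.obj (Over.mk (h ≫ d))) :=
    ⟨redPred_of_hom e.inv, redPred_of_hom e.hom⟩
  rw [h1, redPred_chart_iff hX hI, ← Scheme.IdealSheafData.comap_comp]
  rfl

lemma map_comp_mk (z : FibCat.overCat V ⥤ᵇ 𝒳) {T T' : Over S} (k : T' ⟶ T) (g : T ⟶ V) :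
    Nonempty (z.obj (Over.mk (k ≫ g)) ⟶ z.obj (Over.mk g)) :=
  ⟨z.map (Over.homMk k rfl : (Over.mk (k ≫ g) : (FibCat.overCat V).obj) ⟶ Over.mk g)⟩

/-- The closed subscheme cut out by `redPred` on an arbitrary chart. -/
lemma exists_subspace_redPred (hX : AlgSt.IsAlgStack K₀ 𝒳)
    (hx : AlgSt.RepByAlgSpWith (AlgSp.LocP @Smooth) x)
    (hxs : AlgSt.RepByAlgSpWith AlgSp.IsSurjectiveMor x) (hI : Invariant x I) (V : Over S)
    (z : FibCat.overCat V ⥤ᵇ 𝒳) :
    ∃ (W : Over S) (v : W ⟶ V), IsClosedImmersion v.left ∧ Mono v ∧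
      ∀ s : (FibCat.overCat V).obj, redPred x I (z.obj s) ↔ ∃ g : s.left ⟶ W, g ≫ v = s.hom := by
  have h𝒳 := hX.isStack.1
  obtain ⟨A, c, d, hcs, hcsj, ⟨i⟩⟩ := exists_lift_atlas h𝒳 hx hxs z
  let J₀ := I.comap d.left
  let P : AlgSp.PSp S := ((AlgSp.yon S).obj V).obj
  let G : Subfunctor P :=
    { obj := fun T => {s | redPred x I (z.obj (Over.mk (s.down : T.unop ⟶ V)))}
      map := fun {T T'} f s hs => redPred_of_hom (map_comp_mk z f.unop s.down).some hs }
  have hP : Presieve.IsSheaf (AlgSp.J S) P :=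
    (isSheaf_iff_isSheaf_of_type _ _).1 ((AlgSp.yon S).obj V).property
  have hG : Presieve.IsSheaf (AlgSp.J S) G.toFunctor := by
    refine (G.isSheaf_iff hP).2 fun T s hs => ?_
    have h1 := redPred_local (x := x) (I := I) hX T.unop (G.sieveOfSection s) hs
      (BasedFunctor.comp (AlgSt.overMap s.down) z) (fun a => a.property) (topObj _)
    exact redPred_of_hom (z.map (Over.homMk (𝟙 T.unop) (by
      change 𝟙 _ ≫ 𝟙 _ ≫ s.down = s.down
      simp) : (Over.mk s.down : (FibCat.overCat V).obj) ⟶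
        (AlgSt.overMap s.down).obj (topObj _))) h1
  let Qs : AlgSp.Sp S := ⟨G.toFunctor, (isSheaf_iff_isSheaf_of_type _ _).2 hG⟩
  let q : Qs ⟶ (AlgSp.yon S).obj V := ObjectProperty.homMk G.ι
  let Q' : Over S := Over.mk (J₀.subschemeι ≫ A.hom)
  let b' : Q' ⟶ A := Over.homMk J₀.subschemeι
  have hmem : redPred x I (z.obj (Over.mk (b' ≫ c))) :=
    (redPred_lift_iff h𝒳 hI z i b').2 ((comap_eq_bot_iff_factors J₀ _).2 ⟨𝟙 _, Category.id_comp _⟩)
  let q' : (AlgSp.yon S).obj Q' ⟶ Qs := ObjectProperty.homMk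
    { app := fun T => ↾(fun k => ⟨⟨k.down ≫ b' ≫ c⟩,
        redPred_of_hom (map_comp_mk z k.down (b' ≫ c)).some hmem⟩)
      naturality := fun T T' f => by
        ext k
        exact Subtype.ext (ULift.ext _ _ (Category.assoc _ _ _)) }
  have : Mono q := H12AlgSp.mono_of_yon fun T a b e => by
    apply (AlgSp.J S).uliftYonedaEquiv.injective
    apply Subtype.ext
    exact congrArg (fun m => ((AlgSp.J S).uliftYonedaEquiv m)) e
  have : Mono b'.left := inferInstanceAs (Mono J₀.subschemeι)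
  have : Mono b' := (Over.forget S).mono_of_mono_map ‹Mono b'.left›
  have hw : q' ≫ q = (AlgSp.yon S).map b' ≫ (AlgSp.yon S).map c := by
    rw [← Functor.map_comp]
    apply Sheaf.hom_ext
    ext T k
    rfl
  have sq : IsPullback q' ((AlgSp.yon S).map b') q ((AlgSp.yon S).map c) := by
    refine IsPullback.of_map (sheafToPresheaf (AlgSp.J S) (Type (u + 1))) hw ?_
    refine IsPullback.of_forall_isPullback_app fun T => ?_
    rw [Types.isPullback_iff]
    refine ⟨?_, fun k₁ k₂ ⟨_, e⟩ => ULift.ext _ _ ((cancel_mono b').1 (congrArg ULift.down e)), ?_⟩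
    · ext k
      exact ULift.ext _ _ (Category.assoc _ _ _).symm
    · rintro ⟨s, hs⟩ m e
      have e' : s.down = m.down ≫ c := congrArg ULift.down e
      have h1 : redPred x I (z.obj (Over.mk (m.down ≫ c))) := e' ▸ hs
      obtain ⟨g, hg⟩ := (comap_eq_bot_iff_factors J₀ _).1 ((redPred_lift_iff h𝒳 hI z i m.down).1 h1)
      refine ⟨⟨Over.homMk g (by
        change g ≫ J₀.subschemeι ≫ A.hom = _
        rw [← Category.assoc, hg, Over.w])⟩, Subtype.ext (ULift.ext _ _ ?_),
        ULift.ext _ _ (Over.OverMorphism.ext hg)⟩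
      change _ ≫ b' ≫ c = s.down
      rw [e', ← Category.assoc]
      congr 1
      exact Over.OverMorphism.ext hg
  have hcl : IsClosedImmersion b'.left := inferInstanceAs (IsClosedImmersion J₀.subschemeι)
  obtain ⟨GT, γ, μ, hμ, hγ⟩ := H12AlgSp.exists_rep_of_local q fun t => by
    obtain ⟨a, ha⟩ := c.left.surjective t
    exact ⟨A, c, inferInstance, inferInstance, ⟨a, ha⟩, Q', q', b', sq, inferInstance,
      inferInstance, inferInstance⟩
  have hmono : Mono γ := by
    have : Mono ((AlgSp.yon S).map γ) := by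
      rw [← hγ]
      infer_instance
    exact (AlgSp.yon S).mono_of_mono_map ‹_›
  refine ⟨GT, γ, ?_, hmono, fun s => ?_⟩
  · obtain ⟨l, hl⟩ := (AlgSp.yon S).map_surjective (q' ≫ inv μ)
    have sq3 : IsPullback ((AlgSp.yon S).map l) ((AlgSp.yon S).map b') ((AlgSp.yon S).map γ)
        ((AlgSp.yon S).map c) := by
      rw [hl]
      refine sq.of_iso (Iso.refl _) (asIso μ).symm (Iso.refl _) (Iso.refl _) ?_ ?_ ?_ ?_
      · simp
      · simp
      · simp [← hγ]
      · simp
    have sq4 : IsPullback l.left b'.left γ.left c.left :=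
      (IsPullback.of_map (AlgSp.yon S) ((AlgSp.yon S).map_injective
        (by rw [Functor.map_comp, Functor.map_comp]; exact sq3.w)) sq3).map (Over.forget S)
    exact MorphismProperty.of_isPullback_of_descendsAlong (P := @IsClosedImmersion)
      (Q := @Surjective ⊓ @Flat ⊓ @LocallyOfFinitePresentation) sq4.flip
      ⟨⟨hcsj, inferInstance⟩, inferInstance⟩ hcl
  · constructor
    · intro h
      have hs : (⟨s.hom⟩ : P.obj (op s.left)) ∈ G.obj (op s.left) :=
        redPred_of_hom (z.map (Over.homMk (𝟙 s.left) (Category.id_comp _) :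
          (Over.mk s.hom : (FibCat.overCat V).obj) ⟶ s)) h
      let m : (AlgSp.yon S).obj s.left ⟶ Qs := (AlgSp.J S).uliftYonedaEquiv.symm ⟨⟨s.hom⟩, hs⟩
      obtain ⟨g, hg⟩ := (AlgSp.yon S).map_surjective (m ≫ inv μ)
      refine ⟨g, (AlgSp.yon S).map_injective ?_⟩
      rw [Functor.map_comp, hg, Category.assoc, ← hγ, IsIso.inv_hom_id_assoc]
      apply (AlgSp.J S).uliftYonedaEquiv.injective
      change ((AlgSp.J S).uliftYonedaEquiv m).val = _
      rw [Equiv.apply_symm_apply]
      exact ULift.ext _ _ (Category.id_comp _).symm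
    · rintro ⟨g, hg⟩
      let σ : Qs.obj.obj (op s.left) :=
        (AlgSp.J S).uliftYonedaEquiv ((AlgSp.yon S).map g ≫ μ)
      have hσ : σ.val.down = s.hom := by
        have h1 : (AlgSp.J S).uliftYonedaEquiv ((AlgSp.yon S).map g ≫ μ ≫ q) =
            (AlgSp.J S).uliftYonedaEquiv ((AlgSp.yon S).map (g ≫ γ)) := by
          rw [hγ, ← Functor.map_comp]
        rw [hg] at h1
        exact (congrArg ULift.down h1).trans (Category.id_comp s.hom)
      have h2 : redPred x I (z.obj (Over.mk σ.val.down)) := σ.property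
      rw [hσ] at h2
      exact redPred_of_hom (z.map (Over.homMk (𝟙 s.left) (Category.id_comp _) :
        s ⟶ (Over.mk s.hom : (FibCat.overCat V).obj))) h2

lemma smoothLocalSch_isReduced : SmoothLocalSch.{u} fun X => IsReduced X := by
  intro U R hR
  obtain ⟨ι, X, f, rfl⟩ := R.exists_eq_ofArrows
  rw [Scheme.ofArrows_mem_precoverage_iff] at hR
  refine ⟨fun h V g hg => ?_, fun h => ?_⟩
  · cases hg with
    | mk i =>
      have := hR.2 i
      exact H13AlgSp.isReduced_of_smooth_mor (f i)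
  · have : ∀ t : U, _root_.IsReduced (U.presheaf.stalk t) := fun t => by
      obtain ⟨i, v, rfl⟩ := hR.1 t
      have := h (f i) ⟨i⟩
      have := hR.2 i
      exact isReduced_of_injective ((f i).stalkMap v).hom
        (Groth.Agent.H22Alg.stalkMap_injective_of_flat (f i) v)
    exact isReduced_of_isReduced_stalk U

lemma ofChart_slice {p : AlgSt.FPt 𝒳} (z : FibCat.overCat (𝒳.p.obj p.obj) ⥤ᵇ 𝒳)
    (ez : z.obj (topObj _) ≅ p.obj) (t : (𝒳.p.obj p.obj).left) :
    AlgSt.Points.ofChart z t = AlgSt.Points.mk p := by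
  rw [ofChart_eq_map]
  obtain ⟨q, hq⟩ := AlgSt.Points.mk_surjective
    (AlgSt.Points.ofChart (BasedFunctor.id (FibCat.overCat (𝒳.p.obj p.obj))) t)
  rw [← hq, AlgSt.Points.map_mk]
  exact mk_eq_of_hom (p := q.map z) (q := p) (z.map (toTop q.obj) ≫ ez.hom)

lemma smooth_of_repWith_overMap {T : Over S} (h : T ⟶ U)
    (hh : AlgSt.RepByAlgSpWith (AlgSp.LocP @Smooth) (AlgSt.overMap h)) : Smooth h.left := by
  let Φ := BasedFunctor.comp (AlgSt.toOverCat T) (AlgSt.overMap h)
  have hd : AlgSp.LocP @Smooth (AlgSt.spMapOfOver Φ) :=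
    prop_of_repWith_spMap (sourceIsoInv_locP _)
      (F := ⟨(AlgSp.yon S).obj T, AlgSp.IsAlgSpace.yon_obj T⟩)
      ((repWith_equiv_comp_iff (toOverCat_isEquivOver T)).1 hh)
  rw [spMapOfOver_overMap, spMapOfOver_toOverCat, Category.id_comp] at hd
  exact (locP_yon_iff H12AlgSp.etLocal_smooth h).1 hd

/-- The closed subset of a chart over a closed set of points. -/
def chartClosed (hX : AlgSt.IsAlgStack K₀ 𝒳) {T : Set (AlgSt.Points 𝒳)} (hT : IsClosed T)
    (x : FibCat.overCat U ⥤ᵇ 𝒳) : TopologicalSpace.Closeds U.left :=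
  ⟨AlgSt.Points.ofChart x ⁻¹' T, hT.preimage (continuous_ofChart hX x)⟩

lemma invariant_chartClosed (hX : AlgSt.IsAlgStack K₀ 𝒳) {T : Set (AlgSt.Points 𝒳)}
    (hT : IsClosed T) (hx : AlgSt.RepByAlgSpWith (AlgSp.LocP @Smooth) x) :
    Invariant x (Scheme.IdealSheafData.vanishingIdeal (chartClosed hX hT x)) := by
  intro B d d' ⟨α⟩
  let Z := chartClosed hX hT x
  have hR := isAlgStack_fp' (isAlgStack_overCat U) (isAlgStack_overCat U) hX x x
  obtain ⟨A₁, a, ha, has⟩ := hR.atlas
  obtain ⟨h₁, ⟨j₁⟩⟩ := exists_overMap_iso (BasedFunctor.comp a (FibCat.fpFst x x))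
  obtain ⟨h₂, ⟨j₂⟩⟩ := exists_overMap_iso (BasedFunctor.comp a (FibCat.fpSnd x x))
  have hU := fibGrpd_overCat U
  have hRg := hR.isStack.1
  have : Smooth h₁.left := smooth_of_repWith_overMap h₁ (repWith_of_iso j₁
    (repWith_locP_comp H12AlgSp.etLocal_smooth (fibGrpd_overCat A₁) hRg ha (repWith_fpFst x hx)))
  have : Smooth h₂.left := smooth_of_repWith_overMap h₂ (repWith_of_iso j₂
    (repWith_locP_comp H12AlgSp.etLocal_smooth (fibGrpd_overCat A₁) hRg ha (repWith_fpSnd x hx)))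
  let F := FibCat.fpLift (AlgSt.overMap d) (AlgSt.overMap d') α
  obtain ⟨B', c, e, hc, hcs, ⟨i⟩⟩ := exists_lift_atlas hRg ha has F
  have e₁ : c ≫ d = e ≫ h₁ := overMap_injective ((overMapCompIso c d).symm ≪≫
    (post (FibCat.overCat B') (FibCat.fpFst x x)).mapIso i ≪≫
      (Stk.restr (AlgSt.overMap e) _).mapIso j₁ ≪≫ overMapCompIso e h₁)
  have e₂ : c ≫ d' = e ≫ h₂ := overMap_injective ((overMapCompIso c d').symm ≪≫
    (post (FibCat.overCat B') (FibCat.fpSnd x x)).mapIso i ≪≫
      (Stk.restr (AlgSt.overMap e) _).mapIso j₂ ≪≫ overMapCompIso e h₂)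
  let α₁ : BasedFunctor.comp (AlgSt.overMap h₁) x ≅ BasedFunctor.comp (AlgSt.overMap h₂) x :=
    (post (FibCat.overCat A₁) x).mapIso j₁.symm ≪≫ (Stk.restr a _).mapIso (FibCat.fpIso x x) ≪≫
      (post (FibCat.overCat A₁) x).mapIso j₂
  have hh : ∀ t, AlgSt.Points.ofChart x (h₁.left t) = AlgSt.Points.ofChart x (h₂.left t) := fun t => by
    rw [← ofChart_comp_overMap, ofChart_iso α₁, ofChart_comp_overMap]
  have key : (Scheme.IdealSheafData.vanishingIdeal Z).comap h₁.left =
      (Scheme.IdealSheafData.vanishingIdeal Z).comap h₂.left := by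
    rw [comap_vanishingIdeal_of_smooth, comap_vanishingIdeal_of_smooth]
    congr 1
    ext t
    change AlgSt.Points.ofChart x (h₁.left t) ∈ T ↔ AlgSt.Points.ofChart x (h₂.left t) ∈ T
    rw [hh]
  have := hcs
  apply H06Desc.comap_injective_of_flat_surjective c.left
  change ((Scheme.IdealSheafData.vanishingIdeal Z).comap d.left).comap c.left =
    ((Scheme.IdealSheafData.vanishingIdeal Z).comap d'.left).comap c.left
  rw [← Scheme.IdealSheafData.comap_comp, ← Scheme.IdealSheafData.comap_comp, ← Over.comp_left,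
    ← Over.comp_left, e₁, e₂, Over.comp_left, Over.comp_left, Scheme.IdealSheafData.comap_comp,
    Scheme.IdealSheafData.comap_comp, key]

/-- A closed set of points carries a reduced closed substack. -/
theorem exists_reduced_substack (hX : AlgSt.IsAlgStack K₀ 𝒳) (T : Set (AlgSt.Points 𝒳))
    (hT : IsClosed T) :
    ∃ Q : 𝒳.obj → Prop, AlgSt.IsClosedSubstack 𝒳 Q K₀ ∧
      Set.range (AlgSt.Points.map (AlgSt.subIncl 𝒳 Q)) = T ∧
        AlgSt.SmoothLocally (fun X => IsReduced X) (AlgSt.fullSub 𝒳 Q) := by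
  obtain ⟨U, x, hx, hxs⟩ := hX.atlas
  have h𝒳 := hX.isStack.1
  let Z := chartClosed hX hT x
  let I := Scheme.IdealSheafData.vanishingIdeal Z
  have hI : Invariant x I := invariant_chartClosed hX hT hx
  have hc : ObjectProperty.IsClosedUnderIsomorphisms (redPred x I) := redPred_closed
  let W : Over S := Over.mk (I.subschemeι ≫ U.hom)
  let v : W ⟶ U := Over.homMk I.subschemeι
  have : Mono v.left := inferInstanceAs (Mono I.subschemeι)
  have : Mono v := (Over.forget S).mono_of_mono_map ‹Mono v.left›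
  have hW : ∀ s : (FibCat.overCat U).obj,
      redPred x I (x.obj s) ↔ ∃ g : s.left ⟶ W, g ≫ v = s.hom := fun s => by
    rw [redPred_chart_iff h𝒳 hI, comap_eq_bot_iff_factors]
    refine ⟨fun ⟨g, hg⟩ => ⟨Over.homMk g (by
      change g ≫ I.subschemeι ≫ U.hom = _
      rw [← Category.assoc, hg, Over.w]), Over.OverMorphism.ext hg⟩, fun ⟨g, hg⟩ =>
      ⟨g.left, congrArg (fun m : s.left ⟶ U => m.left) hg⟩⟩
  obtain ⟨x', hx'₁, hx'₂⟩ := exists_atlas_sub hc hW hx hxs
  have hh : ∀ {a b : 𝒳.obj}, (b ⟶ a) → redPred x I a → redPred x I b := fun φ => redPred_of_hom φ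
  have ha : AlgSt.IsAlgStack K₀ (AlgSt.fullSub 𝒳 (redPred x I)) :=
    ⟨fullSub_isStack_of_local hh (redPred_local hX) hX, fullSub_diag_of_hom hh hX,
      W, x', hx'₁, hx'₂⟩
  refine ⟨redPred x I, ⟨hc, ha, repWith_subIncl_of_subspaces hc
    (exists_subspace_redPred hX hx hxs hI)⟩, ?_, ?_⟩
  · suffices key : ∀ p : AlgSt.FPt 𝒳, redPred x I p.obj ↔ AlgSt.Points.mk p ∈ T by
      ext q
      constructor
      · rintro ⟨w, rfl⟩
        obtain ⟨w, rfl⟩ := AlgSt.Points.mk_surjective w
        exact (key (w.map (AlgSt.subIncl 𝒳 (redPred x I)))).1 w.obj.property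
      · intro hq
        obtain ⟨p, rfl⟩ := AlgSt.Points.mk_surjective q
        exact ⟨AlgSt.Points.mk ⟨p.K, p.str, ⟨p.obj, (key p).2 hq⟩, p.lies⟩, rfl⟩
    intro p
    obtain ⟨z, ⟨ez⟩⟩ := exists_slice_through h𝒳 p.obj
    obtain ⟨A, c, d, hcs, hcsj, ⟨i⟩⟩ := exists_lift_atlas h𝒳 hx hxs z
    let V₀ := 𝒳.p.obj p.obj
    have hpt : ∀ t : A.left, AlgSt.Points.ofChart x (d.left t) = AlgSt.Points.mk p := fun t => by
      rw [← ofChart_comp_overMap, ← ofChart_iso i, ofChart_comp_overMap]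
      exact ofChart_slice z ez (c.left t)
    have hred : IsReduced A.left := by
      have hV : IsReduced V₀.left := by
        rw [show V₀ = Over.mk p.str from p.lies]
        change IsReduced (Spec (CommRingCat.of p.K))
        infer_instance
      exact H13AlgSp.isReduced_of_smooth_mor c.left
    have hne : Nonempty A.left := by
      have : Nonempty V₀.left := by
        rw [show V₀ = Over.mk p.str from p.lies]
        exact ⟨IsLocalRing.closedPoint p.K⟩
      exact ⟨(c.left.surjective (Classical.arbitrary _)).choose⟩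
    have hiff : redPred x I p.obj ↔ I.comap d.left = ⊥ := by
      have h1 : redPred x I p.obj ↔ redPred x I (z.obj (topObj V₀)) :=
        ⟨redPred_of_hom ez.hom, redPred_of_hom ez.inv⟩
      rw [h1]
      constructor
      · intro h
        have h2 := (redPred_lift_iff h𝒳 hI z i (𝟙 A)).1 (redPred_of_hom
          (z.map (Over.homMk (𝟙 A ≫ c) (Category.comp_id _))) h)
        rwa [Over.id_left, Scheme.IdealSheafData.comap_id] at h2
      · intro h
        obtain ⟨W', v', hv', -, hW'⟩ := exists_subspace_redPred hX hx hxs hI _ z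
        have h2 := (redPred_lift_iff h𝒳 hI z i (𝟙 A)).2 (by
          rw [Over.id_left, Scheme.IdealSheafData.comap_id]; exact h)
        obtain ⟨g, hg⟩ := (hW' _).1 h2
        have hg' : g.left ≫ v'.left = c.left := by
          rw [← Over.comp_left, hg]
          exact Category.id_comp _
        have := isIso_of_flat_factor c.left g.left v'.left hg'
        have : IsIso ((Over.forget S).map v') := this
        have : IsIso v' := isIso_of_reflects_iso v' (Over.forget S)
        exact (hW' _).2 ⟨inv v', IsIso.inv_hom_id v'⟩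
    rw [hiff]
    constructor
    · intro h
      obtain ⟨t⟩ := hne
      rw [← hpt t]
      have h1 := congrArg Scheme.IdealSheafData.support h
      rw [Scheme.IdealSheafData.support_comap, Scheme.IdealSheafData.support_bot] at h1
      have h2 : d.left t ∈ I.support := h1.ge (Set.mem_univ t : t ∈ (⊤ : TopologicalSpace.Closeds A.left))
      change d.left t ∈ (I.support : Set U.left) at h2
      rw [Scheme.IdealSheafData.coe_support_vanishingIdeal] at h2
      exact h2
    · intro hq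
      exact comap_vanishingIdeal_eq_bot d.left Z fun t =>
        show AlgSt.Points.ofChart x (d.left t) ∈ T from (hpt t).symm ▸ hq
  · refine (smoothLocally_iff_atlas smoothLocalSch_isReduced ha.isStack.1 hx'₁ hx'₂).2 ?_
    exact isReduced_vanishingIdeal Z

end Groth.Agent.H14AlgSt
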