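import Groth.Agent.H14AlgSt.DisjointGlue
import Groth.Agent.H14IsoNat.SHLift
import Groth.Agent.H14AlgSt.EtaleAtlas
import Groth.Agent.H14AlgSt.PointsMor
import Groth.Agent.H14AlgSt.ReducedSub

/-!
# Smooth charts glue on a disjoint union
-/

set_option autoImplicit false
set_option linter.unusedVariables false
set_option backward.isDefEq.respectTransparency false
set_option backward.isDefEq.respectTransparency.types false

universe u

open CategoryTheory CategoryTheory.Functor CategoryTheory.Limits AlgebraicGeometry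

noncomputable section

namespace Groth.Agent.H14AlgSt

open H14Fib H14Stk H14IsoNat

variable {S : Scheme.{u}} {𝒳 : AlgSt.Cat S}

lemma etale_le_smooth' : (@Etale : MorphismProperty Scheme.{u}) ≤ @Smooth :=
  fun _ _ f (hf : Etale f) => (inferInstance : Smooth f)

/-- Pullback functors compose, on a composite functor. -/
lemma overMap_comp_iso {A B C : Over S} (f : A ⟶ B) (g : B ⟶ C) (F : FibCat.overCat C ⥤ᵇ 𝒳)
    (h𝒳 : FibCat.IsFibGrpd 𝒳.p) :
    Nonempty (BasedFunctor.comp (AlgSt.overMap f) (BasedFunctor.comp (AlgSt.overMap g) F) ≅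
      BasedFunctor.comp (AlgSt.overMap (f ≫ g)) F) := by
  have e : (BasedFunctor.comp (AlgSt.overMap f) (BasedFunctor.comp (AlgSt.overMap g) F)).obj (topObj A) =
      (BasedFunctor.comp (AlgSt.overMap (f ≫ g)) F).obj (topObj A) :=
    congrArg F.obj (congrArg Over.mk (Category.assoc _ _ _))
  exact ⟨isoOfTop (topSC_of_fibGrpd h𝒳 _) (topSC_of_fibGrpd h𝒳 _) (eqToIso e)
    (IsHomLift.of_fac' 𝒳.p _ _ (BasedFunctor.w_obj _ _) (BasedFunctor.w_obj _ _) (by simp [eqToHom_map]))⟩

/-- A family of smooth charts gives a smooth chart on the disjoint union. -/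
theorem exists_sigma_chart {K : Precoverage Scheme.{u}} (hK : Scheme.etalePrecoverage ≤ K)
    (hX : AlgSt.IsAlgStack K 𝒳) {ι : Type u} {U : ι → Over S}
    (p : ∀ i, FibCat.overCat (U i) ⥤ᵇ 𝒳)
    (hp : ∀ i, AlgSt.RepByAlgSpWith (AlgSp.LocP @Smooth) (p i)) :
    ∃ P : FibCat.overCat (sigmaOver U) ⥤ᵇ 𝒳,
      (∀ i, Nonempty (BasedFunctor.comp (AlgSt.overMap (sigmaIncl U i)) P ≅ p i)) ∧
        AlgSt.RepByAlgSpWith (AlgSp.LocP @Smooth) P := by
  have h𝒳 := hX.isStack.1
  obtain ⟨P, hP⟩ := exists_sigma_glue hK hX.isStack p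
  refine ⟨P, hP, ?_⟩
  obtain ⟨W, x, hx, hxs⟩ := hX.atlas
  choose B a h hh j hae has using fun i => exists_chart_data x (p i) hx
  choose w jw using fun i => exists_overMap_iso (BasedFunctor.comp (a i) (FibCat.fpSnd (p i) x))
  have hw : ∀ i, Smooth (w i).left := fun i => by
    refine smooth_of_repWith_overMap (w i) (repWith_of_iso (jw i).some ?_)
    have h1 : AlgSt.RepByAlgSpWith (AlgSp.LocP @Smooth) (a i) :=
      repWith_locP_mono etale_le_smooth' (hae i)
    have h2 : AlgSt.RepByAlgSpWith (AlgSp.LocP @Smooth) (FibCat.fpSnd (p i) x) :=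
      repWith_fpSnd x (hp i)
    exact repWith_locP_comp (𝒴 := FibCat.fp (p i) x) H12AlgSp.etLocal_smooth (fibGrpd_overCat _)
      (fp_fibGrpd (fibGrpd_overCat _) (fibGrpd_overCat _) h𝒳) h1 h2
  have hs : ∀ i, Surjective (h i).left := fun i => surjective_chart h𝒳 hxs (j i).some (has i)
  let τ : sigmaOver B ⟶ sigmaOver U :=
    Over.homMk (Sigma.desc fun i => (h i).left ≫ (sigmaIncl U i).left)
      (Sigma.hom_ext _ _ fun i => by
        change Sigma.ι _ i ≫ Sigma.desc _ ≫ Sigma.desc _ = Sigma.ι _ i ≫ Sigma.desc _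
        rw [Sigma.ι_desc_assoc, Sigma.ι_desc, Category.assoc]
        change (h i).left ≫ Sigma.ι (fun i => (U i).left) i ≫ Sigma.desc _ = _
        rw [Sigma.ι_desc, Over.w (h i)])
  let ω : sigmaOver B ⟶ W :=
    Over.homMk (Sigma.desc fun i => (w i).left)
      (Sigma.hom_ext _ _ fun i => by
        change Sigma.ι _ i ≫ Sigma.desc _ ≫ W.hom = Sigma.ι _ i ≫ Sigma.desc _
        rw [Sigma.ι_desc_assoc, Sigma.ι_desc, Over.w (w i)])
  have hτi : ∀ i, sigmaIncl B i ≫ τ = h i ≫ sigmaIncl U i := fun i =>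
    Over.OverMorphism.ext (Sigma.ι_desc _ _)
  have hωi : ∀ i, sigmaIncl B i ≫ ω = w i := fun i => Over.OverMorphism.ext (Sigma.ι_desc _ _)
  have hτs : Smooth τ.left := IsZariskiLocalAtSource.sigmaDesc (P := @Smooth) fun i => by
    have : Smooth (h i).left := hh i
    exact inferInstanceAs (Smooth ((h i).left ≫ (sigmaIncl U i).left))
  have hωs : Smooth ω.left := IsZariskiLocalAtSource.sigmaDesc (P := @Smooth) fun i => hw i
  have hτsur : Surjective τ.left := ⟨fun z => by
    obtain ⟨i, t, rfl⟩ := sigmaIncl_surjective U z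
    obtain ⟨b, rfl⟩ := (hs i).surj t
    refine ⟨(sigmaIncl B i).left b, ?_⟩
    rw [← Scheme.Hom.comp_apply, ← Over.comp_left, hτi i]
    rfl⟩
  obtain ⟨k⟩ : Nonempty (BasedFunctor.comp (AlgSt.overMap τ) P ≅
      BasedFunctor.comp (AlgSt.overMap ω) x) := nonempty_iso_of_sigma hK hX.isStack fun i =>
    (overMap_comp_iso _ _ P h𝒳).some ≪≫ eqToIso (by rw [hτi i]) ≪≫
      (overMap_comp_iso _ _ P h𝒳).some.symm ≪≫
      (Stk.restr (AlgSt.overMap (h i)) _).mapIso (hP i).some ≪≫
      (post _ (p i)).mapIso (j i).some.symm ≪≫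
      (Stk.restr (a i) _).mapIso (FibCat.fpIso (p i) x) ≪≫
      (post _ x).mapIso (jw i).some ≪≫ eqToIso (by rw [hωi i]; rfl) ≪≫
      (overMap_comp_iso _ _ x h𝒳).some.symm
  exact repWith_smooth_of_comp_cover (fibGrpd_overCat _) (fibGrpd_overCat _)
    (repByAlgSp1_of_diag h𝒳 hX.diag (repByAlgSp_overCat _) P) (repWith_overMap_smooth τ)
    (repWith_overMap_surj τ hτsur)
    (repWith_of_iso k.symm (repWith_locP_comp H12AlgSp.etLocal_smooth (fibGrpd_overCat _)
      (fibGrpd_overCat _) (repWith_overMap_smooth ω) hx))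

end Groth.Agent.H14AlgSt
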