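import Groth.Agent.H14AlgSt.Noeth
import Groth.Agent.H14AlgSt.QC
import Groth.Agent.H14AlgSt.AlgFp
import Groth.Agent.H14AlgSt.SigmaChart
import Groth.Agent.H14AlgSt.LocQ2
import Groth.Agent.H12AlgSp.DvrSquare
import Groth.Agent.H12AlgSp.LQFScheme
import Groth.Agent.H17.QcImage

/-!
# Discrete valuation rings through specializations on algebraic stacks
-/

set_option autoImplicit false
set_option backward.isDefEq.respectTransparency false
set_option backward.isDefEq.respectTransparency.types false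

universe u

open CategoryTheory CategoryTheory.Functor Opposite AlgebraicGeometry CategoryTheory.Limits IsLocalRing

noncomputable section

namespace Groth.Agent.H14AlgSt

open H14Fib H14Stk

/-- A specialization of an image point is realised by a trait through the given point. -/
theorem exists_dvr_square_through {X Y : Scheme.{u}} [IsLocallyNoetherian Y] (h : X ⟶ Y)
    [LocallyOfFiniteType h] (x : X) (y : Y) (hs : h x ⤳ y) :
    ∃ (A : Type u) (_ : CommRing A) (_ : IsDomain A) (_ : IsDiscreteValuationRing A)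
      (k : Spec (CommRingCat.of A) ⟶ Y) (l : Spec (CommRingCat.of (FractionRing A)) ⟶ X),
      k (closedPoint A) = y ∧ (∀ p, l p = x) ∧
      l ≫ h = Spec.map (CommRingCat.ofHom (algebraMap A (FractionRing A))) ≫ k := by
  have hpt : ∀ q : Spec (X.residueField x), X.fromSpecResidueField x q = x := fun q =>
    Scheme.fromSpecResidueField_apply x q
  by_cases hne : y = h x
  · subst hne
    let K := X.residueField x
    let C : (K : Type u) →+* PowerSeries K := PowerSeries.C
    refine ⟨PowerSeries K, inferInstance, inferInstance, inferInstance,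
      Spec.map (CommRingCat.ofHom C) ≫ X.fromSpecResidueField x ≫ h,
      Spec.map (CommRingCat.ofHom ((algebraMap (PowerSeries K) (FractionRing (PowerSeries K))).comp C)) ≫
        X.fromSpecResidueField x, ?_, ?_, ?_⟩
    · rw [Scheme.Hom.comp_apply, Scheme.Hom.comp_apply]
      exact congrArg _ (hpt _)
    · intro p
      rw [Scheme.Hom.comp_apply]
      exact hpt _
    · rw [Category.assoc, ← Spec.map_comp_assoc, ← CommRingCat.ofHom_comp]
  · obtain ⟨A, k, hA, hk, he⟩ := Groth.Agent.H11Val.exists_dvr_hom_through h x y hs hne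
    obtain ⟨e, -, hee⟩ := Groth.Agent.H11Val.map_fractionRing A (X.residueField x)
    refine ⟨A, inferInstance, inferInstance, hA, k, e ≫ X.fromSpecResidueField x, hk, ?_, ?_⟩
    · intro p
      rw [Scheme.Hom.comp_apply]
      exact hpt _
    · rw [Category.assoc, ← he, ← hee, Category.assoc]
      rfl

variable {S : Scheme.{u}} {𝒳 𝒴 𝒵 : AlgSt.Cat S}

/-- The map from a fibre product to the product has the properties of the diagonal of the base. -/
lemma repWith_prodDown {P : MorphismProperty (AlgSp.Sp S)}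
    (hΔ : AlgSt.RepByAlgSpWith P (FibCat.diag (FibCat.toSelf 𝒵)))
    (f : 𝒳 ⥤ᵇ 𝒵) (g : 𝒴 ⥤ᵇ 𝒵) : AlgSt.RepByAlgSpWith P (prodDown f g) := by
  let H := FibCat.toSelf 𝒵
  have : (BasedFunctor.id (FibCat.selfOver (Over S))).toFunctor.Full :=
    inferInstanceAs (𝟭 (Over S)).Full
  have : (BasedFunctor.id (FibCat.selfOver (Over S))).toFunctor.Faithful :=
    inferInstanceAs (𝟭 (Over S)).Faithful
  let T : FibCat.fp (BasedFunctor.comp f H) (BasedFunctor.comp g H) ⥤ᵇ
      FibCat.fp (FibCat.toSelf 𝒳) (FibCat.toSelf 𝒴) :=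
    fpMap (BasedFunctor.id 𝒳) (BasedFunctor.id 𝒴) (BasedFunctor.id (FibCat.selfOver (Over S)))
      (eqToIso (comp_toSelf f)) (eqToIso (comp_toSelf g))
  have hT : FibCat.IsEquivOver T :=
    fpMap_isEquivOver _ _ _ _ _ (essSurjOver_id _) (essSurjOver_id _)
  have h := (repWith_comp_equiv_iff hT).2
    ((repWith_equiv_comp_iff (magicFun_isEquivOver f g H)).1 (repWith_fpFst (pairMap f g H) hΔ))
  refine repWith_of_iso ?_ h
  exact mkIso (fun x => fpIsoMk (Iso.refl _) (Iso.refl _)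
      (selfFp_w (𝟙 (𝒳.p.obj x.obj.fst)) (IsHomLift.id rfl) (IsHomLift.id (fp_snd_obj x))))
    (fun {_ _} m => fp_hom_ext ((Category.comp_id _).trans (Category.id_comp _).symm)
        ((Category.comp_id _).trans (Category.id_comp _).symm))
    (fun x => (fp_isHomLift_iff _ _).2 (IsHomLift.id rfl))

/-- With a quasi-compact diagonal the fibre product of two affine charts is covered by an affine. -/
lemma exists_affine_points_fp [QuasiSeparatedSpace S] (h𝒴 : FibCat.IsFibGrpd 𝒴.p)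
    (hΔ : AlgSt.RepByAlgSpWith AlgSp.IsQuasiCompactMor (FibCat.diag (FibCat.toSelf 𝒴)))
    {V K : Over S} [CompactSpace V.left] [CompactSpace K.left]
    (a : FibCat.overCat V ⥤ᵇ 𝒴) (b : FibCat.overCat K ⥤ᵇ 𝒴) :
    ∃ (B : Over S) (_ : IsAffine B.left) (β : FibCat.overCat B ⥤ᵇ FibCat.fp a b),
      Function.Surjective (AlgSt.Points.ofChart β) := by
  obtain ⟨W, z, hW, -, hzs⟩ := isQCMor_toSelf (isAlgStack_overCat K) (isQuasiCompact_overCat K) _
    (isAlgStack_overCat V) (isQuasiCompact_overCat V) (FibCat.toSelf (FibCat.overCat V))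
  have := hW
  obtain ⟨G, e, he, hσ⟩ := repWith_prodDown hΔ a b W z
  have hG : AlgSp.IsQuasiCompactSp G.obj := hσ (AlgSp.IsAlgSpace.yon_obj W)
    (H12AlgSp.isQuasiCompactSp_yon_iff.2 inferInstance) (𝟙 _) (𝟙 _) _ IsPullback.of_id_fst
  obtain ⟨B, β, hB, -, hβs⟩ := (isQuasiCompact_ofSp_iff G).2 hG
  refine ⟨B, hB, BasedFunctor.comp β (BasedFunctor.comp e (FibCat.fpSnd z (prodDown a b))), fun q => ?_⟩
  have hP := fp_fibGrpd (F := a) (G := b) (fibGrpd_overCat V) (fibGrpd_overCat K) h𝒴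
  have hQ := fp_fibGrpd (F := FibCat.toSelf (FibCat.overCat V)) (G := FibCat.toSelf (FibCat.overCat K))
    (fibGrpd_overCat V) (fibGrpd_overCat K) selfOver_fibGrpd
  obtain ⟨t, ht⟩ := surjective_of_repWith hQ hzs (AlgSt.Points.map (prodDown a b) q)
  obtain ⟨v, -, hv⟩ := exists_points_fp (fibGrpd_overCat W) hP hQ (F := z) (G := prodDown a b) ht
  obtain ⟨v₀, rfl⟩ := (points_map_bijective he).2 v
  obtain ⟨s, rfl⟩ := ofChart_surjective (isAlgStack_ofSp G).isStack.1 hβs v₀
  refine ⟨s, ?_⟩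
  rw [ofChart_comp, points_map_comp, hv]

/-- A specialization of an image point is realised by a trait mapping to the stacks. -/
theorem exists_dvr_realizing [QuasiSeparatedSpace S] {J : Precoverage Scheme.{u}}
    (h𝒳 : AlgSt.IsAlgStack J 𝒳) (h𝒴 : AlgSt.IsAlgStack J 𝒴)
    (hn : AlgSt.SmoothLocally (fun T => IsLocallyNoetherian T) 𝒴)
    (hΔ : AlgSt.RepByAlgSpWith AlgSp.IsQuasiCompactMor (FibCat.diag (FibCat.toSelf 𝒴)))
    (f : 𝒳 ⥤ᵇ 𝒴) (hft : AlgSt.LocQ (AlgSp.LocP @LocallyOfFiniteType) f)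
    (x : AlgSt.Points 𝒳) (y₀ : AlgSt.Points 𝒴) (hsp : AlgSt.Points.map f x ⤳ y₀) :
    ∃ (R : Type u) (_ : CommRing R) (_ : IsDomain R) (_ : IsDiscreteValuationRing R)
      (sR : Spec (CommRingCat.of R) ⟶ S)
      (a : FibCat.overCat (Over.mk (Spec.map (CommRingCat.ofHom (algebraMap R (FractionRing R))) ≫ sR)) ⥤ᵇ 𝒳)
      (b : FibCat.overCat (Over.mk sR) ⥤ᵇ 𝒴),
      Nonempty (BasedFunctor.comp a f ≅
        BasedFunctor.comp (AlgSt.overMap (Over.homMk (Spec.map (CommRingCat.ofHom (algebraMap R (FractionRing R)))) rfl :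
          Over.mk (Spec.map (CommRingCat.ofHom (algebraMap R (FractionRing R))) ≫ sR) ⟶ Over.mk sR)) b) ∧
      (∀ p, AlgSt.Points.ofChart a p = x) ∧
      AlgSt.Points.ofChart b (IsLocalRing.closedPoint R) = y₀ := by
  obtain ⟨U, z, hz, hzs⟩ := h𝒴.atlas
  obtain ⟨u₁, hu₁⟩ := ofChart_surjective h𝒴.isStack.1 hzs y₀
  obtain ⟨(U₀ : U.left.Opens), (hU₀ : IsAffineOpen U₀), hmem, -⟩ :=
    TopologicalSpace.Opens.isBasis_iff_nbhd.mp U.left.isBasis_affineOpens (TopologicalSpace.Opens.mem_top u₁)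
  let V : Over S := Over.mk (U₀.ι ≫ U.hom)
  let i : V ⟶ U := Over.homMk U₀.ι rfl
  haveI : IsAffine V.left := hU₀
  let u : V.left := ⟨u₁, hmem⟩
  let yV := BasedFunctor.comp (AlgSt.overMap i) z
  have hyV : AlgSt.RepByAlgSpWith (AlgSp.LocP @Smooth) yV :=
    repWith_locP_comp H12AlgSp.etLocal_smooth (fibGrpd_overCat V) (fibGrpd_overCat U)
      (haveI : IsOpenImmersion i.left := inferInstanceAs (IsOpenImmersion U₀.ι)
       repWith_overMap_smooth i) hz
  have hopen := isOpenMap_ofChart h𝒴.isStack.1 (repWith_locP_mono smooth_le_flat hyV)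
    (repWith_locP_mono smooth_le_lfp hyV)
  have hu : AlgSt.Points.ofChart yV u = y₀ := by
    rw [ofChart_comp_overMap]
    exact hu₁
  -- the point as a morphism
  obtain ⟨X₀, ξ, -, hξs⟩ := h𝒳.atlas
  obtain ⟨t, ht⟩ := ofChart_surjective h𝒳.isStack.1 hξs x
  let K : Over S := Over.mk (X₀.left.fromSpecResidueField t ≫ X₀.hom)
  let c : K ⟶ X₀ := Over.homMk (X₀.left.fromSpecResidueField t) rfl
  have : CompactSpace K.left := inferInstanceAs (CompactSpace ↥(Spec (X₀.left.residueField t)))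
  let px := BasedFunctor.comp (AlgSt.overMap c) ξ
  have hpx : ∀ k : K.left, AlgSt.Points.ofChart px k = x := fun k => by
    rw [ofChart_comp_overMap, show c.left k = t from Scheme.fromSpecResidueField_apply t k, ht]
  let g := BasedFunctor.comp px f
  obtain ⟨B, hB, β, hβ⟩ := exists_affine_points_fp h𝒴.isStack.1 hΔ yV g
  obtain ⟨h, ⟨j⟩⟩ := exists_overMap_iso (BasedFunctor.comp β (FibCat.fpFst yV g))
  have himg : ∀ b : B.left, AlgSt.Points.ofChart yV (h.left b) = AlgSt.Points.map f x := fun b => by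
    have h1 := points_map_iso (FibCat.fpIso yV g) (AlgSt.Points.ofChart β b)
    rw [← ofChart_comp, ← ofChart_comp] at h1
    have h2 : AlgSt.Points.ofChart (BasedFunctor.comp (BasedFunctor.comp β (FibCat.fpFst yV g)) yV) b =
        AlgSt.Points.ofChart yV (h.left b) := by
      rw [ofChart_comp, ofChart_iso j, ← ofChart_comp, ofChart_comp_overMap]
    have h3 : AlgSt.Points.ofChart (BasedFunctor.comp (BasedFunctor.comp β (FibCat.fpSnd yV g)) g) b =
        AlgSt.Points.map f x := by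
      rw [ofChart_comp, map_eq_ofChart, ofChart_comp]
      exact congrArg (AlgSt.Points.map f) (hpx _)
    exact h2.symm.trans (h1.trans h3)
  have hcl : u ∈ closure (Set.range h.left) := by
    refine mem_closure_iff.2 fun O hO huO => ?_
    obtain ⟨o, ho, hoy⟩ := hsp.mem_open (hopen O hO) ⟨u, huO, hu⟩
    obtain ⟨k₀⟩ : Nonempty K.left := ⟨closedPoint (X₀.left.residueField t)⟩
    have e1 : AlgSt.Points.map yV (AlgSt.Points.ofChart (BasedFunctor.id (FibCat.overCat V)) o) =
        AlgSt.Points.map g (AlgSt.Points.ofChart (BasedFunctor.id (FibCat.overCat K)) k₀) := by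
      rw [← ofChart_eq_map, ← ofChart_eq_map, hoy, ofChart_comp, hpx]
    obtain ⟨w, hw, -⟩ := exists_points_fp (fibGrpd_overCat V) (fibGrpd_overCat K) h𝒴.isStack.1
      (F := yV) (G := g) e1
    obtain ⟨b, rfl⟩ := hβ w
    rw [← ofChart_comp, ofChart_iso j b, ofChart_eq_map] at hw
    have h2 := congrArg chartPoint hw
    rw [chartPoint_overMap, chartPoint_ofChart, chartPoint_ofChart] at h2
    exact ⟨o, ho, b, h2⟩
  obtain ⟨b₀, hb₀⟩ := H17.exists_specializes_of_mem_closure_range h.left hcl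
  -- a chart of the fibre product
  obtain ⟨A, Θ, hΘ, hΘs⟩ := hasAtlas_fp H12AlgSp.etLocal_smooth h𝒳.isStack.1 (fibGrpd_overCat V)
    h𝒴.diag h𝒳.atlas (isAlgStack_overCat V).atlas f yV
  obtain ⟨h', ⟨j'⟩⟩ := exists_overMap_iso (BasedFunctor.comp Θ (FibCat.fpSnd f yV))
  have hlft : LocallyOfFiniteType h'.left :=
    AlgSp.locP_yon_map (prop_of_locQ smLocal_lft hft hyV Θ hΘ j')
  have : IsLocallyNoetherian V.left := hn V yV hyV
  have e2 : AlgSt.Points.map f x =
      AlgSt.Points.map yV (AlgSt.Points.ofChart (BasedFunctor.id (FibCat.overCat V)) (h.left b₀)) := by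
    rw [← ofChart_eq_map, himg]
  obtain ⟨w, hw₁, hw₂⟩ := exists_points_fp h𝒳.isStack.1 (fibGrpd_overCat V) h𝒴.isStack.1
    (F := f) (G := yV) e2
  obtain ⟨v, rfl⟩ := ofChart_surjective (fp_fibGrpd h𝒳.isStack.1 (fibGrpd_overCat V) h𝒴.isStack.1) hΘs w
  have hv : h'.left v = h.left b₀ := by
    rw [← ofChart_comp, ofChart_iso j' v, ofChart_eq_map] at hw₂
    have h2 := congrArg chartPoint hw₂
    rwa [chartPoint_overMap, chartPoint_ofChart, chartPoint_ofChart] at h2
  obtain ⟨R, iR, iD, iV, k, l, hk, hl, hsq⟩ :=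
    exists_dvr_square_through h'.left v u (hv ▸ hb₀)
  let bT : Over.mk (k ≫ V.hom) ⟶ V := Over.homMk k rfl
  let φ : Over.mk (Spec.map (CommRingCat.ofHom (algebraMap R (FractionRing R))) ≫ k ≫ V.hom) ⟶
      Over.mk (k ≫ V.hom) := Over.homMk (Spec.map (CommRingCat.ofHom (algebraMap R (FractionRing R)))) rfl
  let d : Over.mk (Spec.map (CommRingCat.ofHom (algebraMap R (FractionRing R))) ≫ k ≫ V.hom) ⟶ A :=
    Over.homMk l (by
      change l ≫ A.hom = _
      rw [← Over.w h', ← Category.assoc, hsq, Category.assoc]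
      rfl)
  have hd : d ≫ h' = φ ≫ bT := Over.OverMorphism.ext hsq
  refine ⟨R, iR, iD, iV, k ≫ V.hom, BasedFunctor.comp (AlgSt.overMap d) (BasedFunctor.comp Θ (FibCat.fpFst f yV)),
    BasedFunctor.comp (AlgSt.overMap bT) yV, ?_, fun p => ?_, ?_⟩
  · have e₂ : BasedFunctor.comp (BasedFunctor.comp Θ (FibCat.fpFst f yV)) f ≅
        BasedFunctor.comp (AlgSt.overMap h') yV :=
      (Stk.restr Θ 𝒴).mapIso (FibCat.fpIso f yV) ≪≫ (post (FibCat.overCat A) yV).mapIso j'
    obtain ⟨k₁⟩ := overMap_comp_iso d h' yV h𝒴.isStack.1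
    obtain ⟨k₂⟩ := overMap_comp_iso φ bT yV h𝒴.isStack.1
    exact ⟨(Stk.restr (AlgSt.overMap d) 𝒴).mapIso e₂ ≪≫ k₁ ≪≫ eqToIso (by rw [hd]) ≪≫ k₂.symm⟩
  · rw [ofChart_comp_overMap, show d.left p = v from hl p]
    exact hw₁
  · rw [ofChart_comp_overMap]
    exact (congrArg (AlgSt.Points.ofChart yV) hk).trans hu

end Groth.Agent.H14AlgSt
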