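import Groth.Agent.H14AlgSt.LocQ4

/-!
# Charts by spaces; the diagonal of a morphism locally of finite type
-/

set_option autoImplicit false
set_option backward.isDefEq.respectTransparency false
set_option backward.isDefEq.respectTransparency.types false

universe u

open CategoryTheory Opposite AlgebraicGeometry CategoryTheory.Limits

noncomputable section

namespace Groth.Agent.H14AlgSt

open H14Fib H14Stk H13AlgSp

variable {S : Scheme.{u}} {P : MorphismProperty (AlgSp.Sp S)} {𝒳 𝒴 𝒵 : AlgSt.Cat S}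

local notation "K₀" => Scheme.fppfPrecoverage

/-- Descent of properties of a relative diagonal along an atlas. -/
lemma repWith_diag_of_atlas' (hP : AlgSp.IsLocalOnBase AlgSp.IsFppfCover P)
    (hiso : SourceIsoInv P) (H : 𝒳 ⥤ᵇ 𝒴) (hΔ : AlgSt.RepByAlgSp1 (FibCat.diag H)) {U : Over S}
    {x : FibCat.overCat U ⥤ᵇ 𝒳} (h1 : AlgSt.RepByAlgSpWith (AlgSp.LocP @Flat) x)
    (h2 : AlgSt.RepByAlgSpWith (AlgSp.LocP @LocallyOfFinitePresentation) x)
    (h3 : AlgSt.RepByAlgSpWith AlgSp.IsSurjectiveMor x)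
    (h : AlgSt.RepByAlgSpWith P (fpDown x x H)) :
    AlgSt.RepByAlgSpWith P (FibCat.diag H) := by
  refine repWith_of_cover hP hiso hΔ (pairMap x x H) (fun T y => ?_)
    ((repWith_equiv_comp_iff (magicFun_isEquivOver x x H)).2 h)
  obtain ⟨ι, C, c, hc1, hc2, hc3, hc4⟩ :=
    exists_lift_of_fppf h1 h2 h3 T (BasedFunctor.comp y (FibCat.fpFst H H))
  choose z hz using hc4
  have hd := fun i => exists_lift_of_fppf h1 h2 h3 (C i)
    (BasedFunctor.comp (AlgSt.overMap (c i)) (BasedFunctor.comp y (FibCat.fpSnd H H)))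
  choose κ D d hd1 hd2 hd3 hd4 using hd
  choose z' hz' using hd4
  refine ⟨Σ i, κ i, fun p => D p.1 p.2, fun p => d p.1 p.2 ≫ c p.1, fun p => ?_, fun p => ?_,
    fun t => ?_, fun p => ?_⟩
  · have := hd1 p.1 p.2
    have := hc1 p.1
    rw [Over.comp_left]
    infer_instance
  · have := hd2 p.1 p.2
    have := hc2 p.1
    rw [Over.comp_left]
    infer_instance
  · obtain ⟨i, a, rfl⟩ := hc3 t
    obtain ⟨j, b, rfl⟩ := hd3 i a
    exact ⟨⟨i, j⟩, b, rfl⟩
  obtain ⟨i, j⟩ := p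
  obtain ⟨j₁⟩ := hz i
  obtain ⟨j₂⟩ := hz' i j
  let z₁ := BasedFunctor.comp (AlgSt.overMap (d i j)) (z i)
  let m := overMapCompIso (d i j) (c i)
  let y' := BasedFunctor.comp (AlgSt.overMap (d i j ≫ c i)) y
  let α : BasedFunctor.comp z₁ x ≅ BasedFunctor.comp y' (FibCat.fpFst H H) :=
    (Stk.restr (AlgSt.overMap (d i j)) _).mapIso j₁ ≪≫
      (post _ (BasedFunctor.comp y (FibCat.fpFst H H))).mapIso m
  let β : BasedFunctor.comp (z' i j) x ≅ BasedFunctor.comp y' (FibCat.fpSnd H H) :=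
    j₂ ≪≫ (post _ (BasedFunctor.comp y (FibCat.fpSnd H H))).mapIso m
  let e : BasedFunctor.comp z₁ (BasedFunctor.comp x H) ≅
      BasedFunctor.comp (z' i j) (BasedFunctor.comp x H) :=
    (post _ H).mapIso α ≪≫ (Stk.restr y' _).mapIso (FibCat.fpIso H H) ≪≫ (post _ H).mapIso β.symm
  let w := FibCat.fpLift (F := BasedFunctor.comp x H) (G := BasedFunctor.comp x H) z₁ (z' i j) e
  refine ⟨w, ⟨mkIso (fun s => fpIsoMk (isoApp α s) (isoApp β s) ?_) (fun {s t} f => fp_hom_ext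
    (α.hom.toNatTrans.naturality f) (β.hom.toNatTrans.naturality f))
    (fun s => (fp_isHomLift_iff _ _).2 ?_)⟩⟩
  · let A' : 𝒳.obj := (BasedFunctor.comp y' (FibCat.fpFst H H)).obj s
    change H.map (isoApp α s).hom ≫ (y'.obj s).obj.iso.hom =
      (𝟙 _ ≫ (H.map (isoApp α s).hom ≫ (y'.obj s).obj.iso.hom ≫ H.map (isoApp β s).inv) ≫ 𝟙 _) ≫
        H.map (isoApp β s).hom
    simp only [Category.id_comp, Category.comp_id, Category.assoc]
    erw [← H.toFunctor.map_comp, (isoApp β s).inv_hom_id, H.toFunctor.map_id, Category.comp_id]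
  · exact isoApp_lift α s

/-- The diagonal of a morphism locally of finite type is locally of finite presentation. -/
lemma lfp_diag_of_lft (h𝒳 : AlgSt.IsAlgStack K₀ 𝒳) (h𝒴 : AlgSt.IsAlgStack K₀ 𝒴) {f : 𝒳 ⥤ᵇ 𝒴}
    (hf : AlgSt.LocQ (AlgSp.LocP @LocallyOfFiniteType) f) :
    AlgSt.RepByAlgSpWith (AlgSp.LocP @LocallyOfFinitePresentation) (FibCat.diag f) := by
  obtain ⟨U, x, hx, hxs⟩ := h𝒳.atlas
  have hU := repByAlgSp_overCat U
  let xf := BasedFunctor.comp x f
  have hr : AlgSt.RepByAlgSp1 xf := repByAlgSp1_of_diag h𝒴.isStack.1 h𝒴.diag hU xf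
  have hl : AlgSt.RepByAlgSpWith (AlgSp.LocP @LocallyOfFiniteType) xf :=
    repWith_of_locQ smLocal_lft (baseStable_locP H12AlgSp.etLocal_lft)
      (localFppf_of_fpqc (S10526.result S)) (isAlgStack_overCat U) h𝒴 hr
      (locQ_comp H12AlgSp.etLocal_lft smLocal_lft (isAlgStack_overCat U) h𝒳 h𝒴
        (locQ_of_repWith smLocal_lft (isAlgStack_overCat U) h𝒳
          (repWith_locP_mono smooth_le_lft hx)) hf)
  have hR : AlgSt.RepByAlgSp (FibCat.fp x x) := repByAlgSp1_of_with hx U x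
  have hQ : AlgSt.RepByAlgSp (FibCat.fp xf xf) := hr U xf
  refine repWith_diag_of_atlas' (localFppf_of_fpqc (S10527.result S)) (sourceIsoInv_locP _) f
    (rep1_diag_of_algStack h𝒳 h𝒴 f) (repWith_locP_mono smooth_le_flat hx)
    (repWith_locP_mono smooth_le_lfp hx) hxs ?_
  have hc : CancelsLeft (S := S) (AlgSp.LocP @LocallyOfFinitePresentation)
      (AlgSp.LocP @LocallyOfFiniteType) := fun _ _ _ _ _ hZ _ _ hg h =>
    H12AlgSp.locP_of_postcomp (Q := @LocallyOfFinitePresentation) (R := @LocallyOfFiniteType)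
      H12AlgSp.etLocal_lfp (fun _ _ _ a b (_ : LocallyOfFinitePresentation (a ≫ b))
        (_ : LocallyOfFiniteType b) => H12AlgSp.lfp_of_comp a b) hZ h hg
  exact repWith_cancel (baseStable_locP H12AlgSp.etLocal_lfp) hc
    (isFibSetoid_of_rep hR).1 (isFibSetoid_of_rep hQ).1 (g := FibCat.fpFst xf xf)
    (repByAlgSp1_of_rep hR hQ _) (repWith_fpFst x (repWith_locP_mono smooth_le_lfp hx))
    (repWith_fpFst xf hl)

lemma locQ_ofSpMap_iff (hP : AlgSp.IsSmoothLocalST P) {F G : AlgSp.Space S}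
    (a : F.obj ⟶ G.obj) : AlgSt.LocQ P (AlgSt.ofSpMap a) ↔ P a := by
  have hFst := (isDM_of_repByAlgSp (repByAlgSp_ofSp F)).1
  have hGst := (isDM_of_repByAlgSp (repByAlgSp_ofSp G)).1
  obtain ⟨V, p, hpe, hps⟩ := G.property.atlas
  have sq := IsPullback.of_hasPullback a p
  have hW := H12AlgSp.isAlgSpace_of_isPullback G.property.diag F.property
    (AlgSp.IsAlgSpace.yon_obj V) sq
  obtain ⟨A, q, hqe, hqs⟩ := hW.atlas
  obtain ⟨h, hh⟩ := (AlgSp.yon S).map_surjective (q ≫ pullback.snd a p)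
  have le : (@Etale : MorphismProperty Scheme.{u}) ≤ @Smooth :=
    fun _ _ g (_ : Etale g) => (inferInstance : Smooth g)
  have hq : AlgSp.LocP @Smooth q :=
    H12AlgSp.locP_of_repWith H12AlgSp.etLocal_smooth (H12AlgSp.repWith_le le hqe)
  have key : P a ↔ P ((AlgSp.yon S).map h) := by
    rw [hh]
    refine (LocalST.localOnBase hP (fun _ : PUnit.{u+1} => (AlgSp.yon S).obj V) (fun _ => p)
      G.property (fun _ => AlgSp.IsAlgSpace.yon_obj V) (LocalST.isCover_single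
        (H12AlgSp.locP_of_repWith H12AlgSp.etLocal_smooth (H12AlgSp.repWith_le le hpe))
        (fun x => H12AlgSp.surjective_map_of_repWith le_rfl hps x)) a F.property
      (fun _ => Limits.pullback a p) (fun _ => Limits.pullback.snd a p)
      (fun _ => Limits.pullback.fst a p) (fun _ => hW) (fun _ => sq)).trans ⟨fun hp => ?_,
        fun hp _ => ?_⟩
    · exact hP.precomp (AlgSp.IsAlgSpace.yon_obj A) hW (AlgSp.IsAlgSpace.yon_obj V) q _ hq
        (hp PUnit.unit)
    · exact prop_precomp_cover hP (AlgSp.IsAlgSpace.yon_obj A) hW (AlgSp.IsAlgSpace.yon_obj V) hq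
        (fun x => H12AlgSp.surjective_map_of_repWith le_rfl hqs x) hp
  let y := BasedFunctor.comp (AlgSt.ofOverCat V) (AlgSt.ofSpMap p)
  have sq' : IsPullback (pullback.snd a p).hom (pullback.fst a p).hom (testMap y) a.hom := by
    change IsPullback _ _ (testMap (BasedFunctor.comp (AlgSt.ofOverCat V) (Stk.ofPshMap p.hom))) _
    rw [testMap_ofOverCat]
    exact (sq.map (sheafToPresheaf (AlgSp.J S) (Type (u + 1)))).flip
  obtain ⟨E, hE, ⟨i⟩⟩ := exists_comparison a.hom y sq'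
  let b := BasedFunctor.comp (AlgSt.ofOverCat A) (AlgSt.ofSpMap q)
  let a' : FibCat.overCat A ⥤ᵇ FibCat.fp (AlgSt.ofSpMap a) y :=
    BasedFunctor.comp (BasedFunctor.comp b E) (fpSwap y (AlgSt.ofSpMap a))
  have hy : ∀ {R : MorphismProperty (AlgSp.Sp S)}, AlgSt.RepByAlgSpWith R (AlgSt.ofSpMap p) →
      AlgSt.RepByAlgSpWith R y := fun hR =>
    (repWith_equiv_comp_iff (ofOverCat_isEquivOver V)).1 hR
  have ha' : ∀ {R : MorphismProperty (AlgSp.Sp S)}, AlgSt.RepByAlgSpWith R (AlgSt.ofSpMap q) →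
      AlgSt.RepByAlgSpWith R a' := fun hR =>
    (repWith_comp_equiv_iff (fpSwap_isEquivOver y _)).2 ((repWith_comp_equiv_iff hE).2
      ((repWith_equiv_comp_iff (ofOverCat_isEquivOver A)).1 hR))
  let m : BasedFunctor.comp (BasedFunctor.comp (AlgSt.ofOverCat A)
      (AlgSt.ofSpMap (q ≫ pullback.snd a p))) (AlgSt.toOverCat V) ≅ AlgSt.overMap h := by
    rw [← hh]
    exact mkIso (fun s => Iso.refl _)
      (fun {_ _} φ => (Category.comp_id _).trans ((Category.id_comp _).trans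
        (Over.OverMorphism.ext rfl)).symm)
      (fun s => IsHomLift.id rfl)
  let j : BasedFunctor.comp a' (FibCat.fpSnd (AlgSt.ofSpMap a) y) ≅ AlgSt.overMap h :=
    (Stk.restr b _).mapIso i ≪≫ m
  have hy1 := hy (repWith_locP_of_repWith H12AlgSp.etLocal_smooth p (H12AlgSp.repWith_le le hpe))
  have ha1 := ha' (repWith_locP_of_repWith H12AlgSp.etLocal_smooth q (H12AlgSp.repWith_le le hqe))
  rw [key]
  exact ⟨fun hl => prop_of_locQ hP hl hy1 a' ha1 j, fun hl =>
    locQ_of_atlas hFst.isStack.1 hGst.isStack.1 hy1 (hy (repWith_surjective_of_repWith p hps)) ha1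
      (ha' (repWith_surjective_of_repWith q hqs)) j hl⟩

lemma locQ_iff_space_square (hP : AlgSp.IsSmoothLocalST P) (h𝒳 : FibCat.IsFibGrpd 𝒳.p)
    (h𝒴 : FibCat.IsFibGrpd 𝒴.p) (f : 𝒳 ⥤ᵇ 𝒴) :
    AlgSt.LocQ P f ↔
      ∃ (U V : AlgSp.Space S) (x : AlgSt.ofSp U.obj ⥤ᵇ 𝒳) (y : AlgSt.ofSp V.obj ⥤ᵇ 𝒴) (h : U ⟶ V)
        (_ : BasedFunctor.comp x f ≅ BasedFunctor.comp (AlgSt.ofSpMap h.hom) y),
        AlgSt.RepByAlgSpWith (AlgSp.LocP @Smooth) x ∧ AlgSt.RepByAlgSpWith AlgSp.IsSurjectiveMor x ∧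
        AlgSt.RepByAlgSpWith (AlgSp.LocP @Smooth) y ∧ P h.hom := by
  let mk' : ∀ {U V : Over S} (u : U ⟶ V),
      BasedFunctor.comp (AlgSt.ofSpMap ((AlgSp.yon S).map u)) (AlgSt.toOverCat V) ≅
        BasedFunctor.comp (AlgSt.toOverCat U) (AlgSt.overMap u) := fun {U V} u =>
    mkIso (fun s => Iso.refl _)
      (fun {_ _} φ => (Category.comp_id _).trans ((Category.id_comp _).trans
        (Over.OverMorphism.ext rfl)).symm)
      (fun s => IsHomLift.id rfl)
  constructor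
  · rintro ⟨U, V, x, y, h, α, hxm, hxs, hym, hh⟩
    refine ⟨⟨(AlgSp.yon S).obj U, AlgSp.IsAlgSpace.yon_obj U⟩,
      ⟨(AlgSp.yon S).obj V, AlgSp.IsAlgSpace.yon_obj V⟩, BasedFunctor.comp (AlgSt.toOverCat U) x,
      BasedFunctor.comp (AlgSt.toOverCat V) y, ObjectProperty.homMk ((AlgSp.yon S).map h), ?_,
      (repWith_equiv_comp_iff (toOverCat_isEquivOver U)).1 hxm,
      (repWith_equiv_comp_iff (toOverCat_isEquivOver U)).1 hxs,
      (repWith_equiv_comp_iff (toOverCat_isEquivOver V)).1 hym, hh⟩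
    exact (Stk.restr (AlgSt.toOverCat U) _).mapIso α ≪≫ (post _ y).mapIso (mk' h).symm
  · rintro ⟨U, V, x, y, h, α, hxm, hxs, hym, hh⟩
    obtain ⟨V₀, p, hpe, hps⟩ := V.property.atlas
    have le : (@Etale : MorphismProperty Scheme.{u}) ≤ @Smooth :=
      fun _ _ g (_ : Etale g) => (inferInstance : Smooth g)
    have sq := IsPullback.of_hasPullback h.hom p
    have hW := H12AlgSp.isAlgSpace_of_isPullback V.property.diag U.property
      (AlgSp.IsAlgSpace.yon_obj V₀) sq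
    obtain ⟨U₀, q, hqe, hqs⟩ := hW.atlas
    obtain ⟨h₀, hh₀⟩ := (AlgSp.yon S).map_surjective (q ≫ pullback.snd h.hom p)
    have hq : AlgSp.LocP @Smooth q :=
      H12AlgSp.locP_of_repWith H12AlgSp.etLocal_smooth (H12AlgSp.repWith_le le hqe)
    have hP₀ : P ((AlgSp.yon S).map h₀) := by
      rw [hh₀]
      exact hP.precomp (AlgSp.IsAlgSpace.yon_obj U₀) hW (AlgSp.IsAlgSpace.yon_obj V₀) q _ hq
        (hP.baseChange U.property V.property hW (AlgSp.IsAlgSpace.yon_obj V₀) h.hom p _ _ sq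
          (H12AlgSp.locP_of_repWith H12AlgSp.etLocal_smooth (H12AlgSp.repWith_le le hpe)) hh)
    let r := q ≫ pullback.fst h.hom p
    have hr : AlgSp.RepWith @Etale r :=
      H12AlgSp.repWith_comp hqe (H12AlgSp.repWith_of_isPullback sq.flip hpe)
    have hrs : AlgSp.RepWith @Surjective r :=
      H12AlgSp.repWith_comp hqs (H12AlgSp.repWith_of_isPullback sq.flip hps)
    have hU := (isFibSetoid_of_rep (repByAlgSp_ofSp U)).1
    have hV := (isFibSetoid_of_rep (repByAlgSp_ofSp V)).1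
    let u := BasedFunctor.comp (AlgSt.ofOverCat U₀) (AlgSt.ofSpMap r)
    let v := BasedFunctor.comp (AlgSt.ofOverCat V₀) (AlgSt.ofSpMap p)
    have hw : r ≫ h.hom = (AlgSp.yon S).map h₀ ≫ p := by
      rw [hh₀, Category.assoc, Category.assoc, pullback.condition]
    refine ⟨U₀, V₀, BasedFunctor.comp u x, BasedFunctor.comp v y, h₀, ?_,
      repWith_locP_comp H12AlgSp.etLocal_smooth (fibGrpd_overCat U₀) hU
        ((repWith_equiv_comp_iff (ofOverCat_isEquivOver U₀)).1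
          (repWith_locP_of_repWith H12AlgSp.etLocal_smooth r (H12AlgSp.repWith_le le hr))) hxm,
      repWith_surjective_comp (fibGrpd_overCat U₀) hU
        ((repWith_equiv_comp_iff (ofOverCat_isEquivOver U₀)).1
          (repWith_surjective_of_repWith r hrs)) hxs,
      repWith_locP_comp H12AlgSp.etLocal_smooth (fibGrpd_overCat V₀) hV
        ((repWith_equiv_comp_iff (ofOverCat_isEquivOver V₀)).1
          (repWith_locP_of_repWith H12AlgSp.etLocal_smooth p (H12AlgSp.repWith_le le hpe))) hym,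
      hP₀⟩
    let m : BasedFunctor.comp u (AlgSt.ofSpMap h.hom) ≅
        BasedFunctor.comp (AlgSt.overMap h₀) v :=
      eqToIso (congrArg (fun t => BasedFunctor.comp (AlgSt.ofOverCat U₀) (AlgSt.ofSpMap t)) hw) ≪≫
        (post _ (BasedFunctor.comp (AlgSt.ofOverCat V₀) (AlgSt.ofSpMap p))).mapIso
          ((Stk.restr (AlgSt.ofOverCat U₀) _).mapIso (mk' h₀))
    exact (Stk.restr u _).mapIso α ≪≫ (post _ y).mapIso m

end Groth.Agent.H14AlgSt
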