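import Groth.Agent.H14AlgSt.Substack
import Groth.Agent.H14AlgSt.Image
import Groth.Agent.H14AlgSt.LocQ5
import Groth.Agent.H14AlgSt.DiagLFT
import Groth.Agent.H13AlgSp.SmoothSource
import Groth.Agent.S10542
import Groth.Agent.S2155

/-!
# The largest open substack on which a morphism is smooth
-/

set_option autoImplicit false
set_option backward.isDefEq.respectTransparency false
set_option backward.isDefEq.respectTransparency.types false

universe u

open CategoryTheory CategoryTheory.Functor Opposite AlgebraicGeometry CategoryTheory.Limits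

noncomputable section

namespace Groth.Agent.H14AlgSt

open H14Fib H14Stk H13AlgSp

variable {S : Scheme.{u}} {𝒳 𝒴 𝒵 : AlgSt.Cat S} {A V : Over S}

local notation "K₀" => Scheme.fppfPrecoverage

lemma smLocal_smooth : AlgSp.IsSmoothLocalST (AlgSp.LocP (S := S) @Smooth) :=
  smLocal_locP H12AlgSp.etLocal_smooth le_rfl isLocalOnSource_smooth
    (localFppf_of_fpqc (Groth.Agent.S10542.result S))

/-- The largest open subscheme of the source on which a morphism of schemes is smooth. -/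
def smoothPart {X Y : Scheme.{u}} (h : X ⟶ Y) : X.Opens := sSup {W | Smooth (W.ι ≫ h)}

lemma le_smoothPart {X Y : Scheme.{u}} (h : X ⟶ Y) {W : X.Opens} (hW : Smooth (W.ι ≫ h)) :
    W ≤ smoothPart h := le_sSup hW

lemma smooth_smoothPart {X Y : Scheme.{u}} (h : X ⟶ Y) : Smooth ((smoothPart h).ι ≫ h) := by
  let W₀ := smoothPart h
  refine IsZariskiLocalAtSource.of_iSup_eq_top
    (fun W : {W : X.Opens // Smooth (W.ι ≫ h)} => W₀.ι ⁻¹ᵁ W.1) ?_ fun W => ?_
  · rw [← Scheme.Hom.preimage_iSup, eq_top_iff]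
    rintro x -
    have hx : W₀.ι x ∈ smoothPart h := W₀.range_ι.le ⟨x, rfl⟩
    obtain ⟨W, hW, hxW⟩ := TopologicalSpace.Opens.mem_sSup.1 hx
    exact TopologicalSpace.Opens.mem_iSup.2 ⟨⟨W, hW⟩, hxW⟩
  · have := W.2
    rw [← Category.assoc, ← morphismRestrict_ι, Category.assoc]
    infer_instance

lemma map_range_ofChart {U : Over S} (x : FibCat.overCat U ⥤ᵇ 𝒳) :
    Set.range (AlgSt.Points.map x) = Set.range (AlgSt.Points.ofChart x) := by
  ext q
  constructor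
  · rintro ⟨w, rfl⟩
    exact ⟨chartPoint w, (map_eq_ofChart x w).symm⟩
  · rintro ⟨t, rfl⟩
    exact ⟨_, (ofChart_eq_map x t).symm⟩

lemma range_restrict (x : FibCat.overCat A ⥤ᵇ 𝒳) (W : A.left.Opens) :
    Set.range (AlgSt.Points.map (BasedFunctor.comp (AlgSt.overMap (subUIncl W)) x)) =
      AlgSt.Points.ofChart x '' W := by
  rw [map_range_ofChart]
  ext q
  constructor
  · rintro ⟨t, rfl⟩
    exact ⟨W.ι t, W.range_ι.le ⟨t, rfl⟩, (ofChart_comp_overMap x (subUIncl W) t).symm⟩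
  · rintro ⟨t, ht, rfl⟩
    obtain ⟨t', rfl⟩ := W.range_ι.ge ht
    exact ⟨t', ofChart_comp_overMap x (subUIncl W) t'⟩

lemma smooth_subUIncl (W : A.left.Opens) :
    AlgSt.RepByAlgSpWith (AlgSp.LocP @Smooth) (AlgSt.overMap (subUIncl W)) :=
  have : Smooth (subUIncl W).left := inferInstanceAs (Smooth W.ι)
  repWith_overMap_smooth _

lemma repWith_restrict (hX : FibCat.IsFibGrpd 𝒳.p) {x : FibCat.overCat A ⥤ᵇ 𝒳}
    (hx : AlgSt.RepByAlgSpWith (AlgSp.LocP @Smooth) x) (W : A.left.Opens) :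
    AlgSt.RepByAlgSpWith (AlgSp.LocP @Smooth)
      (BasedFunctor.comp (AlgSt.overMap (subUIncl W)) x) :=
  repWith_locP_comp H12AlgSp.etLocal_smooth (fibGrpd_overCat _) (fibGrpd_overCat _)
    (smooth_subUIncl W) hx

variable {f : 𝒳 ⥤ᵇ 𝒴} {y : FibCat.overCat V ⥤ᵇ 𝒴} {a : FibCat.overCat A ⥤ᵇ FibCat.fp f y}
  {h : A ⟶ V}

/-- The image in the points of the stack of the smooth part of a chart of a morphism. -/
def smoothSet (a : FibCat.overCat A ⥤ᵇ FibCat.fp f y) (h : A ⟶ V) : Set (AlgSt.Points 𝒳) :=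
  AlgSt.Points.ofChart (BasedFunctor.comp a (FibCat.fpFst f y)) '' (smoothPart h.left : Set A.left)

lemma isOpen_smoothSet (hX : FibCat.IsFibGrpd 𝒳.p) (hY : FibCat.IsFibGrpd 𝒴.p)
    (hy : AlgSt.RepByAlgSpWith (AlgSp.LocP @Smooth) y)
    (ha : AlgSt.RepByAlgSpWith (AlgSp.LocP @Smooth) a) : IsOpen (smoothSet a h) :=
  have hx := chart_of_atlas_fp hX hY hy ha
  isOpenMap_ofChart hX (repWith_locP_mono smooth_le_flat hx) (repWith_locP_mono smooth_le_lfp hx) _
    (smoothPart h.left).isOpen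

lemma locQ_smoothSet (hX : AlgSt.IsAlgStack K₀ 𝒳) (hY : FibCat.IsFibGrpd 𝒴.p)
    (hy : AlgSt.RepByAlgSpWith (AlgSp.LocP @Smooth) y)
    (ha : AlgSt.RepByAlgSpWith (AlgSp.LocP @Smooth) a)
    (j : BasedFunctor.comp a (FibCat.fpSnd f y) ≅ AlgSt.overMap h) :
    AlgSt.LocQ (AlgSp.LocP @Smooth)
      (BasedFunctor.comp (AlgSt.subIncl 𝒳 (ptPred (smoothSet a h))) f) := by
  let x := BasedFunctor.comp a (FibCat.fpFst f y)
  let W := smoothPart h.left
  let F := BasedFunctor.comp (AlgSt.overMap (subUIncl W)) x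
  have hx := chart_of_atlas_fp hX.isStack.1 hY hy ha
  have hO : Set.range (AlgSt.Points.map F) = smoothSet a h := range_restrict x W
  have hF : AlgSt.RepByAlgSpWith (AlgSp.LocP @Smooth) F := repWith_restrict hX.isStack.1 hx W
  obtain ⟨g, hg₁, hg₂, ⟨e⟩⟩ := exists_image_substack hX (isAlgStack_overCat (subU W)) F
    (hO ▸ isOpen_smoothSet hX.isStack.1 hY hy ha) hF
  let α : BasedFunctor.comp x f ≅ BasedFunctor.comp (AlgSt.overMap h) y :=
    (Stk.restr a 𝒴).mapIso (FibCat.fpIso f y) ≪≫ (post (FibCat.overCat A) y).mapIso j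
  rw [← hO]
  refine ⟨subU W, V, g, y, subUIncl W ≫ h,
    (post (FibCat.overCat (subU W)) f).mapIso e ≪≫
      (Stk.restr (AlgSt.overMap (subUIncl W)) 𝒴).mapIso α ≪≫
        (post (FibCat.overCat (subU W)) y).mapIso (overMapCompIso _ _),
    hg₁, hg₂, hy, (locP_yon_iff H12AlgSp.etLocal_smooth _).2 ?_⟩
  exact smooth_smoothPart h.left

lemma smoothSet_max (hX : AlgSt.IsAlgStack K₀ 𝒳) (hY : AlgSt.IsAlgStack K₀ 𝒴)
    (hy : AlgSt.RepByAlgSpWith (AlgSp.LocP @Smooth) y)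
    (ha : AlgSt.RepByAlgSpWith (AlgSp.LocP @Smooth) a)
    (j : BasedFunctor.comp a (FibCat.fpSnd f y) ≅ AlgSt.overMap h)
    {Q : 𝒳.obj → Prop} (hQ : AlgSt.IsOpenSubstack 𝒳 Q K₀)
    (hf : AlgSt.LocQ (AlgSp.LocP @Smooth) (BasedFunctor.comp (AlgSt.subIncl 𝒳 Q) f)) (t : A.left)
    (ht : AlgSt.Points.ofChart (BasedFunctor.comp a (FibCat.fpFst f y)) t ∈
      Set.range (AlgSt.Points.map (AlgSt.subIncl 𝒳 Q))) : t ∈ smoothPart h.left := by
  let i := AlgSt.subIncl 𝒳 Q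
  let x := BasedFunctor.comp a (FibCat.fpFst f y)
  obtain ⟨W, hW⟩ := exists_subspace_open hQ.1 hQ.2.2 x
  refine le_smoothPart h.left ?_ ((ofChart_mem_range_iff hX.isStack.1 hQ x hW t).1 ht)
  let c := AlgSt.overMap (subUIncl W)
  have hQW : ∀ s, Q ((BasedFunctor.comp c x).obj s) := fun s => (hW _).2 fun t =>
    W.range_ι.le ⟨s.hom.left t, rfl⟩
  have hZ := fp_fibGrpd hQ.2.1.isStack.1 (fp_fibGrpd hX.isStack.1 (fibGrpd_overCat V) hY.isStack.1)
    hX.isStack.1 (F := i) (G := FibCat.fpFst f y)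
  have hFY := fp_fibGrpd hX.isStack.1 (fibGrpd_overCat V) hY.isStack.1 (F := f) (G := y)
  let M := FibCat.fpSnd i (FibCat.fpFst f y)
  have hM : AlgSt.RepByAlgSpWith (AlgSp.RepWith @IsImmersion) M :=
    repWith_fpSnd (FibCat.fpFst f y)
      (repWith_mono (fun _ _ _ hh => H12AlgSp.repWith_le
        (fun _ _ g (_ : IsOpenImmersion g) => (inferInstance : IsImmersion g)) hh) hQ.2.2)
  have := faithful_of_repByAlgSp1 hZ hFY (repByAlgSp1_of_with hM)
  have := full_of_isMono hZ hFY (isMono_of_isImm hM)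
  let g : FibCat.overCat (subU W) ⥤ᵇ FibCat.fp i (FibCat.fpFst f y) :=
    FibCat.fpLift (liftSub (BasedFunctor.comp c x) hQW) (BasedFunctor.comp c a)
      (liftSubIso (BasedFunctor.comp c x) hQW)
  have hg : AlgSt.RepByAlgSpWith (AlgSp.LocP @Smooth) g :=
    repWith_of_comp_ff M g (Iso.refl _) (repWith_restrict hFY ha W)
  let P := pasteBase f y i
  have hΘ : AlgSt.RepByAlgSpWith (AlgSp.LocP @Smooth) (BasedFunctor.comp g P) :=
    (repWith_comp_equiv_iff (pasteBase_isEquivOver f y i)).2 hg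
  refine (locP_yon_iff H12AlgSp.etLocal_smooth (subUIncl W ≫ h)).1
    (prop_of_locQ smLocal_smooth hf hy (BasedFunctor.comp g P) hΘ ?_)
  exact (Stk.restr c _).mapIso j ≪≫ overMapCompIso _ _

/-- Existence of the largest open substack on which a morphism is smooth, with its set of points. -/
lemma smoothSet_spec (hX : AlgSt.IsAlgStack K₀ 𝒳) (hY : AlgSt.IsAlgStack K₀ 𝒴)
    (hy : AlgSt.RepByAlgSpWith (AlgSp.LocP @Smooth) y)
    (hys : AlgSt.RepByAlgSpWith AlgSp.IsSurjectiveMor y)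
    (ha : AlgSt.RepByAlgSpWith (AlgSp.LocP @Smooth) a)
    (has : AlgSt.RepByAlgSpWith AlgSp.IsSurjectiveMor a)
    (j : BasedFunctor.comp a (FibCat.fpSnd f y) ≅ AlgSt.overMap h) {Q : 𝒳.obj → Prop}
    (hQ : AlgSt.IsOpenSubstack 𝒳 Q K₀)
    (hf : AlgSt.LocQ (AlgSp.LocP @Smooth) (BasedFunctor.comp (AlgSt.subIncl 𝒳 Q) f)) :
    Set.range (AlgSt.Points.map (AlgSt.subIncl 𝒳 Q)) ⊆ smoothSet a h := by
  intro q hq
  obtain ⟨t, rfl⟩ := ofChart_surjective hX.isStack.1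
    (chartSurj_of_atlas_fp hX.isStack.1 hY.isStack.1 hys has) q
  exact ⟨t, smoothSet_max hX hY hy ha j hQ hf t hq, rfl⟩

lemma ptPred_preimage {𝒳' : AlgSt.Cat S} (hX' : FibCat.IsFibGrpd 𝒳'.p)
    (hX : FibCat.IsFibGrpd 𝒳.p) (g : 𝒳' ⥤ᵇ 𝒳) (O : Set (AlgSt.Points 𝒳)) (b : 𝒳'.obj) :
    ptPred O (g.obj b) ↔ ptPred (AlgSt.Points.map g ⁻¹' O) b := by
  obtain ⟨x, ⟨e⟩⟩ := exists_slice_through hX' b
  have h1 : ptPred O (g.obj b) ↔ ptPred O ((BasedFunctor.comp x g).obj (topObj _)) :=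
    ⟨ptPred_of_hom (g.map e.hom), ptPred_of_hom (g.map e.inv)⟩
  have h2 : ptPred (AlgSt.Points.map g ⁻¹' O) b ↔
      ptPred (AlgSt.Points.map g ⁻¹' O) (x.obj (topObj _)) :=
    ⟨ptPred_of_hom e.hom, ptPred_of_hom e.inv⟩
  rw [h1, h2, ptPred_chart_iff hX, ptPred_chart_iff hX']
  simp only [ofChart_comp, Set.mem_preimage]

lemma smoothPart_le_comp {X Y Z : Scheme.{u}} (q : Z ⟶ X) [Smooth q] (h : X ⟶ Y) :
    q ⁻¹ᵁ smoothPart h ≤ smoothPart (q ≫ h) := by
  apply le_smoothPart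
  have := smooth_smoothPart h
  rw [← Category.assoc, ← morphismRestrict_ι, Category.assoc]
  infer_instance

lemma smoothPart_comp_le {X Y Z : Scheme.{u}} (q : Z ⟶ X) [Smooth q] (h : X ⟶ Y) :
    smoothPart (q ≫ h) ≤ q ⁻¹ᵁ smoothPart h := by
  let W := smoothPart (q ≫ h)
  let U₁ : X.Opens := ⟨q '' W, q.isOpenMap _ W.isOpen⟩
  intro t ht
  refine le_smoothPart h (W := U₁) ?_ ⟨t, ht, rfl⟩
  have hr : Set.range (W.ι ≫ q) ⊆ Set.range U₁.ι := by
    rintro _ ⟨w, rfl⟩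
    exact U₁.range_ι.ge ⟨W.ι w, W.range_ι.le ⟨w, rfl⟩, rfl⟩
  let l := IsOpenImmersion.lift U₁.ι (W.ι ≫ q) hr
  have hl : l ≫ U₁.ι = W.ι ≫ q := IsOpenImmersion.lift_fac _ _ hr
  have hls : Smooth l := H12AlgSp.etLocal_smooth.of_postcomp l U₁.ι
    (inferInstance : Etale U₁.ι) (by rw [hl]; infer_instance)
  refine Groth.Agent.H13Flat.smooth_of_fppf_covering _ fun z => ?_
  obtain ⟨w, hw, e⟩ := U₁.range_ι.le ⟨z, rfl⟩
  obtain ⟨w', rfl⟩ := W.range_ι.ge hw
  refine ⟨W, l, inferInstance, inferInstance, ⟨w', U₁.ι.injective ?_⟩, ?_⟩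
  · rw [← Scheme.Hom.comp_apply, hl]
    exact e
  · rw [← Category.assoc, hl, Category.assoc]
    exact smooth_smoothPart (q ≫ h)

/-- The largest open substack on which a morphism is smooth is compatible with smooth maps. -/
lemma smooth_precomp_spec {𝒳' : AlgSt.Cat S} (hX' : AlgSt.IsAlgStack K₀ 𝒳')
    (hX : AlgSt.IsAlgStack K₀ 𝒳) (hY : AlgSt.IsAlgStack K₀ 𝒴) (g : 𝒳' ⥤ᵇ 𝒳)
    (hg : AlgSt.LocQ (AlgSp.LocP @Smooth) g) (f : 𝒳 ⥤ᵇ 𝒴) {Q : 𝒳.obj → Prop}
    (hQ₁ : AlgSt.IsOpenSubstack 𝒳 Q K₀)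
    (hQ₂ : AlgSt.LocQ (AlgSp.LocP @Smooth) (BasedFunctor.comp (AlgSt.subIncl 𝒳 Q) f))
    (hQ₃ : ∀ Q' : 𝒳.obj → Prop, AlgSt.IsOpenSubstack 𝒳 Q' K₀ →
      AlgSt.LocQ (AlgSp.LocP @Smooth) (BasedFunctor.comp (AlgSt.subIncl 𝒳 Q') f) →
        ∀ a, Q' a → Q a) :
    AlgSt.IsOpenSubstack 𝒳' (fun a => Q (g.obj a)) K₀ ∧
      AlgSt.LocQ (AlgSp.LocP @Smooth)
        (BasedFunctor.comp (AlgSt.subIncl 𝒳' (fun a => Q (g.obj a))) (BasedFunctor.comp g f)) ∧
      ∀ Q' : 𝒳'.obj → Prop, AlgSt.IsOpenSubstack 𝒳' Q' K₀ →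
        AlgSt.LocQ (AlgSp.LocP @Smooth)
          (BasedFunctor.comp (AlgSt.subIncl 𝒳' Q') (BasedFunctor.comp g f)) →
        ∀ a, Q' a → Q (g.obj a) := by
  obtain ⟨V, y, hy, hys⟩ := hY.atlas
  obtain ⟨A, a, h, ha, has, ⟨j⟩⟩ := exists_atlas_fp hX hY f y
  let x := BasedFunctor.comp a (FibCat.fpFst f y)
  let O := smoothSet a h
  have hO' := isOpen_smoothSet (h := h) hX.isStack.1 hY.isStack.1 hy ha
  have hO := isOpenSubstack_ptPred hX hO'
  have hQO : Set.range (AlgSt.Points.map (AlgSt.subIncl 𝒳 Q)) = O := by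
    refine (smoothSet_spec hX hY hy hys ha has j hQ₁ hQ₂).antisymm ?_
    have h1 := (openSubstack_le_iff hX hO hQ₁).1
      (hQ₃ _ hO (locQ_smoothSet hX hY.isStack.1 hy ha j))
    rwa [range_ptPred] at h1
  have hQ : Q = ptPred O := hQO ▸ openSubstack_eq_ptPred hX hQ₁
  let O' := AlgSt.Points.map g ⁻¹' O
  have hQ' : (fun b => Q (g.obj b)) = ptPred O' := by
    funext b
    rw [hQ]
    exact propext (ptPred_preimage hX'.isStack.1 hX.isStack.1 g O b)
  have hFY := isAlgStack_fp' hX (isAlgStack_overCat V) hY f y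
  have hZ := isAlgStack_fp' hFY hX' hX (FibCat.fpFst f y) g
  let M := FibCat.fpFst (FibCat.fpFst f y) g
  have hM : AlgSt.LocQ (AlgSp.LocP @Smooth) M :=
    locQ_baseChange smLocal_smooth (baseStable_locP H12AlgSp.etLocal_smooth) hX' hX hFY _ hg
  obtain ⟨C, c, u, hc, hcs, ⟨jc⟩⟩ := exists_atlas_fp hZ hFY M a
  have : Smooth u.left := (locP_yon_iff H12AlgSp.etLocal_smooth u).1
    (prop_of_locQ smLocal_smooth hM ha c hc jc)
  let E := BasedFunctor.comp (fpSwap (FibCat.fpFst f y) g) (pasteBase f y g)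
  have hE : FibCat.IsEquivOver E :=
    isEquivOver_comp (fpSwap_isEquivOver _ _) (pasteBase_isEquivOver f y g)
  let c' := BasedFunctor.comp c (FibCat.fpFst M a)
  let a' : FibCat.overCat C ⥤ᵇ FibCat.fp (BasedFunctor.comp g f) y := BasedFunctor.comp c' E
  have ha' : AlgSt.RepByAlgSpWith (AlgSp.LocP @Smooth) a' :=
    (repWith_comp_equiv_iff hE).2 (chart_of_atlas_fp hZ.isStack.1 hFY.isStack.1 ha hc)
  have has' : AlgSt.RepByAlgSpWith AlgSp.IsSurjectiveMor a' :=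
    (repWith_comp_equiv_iff hE).2 (chartSurj_of_atlas_fp hZ.isStack.1 hFY.isStack.1 has hcs)
  let j' : BasedFunctor.comp a' (FibCat.fpSnd (BasedFunctor.comp g f) y) ≅
      AlgSt.overMap (u ≫ h) :=
    (post (FibCat.overCat C) (FibCat.fpSnd f y)).mapIso
        ((Stk.restr c _).mapIso (FibCat.fpIso M a)) ≪≫
      (Stk.restr (BasedFunctor.comp c (FibCat.fpSnd M a)) _).mapIso j ≪≫
      (post (FibCat.overCat C) (AlgSt.overMap h)).mapIso jc ≪≫ overMapCompIso u h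
  let x' := BasedFunctor.comp a' (FibCat.fpFst (BasedFunctor.comp g f) y)
  let k : BasedFunctor.comp x' g ≅ BasedFunctor.comp (AlgSt.overMap u) x :=
    ((Stk.restr c' _).mapIso (FibCat.fpIso (FibCat.fpFst f y) g)).symm ≪≫
      (post (FibCat.overCat C) (FibCat.fpFst f y)).mapIso
        ((Stk.restr c _).mapIso (FibCat.fpIso M a)) ≪≫
      (post (FibCat.overCat C) x).mapIso jc
  have hgx : ∀ t, AlgSt.Points.map g (AlgSt.Points.ofChart x' t) =
      AlgSt.Points.ofChart x (u.left t) := fun t => by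
    rw [← ofChart_comp, ofChart_iso k, ofChart_comp_overMap]
  have hsp : smoothPart (u ≫ h).left = u.left ⁻¹ᵁ smoothPart h.left :=
    le_antisymm (smoothPart_comp_le u.left h.left) (smoothPart_le_comp u.left h.left)
  have hW : ∀ t, AlgSt.Points.ofChart x t ∈ O → t ∈ smoothPart h.left := fun t ht =>
    smoothSet_max hX hY hy ha j hO (locQ_smoothSet hX hY.isStack.1 hy ha j) t
      (range_ptPred.ge ht)
  have hO'' : smoothSet a' (u ≫ h) = O' := by
    ext q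
    constructor
    · rintro ⟨t, ht, rfl⟩
      change AlgSt.Points.map g (AlgSt.Points.ofChart x' t) ∈ O
      rw [hgx]
      exact ⟨u.left t, (hsp ▸ ht :), rfl⟩
    · intro hq
      obtain ⟨t, rfl⟩ := ofChart_surjective hX'.isStack.1
        (chartSurj_of_atlas_fp hX'.isStack.1 hY.isStack.1 hys has') q
      refine ⟨t, ?_, rfl⟩
      change t ∈ smoothPart (u ≫ h).left
      rw [hsp]
      exact hW _ (hgx t ▸ hq)
  have hOs := isOpenSubstack_ptPred hX' (hO'.preimage (continuous_points_map hX g))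
  rw [hQ']
  refine ⟨hOs, ?_, fun Q'' hQ'' hf b hb => ?_⟩
  · have h2 := locQ_smoothSet hX' hY.isStack.1 hy ha' j'
    rw [hO''] at h2
    exact h2
  · rw [congrFun hQ' b]
    refine (openSubstack_le_iff hX' hQ'' hOs).2 ?_ b hb
    rw [range_ptPred]
    exact (smoothSet_spec hX' hY hy hys ha' has' j' hQ'' hf).trans hO''.le

lemma smoothPart_eq_smoothLocus {X Y : Scheme.{u}} (h : X ⟶ Y) [LocallyOfFinitePresentation h] :
    smoothPart h = h.smoothLocus := by
  apply le_antisymm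
  · intro t ht
    have := smooth_smoothPart h
    obtain ⟨t', rfl⟩ := (smoothPart h).range_ι.ge ht
    have h1 : t' ∈ ((smoothPart h).ι ≫ h).smoothLocus :=
      (Scheme.Hom.smoothLocus_eq_top _).ge trivial
    rwa [← Scheme.Hom.preimage_smoothLocus_eq] at h1
  · refine le_smoothPart h (Scheme.Hom.smoothLocus_eq_top_iff.1 ?_)
    rw [← Scheme.Hom.preimage_smoothLocus_eq, eq_top_iff]
    exact fun t _ => h.smoothLocus.range_ι.le ⟨t, rfl⟩

/-- The smooth part commutes with flat base change under a finite presentation hypothesis. -/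
lemma smoothPart_baseChange {X Y X' Y' : Scheme.{u}} {h : X ⟶ Y} {k : Y' ⟶ Y} {p : X' ⟶ Y'}
    {q : X' ⟶ X} (sq : IsPullback q p h k) (hk : Flat k)
    (hfp : LocallyOfFinitePresentation k ∨ LocallyOfFinitePresentation h) :
    smoothPart p = q ⁻¹ᵁ smoothPart h := by
  refine le_antisymm ?_ (le_smoothPart p ?_)
  swap
  · exact MorphismProperty.of_isPullback
      ((isPullback_morphismRestrict q (smoothPart h)).paste_vert sq) (smooth_smoothPart h)
  rcases hfp with hk' | hh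
  · have : Flat q := MorphismProperty.of_isPullback sq.flip hk
    have : LocallyOfFinitePresentation q := MorphismProperty.of_isPullback sq.flip hk'
    let W := smoothPart p
    let U₁ : X.Opens := ⟨q '' W, q.isOpenMap _ W.isOpen⟩
    have hr : Set.range (W.ι ≫ q) ⊆ Set.range U₁.ι := by
      rintro _ ⟨w, rfl⟩
      exact U₁.range_ι.ge ⟨W.ι w, W.range_ι.le ⟨w, rfl⟩, rfl⟩
    let l := IsOpenImmersion.lift U₁.ι (W.ι ≫ q) hr
    have hl : l ≫ U₁.ι = W.ι ≫ q := IsOpenImmersion.lift_fac _ _ hr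
    have hls : Flat l := H12AlgSp.etLocal_flat.of_postcomp l U₁.ι
      (inferInstance : Etale U₁.ι) (by rw [hl]; infer_instance)
    have hlp : LocallyOfFinitePresentation l := H12AlgSp.etLocal_lfp.of_postcomp l U₁.ι
      (inferInstance : Etale U₁.ι) (by rw [hl]; infer_instance)
    have : LocallyOfFinitePresentation (U₁.ι ≫ h) := by
      refine Groth.Agent.H13Flat.locallyOfFinitePresentation_of_fppf_covering _ fun z => ?_
      obtain ⟨w, hw, e⟩ := U₁.range_ι.le ⟨z, rfl⟩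
      obtain ⟨w', rfl⟩ := W.range_ι.ge hw
      refine ⟨W, l, hls, hlp, ⟨w', U₁.ι.injective ?_⟩, ?_⟩
      · rw [← Scheme.Hom.comp_apply, hl]
        exact e
      · have := smooth_smoothPart p
        rw [← Category.assoc, hl, Category.assoc, sq.w, ← Category.assoc]
        infer_instance
    have sq₁ := (isPullback_morphismRestrict q U₁).paste_vert sq
    have hlfp : LocallyOfFinitePresentation ((q ⁻¹ᵁ U₁).ι ≫ p) :=
      MorphismProperty.of_isPullback sq₁ this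
    intro t ht
    obtain ⟨t', rfl⟩ := (q ⁻¹ᵁ U₁).range_ι.ge (⟨t, ht, rfl⟩ : q t ∈ U₁)
    have h1 := smoothPart_le_comp (q ⁻¹ᵁ U₁).ι p ht
    rw [smoothPart_eq_smoothLocus, Groth.Agent.S2155.result _ _ _ _ sq₁ (Or.inr hk),
      ← smoothPart_eq_smoothLocus] at h1
    have h2 : U₁.ι ((q ∣_ U₁) t') ∈ smoothPart h := smoothPart_comp_le U₁.ι h h1
    rwa [← Scheme.Hom.comp_apply, morphismRestrict_ι] at h2
  · have : LocallyOfFinitePresentation p := MorphismProperty.of_isPullback sq hh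
    rw [smoothPart_eq_smoothLocus, smoothPart_eq_smoothLocus,
      Groth.Agent.S2155.result _ _ _ _ sq (Or.inr hk)]

/-- The largest open substack on which a morphism is smooth is compatible with flat base change. -/
lemma smooth_baseChange_spec {𝒴' : AlgSt.Cat S} (hX : AlgSt.IsAlgStack K₀ 𝒳)
    (hY : AlgSt.IsAlgStack K₀ 𝒴) (hY' : AlgSt.IsAlgStack K₀ 𝒴') (f : 𝒳 ⥤ᵇ 𝒴) (g : 𝒴' ⥤ᵇ 𝒴)
    (hg : AlgSt.LocQ (AlgSp.LocP @Flat) g)
    (hfp : AlgSt.LocQ (AlgSp.LocP @LocallyOfFinitePresentation) g ∨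
      AlgSt.LocQ (AlgSp.LocP @LocallyOfFinitePresentation) f) {Q : 𝒳.obj → Prop}
    (hQ₁ : AlgSt.IsOpenSubstack 𝒳 Q K₀)
    (hQ₂ : AlgSt.LocQ (AlgSp.LocP @Smooth) (BasedFunctor.comp (AlgSt.subIncl 𝒳 Q) f))
    (hQ₃ : ∀ Q' : 𝒳.obj → Prop, AlgSt.IsOpenSubstack 𝒳 Q' K₀ →
      AlgSt.LocQ (AlgSp.LocP @Smooth) (BasedFunctor.comp (AlgSt.subIncl 𝒳 Q') f) →
        ∀ a, Q' a → Q a) :
    AlgSt.IsOpenSubstack (FibCat.fp g f) (fun b => Q b.obj.snd) K₀ ∧
      AlgSt.LocQ (AlgSp.LocP @Smooth)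
        (BasedFunctor.comp (AlgSt.subIncl (FibCat.fp g f) fun b => Q b.obj.snd)
          (FibCat.fpFst g f)) ∧
      ∀ Q' : (FibCat.fp g f).obj → Prop, AlgSt.IsOpenSubstack (FibCat.fp g f) Q' K₀ →
        AlgSt.LocQ (AlgSp.LocP @Smooth)
          (BasedFunctor.comp (AlgSt.subIncl (FibCat.fp g f) Q') (FibCat.fpFst g f)) →
        ∀ b, Q' b → Q b.obj.snd := by
  obtain ⟨A, V, C, P, h, k, p, q, y, a, c₀, z, r, sq, ⟨hy, hys⟩, ⟨ha, has⟩, ⟨hc, -⟩, ⟨hz, hzs⟩,
    ⟨hr, hrs⟩, ⟨j⟩, ⟨jk⟩, -, ⟨jr⟩, ⟨e⟩⟩ := exists_baseChange_atlas' hX hY hY' f g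
  let x := BasedFunctor.comp a (FibCat.fpFst f y)
  let O := smoothSet a h
  have hO' := isOpen_smoothSet (h := h) hX.isStack.1 hY.isStack.1 hy ha
  have hO := isOpenSubstack_ptPred hX hO'
  have hQO : Set.range (AlgSt.Points.map (AlgSt.subIncl 𝒳 Q)) = O := by
    refine (smoothSet_spec hX hY hy hys ha has j hQ₁ hQ₂).antisymm ?_
    have h1 := (openSubstack_le_iff hX hO hQ₁).1
      (hQ₃ _ hO (locQ_smoothSet hX hY.isStack.1 hy ha j))
    rwa [range_ptPred] at h1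
  have hQ : Q = ptPred O := hQO ▸ openSubstack_eq_ptPred hX hQ₁
  have hF := isAlgStack_fp' hY' hX hY g f
  let π := FibCat.fpSnd g f
  let O' := AlgSt.Points.map π ⁻¹' O
  have hQ' : (fun b : (FibCat.fp g f).obj => Q b.obj.snd) = ptPred O' := by
    funext b
    rw [hQ]
    exact propext (ptPred_preimage hF.isStack.1 hX.isStack.1 π O b)
  let x' := BasedFunctor.comp r (FibCat.fpFst (FibCat.fpFst g f) z)
  have hgx : ∀ t, AlgSt.Points.map π (AlgSt.Points.ofChart x' t) =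
      AlgSt.Points.ofChart x (q.left t) := fun t => by
    rw [← ofChart_comp, ofChart_iso e, ofChart_comp_overMap]
  have hk : Flat k.left := (locP_yon_iff H12AlgSp.etLocal_flat k).1
    (prop_of_locQ smLocal_flat hg hy c₀ hc jk)
  have hkh : LocallyOfFinitePresentation k.left ∨ LocallyOfFinitePresentation h.left :=
    hfp.imp (fun h1 => (locP_yon_iff H12AlgSp.etLocal_lfp k).1
        (prop_of_locQ smLocal_lfp h1 hy c₀ hc jk))
      (fun h1 => (locP_yon_iff H12AlgSp.etLocal_lfp h).1 (prop_of_locQ smLocal_lfp h1 hy a ha j))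
  have hsp : smoothPart p.left = q.left ⁻¹ᵁ smoothPart h.left :=
    smoothPart_baseChange (sq.map (Over.forget S)).flip hk hkh
  have hW : ∀ t, AlgSt.Points.ofChart x t ∈ O → t ∈ smoothPart h.left := fun t ht =>
    smoothSet_max hX hY hy ha j hO (locQ_smoothSet hX hY.isStack.1 hy ha j) t
      (range_ptPred.ge ht)
  have hO'' : smoothSet r p = O' := by
    ext w
    constructor
    · rintro ⟨t, ht, rfl⟩
      change AlgSt.Points.map π (AlgSt.Points.ofChart x' t) ∈ O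
      rw [hgx]
      exact ⟨q.left t, (hsp ▸ ht :), rfl⟩
    · intro hw
      obtain ⟨t, rfl⟩ := ofChart_surjective hF.isStack.1
        (chartSurj_of_atlas_fp hF.isStack.1 hY'.isStack.1 hzs hrs) w
      refine ⟨t, ?_, rfl⟩
      change t ∈ smoothPart p.left
      rw [hsp]
      exact hW _ (hgx t ▸ hw)
  have hOs := isOpenSubstack_ptPred hF (hO'.preimage (continuous_points_map hX π))
  rw [hQ']
  refine ⟨hOs, ?_, fun Q'' hQ'' hf b hb => ?_⟩
  · have h2 := locQ_smoothSet hF hY'.isStack.1 hz hr jr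
    rw [hO''] at h2
    exact h2
  · rw [congrFun hQ' b]
    refine (openSubstack_le_iff hF hQ'' hOs).2 ?_ b hb
    rw [range_ptPred]
    exact (smoothSet_spec hF hY' hz hzs hr hrs jr hQ'' hf).trans hO''.le

end Groth.Agent.H14AlgSt
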