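import Groth.Agent.H14AlgSt.SliceRing
import Mathlib.AlgebraicGeometry.Morphisms.Smooth
import Mathlib.AlgebraicGeometry.Morphisms.Etale
import Mathlib.AlgebraicGeometry.Morphisms.FormallyUnramified
import Mathlib.AlgebraicGeometry.PullbackCarrier
import Mathlib.AlgebraicGeometry.Morphisms.UniversallyOpen
import Mathlib.AlgebraicGeometry.Morphisms.Flat
import Mathlib.RingTheory.TensorProduct.MvPolynomial

/-!
# Slicing smooth morphisms

For `σ τ : A ⟶ U` over `S` with `σ` smooth and `(σ, τ) : A ⟶ U ×_S U` unramified there is `c : U' ⟶ U`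
such that `A ×_{τ, U} U' ⟶ U` is étale at a point over any given point in the image of `σ`.
-/

set_option autoImplicit false
set_option backward.isDefEq.respectTransparency false
set_option backward.isDefEq.respectTransparency.types false

universe u

open CategoryTheory CategoryTheory.Limits AlgebraicGeometry TensorProduct

attribute [local instance] MvPolynomial.algebraMvPolynomial

noncomputable section

namespace Groth.Agent.H14AlgSt

/-- The slice over an affine base. -/
lemma exists_slice_spec {R B C A : Type u} [CommRing R] [CommRing B] [CommRing C] [CommRing A]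
    [Algebra R B] [Algebra R C] [Algebra B A] [Algebra C A] [Algebra R A] [IsScalarTower R B A]
    [IsScalarTower R C A] [Algebra.Smooth B A]
    (h : (Algebra.TensorProduct.productMap (IsScalarTower.toAlgHom R B A)
      (IsScalarTower.toAlgHom R C A)).toRingHom.FormallyUnramified)
    (r : Spec (CommRingCat.of A)) :
    ∃ (U' T : Scheme.{u}) (c : U' ⟶ Spec (CommRingCat.of C))
      (j : T ⟶ pullback (Spec.map (CommRingCat.ofHom (algebraMap C A))) c),
      IsOpenImmersion j ∧
      Etale (j ≫ pullback.fst _ _ ≫ Spec.map (CommRingCat.ofHom (algebraMap B A))) ∧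
      ∃ t, (j ≫ pullback.fst _ _ ≫ Spec.map (CommRingCat.ofHom (algebraMap B A))) t =
        Spec.map (CommRingCat.ofHom (algebraMap B A)) r := by
  classical
  obtain ⟨κ, _, f, g, hg, het⟩ := exists_etale_coordinates (fun x : C => algebraMap C A x)
    (span_D_eq_top_of_unramified h) r.asIdeal
  let Ag := Localization.Away g
  let φ : MvPolynomial κ B →ₐ[B] Ag :=
    MvPolynomial.aeval fun i => algebraMap A Ag (algebraMap C A (f i))
  let a : Spec (CommRingCat.of Ag) ⟶ Spec (CommRingCat.of (MvPolynomial κ B)) :=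
    Spec.map (CommRingCat.ofHom φ.toRingHom)
  have : Etale a := (HasRingHomProperty.Spec_iff (P := @Etale)).2 het
  let ag : Spec (CommRingCat.of Ag) ⟶ Spec (CommRingCat.of A) :=
    Spec.map (CommRingCat.ofHom (algebraMap A Ag))
  have : IsOpenImmersion ag := IsOpenImmersion.of_isLocalization g
  obtain ⟨r', hr'⟩ : r ∈ Set.range ag := by
    rw [show Set.range ag = _ from PrimeSpectrum.localization_away_comap_range Ag g]
    exact hg
  obtain ⟨_, ⟨q, rfl⟩, hyq, hqsub⟩ :=
    PrimeSpectrum.isTopologicalBasis_basic_opens.exists_subset_of_mem_open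
      (show a r' ∈ Set.range a from ⟨r', rfl⟩) a.isOpenMap.isOpen_range
  let u : Ideal B := r.asIdeal.comap (algebraMap B A)
  have hqu : ∃ m, q.coeff m ∉ u := by
    by_contra! hh
    refine hyq ?_
    have h1 : u.map MvPolynomial.C ≤ (a r').asIdeal := Ideal.map_le_iff_le_comap.2 fun b hb => by
      change φ (MvPolynomial.C b) ∈ r'.asIdeal
      change algebraMap B A b ∈ r.asIdeal at hb
      rw [← hr'] at hb
      change algebraMap A Ag (algebraMap B A b) ∈ r'.asIdeal at hb
      rwa [MvPolynomial.aeval_C, IsScalarTower.algebraMap_apply B A Ag]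
    exact h1 (MvPolynomial.mem_map_C_iff.2 hh)
  obtain ⟨R', _, _, _, c, Ω, _, β, ψ, hβ, hψ, hq⟩ := exists_etale_value (R := R) u q hqu
  let fR : Spec (CommRingCat.of C) ⟶ Spec (CommRingCat.of (MvPolynomial κ R)) :=
    Spec.map (CommRingCat.ofHom (MvPolynomial.aeval (R := R) f).toRingHom)
  let jS : Spec (CommRingCat.of R') ⟶ Spec (CommRingCat.of (MvPolynomial κ R)) :=
    Spec.map (CommRingCat.ofHom (MvPolynomial.aeval (R := R) c).toRingHom)
  let pr : Spec (CommRingCat.of (MvPolynomial κ B)) ⟶ Spec (CommRingCat.of (MvPolynomial κ R)) :=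
    Spec.map (CommRingCat.ofHom (algebraMap (MvPolynomial κ R) (MvPolynomial κ B)))
  let π : Spec (CommRingCat.of (MvPolynomial κ B)) ⟶ Spec (CommRingCat.of B) :=
    Spec.map (CommRingCat.ofHom (algebraMap B (MvPolynomial κ B)))
  let aC : Spec (CommRingCat.of Ag) ⟶ Spec (CommRingCat.of C) :=
    ag ≫ Spec.map (CommRingCat.ofHom (algebraMap C A))
  have hapr : a ≫ pr = aC ≫ fR := by
    simp only [a, pr, aC, ag, fR, ← Spec.map_comp, ← CommRingCat.ofHom_comp]
    congr 2
    rw [show algebraMap (MvPolynomial κ R) (MvPolynomial κ B) = MvPolynomial.map (algebraMap R B)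
      from rfl]
    refine MvPolynomial.ringHom_ext (fun x => ?_) fun i => ?_
    · simp [φ, ← IsScalarTower.algebraMap_apply]
    · simp [φ]
  have haπ : a ≫ π = ag ≫ Spec.map (CommRingCat.ofHom (algebraMap B A)) := by
    simp only [a, π, ag, ← Spec.map_comp, ← CommRingCat.ofHom_comp]
    congr 2
    ext x
    simp [φ, ← IsScalarTower.algebraMap_apply]
  let U' := pullback fR jS
  let cU : U' ⟶ Spec (CommRingCat.of C) := pullback.fst fR jS
  let T := pullback aC cU
  have sqT : IsPullback (pullback.fst aC cU) (pullback.snd aC cU ≫ pullback.snd fR jS)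
      (a ≫ pr) jS := by
    rw [hapr]
    exact ((IsPullback.of_hasPullback aC cU).flip.paste_horiz
      (IsPullback.of_hasPullback fR jS).flip).flip
  let l : T ⟶ pullback pr jS := pullback.lift (pullback.fst aC cU ≫ a)
    (pullback.snd aC cU ≫ pullback.snd fR jS) (by rw [Category.assoc]; exact sqT.w)
  have sql : IsPullback (pullback.fst aC cU) l a (pullback.fst pr jS) := by
    refine (IsPullback.of_right (h₁₂ := pullback.snd pr jS) (h₂₂ := pr) (v₁₃ := jS) ?_
      (pullback.lift_fst _ _ _) (IsPullback.of_hasPullback pr jS).flip).flip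
    rw [pullback.lift_snd]
    exact sqT.flip
  have sqπ : IsPullback π pr (Spec.map (CommRingCat.ofHom (algebraMap R B)))
      (Spec.map (CommRingCat.ofHom (algebraMap R (MvPolynomial κ R)))) :=
    isPullback_SpecMap_of_isPushout _ _ _ _
      (CommRingCat.isPushout_iff_isPushout.2 inferInstance)
  have : Etale (pullback.fst pr jS ≫ π) := by
    refine MorphismProperty.of_isPullback (P := @Etale)
      ((IsPullback.of_hasPullback pr jS).flip.paste_vert sqπ.flip) ?_
    rw [show jS ≫ Spec.map (CommRingCat.ofHom (algebraMap R (MvPolynomial κ R))) =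
      Spec.map (CommRingCat.ofHom (algebraMap R R')) from ?_]
    · exact (HasRingHomProperty.Spec_iff (P := @Etale)).2 (RingHom.etale_algebraMap.2 ‹_›)
    · simp only [jS, ← Spec.map_comp, ← CommRingCat.ofHom_comp]
      congr 2
      ext x
      simp
  have : Etale l := MorphismProperty.of_isPullback (P := @Etale) sql ‹Etale a›
  let j : T ⟶ pullback (Spec.map (CommRingCat.ofHom (algebraMap C A))) cU :=
    pullback.map aC cU _ cU ag (𝟙 _) (𝟙 _) (by simp [aC]) (by simp)
  have hj : j ≫ pullback.fst _ _ ≫ Spec.map (CommRingCat.ofHom (algebraMap B A)) =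
      l ≫ pullback.fst pr jS ≫ π := by
    rw [← Category.assoc, pullback.lift_fst, Category.assoc, ← haπ]
    simp [l]
  refine ⟨U', T, cU, j, inferInstance, by rw [hj]; infer_instance, ?_⟩
  let ev : MvPolynomial κ B →+* Ω := MvPolynomial.eval₂Hom β fun i => ψ (c i)
  let ωP : Spec (CommRingCat.of (MvPolynomial κ B)) := ⟨RingHom.ker ev, RingHom.ker_isPrime ev⟩
  let ωS : Spec (CommRingCat.of R') := ⟨RingHom.ker ψ, RingHom.ker_isPrime ψ⟩
  obtain ⟨a', ha'⟩ : ωP ∈ Set.range a := hqsub (show q ∉ RingHom.ker ev from hq)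
  have key : ev.comp (algebraMap (MvPolynomial κ R) (MvPolynomial κ B)) =
      ψ.comp (MvPolynomial.aeval (R := R) c).toRingHom := by
    rw [show algebraMap (MvPolynomial κ R) (MvPolynomial κ B) = MvPolynomial.map (algebraMap R B)
      from rfl]
    refine MvPolynomial.ringHom_ext (fun x => ?_) fun i => ?_
    · simp [ev]
      exact (RingHom.congr_fun hψ x).symm
    · simp [ev]
  have e1 : (a ≫ pr) a' = jS ωS := by
    rw [Scheme.Hom.comp_apply, ha']
    exact PrimeSpectrum.ext (congrArg (RingHom.ker ·) key)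
  obtain ⟨t, ht, -⟩ := Scheme.exists_preimage_of_isPullback sqT a' ωS e1
  refine ⟨t, ?_⟩
  rw [← Category.assoc, pullback.lift_fst, Category.assoc, ← haπ, Scheme.Hom.comp_apply, ht,
    Scheme.Hom.comp_apply, ha']
  refine PrimeSpectrum.ext ?_
  change (RingHom.ker ev).comap (algebraMap B (MvPolynomial κ B)) = u
  rw [← hβ, RingHom.comap_ker]
  congr 1
  ext b
  simp [ev]

/-- Slicing, with affine charts given. -/
lemma exists_slice_charts {S U A : Scheme.{u}} (π : U ⟶ S) (σ τ : A ⟶ U) (hw : σ ≫ π = τ ≫ π)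
    [FormallyUnramified (pullback.lift σ τ hw)] {R B C A₀ : Type u} [CommRing R] [CommRing B]
    [CommRing C] [CommRing A₀] [Algebra R B] [Algebra R C] [Algebra B A₀] [Algebra C A₀]
    [Algebra R A₀] [IsScalarTower R B A₀] [IsScalarTower R C A₀] [Algebra.Smooth B A₀]
    (eS : Spec (CommRingCat.of R) ⟶ S) [IsOpenImmersion eS]
    (eU : Spec (CommRingCat.of B) ⟶ U) [IsOpenImmersion eU]
    (eV : Spec (CommRingCat.of C) ⟶ U) [IsOpenImmersion eV]
    (eA : Spec (CommRingCat.of A₀) ⟶ A) [IsOpenImmersion eA]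
    (hU : Spec.map (CommRingCat.ofHom (algebraMap R B)) ≫ eS = eU ≫ π)
    (hV : Spec.map (CommRingCat.ofHom (algebraMap R C)) ≫ eS = eV ≫ π)
    (hσ : Spec.map (CommRingCat.ofHom (algebraMap B A₀)) ≫ eU = eA ≫ σ)
    (hτ : Spec.map (CommRingCat.ofHom (algebraMap C A₀)) ≫ eV = eA ≫ τ)
    (r : Spec (CommRingCat.of A₀)) :
    ∃ (U' T : Scheme.{u}) (c : U' ⟶ U) (j : T ⟶ pullback τ c), IsOpenImmersion j ∧
      Etale (j ≫ pullback.fst τ c ≫ σ) ∧ ∃ t, (j ≫ pullback.fst τ c ≫ σ) t = σ (eA r) := by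
  let Φ := Algebra.TensorProduct.productMap (IsScalarTower.toAlgHom R B A₀)
    (IsScalarTower.toAlgHom R C A₀)
  let m : Spec (CommRingCat.of (B ⊗[R] C)) ⟶ pullback π π :=
    (pullbackSpecIso R B C).inv ≫ pullback.map _ _ π π eU eV eS hU hV
  have hm : Spec.map (CommRingCat.ofHom Φ.toRingHom) ≫ m = eA ≫ pullback.lift σ τ hw := by
    apply pullback.hom_ext
    · simp only [m, Category.assoc, pullback.lift_fst]
      rw [pullbackSpecIso_inv_fst_assoc, ← Spec.map_comp_assoc, ← CommRingCat.ofHom_comp, ← hσ]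
      congr 3
      ext x
      simp [Φ]
    · simp only [m, Category.assoc, pullback.lift_snd]
      rw [pullbackSpecIso_inv_snd_assoc, ← Spec.map_comp_assoc, ← CommRingCat.ofHom_comp, ← hτ]
      congr 3
      ext x
      simp [Φ]
  have : IsOpenImmersion (pullback.diagonal eA) := inferInstance
  have : FormallyUnramified eA := inferInstance
  have hΦ : Φ.toRingHom.FormallyUnramified := by
    have h1 : FormallyUnramified (Spec.map (CommRingCat.ofHom Φ.toRingHom) ≫ m) := by
      rw [hm]; exact MorphismProperty.comp_mem _ _ _ ‹FormallyUnramified eA› ‹_›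
    exact (HasRingHomProperty.Spec_iff (P := @FormallyUnramified)).1
      (FormallyUnramified.of_comp (Spec.map (CommRingCat.ofHom Φ.toRingHom)) m)
  obtain ⟨U', T, c, j, hj, het, t, ht⟩ := exists_slice_spec hΦ r
  let M := pullback.map (Spec.map (CommRingCat.ofHom (algebraMap C A₀))) c τ (c ≫ eV) eA (𝟙 _) eV
    hτ (by simp)
  have e : (j ≫ M) ≫ pullback.fst _ _ ≫ σ =
      (j ≫ pullback.fst _ _ ≫ Spec.map (CommRingCat.ofHom (algebraMap B A₀))) ≫ eU := by
    simp only [M, Category.assoc, pullback.lift_fst_assoc]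
    rw [hσ]
  have : IsOpenImmersion j := hj
  have : Etale (j ≫ pullback.fst _ _ ≫ Spec.map (CommRingCat.ofHom (algebraMap B A₀))) := het
  refine ⟨U', T, c ≫ eV, j ≫ M, inferInstance, by rw [e]; infer_instance, t, ?_⟩
  rw [e, Scheme.Hom.comp_apply, ht, ← Scheme.Hom.comp_apply, hσ, Scheme.Hom.comp_apply]

/-- Slicing: étale slices of a smooth morphism through the image of every point. -/
theorem exists_slice {S U A : Scheme.{u}} (π : U ⟶ S) (σ τ : A ⟶ U) (hw : σ ≫ π = τ ≫ π)
    [Smooth σ] [FormallyUnramified (pullback.lift σ τ hw)] (r : A) :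
    ∃ (U' T : Scheme.{u}) (c : U' ⟶ U) (j : T ⟶ pullback τ c), IsOpenImmersion j ∧
      Etale (j ≫ pullback.fst τ c ≫ σ) ∧ ∃ t, (j ≫ pullback.fst τ c ≫ σ) t = σ r := by
  obtain ⟨S₀, hS₀, hs₀, -⟩ :=
    exists_isAffineOpen_mem_and_subset (x := π (σ r)) (U := (⊤ : S.Opens)) trivial
  obtain ⟨U₀, hU₀, hu₀, hU₀S⟩ :=
    exists_isAffineOpen_mem_and_subset (x := σ r) (U := π ⁻¹ᵁ S₀) hs₀
  have hτ : π (τ r) = π (σ r) := by rw [← Scheme.Hom.comp_apply, ← hw, Scheme.Hom.comp_apply]
  obtain ⟨V, hV, hv, hVS⟩ :=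
    exists_isAffineOpen_mem_and_subset (x := τ r) (U := π ⁻¹ᵁ S₀) (hτ ▸ hs₀ : π (τ r) ∈ S₀)
  obtain ⟨A₁, hA₁, hr, hA₁le⟩ :=
    exists_isAffineOpen_mem_and_subset (x := r) (U := σ ⁻¹ᵁ U₀ ⊓ τ ⁻¹ᵁ V) ⟨hu₀, hv⟩
  have hσle : A₁ ≤ σ ⁻¹ᵁ U₀ := fun x hx => (hA₁le hx).1
  have hτle : A₁ ≤ τ ⁻¹ᵁ V := fun x hx => (hA₁le hx).2
  obtain ⟨r', rfl⟩ : r ∈ Set.range hA₁.fromSpec := hA₁.range_fromSpec.ge hr
  let αB := π.appLE S₀ U₀ hU₀S
  let αC := π.appLE S₀ V hVS
  let sA := σ.appLE U₀ A₁ hσle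
  let tA := τ.appLE V A₁ hτle
  have hcomp : αB ≫ sA = αC ≫ tA := by
    simp only [αB, αC, sA, tA, Scheme.Hom.appLE_comp_appLE]
    congr 1
  let : Algebra Γ(S, S₀) Γ(U, U₀) := αB.hom.toAlgebra
  let : Algebra Γ(S, S₀) Γ(U, V) := αC.hom.toAlgebra
  let : Algebra Γ(U, U₀) Γ(A, A₁) := sA.hom.toAlgebra
  let : Algebra Γ(U, V) Γ(A, A₁) := tA.hom.toAlgebra
  let : Algebra Γ(S, S₀) Γ(A, A₁) := (αB ≫ sA).hom.toAlgebra
  have : IsScalarTower Γ(S, S₀) Γ(U, U₀) Γ(A, A₁) :=
    IsScalarTower.of_algebraMap_eq (fun _ => rfl)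
  have : IsScalarTower Γ(S, S₀) Γ(U, V) Γ(A, A₁) :=
    IsScalarTower.of_algebraMap_eq' (congrArg CommRingCat.Hom.hom hcomp)
  have : Algebra.Smooth Γ(U, U₀) Γ(A, A₁) :=
    (HasRingHomProperty.appLE @Smooth σ ‹_› ⟨U₀, hU₀⟩ ⟨A₁, hA₁⟩ hσle :)
  exact exists_slice_charts π σ τ hw hS₀.fromSpec hU₀.fromSpec hV.fromSpec hA₁.fromSpec
    (IsAffineOpen.SpecMap_appLE_fromSpec π hS₀ hU₀ hU₀S)
    (IsAffineOpen.SpecMap_appLE_fromSpec π hS₀ hV hVS)
    (IsAffineOpen.SpecMap_appLE_fromSpec σ hU₀ hA₁ hσle)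
    (IsAffineOpen.SpecMap_appLE_fromSpec τ hV hA₁ hτle) r'

end Groth.Agent.H14AlgSt
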