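import Groth.Agent.H14AlgSt.PairChart
import Groth.Agent.H14AlgSt.Diag2
import Groth.Agent.H14AlgSt.LargestSmooth
import Groth.Agent.H14AlgSt.Slice

/-!
# Etale charts: criterion, and the unramified pair of an atlas
-/

set_option autoImplicit false
set_option backward.isDefEq.respectTransparency false
set_option backward.isDefEq.respectTransparency.types false

universe u

open CategoryTheory CategoryTheory.Functor Opposite AlgebraicGeometry CategoryTheory.Limits

noncomputable section

namespace Groth.Agent.H14AlgSt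

open H14Fib H14Stk

variable {S : Scheme.{u}} {𝒳 𝒴 : AlgSt.Cat S} {U V : Over S}

local notation "K₀" => Scheme.fppfPrecoverage

/-- A smooth morphism of spaces with smooth diagonal is etale. -/
lemma locP_etale_of_smooth_diagonal {G : AlgSp.Sp S} (hG : AlgSp.IsAlgSpace G)
    (σ : G ⟶ (AlgSp.yon S).obj U) (h1 : AlgSp.LocP @Smooth σ)
    (h2 : AlgSp.LocP @Smooth (pullback.diagonal σ)) : AlgSp.LocP @Etale σ := by
  obtain ⟨A, p, hp, hps⟩ := hG.atlas
  obtain ⟨h, hh⟩ := (AlgSp.yon S).map_surjective (p ≫ σ)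
  have hU := AlgSp.IsAlgSpace.yon_obj U
  have hA := AlgSp.IsAlgSpace.yon_obj A
  refine H12AlgSp.locP_of_one_chart H12AlgSp.etLocal_etale h hp hps (AlgSp.repWith_id @Etale U)
    (by rw [hh, Category.comp_id]) ?_
  have : Smooth h.left := h1 p (𝟙 _) h hp (AlgSp.repWith_id @Etale U) (by rw [hh, Category.comp_id])
  have hGG := H12AlgSp.isAlgSpace_pullback hU.diag hG hG σ σ
  let pp : (AlgSp.yon S).obj (pullback h h) ⟶ pullback σ σ :=
    pullback.lift ((AlgSp.yon S).map (pullback.fst h h) ≫ p)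
      ((AlgSp.yon S).map (pullback.snd h h) ≫ p)
      (by rw [Category.assoc, Category.assoc, ← hh, ← Functor.map_comp, ← Functor.map_comp,
        pullback.condition])
  have hd : p ≫ pullback.diagonal σ = (AlgSp.yon S).map (pullback.diagonal h) ≫ pp := by
    apply pullback.hom_ext
    · simp only [Category.assoc, pullback.diagonal_fst, Category.comp_id, pp, pullback.lift_fst]
      rw [← Functor.map_comp_assoc, pullback.diagonal_fst, CategoryTheory.Functor.map_id,
        Category.id_comp]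
    · simp only [Category.assoc, pullback.diagonal_snd, Category.comp_id, pp, pullback.lift_snd]
      rw [← Functor.map_comp_assoc, pullback.diagonal_snd, CategoryTheory.Functor.map_id,
        Category.id_comp]
  have hppE : AlgSp.RepWith @Etale pp := by
    have sqA := (IsPullback.of_hasPullback h h).map (AlgSp.yon S)
    rw [hh] at sqA
    let m₁ := pullback.lift ((AlgSp.yon S).map (pullback.fst h h))
      ((AlgSp.yon S).map (pullback.snd h h) ≫ p) (by rw [Category.assoc]; exact sqA.w) 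
    have hm₁ : IsPullback m₁ ((AlgSp.yon S).map (pullback.snd h h)) (pullback.snd (p ≫ σ) σ) p :=
      IsPullback.of_right (h₁₂ := pullback.fst (p ≫ σ) σ) (h₂₂ := σ) (v₁₃ := p ≫ σ)
        (by rw [pullback.lift_fst]; exact sqA)
        (pullback.lift_snd _ _ _) (IsPullback.of_hasPullback _ _)
    let m₂ : pullback (p ≫ σ) σ ⟶ pullback σ σ :=
      pullback.lift (pullback.fst _ _ ≫ p) (pullback.snd _ _)
        (by rw [Category.assoc]; exact pullback.condition)
    have hm₂ : IsPullback (pullback.fst (p ≫ σ) σ) m₂ p (pullback.fst σ σ) :=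
      IsPullback.of_bot (v₂₁ := pullback.snd σ σ) (v₁₁ := m₂)
        (by rw [pullback.lift_snd]; exact IsPullback.of_hasPullback (p ≫ σ) σ)
        (pullback.lift_fst _ _ _).symm (IsPullback.of_hasPullback σ σ)
    have e : pp = m₁ ≫ m₂ := by
      apply pullback.hom_ext <;> simp [pp, m₁, m₂]
    rw [e]
    exact H12AlgSp.repWith_comp (H12AlgSp.repWith_of_isPullback hm₁.flip hp)
      (H12AlgSp.repWith_of_isPullback hm₂ hp)
  have hsm : Smooth (pullback.diagonal h).left := h2 p pp _ hp hppE hd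
  let d := pullback.diagonal h.left
  have : Smooth d := by
    let e := ((IsPullback.of_hasPullback h h).map (Over.forget S)).isoPullback
    have he : (pullback.diagonal h).left ≫ e.hom = d := by
      apply pullback.hom_ext
      · simp [e, d, ← Over.comp_left]
      · simp [e, d, ← Over.comp_left]
    rw [← he]
    infer_instance
  have : IsOpenImmersion d := IsOpenImmersion.of_flat_of_mono d
  have : FormallyUnramified h.left := inferInstance
  exact Etale.of_formallyUnramified_of_flat h.left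

/-- A smooth representable morphism with smooth diagonal is etale. -/
lemma repWith_etale_of_smooth_diag {x : 𝒳 ⥤ᵇ 𝒴}
    (h1 : AlgSt.RepByAlgSpWith (AlgSp.LocP @Smooth) x)
    (h2 : AlgSt.RepByAlgSpWith (AlgSp.LocP @Smooth) (FibCat.diag x)) :
    AlgSt.RepByAlgSpWith (AlgSp.LocP @Etale) x := by
  intro T y
  obtain ⟨G, e, he, hσ⟩ := h1 T y
  refine ⟨G, e, he, ?_⟩
  let q := BasedFunctor.comp e (FibCat.fpFst y x)
  obtain ⟨k⟩ := spMapOfOver_eq q
  have hd := (repWith_diag_ofSpMap_iff (AlgSt.spMapOfOver q)).1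
    ((repWith_diag_square (f' := AlgSt.ofSpMap (AlgSt.spMapOfOver q)) he
      (toOverCat_isEquivOver T) k.symm).1 (repWith_diag_fpFst y h2))
  exact locP_etale_of_smooth_diagonal G.property _ hσ
    (prop_of_repWith_ofSpMap (sourceIsoInv_locP _) (testOnSchemes_locP _) G.property
      (H12AlgSp.isAlgSpace_pullback (AlgSp.IsAlgSpace.yon_obj T).diag G.property G.property _ _) hd)

/-- An etale atlas by a scheme of the square of a chart. -/
lemma exists_etale_square_atlas {x : FibCat.overCat U ⥤ᵇ 𝒳} (hx : AlgSt.RepByAlgSp1 x) :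
    ∃ (A : Over S) (a : FibCat.overCat A ⥤ᵇ FibCat.fp x x),
      AlgSt.RepByAlgSpWith (AlgSp.LocP @Etale) a ∧
      AlgSt.RepByAlgSpWith AlgSp.IsSurjectiveMor a := by
  obtain ⟨G, e, he⟩ := hx U x
  obtain ⟨A, p, hp, hps⟩ := G.property.atlas
  exact ⟨A, BasedFunctor.comp (BasedFunctor.comp (AlgSt.ofOverCat A) (AlgSt.ofSpMap p)) e,
    (repWith_comp_equiv_iff he).2 ((repWith_equiv_comp_iff (ofOverCat_isEquivOver A)).1
      (repWith_locP_of_repWith H12AlgSp.etLocal_etale p hp)),
    (repWith_comp_equiv_iff he).2 ((repWith_equiv_comp_iff (ofOverCat_isEquivOver A)).1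
      (repWith_surjective_of_repWith p hps))⟩

lemma selfOver_hom_ext {T a b : Over S} (φ ψ : a ⟶ b)
    (h : (FibCat.selfOver (Over S)).p.IsHomLift (𝟙 T) φ)
    (h' : (FibCat.selfOver (Over S)).p.IsHomLift (𝟙 T) ψ) : φ = ψ :=
  (IsHomLift.fac' (FibCat.selfOver (Over S)).p (𝟙 T) φ).trans
    (IsHomLift.fac' (FibCat.selfOver (Over S)).p (𝟙 T) ψ).symm

/-- The two projections of an atlas of the square of a chart form an unramified pair. -/
lemma formallyUnramified_pair {K : Precoverage Scheme.{u}} (hX : AlgSt.IsAlgStack K 𝒳)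
    (hΔ : AlgSt.RepByAlgSpWith (AlgSp.LocP (@LocallyOfFiniteType ⊓ @FormallyUnramified))
      (FibCat.diag (FibCat.toSelf 𝒳)))
    {x : FibCat.overCat U ⥤ᵇ 𝒳} {A : Over S} {a : FibCat.overCat A ⥤ᵇ FibCat.fp x x}
    (ha : AlgSt.RepByAlgSpWith (AlgSp.LocP @Etale) a) {τ σ : A ⟶ U}
    (j₁ : BasedFunctor.comp a (FibCat.fpFst x x) ≅ AlgSt.overMap τ)
    (j₂ : BasedFunctor.comp a (FibCat.fpSnd x x) ≅ AlgSt.overMap σ) :
    FormallyUnramified (pullback.lift σ.left τ.left
      ((Over.w σ).trans (Over.w τ).symm)) := by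
  let H := FibCat.toSelf 𝒳
  let Ws : Over S := Over.mk (pullback.fst U.hom U.hom ≫ U.hom)
  let P₁ : Ws ⟶ U := Over.homMk (pullback.fst U.hom U.hom) rfl
  let P₂ : Ws ⟶ U := Over.homMk (pullback.snd U.hom U.hom) pullback.condition.symm
  let h : A ⟶ Ws := Over.homMk (pullback.lift σ.left τ.left ((Over.w σ).trans (Over.w τ).symm))
    (by simp [Ws])
  let zW := FibCat.fpLift (F := BasedFunctor.comp x H) (G := BasedFunctor.comp x H)
    (AlgSt.overMap P₂) (AlgSt.overMap P₁)
    (eqToIso ((comp_toSelf (BasedFunctor.comp (AlgSt.overMap P₂) x)).trans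
      (comp_toSelf (BasedFunctor.comp (AlgSt.overMap P₁) x)).symm))
  have e₁ : h ≫ P₂ = τ := Over.OverMorphism.ext (pullback.lift_snd _ _ _)
  have e₂ : h ≫ P₁ = σ := Over.OverMorphism.ext (pullback.lift_fst _ _ _)
  let i₁ : BasedFunctor.comp (AlgSt.overMap h) (AlgSt.overMap P₂) ≅
      BasedFunctor.comp a (FibCat.fpFst x x) :=
    overMapCompIso h P₂ ≪≫ eqToIso (congrArg AlgSt.overMap e₁) ≪≫ j₁.symm
  let i₂ : BasedFunctor.comp (AlgSt.overMap h) (AlgSt.overMap P₁) ≅
      BasedFunctor.comp a (FibCat.fpSnd x x) :=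
    overMapCompIso h P₁ ≪≫ eqToIso (congrArg AlgSt.overMap e₂) ≪≫ j₂.symm
  let Q₀ := BasedFunctor.comp (AlgSt.overMap h) zW
  let Q₁ := BasedFunctor.comp a (fpDown x x H)
  have hw : ∀ s, H.map (x.map (app i₁.hom s)) ≫ (Q₁.obj s).obj.iso.hom =
      (Q₀.obj s).obj.iso.hom ≫ H.map (x.map (app i₂.hom s)) := fun s => by
    have h1 : (FibCat.selfOver (Over S)).p.IsHomLift (𝟙 s.left) (H.map (x.map (app i₁.hom s))) :=
      @BasedFunctor.preserves_isHomLift _ _ _ _ (BasedFunctor.comp x H) _ _ _ _ (𝟙 s.left) _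
        (BasedNatTrans.isHomLift i₁.hom rfl)
    have h2 : (FibCat.selfOver (Over S)).p.IsHomLift (𝟙 s.left) (H.map (x.map (app i₂.hom s))) :=
      @BasedFunctor.preserves_isHomLift _ _ _ _ (BasedFunctor.comp x H) _ _ _ _ (𝟙 s.left) _
        (BasedNatTrans.isHomLift i₂.hom rfl)
    exact selfOver_hom_ext _ _ (homLift_id_comp h1 (fp_iso_isHomLift (Q₁.obj s) (Q₁.w_obj s)))
      (homLift_id_comp (fp_iso_isHomLift (Q₀.obj s) (Q₀.w_obj s)) h2)
  have i : Q₀ ≅ Q₁ :=
    mkIso (fun s => fpIsoMk (appIso i₁ s) (appIso i₂ s) (hw s))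
      (fun {s s'} φ => fp_hom_ext (i₁.hom.toNatTrans.naturality φ) (i₂.hom.toNatTrans.naturality φ))
      (fun s => (fp_isHomLift_iff _ _).2 (appIso_lift i₁ rfl))
  have hR : AlgSt.RepByAlgSp (FibCat.fp (BasedFunctor.comp x H) (BasedFunctor.comp x H)) := by
    rw [comp_toSelf]
    exact repByAlgSp_prod (repByAlgSp_overCat U) (repByAlgSp_overCat U)
  have hFxx := fp_fibGrpd (fibGrpd_overCat U) (fibGrpd_overCat U) hX.isStack.1 (F := x) (G := x)
  have hQ₁ : AlgSt.RepByAlgSpWith (AlgSp.LocP (@LocallyOfFiniteType ⊓ @FormallyUnramified)) Q₁ :=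
    repWith_locP_comp etLocal_unramified (fibGrpd_overCat A) hFxx
      (repWith_locP_mono (fun _ _ g (_ : Etale g) => (⟨inferInstance, inferInstance⟩ :
        LocallyOfFiniteType g ∧ FormallyUnramified g)) ha) (repWith_fpDown hΔ x x)
  have hh : AlgSt.RepByAlgSpWith (AlgSp.LocP (@LocallyOfFiniteType ⊓ @FormallyUnramified))
      (AlgSt.overMap h) :=
    repWith_cancel (baseStable_locP etLocal_unramified)
      (cancelsLeft_locP etLocal_unramified fun _ _ _ f g
        (hfg : LocallyOfFiniteType (f ≫ g) ∧ FormallyUnramified (f ≫ g)) =>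
          ⟨have := hfg.1; locallyOfFiniteType_of_comp f g,
            have := hfg.2; FormallyUnramified.of_comp f g⟩)
      (fibGrpd_overCat A) (fibGrpd_overCat Ws) (repByAlgSp1_of_rep (repByAlgSp_overCat A)
        (repByAlgSp_overCat Ws) _)
      (repWith_of_iso i.symm hQ₁)
      (with_top_of_repByAlgSp1 (repByAlgSp1_of_rep (repByAlgSp_overCat Ws) hR zW))
  let Φ := BasedFunctor.comp (AlgSt.toOverCat A) (AlgSt.overMap h)
  have hd : AlgSp.LocP (@LocallyOfFiniteType ⊓ @FormallyUnramified) (AlgSt.spMapOfOver Φ) :=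
    prop_of_repWith_spMap (sourceIsoInv_locP _)
      (F := ⟨(AlgSp.yon S).obj A, AlgSp.IsAlgSpace.yon_obj A⟩)
      ((repWith_equiv_comp_iff (toOverCat_isEquivOver A)).1 hh)
  rw [spMapOfOver_overMap, spMapOfOver_toOverCat, Category.id_comp] at hd
  exact ((locP_yon_iff etLocal_unramified h).1 hd).2

end Groth.Agent.H14AlgSt
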