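import Groth.Agent.H14AlgSt.SmoothBootstrap
import Groth.Agent.H12AlgSp.EtaleSheaf

/-!
# Diagonals of étale stacks with smooth atlases
-/

set_option autoImplicit false
set_option backward.isDefEq.respectTransparency false
set_option backward.isDefEq.respectTransparency.types false

universe u

open CategoryTheory CategoryTheory.Functor Opposite AlgebraicGeometry CategoryTheory.Limits

noncomputable section

namespace Groth.Agent.H14AlgSt

open H14Fib H14Stk

variable {S : Scheme.{u}} {𝒰 𝒳 : AlgSt.Cat S} {U V V' : Over S}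

lemma etale_le_fppf {T : Over S} {R : Sieve T} (h : R ∈ QuotSh.J Scheme.etalePrecoverage S T) :
    R ∈ AlgSp.J S T := by
  rw [GrothendieckTopology.mem_over_iff] at h ⊢
  exact Precoverage.toGrothendieck_mono (Scheme.precoverage_mono
    (fun _ _ g (_ : Etale g) => ⟨inferInstance, inferInstance⟩)) _ h

lemma isStack_etale_overCat (U : Over S) :
    Stk.IsStack (QuotSh.J Scheme.etalePrecoverage S) (FibCat.overCat U) :=
  ⟨fibGrpd_overCat U, fun _ _ hR => (isAlgStack_overCat U).isStack.2 _ (etale_le_fppf hR)⟩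

/-- An etale sheaf over a scheme with an etale cover pulled back to a space is a space. -/
theorem isAlgSpaceP_of_etale_cover {G : AlgSp.PSp S}
    (hG : Presheaf.IsSheaf (QuotSh.J Scheme.etalePrecoverage S) G) (π : G ⟶ (AlgSp.pyon S).obj V)
    (d : V' ⟶ V) [Etale d.left] [Surjective d.left] {P : AlgSp.Sp S} (hP : AlgSp.IsAlgSpace P)
    {fst : P.obj ⟶ G} {snd : P.obj ⟶ (AlgSp.pyon S).obj V'}
    (sq : IsPullback fst snd π ((AlgSp.pyon S).map d)) : AlgSp.IsAlgSpaceP G := by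
  refine H12AlgSp.isAlgSpaceP_of_etale_repBySp hG hP fst fun T ξ F' q₁ q₂ sq' => ?_
  obtain ⟨e, he⟩ := (AlgSp.pyon S).map_surjective (ξ ≫ π)
  have s1 := (IsPullback.of_hasPullback e d).map (AlgSp.pyon S)
  rw [he] at s1
  have s2 : IsPullback q₂ (q₁ ≫ snd) (ξ ≫ π) ((AlgSp.pyon S).map d) :=
    sq'.flip.paste_vert sq
  let i : ((AlgSp.yon S).obj (pullback e d)).obj ≅ F' := (s2.isoIsPullback _ _ s1).symm
  have hs : Presheaf.IsSheaf (AlgSp.J S) F' :=
    Presheaf.isSheaf_of_iso_iff i |>.1 ((AlgSp.yon S).obj (pullback e d)).property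
  let I : (AlgSp.yon S).obj (pullback e d) ≅ (⟨F', hs⟩ : AlgSp.Sp S) :=
    (sheafToPresheaf (AlgSp.J S) (Type (u + 1))).preimageIso i
  have hI : (I.inv ≫ (AlgSp.yon S).map (pullback.fst e d) : (⟨F', hs⟩ : AlgSp.Sp S) ⟶ (AlgSp.yon S).obj T) =
      ObjectProperty.homMk q₂ := by
    apply (sheafToPresheaf (AlgSp.J S) (Type (u + 1))).map_injective
    simp only [Functor.map_comp, I, Functor.preimageIso_inv, Functor.map_preimage]
    exact s2.isoIsPullback_hom_fst _ _ s1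
  have hE : Etale (pullback.fst e d).left :=
    MorphismProperty.of_isPullback ((IsPullback.of_hasPullback e d).map (Over.forget S)).flip
      (inferInstance : Etale d.left)
  have hS : Surjective (pullback.fst e d).left :=
    MorphismProperty.of_isPullback ((IsPullback.of_hasPullback e d).map (Over.forget S)).flip
      (inferInstance : Surjective d.left)
  have hF : AlgSp.IsAlgSpace (⟨F', hs⟩ : AlgSp.Sp S) :=
    AlgSp.IsAlgSpace.of_iso (AlgSp.IsAlgSpace.yon_obj _) I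
  have hWE : AlgSp.RepWith @Etale (ObjectProperty.homMk q₂ : (⟨F', hs⟩ : AlgSp.Sp S) ⟶ (AlgSp.yon S).obj T) := by
    rw [← hI]
    exact ((AlgSp.RepWith @Etale).cancel_left_of_respectsIso I.inv _).2
      ((AlgSp.repWith_yon_map_iff @Etale _).2 hE)
  have hWS : AlgSp.RepWith @Surjective (ObjectProperty.homMk q₂ : (⟨F', hs⟩ : AlgSp.Sp S) ⟶ (AlgSp.yon S).obj T) := by
    rw [← hI]
    exact ((AlgSp.RepWith @Surjective).cancel_left_of_respectsIso I.inv _).2
      ((AlgSp.repWith_yon_map_iff @Surjective _).2 hS)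
  exact ⟨hs, hF, H12AlgSp.surjective_map_of_repWith le_rfl hWS,
    H12AlgSp.isEtaleMor_of_locP_etale (AlgSp.IsAlgSpace.yon_obj T)
      (H12AlgSp.locP_of_repWith H12AlgSp.etLocal_etale hWE)⟩

/-- An etale sheaf over a scheme which becomes a space after a smooth surjective base change. -/
theorem isAlgSpaceP_of_smooth_cover {G : AlgSp.PSp S}
    (hG : Presheaf.IsSheaf (QuotSh.J Scheme.etalePrecoverage S) G) (π : G ⟶ (AlgSp.pyon S).obj V)
    (c : V' ⟶ V) [Smooth c.left] [Surjective c.left] {P : AlgSp.Sp S} (hP : AlgSp.IsAlgSpace P)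
    {fst : P.obj ⟶ G} {snd : P.obj ⟶ (AlgSp.pyon S).obj V'}
    (sq : IsPullback fst snd π ((AlgSp.pyon S).map c)) : AlgSp.IsAlgSpaceP G := by
  obtain ⟨W, d, k, hd, hds, hk⟩ := exists_etale_refinement c
  let σ : P ⟶ (AlgSp.yon S).obj V' := ObjectProperty.homMk snd
  let Q := pullback σ ((AlgSp.yon S).map k)
  have hQ : AlgSp.IsAlgSpace Q := H12AlgSp.isAlgSpace_pullback (AlgSp.IsAlgSpace.yon_obj V').diag hP
    (AlgSp.IsAlgSpace.yon_obj W) σ ((AlgSp.yon S).map k)
  have s1 : IsPullback (pullback.fst σ ((AlgSp.yon S).map k)).hom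
      (pullback.snd σ ((AlgSp.yon S).map k)).hom snd ((AlgSp.pyon S).map k) :=
    (IsPullback.of_hasPullback σ ((AlgSp.yon S).map k)).map
      (sheafToPresheaf (AlgSp.J S) (Type (u + 1)))
  have s2 : IsPullback ((pullback.fst σ ((AlgSp.yon S).map k)).hom ≫ fst)
      (pullback.snd σ ((AlgSp.yon S).map k)).hom π ((AlgSp.pyon S).map d) := by
    rw [← hk, Functor.map_comp]
    exact (s1.flip.paste_vert sq.flip).flip
  exact isAlgSpaceP_of_etale_cover hG π d hQ s2

/-- Charts of etale stacks with smooth surjective maps from spaces are representable. -/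
theorem rep1_of_smooth_cover_etale (h𝒰g : FibCat.IsFibGrpd 𝒰.p)
    (h𝒳 : Stk.IsStack (QuotSh.J Scheme.etalePrecoverage S) 𝒳) (hU : AlgSt.RepByAlgSp 𝒰)
    {u : 𝒰 ⥤ᵇ 𝒳} (hsm : AlgSt.RepByAlgSpWith (AlgSp.LocP @Smooth) u)
    (hsurj : AlgSt.RepByAlgSpWith AlgSp.IsSurjectiveMor u) (x : FibCat.overCat U ⥤ᵇ 𝒳) :
    AlgSt.RepByAlgSp1 x := fun V y => by
  obtain ⟨G₁, e, he⟩ := repByAlgSp1_of_with hsm V y
  obtain ⟨A, p, hp, hps⟩ := G₁.property.atlas
  let a := BasedFunctor.comp (BasedFunctor.comp (AlgSt.ofOverCat A) (AlgSt.ofSpMap p)) e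
  have hS := fp_fibGrpd (fibGrpd_overCat V) h𝒰g h𝒳.1 (F := y) (G := u)
  have hcs : AlgSt.RepByAlgSpWith (AlgSp.LocP @Smooth) (BasedFunctor.comp a (FibCat.fpFst y u)) :=
    repWith_locP_comp H12AlgSp.etLocal_smooth (fibGrpd_overCat A) hS
      ((repWith_comp_equiv_iff he).2 ((repWith_equiv_comp_iff (ofOverCat_isEquivOver A)).1
        (repWith_locP_mono (fun _ _ g (_ : Etale g) => (inferInstance : Smooth g))
          (repWith_locP_of_repWith H12AlgSp.etLocal_etale p hp)))) (repWith_fpFst y hsm)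
  have hcj : AlgSt.RepByAlgSpWith AlgSp.IsSurjectiveMor (BasedFunctor.comp a (FibCat.fpFst y u)) :=
    repWith_surjective_comp (fibGrpd_overCat A) hS
      ((repWith_comp_equiv_iff he).2 ((repWith_equiv_comp_iff (ofOverCat_isEquivOver A)).1
        (repWith_surjective_of_repWith p hps))) (repWith_fpFst y hsurj)
  obtain ⟨c, ⟨j⟩⟩ := exists_overMap_iso (BasedFunctor.comp a (FibCat.fpFst y u))
  have : Smooth c.left := by
    have hd := prop_of_repWith_spMap (sourceIsoInv_locP _)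
      (F := ⟨_, AlgSp.IsAlgSpace.yon_obj A⟩)
      ((repWith_equiv_comp_iff (toOverCat_isEquivOver A)).1 (repWith_of_iso j hcs))
    rw [spMapOfOver_overMap, spMapOfOver_toOverCat, Category.id_comp] at hd
    exact (locP_yon_iff H12AlgSp.etLocal_smooth c).1 hd
  have : Surjective c.left := ⟨fun t => by
    obtain ⟨s, hs⟩ := surjective_of_repWith (fibGrpd_overCat V) (repWith_of_iso j hcj)
      (AlgSt.Points.ofChart (BasedFunctor.id (FibCat.overCat V)) t)
    exact ⟨chartPoint s, by rw [← chartPoint_overMap, hs, chartPoint_ofChart]⟩⟩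
  let v := BasedFunctor.comp a (FibCat.fpSnd y u)
  let k : BasedFunctor.comp (AlgSt.overMap c) y ≅ BasedFunctor.comp v u :=
    (post (FibCat.overCat A) y).mapIso j.symm ≪≫ (Stk.restr a 𝒳).mapIso (FibCat.fpIso y u)
  have hux : AlgSt.RepByAlgSp (FibCat.fp u x) :=
    repByAlgSp_of_equiv' (fpSwap_isEquivOver u x) (repByAlgSp1_of_with hsm U x)
  have hvx : AlgSt.RepByAlgSp (FibCat.fp (BasedFunctor.comp v u) x) :=
    repByAlgSp_of_equiv (pasteBase_isEquivOver u x v)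
      (repByAlgSp_fp_of_rep (repByAlgSp_overCat A) hux hU v (FibCat.fpFst u x))
  let M : FibCat.fp (BasedFunctor.comp (AlgSt.overMap c) y) x ⥤ᵇ
      FibCat.fp (BasedFunctor.comp v u) x :=
    fpMap (F := BasedFunctor.comp v u) (G := x) (BasedFunctor.id _) (BasedFunctor.id _)
      (BasedFunctor.id 𝒳) k (Iso.refl (BasedFunctor.comp x (BasedFunctor.id 𝒳)))
  have hM : FibCat.IsEquivOver M :=
    fpMap_isEquivOver _ _ _ _ _ (essSurjOver_id _) (essSurjOver_id _)
  have hbc : AlgSt.RepByAlgSp (FibCat.fp (AlgSt.overMap c) (FibCat.fpFst y x)) :=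
    repByAlgSp_of_equiv' (pasteBase_isEquivOver y x (AlgSt.overMap c))
      (repByAlgSp_of_equiv' hM hvx)
  let 𝒢 := FibCat.fp y x
  have hs : FibCat.IsFibSetoid 𝒢.p := fp_overCat_overCat_fibSetoid h𝒳.1 y x
  have hGst : Stk.IsStack (QuotSh.J Scheme.etalePrecoverage S) 𝒢 := isStack_fp _ _ (isStack_etale_overCat V)
    (isStack_etale_overCat U) (isPrestack_of_isStack h𝒳)
  let C := classFun hs.1
  have hC : FibCat.IsEquivOver C := classFun_isEquivOver hs.1 hs
  let F : AlgSp.PSp S := classPsh hs.1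
  have hF : Presheaf.IsSheaf (QuotSh.J Scheme.etalePrecoverage S) F :=
    (isSheaf_iff_isSheaf_of_type _ _).2 ((isStack_ofPsh_iff _).1 ((isStack_iff _ hC).1 hGst))
  obtain ⟨C', ⟨iC⟩, ⟨iC'⟩⟩ := hC
  have hC' : FibCat.IsEquivOver C' := ⟨_, ⟨iC'⟩, ⟨iC⟩⟩
  obtain ⟨D, ⟨iD⟩, ⟨iD'⟩⟩ := toOverCat_isEquivOver V
  let Φ : Stk.ofPsh F ⥤ᵇ Stk.ofPsh ((AlgSp.pyon S).obj V) :=
    BasedFunctor.comp (BasedFunctor.comp C' (FibCat.fpFst y x)) D
  let π : F ⟶ (AlgSp.pyon S).obj V := mapOfFun Φ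
  let kπ : Φ ≅ Stk.ofPshMap π := isoOfPshMap Φ
  let kΦ : BasedFunctor.comp C' (FibCat.fpFst y x) ≅
      BasedFunctor.comp (Stk.ofPshMap π) (AlgSt.toOverCat V) :=
    ((post (Stk.ofPsh F) (FibCat.fpFst y x)).mapIso (Iso.refl C')) ≪≫
      ((Stk.restr (BasedFunctor.comp C' (FibCat.fpFst y x)) _).mapIso iD').symm ≪≫
      (post (Stk.ofPsh F) (AlgSt.toOverCat V)).mapIso kπ
  obtain ⟨⟨_, _⟩, -⟩ := (isEquivOver_iff _).1 (toOverCat_isEquivOver V)
  obtain ⟨-, hsC⟩ := (isEquivOver_iff _).1 hC'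
  obtain ⟨⟨_, _⟩, hsA⟩ := (isEquivOver_iff _).1 (toOverCat_isEquivOver A)
  obtain ⟨⟨_, _⟩, -⟩ := (isEquivOver_iff _).1 hC'
  let mk' : BasedFunctor.comp (Stk.ofPshMap ((AlgSp.pyon S).map c)) (AlgSt.toOverCat V) ≅
      BasedFunctor.comp (AlgSt.toOverCat A) (AlgSt.overMap c) :=
    mkIso (fun s => Iso.refl _)
      (fun {_ _} φ => (Category.comp_id _).trans ((Category.id_comp _).trans
        (Over.OverMorphism.ext rfl)).symm)
      (fun s => IsHomLift.id rfl)
  let N : FibCat.fp (Stk.ofPshMap ((AlgSp.pyon S).map c)) (Stk.ofPshMap π) ⥤ᵇ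
      FibCat.fp (AlgSt.overMap c) (FibCat.fpFst y x) :=
    fpMap (F := AlgSt.overMap c) (G := FibCat.fpFst y x) (AlgSt.toOverCat A) C'
      (AlgSt.toOverCat V) mk' kΦ.symm
  have hN : FibCat.IsEquivOver N := fpMap_isEquivOver _ _ _ _ _ hsA hsC
  have sqp := (IsPullback.of_hasPullback π ((AlgSp.pyon S).map c)).flip
  obtain ⟨hs', hA⟩ := repByAlgSp_ofPsh_iff.1
    (repByAlgSp_of_equiv' (isEquivOver_comp (pshComparison_isEquivOver sqp) hN) hbc)
  refine repByAlgSp_of_equiv hC' (repByAlgSp_ofPsh_iff.2 ?_)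
  exact isAlgSpaceP_of_smooth_cover (P := ⟨_, hs'⟩) hF π c hA sqp.flip

/-- Étale stacks with smooth atlases are algebraic. -/
theorem isAlgStack_etale_of_atlas (h𝒳 : Stk.IsStack (QuotSh.J Scheme.etalePrecoverage S) 𝒳)
    (hU : AlgSt.HasAtlas (AlgSp.LocP @Smooth) 𝒳) :
    AlgSt.IsAlgStack Scheme.etalePrecoverage 𝒳 := by
  obtain ⟨U, u, hu, hus⟩ := hU
  exact ⟨h𝒳, (repByAlgSp1_diag_iff h𝒳.1).2 fun V x => rep1_of_smooth_cover_etale
    (fibGrpd_overCat U) h𝒳 (repByAlgSp_overCat U) hu hus x, U, u, hu, hus⟩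

end Groth.Agent.H14AlgSt
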