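import Groth.Agent.H14AlgSt.InertiaDiag
import Groth.Agent.H14AlgSt.SetoidSpace
import Groth.Agent.H06EGA9.UnramifiedLocus
import Groth.Agent.H7Flat.ThickeningUnram

/-!
# Spaces over a scheme with monomorphic fibres
-/

set_option autoImplicit false
set_option backward.isDefEq.respectTransparency false
set_option backward.isDefEq.respectTransparency.types false

universe u

open CategoryTheory CategoryTheory.Functor Opposite AlgebraicGeometry CategoryTheory.Limits

noncomputable section

namespace Groth.Agent.H14AlgSt

open H14Fib H14Stk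

/-- A morphism locally of finite type is unramified if its fibres are. -/
lemma formallyUnramified_of_fibres {A T : Scheme.{u}} (v : A ⟶ T) [LocallyOfFiniteType v]
    (h : ∀ t : T, FormallyUnramified (pullback.snd v (T.fromSpecResidueField t))) :
    FormallyUnramified v := by
  rw [H06EGA9.formallyUnramified_iff_unramSet, Set.eq_univ_iff_forall]
  intro x
  have sq := IsPullback.of_hasPullback v (T.fromSpecResidueField (v x))
  have hx : x ∈ Set.range (pullback.fst v (T.fromSpecResidueField (v x))) := by
    rw [Scheme.Pullback.range_fst, Set.mem_preimage, Scheme.range_fromSpecResidueField]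
    rfl
  obtain ⟨x', hx'⟩ := hx
  have := h (v x)
  have h' : x' ∈ H06EGA9.unramSet (pullback.snd v (T.fromSpecResidueField (v x))) :=
    FormallyUnramified.stalkMap _ x'
  rw [← hx']
  exact (H06EGA9.mem_unramSet_baseChange_iff v sq x').1 h'

variable {S : Scheme.{u}} {G : AlgSp.Sp S} {U : Over S}

/-- The map from the spectrum of the algebraic closure of a residue field. -/
abbrev geomPt {X : Scheme.{u}} (x : X) :
    Spec (CommRingCat.of (AlgebraicClosure (X.residueField x))) ⟶ Spec (X.residueField x) :=
  Spec.map (CommRingCat.ofHom (algebraMap (X.residueField x) (AlgebraicClosure (X.residueField x))))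

lemma fpqc_geomPt {X : Scheme.{u}} (x : X) : H18Descent.fpqc (geomPt x) :=
  have : Surjective (geomPt x) := ⟨fun y => ⟨Classical.arbitrary _, Subsingleton.elim _ _⟩⟩
  ⟨⟨inferInstance, inferInstance⟩, inferInstance⟩

/-- Two sections over a scheme lying in one geometric fibre agree, for test schemes whose map to
the point satisfies `P`. -/
def FibreMono (P : MorphismProperty Scheme.{u}) (π : G ⟶ (AlgSp.yon S).obj U) : Prop :=
  ∀ (k : Type u) [Field k] [IsAlgClosed k] (u : Spec (CommRingCat.of k) ⟶ U.left) (W : Over S)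
    (h : W.left ⟶ Spec (CommRingCat.of k)), P h → ∀ (a b : (AlgSp.yon S).obj W ⟶ G) (w : W ⟶ U),
    w.left = h ≫ u → a ≫ π = (AlgSp.yon S).map w → b ≫ π = (AlgSp.yon S).map w → a = b

lemma locP_unramified_of_fibreMono (hG : AlgSp.IsAlgSpace G) (π : G ⟶ (AlgSp.yon S).obj U)
    (hl : AlgSp.LocP @LocallyOfFiniteType π) (H : FibreMono ⊤ π) :
    AlgSp.LocP @FormallyUnramified π := by
  obtain ⟨A, p, hp, hps⟩ := hG.atlas
  obtain ⟨v, hv⟩ := (AlgSp.yon S).map_surjective (p ≫ π)
  refine H12AlgSp.locP_of_one_chart H12AlgSp.etLocal_formallyUnramified v hp hps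
    (AlgSp.repWith_id @Etale U) (by rw [hv, Category.comp_id]) ?_
  have : LocallyOfFiniteType v.left :=
    hl p (𝟙 _) v hp (AlgSp.repWith_id @Etale U) (by rw [hv, Category.comp_id])
  refine formallyUnramified_of_fibres v.left fun t => ?_
  let g₀ := pullback.snd v.left (U.left.fromSpecResidueField t)
  have : LocallyOfFiniteType g₀ := MorphismProperty.pullback_snd _ _ ‹_›
  refine MorphismProperty.of_pullback_snd_of_descendsAlong (P := @FormallyUnramified)
    (Q := H18Descent.fpqc) (f := g₀) (fpqc_geomPt t) ?_
  let c := geomPt t ≫ U.left.fromSpecResidueField t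
  let g := pullback.snd g₀ (geomPt t)
  let i := pullback.fst g₀ (geomPt t) ≫ pullback.fst v.left (U.left.fromSpecResidueField t)
  have sqi : IsPullback i g v.left c :=
    (IsPullback.of_hasPullback _ _).paste_horiz (IsPullback.of_hasPullback _ _)
  clear_value i
  have : LocallyOfFiniteType g := MorphismProperty.pullback_snd _ _ ‹_›
  let W : Over S := Over.mk (pullback.fst g g ≫ i ≫ A.hom)
  let a₁ : W ⟶ A := Over.homMk (pullback.fst g g ≫ i) (Category.assoc _ _ _)
  have hc : i ≫ v.left = g ≫ c := sqi.w
  have h2 : (pullback.snd g g ≫ i) ≫ v.left = (pullback.fst g g ≫ i) ≫ v.left := by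
    rw [Category.assoc, Category.assoc, hc, pullback.condition_assoc]
  let a₂ : W ⟶ A := Over.homMk (pullback.snd g g ≫ i) (by
    rw [show A.hom = v.left ≫ U.hom from (Over.w v).symm, ← Category.assoc, h2]
    simp [W, Over.w v])
  have hw : a₂ ≫ v = a₁ ≫ v := Over.OverMorphism.ext h2
  have heq : (AlgSp.yon S).map a₁ ≫ p = (AlgSp.yon S).map a₂ ≫ p :=
    H (AlgebraicClosure (U.left.residueField t)) c W (pullback.fst g g ≫ g) trivial _ _ (a₁ ≫ v)
      (by simp [a₁, hc])
      (by rw [Category.assoc, ← hv, ← Functor.map_comp])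
      (by rw [Category.assoc, ← hv, ← Functor.map_comp, hw])
  have sq := hp.rep.isPullback p
  let σ : W ⟶ hp.rep.pullback p := hp.rep.lift ((AlgSp.yon S).map a₂) a₁ heq.symm
  have hσ1 : σ ≫ hp.rep.snd p = a₁ := hp.rep.lift_snd _ _ _
  have hσ2 : (AlgSp.yon S).map σ ≫ hp.rep.fst p = (AlgSp.yon S).map a₂ := hp.rep.lift_fst _ _ _
  have he : Etale (hp.rep.snd p).left := hp.property_snd p
  let φ : pullback g g ⟶ pullback (hp.rep.snd p).left i :=
    pullback.lift σ.left (pullback.fst g g) (congrArg CommaMorphism.left hσ1)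
  have : Mono φ := by
    refine ⟨fun {Z} x y e => ?_⟩
    have e1 : x ≫ pullback.fst g g = y ≫ pullback.fst g g := by
      simpa [φ] using e =≫ pullback.snd _ _
    have e2 : x ≫ σ.left = y ≫ σ.left := by
      simpa [φ] using e =≫ pullback.fst _ _
    have e3 : x ≫ a₂.left = y ≫ a₂.left := by
      obtain ⟨r, hr⟩ := (AlgSp.yon S).map_surjective (hp.rep.fst p)
      have : σ ≫ r = a₂ := (AlgSp.yon S).map_injective (by rw [Functor.map_comp, hr, hσ2])
      rw [← this, Over.comp_left, reassoc_of% e2]
    apply pullback.hom_ext e1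
    apply sqi.hom_ext
    · simpa [a₂, Category.assoc] using e3
    · change (x ≫ pullback.snd g g) ≫ g = (y ≫ pullback.snd g g) ≫ g
      rw [Category.assoc, Category.assoc, ← pullback.condition, reassoc_of% e1]
  have : FormallyUnramified φ := H7Flat.formallyUnramified_of_mono φ
  have : Etale (pullback.snd (hp.rep.snd p).left i) := MorphismProperty.pullback_snd _ _ he
  have : FormallyUnramified (pullback.fst g g) := by
    rw [show pullback.fst g g = φ ≫ pullback.snd (hp.rep.snd p).left i by simp [φ]]
    exact MorphismProperty.comp_mem _ _ _ ‹_› inferInstance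
  exact formallyUnramified_of_fst g

/-- The diagonal of an unramified space over a scheme is etale. -/
lemma repWith_etale_diagonal (hG : AlgSp.IsAlgSpace G) (π : G ⟶ (AlgSp.yon S).obj U)
    (hl : AlgSp.LocP @LocallyOfFiniteType π) (hu : AlgSp.LocP @FormallyUnramified π) :
    AlgSp.RepWith @Etale (pullback.diagonal π) := by
  obtain ⟨A, p, hp, hps⟩ := hG.atlas
  obtain ⟨v, hv⟩ := (AlgSp.yon S).map_surjective (p ≫ π)
  have : LocallyOfFiniteType v.left :=
    hl p (𝟙 _) v hp (AlgSp.repWith_id @Etale U) (by rw [hv, Category.comp_id])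
  have : FormallyUnramified v.left :=
    hu p (𝟙 _) v hp (AlgSp.repWith_id @Etale U) (by rw [hv, Category.comp_id])
  let pp : (AlgSp.yon S).obj (pullback v v) ⟶ pullback π π :=
    pullback.lift ((AlgSp.yon S).map (pullback.fst v v) ≫ p)
      ((AlgSp.yon S).map (pullback.snd v v) ≫ p)
      (by rw [Category.assoc, Category.assoc, ← hv, ← Functor.map_comp, ← Functor.map_comp,
        pullback.condition])
  have hppE : AlgSp.RepWith @Etale pp := by
    have sqA := (IsPullback.of_hasPullback v v).map (AlgSp.yon S)
    rw [hv] at sqA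
    let m₁ := pullback.lift ((AlgSp.yon S).map (pullback.fst v v))
      ((AlgSp.yon S).map (pullback.snd v v) ≫ p) (by rw [Category.assoc]; exact sqA.w)
    have hm₁ : IsPullback m₁ ((AlgSp.yon S).map (pullback.snd v v)) (pullback.snd (p ≫ π) π) p :=
      IsPullback.of_right (h₁₂ := pullback.fst (p ≫ π) π) (h₂₂ := π) (v₁₃ := p ≫ π)
        (by rw [pullback.lift_fst]; exact sqA)
        (pullback.lift_snd _ _ _) (IsPullback.of_hasPullback _ _)
    let m₂ : pullback (p ≫ π) π ⟶ pullback π π :=
      pullback.lift (pullback.fst _ _ ≫ p) (pullback.snd _ _)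
        (by rw [Category.assoc]; exact pullback.condition)
    have hm₂ : IsPullback (pullback.fst (p ≫ π) π) m₂ p (pullback.fst π π) :=
      IsPullback.of_bot (v₂₁ := pullback.snd π π) (v₁₁ := m₂)
        (by rw [pullback.lift_snd]; exact IsPullback.of_hasPullback (p ≫ π) π)
        (pullback.lift_fst _ _ _).symm (IsPullback.of_hasPullback π π)
    have e : pp = m₁ ≫ m₂ := by
      apply pullback.hom_ext <;> simp [pp, m₁, m₂]
    rw [e]
    exact H12AlgSp.repWith_comp (H12AlgSp.repWith_of_isPullback hm₁.flip hp)
      (H12AlgSp.repWith_of_isPullback hm₂ hp)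
  have hd : p ≫ pullback.diagonal π = (AlgSp.yon S).map (pullback.diagonal v) ≫ pp := by
    apply pullback.hom_ext
    · simp only [Category.assoc, pullback.diagonal_fst, Category.comp_id, pp, pullback.lift_fst]
      rw [← Functor.map_comp_assoc, pullback.diagonal_fst, CategoryTheory.Functor.map_id,
        Category.id_comp]
    · simp only [Category.assoc, pullback.diagonal_snd, Category.comp_id, pp, pullback.lift_snd]
      rw [← Functor.map_comp_assoc, pullback.diagonal_snd, CategoryTheory.Functor.map_id,
        Category.id_comp]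
  have hU := AlgSp.IsAlgSpace.yon_obj U
  have hE : Etale (pullback.diagonal v).left := by
    let e := ((IsPullback.of_hasPullback v v).map (Over.forget S)).isoPullback
    have he : (pullback.diagonal v).left = pullback.diagonal v.left ≫ e.inv := by
      rw [Iso.eq_comp_inv]
      apply pullback.hom_ext
      · simp [e, ← Over.comp_left]
      · simp [e, ← Over.comp_left]
    rw [he]
    infer_instance
  exact H12AlgSp.repWith_of_locP H12AlgSp.etLocal_etale
    (H12AlgSp.isAlgSpace_pullback hU.diag hG hG π π)
    (H12AlgSp.representable_diagonal _ hG.diag)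
    (H12AlgSp.locP_of_one_chart H12AlgSp.etLocal_etale _ hp hps hppE hd hE)

/-- An unramified space over a scheme with at most one geometric point in each fibre is a
monomorphism. -/
theorem mono_of_unramified_pointMono (hG : AlgSp.IsAlgSpace G) (π : G ⟶ (AlgSp.yon S).obj U)
    (hl : AlgSp.LocP @LocallyOfFiniteType π) (hu : AlgSp.LocP @FormallyUnramified π)
    (H : FibreMono (MorphismProperty.isomorphisms Scheme.{u}) π) : Mono π := by
  have hd := repWith_etale_diagonal hG π hl hu
  refine H12AlgSp.mono_of_yon fun W a b e => ?_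
  let c := pullback.lift a b e
  obtain ⟨w, hw⟩ := (AlgSp.yon S).map_surjective (a ≫ π)
  have sq := hd.rep.isPullback c
  let s := hd.rep.snd c
  have hE : Etale s.left := hd.property_snd c
  have : Mono ((AlgSp.yon S).map s) :=
    MorphismProperty.of_isPullback (P := MorphismProperty.monomorphisms (AlgSp.Sp S)) sq
      (inferInstanceAs (Mono (pullback.diagonal π)))
  have : Mono s := (AlgSp.yon S).mono_of_mono_map ‹_›
  have : Mono s.left := inferInstance
  have : IsOpenImmersion s.left := IsOpenImmersion.of_flat_of_mono _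
  have : Surjective s.left := ⟨fun x => by
    let ι := geomPt x ≫ W.left.fromSpecResidueField x
    let W' : Over S := Over.mk (ι ≫ W.hom)
    let j : W' ⟶ W := Over.homMk ι rfl
    have hab : (AlgSp.yon S).map j ≫ a = (AlgSp.yon S).map j ≫ b :=
      H (AlgebraicClosure (W.left.residueField x)) (ι ≫ w.left) W' (𝟙 _) ((MorphismProperty.isomorphisms.iff _).2 inferInstance) _ _ (j ≫ w)
        (by simp [j]) (by rw [Category.assoc, ← hw, Functor.map_comp])
        (by rw [Category.assoc, ← e, ← hw, Functor.map_comp])
    let ℓ := hd.rep.lift (g := c) ((AlgSp.yon S).map j ≫ a) j (by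
      apply pullback.hom_ext <;> simp [c, hab])
    have hℓ : ℓ ≫ s = j := hd.rep.lift_snd _ _ _
    have hx : x ∈ Set.range ι := by
      obtain ⟨y, hy⟩ : x ∈ Set.range (W.left.fromSpecResidueField x) := by
        rw [Scheme.range_fromSpecResidueField]; rfl
      obtain ⟨y', rfl⟩ := (fpqc_geomPt x).1.1.surj y
      exact ⟨y', hy⟩
    obtain ⟨y, hy⟩ := hx
    exact ⟨ℓ.left y, by rw [← Scheme.Hom.comp_apply, ← Over.comp_left, hℓ]; exact hy⟩⟩
  have : IsIso s.left := (isIso_iff_isOpenImmersion_and_epi_base s.left).2
    ⟨inferInstance, (TopCat.epi_iff_surjective _).2 s.left.surjective⟩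
  have : IsIso ((Over.forget S).map s) := this
  have : IsIso s := isIso_of_reflects_iso s (Over.forget S)
  have hc : c = inv ((AlgSp.yon S).map s) ≫ hd.rep.fst c ≫ pullback.diagonal π := by
    rw [IsIso.eq_inv_comp]
    exact sq.w.symm
  have h1 := hc =≫ pullback.fst π π
  have h2 := hc =≫ pullback.snd π π
  simp [c] at h1 h2
  exact (cancel_epi ((AlgSp.yon S).map s)).1 (h1.trans h2.symm)

/-- A space over a scheme locally of finite type with monomorphic fibres is a monomorphism. -/
theorem mono_of_fibreMono (hG : AlgSp.IsAlgSpace G) (π : G ⟶ (AlgSp.yon S).obj U)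
    (hl : AlgSp.LocP @LocallyOfFiniteType π) (H : FibreMono ⊤ π) : Mono π :=
  mono_of_unramified_pointMono hG π hl (locP_unramified_of_fibreMono hG π hl H)
    fun k _ _ u W h _ => H k u W h trivial

end Groth.Agent.H14AlgSt
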