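import Mathlib.RingTheory.Polynomial.UniversalFactorizationRing
import Mathlib.RingTheory.Polynomial.Resultant.Basic
import Mathlib.RingTheory.Etale.StandardEtale
import Mathlib.RingTheory.TotallySplit
import Mathlib.RingTheory.Smooth.Basic
import Mathlib.FieldTheory.Separable
import Mathlib.RingTheory.Spectrum.Prime.FreeLocus

/-!
# The universal separable monic polynomial of a given degree
-/

set_option autoImplicit false
set_option linter.unusedVariables false
set_option backward.isDefEq.respectTransparency false
set_option backward.isDefEq.respectTransparency.types false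

universe u

open Polynomial TensorProduct

noncomputable section

namespace Groth.Agent.H14AlgSt.Univ

variable (n : ℕ)

/-- The coefficients. -/
abbrev UP : Type u := MvPolynomial (Fin (n + 1)) (ULift.{u} ℤ)

/-- The resultant of the universal monic polynomial and its derivative. -/
def disc : UP.{u} n :=
  (freeMonic (ULift.{u} ℤ) (n + 1)).resultant (freeMonic (ULift.{u} ℤ) (n + 1)).derivative (n + 1) n

/-- The base. -/
abbrev UR : Type u := Localization.Away (disc.{u} n)

/-- The universal separable polynomial. -/
def uf : (UR.{u} n)[X] := (freeMonic (ULift.{u} ℤ) (n + 1)).map (algebraMap _ _)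

/-- The universal cover. -/
abbrev UA : Type u := AdjoinRoot (uf.{u} n)

lemma monic_uf : (uf.{u} n).Monic := (monic_freeMonic _ _).map _

instance smooth_UR : Algebra.Smooth (ULift.{u} ℤ) (UR.{u} n) :=
  haveI : Algebra.Smooth (ULift.{u} ℤ) (UP.{u} n) :=
    { formallySmooth := inferInstance, finitePresentation := inferInstance }
  haveI : Algebra.Smooth (UP.{u} n) (UR.{u} n) := Algebra.Smooth.of_isLocalization_Away (disc n)
  Algebra.Smooth.comp (ULift.{u} ℤ) (UP.{u} n) (UR.{u} n)

lemma isUnit_iff_separable {R : Type u} [CommRing R] [Nontrivial R] {f : R[X]} (hf : f.Monic)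
    (hd : f.natDegree = n + 1) :
    IsUnit (f.resultant f.derivative (n + 1) n) ↔ f.Separable := by
  have hle : f.derivative.natDegree ≤ n := (natDegree_derivative_le f).trans (by omega)
  obtain ⟨j, hj⟩ := Nat.exists_eq_add_of_le hle
  have h : f.resultant f.derivative (n + 1) n = f.resultant f.derivative := by
    have h2 := resultant_add_right_deg f f.derivative (n + 1) f.derivative.natDegree j le_rfl
    rw [← hj] at h2
    rw [h2, ← hd, coeff_natDegree, hf.leadingCoeff, one_pow, one_mul]
  rw [h, isUnit_resultant_iff_isCoprime hf, Separable]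

lemma natDegree_uf [Nontrivial (UR.{u} n)] : (uf.{u} n).natDegree = n + 1 := by
  rw [uf, (monic_freeMonic _ _).natDegree_map, natDegree_freeMonic]

lemma separable_uf [Nontrivial (UR.{u} n)] : (uf.{u} n).Separable := by
  refine (isUnit_iff_separable n (monic_uf n) (natDegree_uf n)).1 ?_
  rw [uf, derivative_map, resultant_map_map]
  exact IsLocalization.Away.algebraMap_isUnit (disc n)

/-- The point of a separable monic polynomial. -/
lemma exists_point {k : Type u} [Field k] {f₀ : k[X]} (hm : f₀.Monic) (hd : f₀.natDegree = n + 1)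
    (hs : f₀.Separable) : ∃ φ : UR.{u} n →+* k, (uf n).map φ = f₀ := by
  let φ₀ : UP.{u} n →+* k :=
    MvPolynomial.eval₂Hom ((Int.castRingHom k).comp ULift.ringEquiv.toRingHom) fun i => f₀.coeff i
  have hf : (freeMonic (ULift.{u} ℤ) (n + 1)).map φ₀ = f₀ := by
    ext j
    rw [coeff_map, coeff_freeMonic]
    split_ifs with h h'
    · simp [φ₀]
    · rw [map_one, h', ← hd, coeff_natDegree, hm.leadingCoeff]
    · rw [map_zero, coeff_eq_zero_of_natDegree_lt (by omega)]
  have hu : IsUnit (φ₀ (disc n)) := by
    rw [disc, ← resultant_map_map, ← derivative_map, hf]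
    exact (isUnit_iff_separable n hm hd).2 hs
  refine ⟨IsLocalization.Away.lift (disc n) hu, ?_⟩
  rw [uf, Polynomial.map_map, IsLocalization.Away.lift_comp, hf]

lemma etale_UA [Nontrivial (UR.{u} n)] : Algebra.Etale (UR.{u} n) (UA.{u} n) := by
  obtain ⟨a, b, e⟩ := separable_uf n
  let P : StandardEtalePair (UR.{u} n) :=
    { f := uf n
      monic_f := monic_uf n
      g := 1
      cond := ⟨b, a, 1, by rw [← e]; ring⟩ }
  have h1 : IsUnit (AdjoinRoot.mk P.f P.g) := by simp [P]
  exact Algebra.Etale.of_equiv (P.equivAwayAdjoinRoot.trans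
    ((IsLocalization.atUnit (AdjoinRoot P.f) (Localization.Away (AdjoinRoot.mk P.f P.g)) _ h1).symm.restrictScalars _))

lemma finite_UA : Module.Finite (UR.{u} n) (UA.{u} n) := (monic_uf n).finite_adjoinRoot

lemma faithfullyFlat_UA [Nontrivial (UR.{u} n)] : Module.FaithfullyFlat (UR.{u} n) (UA.{u} n) := by
  have := (monic_uf n).free_adjoinRoot (R := UR.{u} n)
  have : Nontrivial (UA.{u} n) :=
    ⟨⟨(AdjoinRoot.powerBasis' (monic_uf n)).basis ⟨0, by simp [natDegree_uf]⟩, 0, Module.Basis.ne_zero _ _⟩⟩
  infer_instance

/-- The universal cover splits after an étale faithfully flat base change. -/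
lemma exists_split [Nontrivial (UR.{u} n)] :
    ∃ (T : Type u) (_ : CommRing T) (_ : Algebra (UR.{u} n) T) (_ : Module.FaithfullyFlat (UR.{u} n) T)
      (_ : Algebra.Etale (UR.{u} n) T), Nonempty (T ⊗[UR.{u} n] UA.{u} n ≃ₐ[T] (Fin (n + 1) → T)) := by
  have := etale_UA.{u} n
  have := finite_UA.{u} n
  have := (monic_uf n).free_adjoinRoot (R := UR.{u} n)
  have hr : Module.finrank (UR.{u} n) (UA.{u} n) = n + 1 := by
    rw [(AdjoinRoot.powerBasis' (monic_uf n)).finrank, AdjoinRoot.powerBasis'_dim, natDegree_uf]
  obtain ⟨T, _, _, hT, _, _, hsp⟩ :=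
    Algebra.IsFiniteSplit.exists_tensorProduct_of_etale (R := UR.{u} n) (S := UA.{u} n) (n := n + 1)
      (by rw [Module.rankAtStalk_eq_finrank_of_free, hr])
  refine ⟨T, inferInstance, inferInstance, hT, inferInstance, ?_⟩
  obtain ⟨m, ⟨e⟩⟩ := hsp.nonempty_algEquiv_fun
  have : Nontrivial T := by
    have hinj : Function.Injective (algebraMap (UR.{u} n) T) := by
      have := (Module.FaithfullyFlat.tensorProduct_mk_injective (A := UR.{u} n) (B := T) (UR.{u} n))
      intro a b h
      apply this
      simp only [TensorProduct.mk_apply]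
      rw [← mul_one a, ← mul_one b, ← smul_eq_mul, ← smul_eq_mul, TensorProduct.tmul_smul,
        TensorProduct.tmul_smul, TensorProduct.smul_tmul', TensorProduct.smul_tmul',
        ← Algebra.algebraMap_eq_smul_one, ← Algebra.algebraMap_eq_smul_one, h]
    exact hinj.nontrivial
  obtain rfl : m = n + 1 := by
    have h1 := e.toLinearEquiv.finrank_eq
    rw [Module.finrank_baseChange, hr, Module.finrank_pi, Fintype.card_fin] at h1
    exact h1.symm
  exact ⟨e⟩

end Groth.Agent.H14AlgSt.Univ
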