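import Groth.Agent.H14AlgSt.AbsBase
import Groth.Agent.H14AlgSt.UnivEtale
import Mathlib.FieldTheory.PrimitiveElement

/-!
# A finite separable extension is a fibre of the universal cover
-/

set_option autoImplicit false
set_option linter.unusedVariables false
set_option backward.isDefEq.respectTransparency false
set_option backward.isDefEq.respectTransparency.types false

universe u

open CategoryTheory AlgebraicGeometry CategoryTheory.Limits Opposite Polynomial

noncomputable section

namespace Groth.Agent.H14AlgSt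

variable {S : Scheme.{u}} {k L : Type u} [Field k] [Field L] [Algebra k L]

/-- The spectrum of a field over `S`. -/
abbrev fldObj (sk : Spec (CommRingCat.of k) ⟶ S) : Over S := Over.mk sk

variable (L) in
/-- The spectrum of an extension over `S`. -/
abbrev extObj (sk : Spec (CommRingCat.of k) ⟶ S) : Over S :=
  Over.mk (Spec.map (CommRingCat.ofHom (algebraMap k L)) ≫ sk)

variable (L) in
/-- The projection of an extension. -/
abbrev extPr (sk : Spec (CommRingCat.of k) ⟶ S) : extObj L sk ⟶ fldObj sk :=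
  Over.homMk (Spec.map (CommRingCat.ofHom (algebraMap k L))) rfl

/-- A finite separable extension is the fibre of the universal cover at a point. -/
theorem exists_fieldPullback [FiniteDimensional k L] [Algebra.IsSeparable k L]
    (sk : Spec (CommRingCat.of k) ⟶ S) :
    ∃ (n : ℕ) (_ : Nontrivial (Univ.UR.{u} n)) (b : fldObj sk ⟶ absObj S (Spec (CommRingCat.of (Univ.UR.{u} n))))
      (u₁ : extObj L sk ⟶ absObj S (Spec (CommRingCat.of (Univ.UA.{u} n)))),
      ∀ {Z : Over S} (g : Z ⟶ fldObj sk) (a : Z ⟶ absObj S (Spec (CommRingCat.of (Univ.UA.{u} n)))),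
        a ≫ absMap S (Spec.map (CommRingCat.ofHom (algebraMap (Univ.UR.{u} n) (Univ.UA.{u} n)))) = g ≫ b →
          ∃! a' : Z ⟶ extObj L sk, a' ≫ extPr L sk = g ∧ a' ≫ u₁ = a := by
  let pb := Field.powerBasisOfFiniteOfSeparable k L
  let f₀ := minpoly k pb.gen
  have hd : f₀.natDegree = (pb.dim - 1) + 1 := by
    rw [PowerBasis.natDegree_minpoly, Nat.sub_add_cancel pb.dim_pos]
  generalize pb.dim - 1 = n at hd
  have hm : f₀.Monic := minpoly.monic (Algebra.IsIntegral.isIntegral _)
  obtain ⟨φ, hφ⟩ := Univ.exists_point.{u} n hm hd (Algebra.IsSeparable.isSeparable k pb.gen)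
  let ψ : Univ.UA.{u} n →+* L := AdjoinRoot.lift ((algebraMap k L).comp φ) pb.gen (by
    rw [← eval₂_map, hφ]
    exact minpoly.aeval k pb.gen)
  refine ⟨n, φ.domain_nontrivial, absPt (Spec.map (CommRingCat.ofHom φ)),
    absPt (Spec.map (CommRingCat.ofHom ψ)), fun {Z} g a ha => ?_⟩
  let P := Γ(Z.left, ⊤)
  let γ : k →+* P := (specPt (g.left : Z.left ⟶ Spec (CommRingCat.of k))).hom
  let α : Univ.UA.{u} n →+* P := (specPt (a.left ≫ absPr (Spec (CommRingCat.of (Univ.UA.{u} n))))).hom
  have hR : ∀ r, α (algebraMap (Univ.UR.{u} n) (Univ.UA.{u} n) r) = γ (φ r) := by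
    have key := congrArg (fun m : Z ⟶ absObj S (Spec (CommRingCat.of (Univ.UR.{u} n))) =>
      specPt (m.left ≫ absPr _)) ha
    rw [Over.comp_left, Over.comp_left, Category.assoc, Category.assoc, absMap_pr, absPt_pr,
      ← Category.assoc, specPt_comp_map, specPt_comp_map] at key
    exact fun r => congrArg (fun m => m.hom r) key
  let := γ.toAlgebra
  let r : P := α (AdjoinRoot.root (Univ.uf.{u} n))
  have hr : aeval r f₀ = 0 := by
    change f₀.eval₂ γ r = 0
    rw [← hφ, eval₂_map]
    have h1 := Polynomial.hom_eval₂ (Univ.uf.{u} n) (AdjoinRoot.of (Univ.uf.{u} n)) α (AdjoinRoot.root _)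
    rw [AdjoinRoot.eval₂_root, map_zero] at h1
    rw [show γ.comp φ = α.comp (AdjoinRoot.of (Univ.uf.{u} n)) from RingHom.ext fun t => (hR t).symm]
    exact h1.symm
  let χ : L →ₐ[k] P := pb.lift r hr
  have hχ : specPt (ofSpecPt (CommRingCat.ofHom χ.toRingHom) ≫ Spec.map (CommRingCat.ofHom (algebraMap k L))) =
      specPt (g.left : Z.left ⟶ Spec (CommRingCat.of k)) := by
    rw [specPt_comp_map, specPt_ofSpecPt]
    exact CommRingCat.hom_ext (RingHom.ext fun t => χ.commutes t)
  let a' : Z ⟶ extObj L sk := Over.homMk (ofSpecPt (CommRingCat.ofHom χ.toRingHom)) (by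
    change ofSpecPt _ ≫ Spec.map _ ≫ sk = Z.hom
    rw [← Category.assoc, specPt_ext hχ]
    exact Over.w g)
  refine ⟨a', ⟨Over.OverMorphism.ext (specPt_ext hχ), abs_ext (specPt_ext ?_)⟩, ?_⟩
  · rw [Over.comp_left, Category.assoc, absPt_pr, specPt_comp_map]
    change CommRingCat.ofHom ψ ≫ specPt (ofSpecPt (CommRingCat.ofHom χ.toRingHom)) = _
    rw [specPt_ofSpecPt]
    refine CommRingCat.hom_ext (Ideal.Quotient.ringHom_ext (Polynomial.ringHom_ext (fun t => ?_) ?_))
    · change χ (ψ (AdjoinRoot.of _ t)) = α (AdjoinRoot.of _ t)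
      rw [AdjoinRoot.lift_of]
      exact (χ.commutes _).trans (hR t).symm
    · change χ (ψ (AdjoinRoot.root _)) = r
      rw [AdjoinRoot.lift_root]
      exact pb.lift_gen r hr
  · rintro a'' ⟨h1, h2⟩
    refine Over.OverMorphism.ext (specPt_ext ?_)
    change specPt (a''.left : Z.left ⟶ Spec (CommRingCat.of L)) = specPt (ofSpecPt (CommRingCat.ofHom χ.toRingHom))
    rw [specPt_ofSpecPt]
    have e1 := congrArg (fun m : Z ⟶ fldObj sk => specPt (m.left : Z.left ⟶ Spec (CommRingCat.of k))) h1
    rw [Over.comp_left] at e1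
    change specPt (a''.left ≫ Spec.map _) = _ at e1
    rw [specPt_comp_map] at e1
    have e2 := congrArg (fun m : Z ⟶ absObj S (Spec (CommRingCat.of (Univ.UA.{u} n))) => specPt (m.left ≫ absPr _)) h2
    rw [Over.comp_left, Category.assoc, absPt_pr, specPt_comp_map] at e2
    let χ' : L →ₐ[k] P :=
      { (specPt (a''.left : Z.left ⟶ Spec (CommRingCat.of L))).hom with
        commutes' := fun t => congrArg (fun m => m.hom t) e1 }
    have : χ' = χ := pb.algHom_ext (by
      rw [pb.lift_gen r hr]
      have h3 := congrArg (fun m => m.hom (AdjoinRoot.root (Univ.uf.{u} n))) e2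
      change (specPt (a''.left : Z.left ⟶ Spec (CommRingCat.of L))).hom (ψ (AdjoinRoot.root _)) = _ at h3
      rwa [AdjoinRoot.lift_root] at h3)
    exact CommRingCat.hom_ext (congrArg AlgHom.toRingHom this)

end Groth.Agent.H14AlgSt
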