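import Groth.Agent.H12AlgSp.HilbQuot

/-!
A point of an algebraic space with values in a field lifts along an etale map from a scheme: the sheaf of finite
opens of an affine piece of an atlas is a scheme, and a closed point of the fibre gives a point of it.
-/

set_option linter.unusedVariables false
set_option backward.isDefEq.respectTransparency false
set_option backward.isDefEq.respectTransparency.types false

universe u

open CategoryTheory CategoryTheory.Limits AlgebraicGeometry Opposite TopologicalSpace
open AlgSp Groth.Agent.H13AlgSp Groth.Agent.H7Weight Groth.Agent.H12AlgSp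

namespace Groth.Agent.H14AlgSt

variable {S : Scheme.{u}}

/-- A map from a separated scheme, representable and etale, has the properties required for the finite opens. -/
theorem repWith_goodMor_of_etale {F : Sp S} {U : Over S} [IsSeparated U.hom] {p : (yon S).obj U ⟶ F}
    (h0 : RepWith @Etale p) : RepWith Hilb.goodMor p := by
  refine ⟨h0.1, fun T V g fst snd sqV => ?_⟩
  have het : Etale snd.left := h0.property g fst snd sqV
  refine ⟨⟨⟨(inferInstance : Flat snd.left), (inferInstance : LocallyOfFinitePresentation snd.left)⟩,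
    lqf_of_etale snd.left⟩, ?_⟩
  obtain ⟨b, rfl⟩ := (yon S).map_surjective fst
  let φ : V.left ⟶ pullback T.hom U.hom := pullback.lift snd.left b.left ((Over.w snd).trans (Over.w b).symm)
  have : Mono φ := ⟨fun {Z} x y e => by
    have h₁ : x ≫ snd.left = y ≫ snd.left := by simpa [φ] using e =≫ pullback.fst T.hom U.hom
    have h₂ : x ≫ b.left = y ≫ b.left := by simpa [φ] using e =≫ pullback.snd T.hom U.hom
    have hy : y ≫ V.hom = x ≫ V.hom := by
      rw [← Over.w snd, ← Category.assoc, ← h₁, Category.assoc]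
    exact congrArg (fun f : Over.mk (x ≫ V.hom) ⟶ V => f.left) (Hilb.hom_ext_square sqV
      (l := (Over.homMk x rfl : Over.mk (x ≫ V.hom) ⟶ V)) (l' := Over.homMk y hy)
      (Over.OverMorphism.ext h₁) (Over.OverMorphism.ext h₂))⟩
  change IsSeparated snd.left
  rw [← pullback.lift_fst (f := T.hom) (g := U.hom) snd.left b.left ((Over.w snd).trans (Over.w b).symm)]
  exact MorphismProperty.comp_mem _ φ _ inferInstance inferInstance

/-- A point with values in a field of an algebraic space lifts along an etale map from a scheme. -/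
theorem exists_etale_lift_of_fieldPoint {X : Sp S} (hX : IsAlgSpace X) {k : Type u} [Field k]
    (b : Spec (CommRingCat.of k) ⟶ S) (x : (yon S).obj (Over.mk b) ⟶ X) :
    ∃ (A : Over S) (m : (yon S).obj A ⟶ X) (a : Over.mk b ⟶ A),
      RepWith @Etale m ∧ (yon S).map a ≫ m = x := by
  classical
  let K : Over S := Over.mk b
  obtain ⟨U₀, p₀, he, hs⟩ := hX.atlas
  obtain ⟨Y₀, b₀, a₀', sq₀⟩ := Hilb.exists_square he.1 x
  have hsur : Surjective b₀.left := hs.property _ _ _ sq₀
  obtain ⟨y₀, -⟩ := hsur.surj (default : Spec (CommRingCat.of k))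
  obtain ⟨W, hW, hyW, -⟩ := exists_isAffineOpen_mem_and_subset (U := (⊤ : U₀.left.Opens))
    (x := a₀'.left y₀) (Set.mem_univ _)
  let U : Over S := openOver U₀ W
  have hWaff : IsAffine (W : Scheme.{u}) := hW
  have : IsAffine U.left := hWaff
  have : IsSeparated U.hom := inferInstance
  let j : U ⟶ U₀ := openIncl U₀ W
  have hje : Etale j.left := inferInstanceAs (Etale W.ι)
  let p := (yon S).map j ≫ p₀
  have hpe : RepWith @Etale p := repWith_comp ((repWith_yon_map_iff _ _).2 hje) he
  have hp : RepWith Hilb.goodMor p := repWith_goodMor_of_etale hpe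
  obtain ⟨Y, a, c, sq⟩ := Hilb.exists_square hp.1 x
  have hae : Etale a.left := hpe.property _ _ _ sq
  -- the fibre over the field point is nonempty
  let W₀ : Y₀.left.Opens := a₀'.left ⁻¹ᵁ W
  let P : Over S := openOver Y₀ W₀
  let q : P ⟶ U := Over.homMk (a₀'.left ∣_ W) (by
    change (a₀'.left ∣_ W) ≫ W.ι ≫ U₀.hom = W₀.ι ≫ Y₀.hom
    rw [morphismRestrict_ι_assoc, Over.w a₀'])
  have hq : q ≫ j = openIncl Y₀ W₀ ≫ a₀' := Over.OverMorphism.ext (morphismRestrict_ι _ _)
  obtain ⟨l, -, -⟩ := sq.exists_lift ((yon S).map q) ((yon S).map (openIncl Y₀ W₀ ≫ b₀)) (by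
    rw [show (yon S).map q ≫ p = ((yon S).map q ≫ (yon S).map j) ≫ p₀ from (Category.assoc _ _ _).symm,
      ← Functor.map_comp, hq, Functor.map_comp, Functor.map_comp, Category.assoc, Category.assoc, sq₀.w])
  obtain ⟨l', -⟩ := (yon S).map_surjective l
  let y : Y.left := l'.left ⟨y₀, hyW⟩
  -- a point of the fibre is a finite open
  have hqf : LocallyQuasiFinite a.left := lqf_of_etale a.left
  have hsub : Subsingleton K.left := inferInstanceAs (Subsingleton (PrimeSpectrum k))
  have hdisc : DiscreteTopology Y.left := by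
    have h := a.left.isDiscrete_preimage_singleton (a.left y)
    rw [show a.left ⁻¹' {a.left y} = Set.univ from Set.eq_univ_of_forall fun z => Subsingleton.elim _ _] at h
    exact isDiscrete_univ_iff.1 h
  let O : Y.left.Opens := ⟨{y}, isOpen_discrete _⟩
  have hO : IsFinOpen a.left O := by
    have : Subsingleton (O : Scheme.{u}) := ⟨fun u v => Subtype.ext (u.2.trans v.2.symm)⟩
    have : CompactSpace (O : Scheme.{u}) := Finite.compactSpace
    have : QuasiCompact (O.ι ≫ a.left) := by
      rw [quasiCompact_iff_compactSpace]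
      infer_instance
    have : LocallyQuasiFinite (O.ι ≫ a.left) := inferInstance
    have : IsLocallyArtinian K.left := inferInstanceAs (IsLocallyArtinian (Spec (CommRingCat.of k)))
    exact ⟨IsFinite.of_locallyQuasiFinite _, ⟨fun t => ⟨⟨y, rfl⟩, Subsingleton.elim _ _⟩⟩⟩
  let z : Hilb.Pt p K := Hilb.Pt.mkOpen sq hO
  obtain ⟨Q, μ, hμ⟩ := Hilb.exists_scheme_H hp fun s _ => ⟨⊤, isAffineOpen_top U.left, fun _ _ => trivial⟩
  obtain ⟨ā, hā⟩ := (yon S).map_surjective ((Hilb.point hp.1).symm z ≫ inv μ)
  refine ⟨Q, μ ≫ Hilb.toBase hp.1, ā,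
    repWith_comp (repWith_of_isIso μ) (Hilb.repWith_etale_toBase hp), ?_⟩
  rw [hā, Category.assoc, IsIso.inv_hom_id_assoc, Hilb.comp_toBase, Equiv.apply_symm_apply]
  rfl

end Groth.Agent.H14AlgSt
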