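import Groth.Agent.H14AlgSt.AbsBase
import Groth.Agent.H14AlgSt.DescTuple
import Mathlib.RingTheory.Etale.StandardEtale
import Mathlib.RingTheory.TotallySplit

/-!
# A split étale algebra gives a split cover
-/

set_option autoImplicit false
set_option linter.unusedVariables false
set_option backward.isDefEq.respectTransparency false
set_option backward.isDefEq.respectTransparency.types false

universe u

open CategoryTheory AlgebraicGeometry CategoryTheory.Limits Opposite TensorProduct

noncomputable section

namespace Groth.Agent.H14AlgSt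

open Groth.Agent.H13AlgSp

variable {S : Scheme.{u}} {R A T : Type u} [CommRing R] [CommRing A] [CommRing T] [Algebra R A]
  [Algebra R T] {n : ℕ}

variable (R A) in
/-- The map of spectra of an algebra. -/
abbrev specStr : Spec (CommRingCat.of A) ⟶ Spec (CommRingCat.of R) :=
  Spec.map (CommRingCat.ofHom (algebraMap R A))

variable (S) in
/-- The section of a factor of a splitting. -/
def splitSec (e : T ⊗[R] A ≃ₐ[T] (Fin n → T)) (i : Fin n) :
    absObj S (Spec (CommRingCat.of T)) ⟶ absObj S (Spec (CommRingCat.of A)) :=
  absMap S (Spec.map (CommRingCat.ofHom (((Pi.evalRingHom (fun _ : Fin n => T) i).comp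
    e.toRingEquiv.toRingHom).comp Algebra.TensorProduct.includeRight.toRingHom)))

theorem splitBy_abs (e : T ⊗[R] A ≃ₐ[T] (Fin n → T)) :
    SplitBy (absMap S (specStr R A)) (absMap S (specStr R T)) (splitSec S e) := by
  let ε : Fin n → T ⊗[R] A := fun i => e.symm (Pi.single i 1)
  let g : ∀ i : Fin n, T ⊗[R] A →+* T := fun i =>
    (Pi.evalRingHom (fun _ : Fin n => T) i).comp e.toRingEquiv.toRingHom
  -- the ring homomorphisms of points of `T`
  have hring : ∀ {Z : Over S} (v : Z ⟶ absObj S (Spec (CommRingCat.of T))) (i : Fin n),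
      specPt ((v ≫ splitSec S e i).left ≫ absPr _) =
        CommRingCat.ofHom ((g i).comp Algebra.TensorProduct.includeRight.toRingHom) ≫
          specPt (v.left ≫ absPr _) := fun v i => by
    rw [Over.comp_left, Category.assoc, splitSec, absMap_pr, ← Category.assoc, specPt_comp_map]
  refine ⟨fun i => abs_ext ?_, fun i j hij {Z} v h => ?_, fun {Z} v a ha t => ?_⟩
  · rw [Over.comp_left, Category.assoc, absMap_pr, ← Category.assoc, splitSec, absMap_pr, Category.assoc,
      absMap_pr, ← Spec.map_comp]
    congr 2
    ext r
    change e ((1 : T) ⊗ₜ[R] algebraMap R A r) i = algebraMap R T r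
    rw [show (1 : T) ⊗ₜ[R] algebraMap R A r = algebraMap T (T ⊗[R] A) (algebraMap R T r) by
      rw [Algebra.TensorProduct.algebraMap_apply, Algebra.algebraMap_eq_smul_one r,
        Algebra.algebraMap_eq_smul_one (A := T) r, TensorProduct.tmul_smul, TensorProduct.smul_tmul']
      rfl, AlgEquiv.commutes]
    rfl
  · -- two sections agree nowhere
    let φ : T →+* Γ(Z.left, ⊤) := (specPt (v.left ≫ absPr (Spec (CommRingCat.of T)))).hom
    have h1 : ∀ z : T ⊗[R] A, φ (g i z) = φ (g j z) := by
      intro z
      induction z using TensorProduct.induction_on with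
      | zero => simp
      | tmul t a =>
        have key := congrArg (fun m : Z ⟶ absObj S (Spec (CommRingCat.of A)) => specPt (m.left ≫ absPr _)) h
        rw [hring, hring] at key
        have := congrArg (fun m => m.hom a) key
        rw [show t ⊗ₜ[R] a = algebraMap T (T ⊗[R] A) t * ((1 : T) ⊗ₜ[R] a) by
          rw [Algebra.TensorProduct.algebraMap_apply, Algebra.TensorProduct.tmul_mul_tmul]
          simp]
        have hg : ∀ k, g k (algebraMap T (T ⊗[R] A) t) = t := fun k => by
          change e (algebraMap T (T ⊗[R] A) t) k = t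
          rw [AlgEquiv.commutes]
          rfl
        simp only [map_mul, hg]
        exact congrArg (φ t * ·) this
      | add z z' hz hz' => simp only [map_add, hz, hz']
    have h2 := h1 (ε i)
    have hε : ∀ k, g k (ε i) = (Pi.single i (1 : T) : Fin n → T) k := fun k => congrFun (e.apply_symm_apply _) k
    rw [hε, hε, Pi.single_eq_same, Pi.single_eq_of_ne hij.symm, map_one, map_zero] at h2
    refine ⟨fun z => ?_⟩
    have h3 := Z.left.basicOpen_of_isUnit (isUnit_one (M := Γ(Z.left, ⊤)))
    rw [h2, Scheme.basicOpen_zero] at h3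
    exact (h3 ▸ trivial : z ∈ (⊥ : Z.left.Opens))
  · -- every point is near one of the sections
    let P := Γ(Z.left, ⊤)
    let φT : T →+* P := (specPt (v.left ≫ absPr (Spec (CommRingCat.of T)))).hom
    let φA : A →+* P := (specPt (a.left ≫ absPr (Spec (CommRingCat.of A)))).hom
    have hR : ∀ r : R, φA (algebraMap R A r) = φT (algebraMap R T r) := by
      have key := congrArg (fun m : Z ⟶ absObj S (Spec (CommRingCat.of R)) => specPt (m.left ≫ absPr _)) ha
      rw [Over.comp_left, Over.comp_left, Category.assoc, Category.assoc, absMap_pr, absMap_pr,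
        ← Category.assoc, ← Category.assoc, specPt_comp_map, specPt_comp_map] at key
      exact fun r => congrArg (fun m => m.hom r) key
    let := φT.toAlgebra
    let := (φT.comp (algebraMap R T)).toAlgebra
    have : IsScalarTower R T P := IsScalarTower.of_algebraMap_eq fun r => rfl
    let fA : A →ₐ[R] P := { φA with commutes' := hR }
    let L : T ⊗[R] A →ₐ[T] P :=
      Algebra.TensorProduct.lift (Algebra.ofId T P) fA (fun _ _ => Commute.all _ _)
    have hsum : (∑ i, ε i) = 1 := by
      have h1 : (∑ x, (Pi.single x (1 : T) : Fin n → T)) = 1 := Finset.univ_sum_single (1 : Fin n → T)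
      rw [← map_sum e.symm, h1]
      exact map_one _
    obtain ⟨i, hi⟩ : ∃ i, t ∈ Z.left.basicOpen (L (ε i)) := by
      by_contra hne
      push Not at hne
      let γ := (Z.left.presheaf.germ ⊤ t trivial).hom
      have hmem : ∀ i ∈ Finset.univ, γ (L (ε i)) ∈ IsLocalRing.maximalIdeal (Z.left.presheaf.stalk t) :=
        fun i _ => fun hu => hne i ((Z.left.mem_basicOpen_top (L (ε i)) t).2 hu)
      have := Ideal.sum_mem _ hmem
      rw [← map_sum γ, ← map_sum L, hsum, map_one, map_one] at this
      exact (IsLocalRing.maximalIdeal _).ne_top_iff_one.1 (IsLocalRing.maximalIdeal.isMaximal _).ne_top this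
    refine ⟨Z.left.basicOpen (L (ε i)), i, hi, abs_ext (specPt_ext ?_)⟩
    simp only [Over.comp_left, Category.assoc]
    change specPt ((Z.left.basicOpen (L (ε i))).ι ≫ a.left ≫ absPr _) = specPt ((Z.left.basicOpen (L (ε i))).ι ≫ _)
    rw [specPt_comp, specPt_comp]
    refine CommRingCat.hom_ext (RingHom.ext fun z => ?_)
    let ρ := (Z.left.basicOpen (L (ε i))).ι.appTop.hom
    have hu : IsUnit (ρ (L (ε i))) := by
      have := RingedSpace.isUnit_res_basicOpen Z.left.toSheafedSpace (L (ε i))
      have e1 : ρ (L (ε i)) = (Z.left.basicOpen (L (ε i))).topIso.inv.hom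
          ((Z.left.presheaf.map (homOfLE le_top).op).hom (L (ε i))) := by
        simp [ρ, Scheme.Opens.topIso_inv]
        rw [← CommRingCat.comp_apply, ← Functor.map_comp]
        rfl
      rw [e1]
      exact this.map _
    have hz : ((1 : T) ⊗ₜ[R] z - algebraMap T (T ⊗[R] A) (g i ((1 : T) ⊗ₜ[R] z))) * ε i = 0 := by
      apply e.injective
      rw [map_mul, map_sub, AlgEquiv.commutes, map_zero]
      funext k
      rw [Pi.mul_apply, Pi.sub_apply]
      by_cases hk : k = i
      · subst hk
        simp [g, ε]
      · rw [e.apply_symm_apply, Pi.single_eq_of_ne hk, mul_zero]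
        rfl
    have h4 := congrArg (fun w => ρ (L w)) hz
    simp only [map_mul, map_sub, map_zero, AlgHom.commutes] at h4
    have h5 := sub_eq_zero.1 ((IsUnit.mul_left_eq_zero hu).1 h4)
    rw [show L ((1 : T) ⊗ₜ[R] z) = φA z by simp [L, fA]] at h5
    rw [← Category.assoc, splitSec, absMap_pr, ← Category.assoc, specPt_comp_map] at *
    exact h5

end Groth.Agent.H14AlgSt
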