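import Groth.Agent.H14AlgSt.DescChart
import Groth.Agent.H14AlgSt.DescPoint
import Groth.Agent.H14AlgSt.SplitEtale
import Groth.Agent.H14AlgSt.FieldPullback
import Groth.Agent.H14AlgSt.SmoothPoint
import Groth.Agent.H14AlgSt.PointLift

/-!
# Points with values in fields lift to smooth charts
-/

set_option autoImplicit false
set_option linter.unusedVariables false
set_option backward.isDefEq.respectTransparency false
set_option backward.isDefEq.respectTransparency.types false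

universe u

open CategoryTheory CategoryTheory.Functor Opposite AlgebraicGeometry CategoryTheory.Limits

noncomputable section

namespace Groth.Agent.H14AlgSt

open H14Fib H14Stk

variable {S : Scheme.{u}} {𝒳 : AlgSt.Cat S} {W : Over S}

/-- A map of schemes on categories of points is the functor of slices. -/
def yonMapIso {U V : Over S} (g : U ⟶ V) :
    BasedFunctor.comp (AlgSt.ofOverCat U)
        (BasedFunctor.comp (AlgSt.ofSpMap ((AlgSp.yon S).map g)) (AlgSt.toOverCat V)) ≅ AlgSt.overMap g :=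
  mkIso (fun s => Iso.refl _)
    (fun {_ _} φ => (Category.comp_id _).trans ((Category.id_comp _).trans (Over.OverMorphism.ext rfl)).symm)
    (fun s => IsHomLift.id rfl)

/-- A map from a scheme to the space of a smooth functor is a smooth chart. -/
lemma repWith_smooth_chart {F : AlgSp.Sp S} (hF : AlgSp.IsAlgSpace F) {A : Over S}
    {m : (AlgSp.yon S).obj A ⟶ F} (hm : AlgSp.RepWith @Etale m) {Φ : AlgSt.ofSp F ⥤ᵇ 𝒳}
    (hΦ : AlgSt.RepByAlgSpWith (AlgSp.LocP @Smooth) Φ) :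
    AlgSt.RepByAlgSpWith (AlgSp.LocP @Smooth)
      (BasedFunctor.comp (BasedFunctor.comp (AlgSt.ofOverCat A) (AlgSt.ofSpMap m)) Φ) := by
  have h1 : AlgSt.RepByAlgSpWith (AlgSp.LocP @Smooth) (AlgSt.ofSpMap m) := by
    refine repWith_ofSpMap_of_representable _ m hm.1 fun U T g fst v sqv => ?_
    have hv : Etale v.left := hm.property g fst v sqv
    exact H12AlgSp.locP_of_one_chart H12AlgSp.etLocal_smooth v (H12AlgSp.repWith_of_isIso (𝟙 _))
      (H12AlgSp.repWith_of_isIso (𝟙 _)) (H12AlgSp.repWith_of_isIso (𝟙 _))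
      (by rw [Category.id_comp, Category.comp_id]) (inferInstanceAs (Smooth v.left))
  have h2 : AlgSt.RepByAlgSpWith (AlgSp.LocP @Smooth) (BasedFunctor.comp (AlgSt.ofSpMap m) Φ) :=
    repWith_locP_comp H12AlgSp.etLocal_smooth (inferInstanceAs (FibCat.IsFibGrpd (Stk.EltObj.forget _)))
      (inferInstanceAs (FibCat.IsFibGrpd (Stk.EltObj.forget _))) h1 hΦ
  exact (repWith_equiv_comp_iff (ofOverCat_isEquivOver A)).1 h2

/-- Over every field point, a chart has a point in a finite separable extension. -/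
theorem exists_ext_point (x : FibCat.overCat W ⥤ᵇ 𝒳) (hx : AlgSt.RepByAlgSpWith (AlgSp.LocP @Smooth) x)
    (hxs : AlgSt.RepByAlgSpWith AlgSp.IsSurjectiveMor x) {k : Type u} [Field k]
    (sk : Spec (CommRingCat.of k) ⟶ S) (x₀ : FibCat.overCat (fldObj sk) ⥤ᵇ 𝒳) :
    ∃ (L : Type u) (_ : Field L) (_ : Algebra k L) (_ : FiniteDimensional k L) (_ : Algebra.IsSeparable k L)
      (u : extObj L sk ⟶ W),
      Nonempty (BasedFunctor.comp (AlgSt.overMap u) x ≅ BasedFunctor.comp (AlgSt.overMap (extPr L sk)) x₀) := by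
  obtain ⟨F, e, he, hπ⟩ := hx (fldObj sk) x₀
  obtain ⟨F', e', -, hπ'⟩ := hxs (fldObj sk) x₀
  obtain ⟨A, m, hme, hms⟩ := F.property.atlas
  have hne : Nonempty A.left := by
    obtain ⟨b, -, -⟩ := he
    obtain ⟨p₀, -⟩ := hπ' (AlgSp.Points.ofScheme (fldObj sk) (IsLocalRing.closedPoint k))
    induction p₀ using AlgSp.Points.ind with | h p =>
    let Z : Over S := Over.mk p.str
    let ξ : (AlgSp.yon S).obj Z ⟶ F'.obj := (AlgSp.J S).uliftYonedaEquiv.symm p.val
    let ζ : (AlgSp.yon S).obj Z ⟶ F.obj := ObjectProperty.homMk (testMap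
      (BasedFunctor.comp (BasedFunctor.comp (BasedFunctor.comp (AlgSt.ofOverCat Z) (AlgSt.ofSpMap ξ)) e') b))
    obtain ⟨Y, a, b₀, sq⟩ := H12AlgSp.Hilb.exists_square hme.1 ζ
    have : Surjective a.left := hms.property _ _ _ sq
    obtain ⟨y, -⟩ := a.left.surjective (IsLocalRing.closedPoint p.K : Z.left)
    exact ⟨b₀.left y⟩
  let π : F.obj ⟶ (AlgSp.yon S).obj (fldObj sk) := AlgSt.spMapOfOver (BasedFunctor.comp e (FibCat.fpFst x₀ x))
  obtain ⟨h, hh⟩ := (AlgSp.yon S).map_surjective (m ≫ π)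
  have hsm : Smooth h.left := hπ m (𝟙 _) h hme (AlgSp.repWith_id _ _) (by rw [Category.comp_id, hh])
  obtain ⟨L, _, _, hfin, hsep, w, hw⟩ :=
    @exists_separable_point_of_smooth k _ A.left (h.left : A.left ⟶ Spec (CommRingCat.of k)) hsm hne
  let a : extObj L sk ⟶ A := Over.homMk w (by
    rw [← Over.w h]
    exact (Category.assoc _ _ _).symm.trans (congrArg (· ≫ sk) hw))
  have hah : a ≫ h = extPr L sk := Over.OverMorphism.ext hw
  let τ : (AlgSp.yon S).obj (extObj L sk) ⟶ F.obj := (AlgSp.yon S).map a ≫ m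
  let σ : F.obj ⟶ (AlgSp.yon S).obj W := AlgSt.spMapOfOver (BasedFunctor.comp e (FibCat.fpSnd x₀ x))
  obtain ⟨u, hu⟩ := (AlgSp.yon S).map_surjective (τ ≫ σ)
  refine ⟨L, inferInstance, inferInstance, hfin, hsep, u, ⟨?_⟩⟩
  let a' : FibCat.overCat (extObj L sk) ⥤ᵇ AlgSt.ofSp F.obj :=
    BasedFunctor.comp (AlgSt.ofOverCat (extObj L sk)) (AlgSt.ofSpMap τ)
  let kσ : BasedFunctor.comp a' (BasedFunctor.comp e (FibCat.fpSnd x₀ x)) ≅ AlgSt.overMap u :=
    (Stk.restr a' _).mapIso (spMapOfOver_eq _).some ≪≫ eqToIso (by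
      change BasedFunctor.comp (AlgSt.ofOverCat (extObj L sk))
        (BasedFunctor.comp (AlgSt.ofSpMap (τ ≫ σ)) (AlgSt.toOverCat W)) = _
      rw [← hu]) ≪≫ yonMapIso u
  let kπ : BasedFunctor.comp a' (BasedFunctor.comp e (FibCat.fpFst x₀ x)) ≅ AlgSt.overMap (extPr L sk) :=
    (Stk.restr a' _).mapIso (spMapOfOver_eq _).some ≪≫ eqToIso (by
      change BasedFunctor.comp (AlgSt.ofOverCat (extObj L sk))
        (BasedFunctor.comp (AlgSt.ofSpMap (τ ≫ π)) (AlgSt.toOverCat (fldObj sk))) = _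
      rw [show τ ≫ π = (AlgSp.yon S).map (extPr L sk) by
        rw [Category.assoc, ← hh, ← Functor.map_comp, hah]]) ≪≫ yonMapIso (extPr L sk)
  exact (post _ x).mapIso kσ.symm ≪≫
    (Stk.restr (BasedFunctor.comp a' e) _).mapIso (FibCat.fpIso x₀ x).symm ≪≫ (post _ x₀).mapIso kπ

/-- A point with values in a field of an algebraic stack lifts to a smooth chart. -/
theorem exists_fieldChart {K : Precoverage Scheme.{u}} (hK : Scheme.etalePrecoverage ≤ K)
    (hX : AlgSt.IsAlgStack K 𝒳) {k : Type u} [Field k] (sk : Spec (CommRingCat.of k) ⟶ S)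
    (x₀ : FibCat.overCat (fldObj sk) ⥤ᵇ 𝒳) :
    ∃ (U : Over S) (_ : IsAffine U.left) (p : FibCat.overCat U ⥤ᵇ 𝒳) (a : fldObj sk ⟶ U),
      AlgSt.RepByAlgSpWith (AlgSp.LocP @Smooth) p ∧
        Nonempty (BasedFunctor.comp (AlgSt.overMap a) p ≅ x₀) := by
  obtain ⟨W, x, hx, hxs⟩ := hX.atlas
  obtain ⟨L, _, _, _, _, u, ⟨β⟩⟩ := exists_ext_point x hx hxs sk x₀
  obtain ⟨n, _, b, u₁, hpb⟩ := exists_fieldPullback (L := L) sk
  obtain ⟨T, _, _, _, _, ⟨e⟩⟩ := Univ.exists_split.{u} n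
  letI : Algebra (ULift.{u} ℤ) T :=
    ((algebraMap (Univ.UR.{u} n) T).comp (algebraMap (ULift.{u} ℤ) (Univ.UR.{u} n))).toAlgebra
  have : @IsScalarTower (ULift.{u} ℤ) (Univ.UR.{u} n) T Algebra.toSMul Algebra.toSMul Algebra.toSMul :=
    IsScalarTower.of_algebraMap_eq' rfl
  have : Algebra.Smooth (ULift.{u} ℤ) T := Algebra.Smooth.comp (ULift.{u} ℤ) (Univ.UR.{u} n) T
  let c := absMap S (specStr (Univ.UR.{u} n) (Univ.UA.{u} n))
  have := Univ.etale_UA.{u} n
  have := Univ.faithfullyFlat_UA.{u} n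
  have : Etale c.left := absMap_prop _
    ((HasRingHomProperty.Spec_iff (P := @Etale)).2 (RingHom.etale_algebraMap.mpr inferInstance))
  have : Surjective c.left := absMap_prop _ ⟨PrimeSpectrum.comap_surjective_of_faithfullyFlat⟩
  let π := absMap S (specStr (Univ.UR.{u} n) T)
  have hπe : Etale π.left := absMap_prop _
    ((HasRingHomProperty.Spec_iff (P := @Etale)).2 (RingHom.etale_algebraMap.mpr inferInstance))
  have hπs : Surjective π.left := absMap_prop _ ⟨PrimeSpectrum.comap_surjective_of_faithfullyFlat⟩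
  have : Smooth (absObj S (Spec (CommRingCat.of T))).hom := smooth_absObj T
  obtain ⟨hQ, hQA, F, ν, hν, hνn, hF⟩ := exists_descChart c hK hX (splitBy_abs e) hπe hπs hx
  obtain ⟨j⟩ := nonempty_iso_pointHom x x₀ β c hpb hK hX.isStack hQ F ν hν hνn
  let l := pointHom x x₀ β c hpb hQ
  obtain ⟨A, m, a, hm, ha⟩ := exists_etale_lift_of_fieldPoint hQA sk l
  obtain ⟨O, hO, haO, -⟩ := exists_isAffineOpen_mem_and_subset (U := (⊤ : A.left.Opens))
    (x := a.left (IsLocalRing.closedPoint k)) (Set.mem_univ _)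
  let U : Over S := H13AlgSp.openOver A O
  let ι : U ⟶ A := H13AlgSp.openIncl A O
  have hι : AlgSp.RepWith @Etale ((AlgSp.yon S).map ι ≫ m) :=
    H12AlgSp.repWith_comp ((AlgSp.repWith_yon_map_iff _ _).2 (inferInstanceAs (Etale O.ι))) hm
  have hsub : Subsingleton (fldObj sk).left := inferInstanceAs (Subsingleton (PrimeSpectrum k))
  have hr : Set.range a.left ⊆ Set.range O.ι := by
    rw [Scheme.Opens.range_ι]
    rintro _ ⟨z, rfl⟩
    rw [Subsingleton.elim z (IsLocalRing.closedPoint k)]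
    exact haO
  let a₀ : fldObj sk ⟶ U := Over.homMk (IsOpenImmersion.lift O.ι a.left hr) (by
    change IsOpenImmersion.lift O.ι a.left hr ≫ O.ι ≫ A.hom = sk
    rw [IsOpenImmersion.lift_fac_assoc]
    exact Over.w a)
  have ha₀ : a₀ ≫ ι = a := Over.OverMorphism.ext (IsOpenImmersion.lift_fac _ _ _)
  refine ⟨U, hO, _, a₀, repWith_smooth_chart hQA hι hF, ⟨?_⟩⟩
  have hl : (AlgSp.yon S).map a₀ ≫ (AlgSp.yon S).map ι ≫ m = l := by
    rw [← Category.assoc, ← Functor.map_comp, ha₀, ha]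
  refine (post _ (BasedFunctor.comp (BasedFunctor.comp (AlgSt.ofOverCat U)
    (AlgSt.ofSpMap ((AlgSp.yon S).map ι ≫ m))) F)).mapIso (yonMapIso a₀).symm ≪≫ ?_
  exact eqToIso (by
    change BasedFunctor.comp (BasedFunctor.comp (AlgSt.ofOverCat (fldObj sk))
      (AlgSt.ofSpMap ((AlgSp.yon S).map a₀ ≫ (AlgSp.yon S).map ι ≫ m))) F = _
    rw [hl]) ≪≫ j

end Groth.Agent.H14AlgSt
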