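import Groth.Agent.H14AlgSt.ReducedSub
import Groth.Agent.H14AlgSt.LocQ4
import Groth.Agent.H14AlgSt.DiagLFT
import Groth.Agent.H12AlgSp.UnivInj
import Groth.Agent.H8Props.Reduced
import Groth.Agent.H13AlgSp.EtaleLocally
import Groth.Agent.H06Desc.Geom

/-!
# Field-valued points of algebraic stacks: flatness and surjectivity
-/

set_option autoImplicit false
set_option backward.isDefEq.respectTransparency false
set_option backward.isDefEq.respectTransparency.types false

universe u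

open CategoryTheory CategoryTheory.Functor Opposite AlgebraicGeometry CategoryTheory.Limits

noncomputable section

namespace Groth.Agent.H14AlgSt

open H14Fib H14Stk

variable {S : Scheme.{u}} {𝒳 𝒵 : AlgSt.Cat S} {U : Over S}

local notation "K₀" => Scheme.fppfPrecoverage

lemma rep1_chart {K : Precoverage Scheme.{u}} (hZ : AlgSt.IsAlgStack K 𝒵) (z : FibCat.overCat U ⥤ᵇ 𝒵) :
    AlgSt.RepByAlgSp1 z :=
  repByAlgSp1_of_diag hZ.isStack.1 hZ.diag (repByAlgSp_overCat U) z

lemma repWith_overMap {P : MorphismProperty Scheme.{u}} (hP : H12AlgSp.EtLocal P) {A U : Over S}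
    (c : A ⟶ U) (hc : P c.left) :
    AlgSt.RepByAlgSpWith (AlgSp.LocP P) (AlgSt.overMap c) := by
  have := hP.baseChange
  have h := repWith_locP_of_repWith hP ((AlgSp.yon S).map c)
    ((AlgSp.repWith_yon_map_iff P c).2 hc)
  refine repWith_of_iso (mkIso (fun s => Iso.refl _)
      (fun {_ _} φ => (Category.comp_id _).trans ((Category.id_comp _).trans
        (Over.OverMorphism.ext rfl)).symm)
      (fun s => IsHomLift.id rfl) :
    BasedFunctor.comp (BasedFunctor.comp (AlgSt.ofOverCat A) (AlgSt.ofSpMap ((AlgSp.yon S).map c)))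
      (AlgSt.toOverCat U) ≅ AlgSt.overMap c) ?_
  exact (repWith_comp_equiv_iff (toOverCat_isEquivOver U)).2
    ((repWith_equiv_comp_iff (ofOverCat_isEquivOver A)).1 h)

lemma locQ_flat_over_field {k : Type u} [Field k] {a : Spec (CommRingCat.of k) ⟶ S}
    (hX : AlgSt.IsAlgStack K₀ 𝒳) (F : 𝒳 ⥤ᵇ FibCat.overCat (Over.mk a)) :
    AlgSt.LocQ (AlgSp.LocP @Flat) F := by
  obtain ⟨A, x, hx, hxs⟩ := hX.atlas
  obtain ⟨h, ⟨j⟩⟩ := exists_overMap_iso (BasedFunctor.comp x F)
  refine ⟨A, Over.mk a, x, AlgSt.overMap (𝟙 _), h,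
    j ≪≫ eqToIso (congrArg AlgSt.overMap (Category.comp_id h).symm) ≪≫ (overMapCompIso h _).symm,
    hx, hxs, repWith_overMap H12AlgSp.etLocal_smooth _ (H12AlgSp.etLocal_smooth.id_mem _), ?_⟩
  exact (locP_yon_iff H12AlgSp.etLocal_flat h).2 (H12AlgSp.flat_to_field h.left)

lemma subsingleton_points_of_field_point {k : Type u} [Field k]
    {a : Spec (CommRingCat.of k) ⟶ S} (hX : FibCat.IsFibGrpd 𝒵.p)
    {z : FibCat.overCat (Over.mk a) ⥤ᵇ 𝒵}
    (hz : AlgSt.RepByAlgSpWith AlgSp.IsSurjectiveMor z) :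
    Nonempty (AlgSt.Points 𝒵) ∧ Subsingleton (AlgSt.Points 𝒵) := by
  have h1 : Subsingleton (AlgSt.Points (FibCat.overCat (Over.mk a))) :=
    ⟨fun p q => chartPoint_injective
      (@Subsingleton.elim _ (inferInstanceAs (Subsingleton ↥(Spec (CommRingCat.of k)))) _ _)⟩
  exact ⟨⟨AlgSt.Points.ofChart z (IsLocalRing.closedPoint k)⟩,
    (surjective_of_repWith hX hz).subsingleton⟩

lemma surjective_of_subsingleton_points (hX : AlgSt.IsAlgStack K₀ 𝒵)
    (hs : Subsingleton (AlgSt.Points 𝒵)) {k : Type u} [Field k]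
    {a : Spec (CommRingCat.of k) ⟶ S} (z : FibCat.overCat (Over.mk a) ⥤ᵇ 𝒵) :
    AlgSt.RepByAlgSpWith AlgSp.IsSurjectiveMor z :=
  repWith_surjective_of_points (fibGrpd_overCat _) hX.isStack.1 (rep1_chart hX z)
    fun p => ⟨AlgSt.Points.mk
      { K := k, str := a, obj := topObj (Over.mk a), lies := rfl }, @Subsingleton.elim _ hs _ _⟩

lemma flat_of_field_point (hZ : AlgSt.IsAlgStack K₀ 𝒵) {k : Type u} [Field k]
    {a : Spec (CommRingCat.of k) ⟶ S} {z : FibCat.overCat (Over.mk a) ⥤ᵇ 𝒵}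
    (hzs : AlgSt.RepByAlgSpWith AlgSp.IsSurjectiveMor z)
    (hzf : AlgSt.RepByAlgSpWith (AlgSp.LocP @Flat) z) (z' : FibCat.overCat U ⥤ᵇ 𝒵) :
    AlgSt.RepByAlgSpWith (AlgSp.LocP @Flat) z' :=
  repWith_of_locQ smLocal_flat (baseStable_locP H12AlgSp.etLocal_flat)
    (localFppf_of_fpqc (S10530.result S)) (isAlgStack_overCat U) hZ (rep1_chart hZ z')
    (flat_of_fpFst (isAlgStack_overCat U) hZ (isAlgStack_overCat _)
      (locQ_of_repWith smLocal_flat (isAlgStack_overCat _) hZ hzf)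
      (surjective_of_repWith hZ.isStack.1 hzs)
      (locQ_flat_over_field
        (isAlgStack_fp' (isAlgStack_overCat _) (isAlgStack_overCat U) hZ z z')
        (FibCat.fpFst z z')))

lemma nonempty_chart_of_points (hZ : AlgSt.IsAlgStack K₀ 𝒵) {V : Over S}
    {y : FibCat.overCat V ⥤ᵇ 𝒵} (hys : AlgSt.RepByAlgSpWith AlgSp.IsSurjectiveMor y)
    (hne : Nonempty (AlgSt.Points 𝒵)) : Nonempty V.left := by
  obtain ⟨p⟩ := hne
  exact ⟨(ofChart_surjective hZ.isStack.1 hys p).choose⟩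

/-- A reduced stack with a point receives a flat morphism from a field. -/
lemma exists_flat_field_point (hZ : AlgSt.IsAlgStack K₀ 𝒵)
    (hr : AlgSt.SmoothLocally (fun T => IsReduced T) 𝒵) (hne : Nonempty (AlgSt.Points 𝒵)) :
    ∃ (k : Type u) (_ : Field k) (a : Spec (CommRingCat.of k) ⟶ S)
      (z : FibCat.overCat (Over.mk a) ⥤ᵇ 𝒵), AlgSt.RepByAlgSpWith (AlgSp.LocP @Flat) z := by
  obtain ⟨V, y, hy, hys⟩ := hZ.atlas
  have : IsReduced V.left := hr V y hy
  obtain ⟨v⟩ := nonempty_chart_of_points hZ hys hne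
  have hirr := isIrreducible_irreducibleComponent (x := v)
  let η := hirr.genericPoint
  have hη : closure {η} ∈ irreducibleComponents V.left := by
    rw [hirr.genericPoint_closure_eq, isClosed_irreducibleComponent.closure_eq]
    exact irreducibleComponent_mem_irreducibleComponents v
  have hF : IsField (V.left.presheaf.stalk η) :=
    isField_stalk_of_closure_mem_irreducibleComponents V.left η hη
  let := hF.toField
  let k : Type u := V.left.presheaf.stalk η
  let s : Spec (CommRingCat.of k) ⟶ V.left := V.left.fromSpecStalk η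
  let c : Over.mk (s ≫ V.hom) ⟶ V := Over.homMk s rfl
  refine ⟨k, inferInstance, s ≫ V.hom, BasedFunctor.comp (AlgSt.overMap c) y, ?_⟩
  exact repWith_locP_comp H12AlgSp.etLocal_flat (fibGrpd_overCat _) (fibGrpd_overCat V)
    (repWith_overMap H12AlgSp.etLocal_flat c (H8Props.flat_fromSpecStalk V.left η))
    (repWith_locP_mono smooth_le_flat hy)

/-- A nonempty stack receives a morphism of finite type from a field. -/
lemma exists_lft_field_point (hZ : AlgSt.IsAlgStack K₀ 𝒵) (hne : Nonempty (AlgSt.Points 𝒵)) :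
    ∃ (k : Type u) (_ : Field k) (a : Spec (CommRingCat.of k) ⟶ S)
      (z : FibCat.overCat (Over.mk a) ⥤ᵇ 𝒵),
      AlgSt.RepByAlgSpWith (AlgSp.LocP @LocallyOfFiniteType) z := by
  obtain ⟨V, y, hy, hys⟩ := hZ.atlas
  obtain ⟨v⟩ := nonempty_chart_of_points hZ hys hne
  obtain ⟨W, hW, hv, -⟩ := exists_isAffineOpen_mem_and_subset (x := v) (U := (⊤ : V.left.Opens)) trivial
  let R : CommRingCat.{u} := Γ(V.left, W)
  have : Nontrivial R := by
    by_contra hn
    rw [not_nontrivial_iff_subsingleton] at hn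
    exact (hW.isoSpec.hom ⟨v, hv⟩).isPrime.ne_top (Subsingleton.elim _ _)
  obtain ⟨m, hm⟩ := Ideal.exists_maximal R
  let := Ideal.Quotient.field m
  let q : R ⟶ CommRingCat.of (R ⧸ m) := CommRingCat.ofHom (Ideal.Quotient.mk m)
  have : IsClosedImmersion (Spec.map q) :=
    IsClosedImmersion.spec_of_surjective _ Ideal.Quotient.mk_surjective
  let s : Spec (CommRingCat.of (R ⧸ m)) ⟶ V.left := Spec.map q ≫ hW.fromSpec
  let c : Over.mk (s ≫ V.hom) ⟶ V := Over.homMk s rfl
  refine ⟨R ⧸ m, inferInstance, s ≫ V.hom, BasedFunctor.comp (AlgSt.overMap c) y, ?_⟩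
  exact repWith_locP_comp H12AlgSp.etLocal_lft (fibGrpd_overCat _) (fibGrpd_overCat V)
    (repWith_overMap H12AlgSp.etLocal_lft c (inferInstanceAs (LocallyOfFiniteType (Spec.map q ≫ hW.fromSpec))))
    (repWith_locP_mono smooth_le_lft hy)

/-- The covering of a chart by a scheme smooth over the field of a surjective flat point. -/
lemma exists_cover_of_field_point (hZ : AlgSt.IsAlgStack K₀ 𝒵) {k : Type u} [Field k]
    {a : Spec (CommRingCat.of k) ⟶ S} {z : FibCat.overCat (Over.mk a) ⥤ᵇ 𝒵}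
    (hzs : AlgSt.RepByAlgSpWith AlgSp.IsSurjectiveMor z)
    (hzf : AlgSt.RepByAlgSpWith (AlgSp.LocP @Flat) z) {V : Over S}
    {y : FibCat.overCat V ⥤ᵇ 𝒵} (hy : AlgSt.RepByAlgSpWith (AlgSp.LocP @Smooth) y) :
    ∃ (A : Over S) (h : A ⟶ V) (c : A ⟶ Over.mk a), Flat h.left ∧ Surjective h.left ∧
      Smooth c.left ∧ (AlgSt.RepByAlgSpWith (AlgSp.LocP @LocallyOfFinitePresentation) z →
        LocallyOfFinitePresentation h.left) := by
  have hT := isAlgStack_overCat (Over.mk a : Over S)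
  obtain ⟨A, b, h, hb, hbs, ⟨j⟩⟩ := exists_atlas_fp hT hZ z y
  obtain ⟨c, ⟨jc⟩⟩ := exists_overMap_iso (BasedFunctor.comp b (FibCat.fpFst z y))
  exact ⟨A, h, c,
    (locP_yon_iff H12AlgSp.etLocal_flat h).1
      (prop_of_locQ smLocal_flat (locQ_of_repWith smLocal_flat hT hZ hzf) hy b hb j),
    ⟨ofChart_surjective_of_atlas hT hZ (surjective_of_repWith hZ.isStack.1 hzs) hbs j⟩,
    smooth_of_repWith_overMap c
      (repWith_of_iso jc (chart_of_atlas_fp (fibGrpd_overCat _) hZ.isStack.1 hy hb)),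
    fun hp => (locP_yon_iff H12AlgSp.etLocal_lfp h).1
      (prop_of_locQ smLocal_lfp (locQ_of_repWith smLocal_lfp hT hZ hp) hy b hb j)⟩

lemma reduced_of_field_point (hZ : AlgSt.IsAlgStack K₀ 𝒵) {k : Type u} [Field k]
    {a : Spec (CommRingCat.of k) ⟶ S} {z : FibCat.overCat (Over.mk a) ⥤ᵇ 𝒵}
    (hzs : AlgSt.RepByAlgSpWith AlgSp.IsSurjectiveMor z)
    (hzf : AlgSt.RepByAlgSpWith (AlgSp.LocP @Flat) z) :
    AlgSt.SmoothLocally (fun T => IsReduced T) 𝒵 := by
  intro V y hy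
  obtain ⟨A, h, c, hf, hs, hc, -⟩ := exists_cover_of_field_point hZ hzs hzf hy
  have : IsReduced (Over.mk a : Over S).left := inferInstanceAs (IsReduced (Spec (CommRingCat.of k)))
  have : IsReduced A.left := smoothLocalSch_isReduced.ascend c.left this
  exact H06Desc.isReduced_of_flat_surjective h.left

lemma noetherian_of_field_point (hZ : AlgSt.IsAlgStack K₀ 𝒵) {k : Type u} [Field k]
    {a : Spec (CommRingCat.of k) ⟶ S} {z : FibCat.overCat (Over.mk a) ⥤ᵇ 𝒵}
    (hzp : AlgSt.RepByAlgSpWith (AlgSp.LocP @LocallyOfFinitePresentation) z)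
    (hzs : AlgSt.RepByAlgSpWith AlgSp.IsSurjectiveMor z)
    (hzf : AlgSt.RepByAlgSpWith (AlgSp.LocP @Flat) z) :
    AlgSt.SmoothLocally (fun T => IsLocallyNoetherian T) 𝒵 := by
  intro V y hy
  obtain ⟨A, h, c, hf, hs, hc, hp⟩ := exists_cover_of_field_point hZ hzs hzf hy
  have : IsLocallyNoetherian (Over.mk a : Over S).left :=
    inferInstanceAs (IsLocallyNoetherian (Spec (CommRingCat.of k)))
  have : IsLocallyNoetherian A.left := LocallyOfFiniteType.isLocallyNoetherian c.left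
  have := hp hzp
  exact H13AlgSp.isLocallyNoetherian_of_flat_lfp_surjective h.left

lemma lfp_of_lft_of_noetherian (hZ : AlgSt.IsAlgStack K₀ 𝒵)
    (hn : AlgSt.SmoothLocally (fun T => IsLocallyNoetherian T) 𝒵) {z : FibCat.overCat U ⥤ᵇ 𝒵}
    (hz : AlgSt.RepByAlgSpWith (AlgSp.LocP @LocallyOfFiniteType) z) :
    AlgSt.RepByAlgSpWith (AlgSp.LocP @LocallyOfFinitePresentation) z := by
  have hU := isAlgStack_overCat U
  refine repWith_of_locQ smLocal_lfp (baseStable_locP H12AlgSp.etLocal_lfp)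
    (localFppf_of_fpqc (S10527.result S)) hU hZ (rep1_chart hZ z) ?_
  obtain ⟨V, y, hy, hys⟩ := hZ.atlas
  obtain ⟨A, b, h, hb, hbs, ⟨j⟩⟩ := exists_atlas_fp hU hZ z y
  have : IsLocallyNoetherian V.left := hn V y hy
  have : LocallyOfFiniteType h.left := (locP_yon_iff H12AlgSp.etLocal_lft h).1
    (prop_of_locQ smLocal_lft (locQ_of_repWith smLocal_lft hU hZ hz) hy b hb j)
  exact locQ_of_atlas hU.isStack.1 hZ.isStack.1 hy hys hb hbs j
    ((locP_yon_iff H12AlgSp.etLocal_lfp h).2 (H12AlgSp.lfp_of_lft_of_isLocallyNoetherian h.left))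

end Groth.Agent.H14AlgSt
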