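import Groth.Agent.H14Quot.AutPoint
import Groth.Agent.H14AlgSt.FieldPoint

/-!
# The image of an fppf pregroupoid chart is an algebraic substack
-/

set_option autoImplicit false
set_option backward.isDefEq.respectTransparency false
set_option backward.isDefEq.respectTransparency.types false

universe u

open CategoryTheory CategoryTheory.Functor Opposite AlgebraicGeometry CategoryTheory.Limits

noncomputable section

namespace Groth.Agent.H14AlgSt

open H14Fib H14Stk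

variable {S : Scheme.{u}} {𝒳 : AlgSt.Cat S} {W : Over S} (z : FibCat.overCat W ⥤ᵇ 𝒳)

local notation "K₀" => Scheme.fppfPrecoverage

/-- Being fppf locally the pullback of a value of a chart. -/
def imgPred (ξ : 𝒳.obj) : Prop :=
  Locally (QuotSh.J K₀ S) (𝒳.p.obj ξ)
    (fun _ f => ∃ (s : (FibCat.overCat W).obj) (m : z.obj s ⟶ ξ), 𝒳.p.IsHomLift f m)

lemma lift_overMap {V : Over S} (s : (FibCat.overCat W).obj) (f : V ⟶ s.left) :
    ∃ (t : (FibCat.overCat W).obj) (m : z.obj t ⟶ z.obj s), 𝒳.p.IsHomLift f m := by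
  let t : (FibCat.overCat W).obj := Over.mk (f ≫ s.hom)
  let n : t ⟶ s := Over.homMk f rfl
  exact ⟨t, z.map n, @BasedFunctor.preserves_isHomLift _ _ _ _ z _ _ _ _ f n
    (IsHomLift.of_fac' (FibCat.overCat W).p f n rfl rfl (by
      change f = 𝟙 _ ≫ f ≫ 𝟙 _
      simp))⟩

lemma imgPred_self (s : (FibCat.overCat W).obj) : imgPred z (z.obj s) :=
  Locally.of_forall fun V f => by
    have h := z.w_obj s
    obtain ⟨t, m, hm⟩ := lift_overMap z s (f ≫ eqToHom h)
    refine ⟨t, m, IsHomLift.of_fac' _ _ _ (@IsHomLift.domain_eq _ _ _ _ 𝒳.p _ _ _ _ _ m hm) rfl ?_⟩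
    rw [@IsHomLift.fac' _ _ _ _ 𝒳.p _ _ _ _ _ m hm]
    simp

lemma imgPred_of_hom (h𝒳 : FibCat.IsFibGrpd 𝒳.p) {a b : 𝒳.obj} (φ : b ⟶ a) (h : imgPred z a) :
    imgPred z b := by
  refine (h.pullback (𝒳.p.map φ)).mono ?_
  rintro V f ⟨s, m, hm⟩
  have := h𝒳.isStronglyCartesian φ
  obtain ⟨χ, ⟨hχ, -⟩, -⟩ := IsStronglyCartesian.universal_property 𝒳.p (𝒳.p.map φ) φ f _ rfl m
  exact ⟨s, χ, hχ⟩

lemma imgPred_closed (h𝒳 : FibCat.IsFibGrpd 𝒳.p) :
    ObjectProperty.IsClosedUnderIsomorphisms (imgPred z) :=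
  ⟨fun e h => imgPred_of_hom z h𝒳 e.inv h⟩

lemma localPred_imgPred : LocalPred (imgPred z) := by
  intro U R hR H h s
  have hs : 𝒳.p.obj (H.obj s) = s.left := H.w_obj s
  have h0 : Locally (QuotSh.J K₀ S) (𝒳.p.obj (H.obj s))
      (fun _ f => ∃ (a : (Stk.sieveCat R).obj) (m : H.obj a.obj ⟶ H.obj s),
        𝒳.p.IsHomLift f m) := by
    refine ⟨R.pullback (eqToHom hs ≫ s.hom),
      (QuotSh.J K₀ S).pullback_stable _ hR, fun V f hf => ?_⟩
    let a : (Stk.sieveCat R).obj := ⟨Over.mk (f ≫ eqToHom hs ≫ s.hom), hf⟩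
    let t : a.obj ⟶ s := Over.homMk (f ≫ eqToHom hs) (Category.assoc _ _ _)
    refine ⟨a, H.map t, ?_⟩
    refine IsHomLift.of_fac' 𝒳.p f _ (H.w_obj a.obj) rfl ?_
    rw [@IsHomLift.fac' _ _ _ _ 𝒳.p _ _ _ _ (f ≫ eqToHom hs) (H.map t)
      (@BasedFunctor.preserves_isHomLift _ _ _ _ H _ _ _ _ (f ≫ eqToHom hs) t
        (IsHomLift.of_fac' (FibCat.overCat U).p _ t rfl rfl (by
          change f ≫ eqToHom hs = 𝟙 _ ≫ (f ≫ eqToHom hs) ≫ 𝟙 _
          simp)))]
    simp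
  refine h0.bind ?_
  rintro V f ⟨a, m, hm⟩
  have hV : 𝒳.p.obj (H.obj a.obj) = V := IsHomLift.domain_eq 𝒳.p f m
  subst hV
  exact (h a).mono fun W g ⟨T, m', hm'⟩ => ⟨T, m' ≫ m, homLift_comp' hm' hm⟩

/-- The chart with values in its image. -/
abbrev toImg : FibCat.overCat W ⥤ᵇ AlgSt.fullSub 𝒳 (imgPred z) := liftSub z (imgPred_self z)

lemma exists_lift_img (h𝒳 : FibCat.IsFibGrpd 𝒳.p) {U : Over S}
    (y : FibCat.overCat U ⥤ᵇ AlgSt.fullSub 𝒳 (imgPred z)) :
    ∃ (ι : Type u) (C : ι → Over S) (c : ∀ i, C i ⟶ U), (∀ i, Flat (c i).left) ∧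
      (∀ i, LocallyOfFinitePresentation (c i).left) ∧
      (∀ t : U.left, ∃ i, t ∈ Set.range (c i).left) ∧
      ∀ i, ∃ w : FibCat.overCat (C i) ⥤ᵇ FibCat.overCat W,
        Nonempty (BasedFunctor.comp w (toImg z) ≅ BasedFunctor.comp (AlgSt.overMap (c i)) y) := by
  have hU := fullSub_fibGrpd_of_hom (Q := imgPred z) (fun φ => imgPred_of_hom z h𝒳 φ) h𝒳
  let ξ : 𝒳.obj := (y.obj (topObj U)).obj
  have hξ : 𝒳.p.obj ξ = U := y.w_obj (topObj U)
  have h : imgPred z ξ := (y.obj (topObj U)).property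
  obtain ⟨R, hR, hP⟩ := h.pullback (eqToHom hξ.symm)
  obtain ⟨C, c, h1, h2, h3, h4⟩ := exists_fppf_family hR
  refine ⟨U.left, C, c, h1, h2, fun t => h3 t, fun i => ?_⟩
  obtain ⟨s, m, hm⟩ := hP (c i) (h4 i)
  have hs : C i = s.left :=
    (@IsHomLift.domain_eq _ _ _ _ 𝒳.p _ _ _ _ _ m hm).symm.trans (z.w_obj s)
  let g : C i ⟶ W := eqToHom hs ≫ s.hom
  refine ⟨AlgSt.overMap g, ?_⟩
  let a₀ : (FibCat.overCat W).obj := (AlgSt.overMap g).obj (topObj (C i))
  let e₀ : a₀ ⟶ s := Over.homMk (eqToHom hs) (by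
    change eqToHom hs ≫ s.hom = 𝟙 _ ≫ g
    rw [Category.id_comp])
  let a : z.obj a₀ ⟶ ξ := z.map e₀ ≫ m
  have ha : 𝒳.p.IsHomLift (c i) a := by
    refine IsHomLift.of_fac' _ _ _ (z.w_obj a₀) hξ ?_
    simp only [a, Functor.map_comp]
    rw [@IsHomLift.fac' _ _ _ _ 𝒳.p _ _ _ _ _ m hm, show 𝒳.p.map (z.map e₀) =
      eqToHom (z.w_obj a₀) ≫ (FibCat.overCat W).p.map e₀ ≫ eqToHom (z.w_obj s).symm from
        Functor.congr_hom z.w e₀]
    rw [show (FibCat.overCat W).p.map e₀ = eqToHom hs from rfl]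
    simp
  let t : (FibCat.overCat U).obj := (AlgSt.overMap (c i)).obj (topObj (C i))
  let b : (y.obj t).obj ⟶ ξ := (y.map (toTop t)).hom
  have hb : 𝒳.p.IsHomLift (c i) b := by
    refine (BasedFunctor.isHomLift_iff (AlgSt.subIncl 𝒳 (imgPred z)) (c i) _).2 ?_
    exact @BasedFunctor.preserves_isHomLift _ _ _ _ y _ _ _ _ (c i) (toTop t)
      (IsHomLift.of_fac' (FibCat.overCat U).p _ _ rfl rfl (by
        change c i = 𝟙 _ ≫ (toTop t).left ≫ 𝟙 _
        simp [t, toTop]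
        rfl))
  obtain ⟨e, he, -⟩ := exists_vertIso h𝒳 (c i) a b
  exact ⟨isoOfTop (topSC_of_fibGrpd hU _) (topSC_of_fibGrpd hU _)
    (ObjectProperty.isoMk _ e)
    ((BasedFunctor.isHomLift_iff (AlgSt.subIncl 𝒳 (imgPred z)) _ _).1 he)⟩

lemma surjective_points_toImg (h𝒳 : FibCat.IsFibGrpd 𝒳.p) :
    Function.Surjective (AlgSt.Points.map (toImg z)) := by
  intro q
  obtain ⟨p, rfl⟩ := AlgSt.Points.mk_surjective q
  obtain ⟨R, hR, hP⟩ := p.obj.property
  obtain ⟨C, c, -, -, h3, h4⟩ := exists_fppf_family hR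
  have hp : 𝒳.p.obj p.obj.obj = Over.mk p.str := p.lies
  let t : (𝒳.p.obj p.obj.obj).left := (eqToHom hp.symm).left (IsLocalRing.closedPoint p.K)
  obtain ⟨i, w, -⟩ := h3 t
  obtain ⟨s, m, hm⟩ := hP (c i) (h4 i)
  have hs : C i = s.left :=
    (@IsHomLift.domain_eq _ _ _ _ 𝒳.p _ _ _ _ _ m hm).symm.trans (z.w_obj s)
  let ρ := (C i).left.fromSpecResidueField w
  let T : Over S := Over.mk (ρ ≫ (C i).hom)
  let ρ' : T ⟶ s.left := (Over.homMk ρ rfl : T ⟶ C i) ≫ eqToHom hs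
  let r : AlgSt.FPt (FibCat.overCat W) :=
    { K := (C i).left.residueField w, str := ρ ≫ (C i).hom, obj := Over.mk (ρ' ≫ s.hom), lies := rfl }
  refine ⟨AlgSt.Points.mk r, mk_eq_of_hom (p := r.map (toImg z)) (q := p)
    (ObjectProperty.homMk (z.map (Over.homMk ρ' rfl : r.obj ⟶ s) ≫ m))⟩

variable (hz : ∀ P : MorphismProperty Scheme.{u}, (P = @Flat ∨ P = @LocallyOfFinitePresentation) →
  AlgSt.RepByAlgSpWith (AlgSp.LocP P) (FibCat.fpFst z z))

include hz

/-- A chart whose self fibre product is flat and locally finitely presented is flat and locally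
finitely presented over its image. -/
lemma repWith_toImg (h𝒳 : AlgSt.IsAlgStack K₀ 𝒳) (P : MorphismProperty Scheme.{u})
    (hP : P = @Flat ∨ P = @LocallyOfFinitePresentation) :
    AlgSt.RepByAlgSpWith (AlgSp.LocP P) (toImg z) := by
  have hloc : AlgSp.IsLocalOnBase AlgSp.IsFppfCover (AlgSp.LocP (S := S) P) := by
    rcases hP with rfl | rfl
    · exact localFppf_of_fpqc (S10530.result S)
    · exact localFppf_of_fpqc (S10527.result S)
  let 𝒰 := AlgSt.fullSub 𝒳 (imgPred z)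
  let i := AlgSt.subIncl 𝒳 (imgPred z)
  refine repWith_of_cover hloc (sourceIsoInv_locP _)
    (repByAlgSp1_of_with (repWith_liftSub (with_top_of_repByAlgSp1 (rep1_chart h𝒳 z)) _))
    (toImg z) (fun U y => exists_lift_img z h𝒳.isStack.1 y) ?_
  let e : BasedFunctor.comp (toImg z) i ≅ BasedFunctor.comp (BasedFunctor.id _) z :=
    liftSubIso z (imgPred_self z)
  let E : FibCat.fp (toImg z) (toImg z) ⥤ᵇ FibCat.fp z z :=
    fpMap (BasedFunctor.id _) (BasedFunctor.id _) i e e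
  have : i.toFunctor.Full := inferInstanceAs (ObjectProperty.ι (P := imgPred z)).Full
  have : i.toFunctor.Faithful := inferInstanceAs (ObjectProperty.ι (P := imgPred z)).Faithful
  have hE : FibCat.IsEquivOver E :=
    fpMap_isEquivOver_of_lifts _ _ _ _ _ (essSurjOver_id _) fun w =>
      ⟨w.obj.snd, Iso.refl _, IsHomLift.id rfl⟩
  exact repWith_of_iso (mkIso (fun w => Iso.refl _)
      (fun {_ _} m => (Category.comp_id _).trans (Category.id_comp _).symm)
      (fun w => IsHomLift.id rfl) :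
    BasedFunctor.comp E (FibCat.fpFst z z) ≅ FibCat.fpFst (toImg z) (toImg z))
    ((repWith_equiv_comp_iff hE).1 (hz P hP))

/-- The image of a chart with flat and locally finitely presented self fibre product is an
algebraic stack, monomorphic to the ambient one, on which the chart is fppf. -/
theorem exists_fppf_image (h𝒳 : AlgSt.IsAlgStack K₀ 𝒳) :
    AlgSt.IsAlgStack K₀ (AlgSt.fullSub 𝒳 (imgPred z)) ∧
      AlgSt.IsMono (AlgSt.subIncl 𝒳 (imgPred z)) ∧
      AlgSt.RepByAlgSpWith (AlgSp.LocP @Flat) (toImg z) ∧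
      AlgSt.RepByAlgSpWith (AlgSp.LocP @LocallyOfFinitePresentation) (toImg z) ∧
      AlgSt.RepByAlgSpWith AlgSp.IsSurjectiveMor (toImg z) := by
  have hh := fun {a b : 𝒳.obj} (φ : b ⟶ a) => imgPred_of_hom z h𝒳.isStack.1 φ
  have hst := fullSub_isStack_of_local hh (localPred_imgPred z) h𝒳
  let i := AlgSt.subIncl 𝒳 (imgPred z)
  have : i.toFunctor.Full := inferInstanceAs (ObjectProperty.ι (P := imgPred z)).Full
  have : i.toFunctor.Faithful := inferInstanceAs (ObjectProperty.ι (P := imgPred z)).Faithful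
  have hf := repWith_toImg z hz h𝒳 @Flat (Or.inl rfl)
  have hp := repWith_toImg z hz h𝒳 @LocallyOfFinitePresentation (Or.inr rfl)
  have hs : AlgSt.RepByAlgSpWith AlgSp.IsSurjectiveMor (toImg z) :=
    repWith_surjective_of_points (fibGrpd_overCat W) hst.1 (repByAlgSp1_of_with hf)
      (surjective_points_toImg z h𝒳.isStack.1)
  have hi : AlgSt.RepByAlgSp1 i :=
    H14Quot.repByAlgSp1_of_chart hst h𝒳.isStack h𝒳.diag i (toImg z) hs hf hp
  exact ⟨isAlgStack_of_rep1 hst.1 h𝒳 hi, isMono_of_ff hi, hf, hp, hs⟩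

end Groth.Agent.H14AlgSt
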