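import Groth.Agent.H14AlgSt.FieldChart
import Groth.Agent.S18325

/-!
# Points over henselian local rings lift to a chart through which the closed point lifts
-/

set_option autoImplicit false
set_option linter.unusedVariables false
set_option backward.isDefEq.respectTransparency false
set_option backward.isDefEq.respectTransparency.types false

universe u

open CategoryTheory CategoryTheory.Functor AlgebraicGeometry

noncomputable section

namespace Groth.Agent.H14AlgSt

open H14Fib H14Stk

variable {S : Scheme.{u}} {𝒳 : AlgSt.Cat S}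

/-- The closed point of a henselian local ring over the base. -/
abbrev residueObj (R : Type u) [CommRing R] [IsLocalRing R] (str : Spec (CommRingCat.of R) ⟶ S) : Over S :=
  fldObj (Spec.map (CommRingCat.ofHom (IsLocalRing.residue R)) ≫ str)

/-- The inclusion of the closed point. -/
abbrev residueIncl (R : Type u) [CommRing R] [IsLocalRing R] (str : Spec (CommRingCat.of R) ⟶ S) :
    residueObj R str ⟶ Over.mk str :=
  Over.homMk (Spec.map (CommRingCat.ofHom (IsLocalRing.residue R))) rfl

/-- A lift of the closed point of a point over a henselian local ring to a smooth chart extends. -/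
theorem exists_lift_henselian (hX : AlgSt.IsAlgStack Scheme.fppfPrecoverage 𝒳) {U : Over S}
    (p : FibCat.overCat U ⥤ᵇ 𝒳) (hp : AlgSt.RepByAlgSpWith (AlgSp.LocP @Smooth) p) {R : Type u}
    [CommRing R] [HenselianLocalRing R] (str : Spec (CommRingCat.of R) ⟶ S)
    (z : FibCat.overCat (Over.mk str) ⥤ᵇ 𝒳) (a : residueObj R str ⟶ U)
    (w : BasedFunctor.comp (AlgSt.overMap a) p ≅
      BasedFunctor.comp (AlgSt.overMap (residueIncl R str)) z) :
    ∃ g : Over.mk str ⟶ U, Nonempty (BasedFunctor.comp (AlgSt.overMap g) p ≅ z) := by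
  let f : AlgSt.ofSp ((AlgSp.ofScheme S).obj U).obj ⥤ᵇ 𝒳 := BasedFunctor.comp (AlgSt.toOverCat U) p
  have hf : AlgSt.RepByAlgSpWith (AlgSp.LocP @Smooth) f :=
    (repWith_square (f := p) (f' := f) (b := BasedFunctor.id 𝒳) (toOverCat_isEquivOver U)
      (isEquivOver_id _) (Iso.refl f)).1 hp
  obtain ⟨z', -, ⟨j⟩⟩ := S18325.result 𝒳 hX ((AlgSp.ofScheme S).obj U) f hf R str z
    ((AlgSp.yon S).map a) ⟨(post _ p).mapIso (yonMapIso a) ≪≫ w⟩
  obtain ⟨g, hg⟩ := (AlgSp.yon S).map_surjective z'
  refine ⟨g, ⟨(post _ p).mapIso (yonMapIso g).symm ≪≫ ?_⟩⟩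
  exact eqToIso (by rw [hg]; rfl) ≪≫ j

end Groth.Agent.H14AlgSt
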