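import Groth.Agent.H14AlgSt.EtaleCriterion
import Groth.Agent.H14AlgSt.DiagProps

/-!
# The inertia and the diagonal
-/

set_option autoImplicit false
set_option backward.isDefEq.respectTransparency false
set_option backward.isDefEq.respectTransparency.types false

universe u

open CategoryTheory CategoryTheory.Functor Opposite AlgebraicGeometry CategoryTheory.Limits

noncomputable section

namespace Groth.Agent.H14AlgSt

open H14Fib H14Stk

variable {S : Scheme.{u}} {𝒳 𝒴 : AlgSt.Cat S} {P Q : MorphismProperty (AlgSp.Sp S)}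

local notation "K₀" => Scheme.fppfPrecoverage

/-- The inertia as the self fibre product of the diagonal. -/
def inertiaPair (h𝒳 : FibCat.IsFibGrpd 𝒳.p) (f : 𝒳 ⥤ᵇ 𝒴) :
    FibCat.inertia f ⥤ᵇ FibCat.fp (FibCat.diag f) (FibCat.diag f) where
  toFunctor :=
    { obj := fun x => fpObj x.pt x.pt (fpIsoMk x.aut (Iso.refl x.pt) (by
        change f.map x.aut.hom ≫ 𝟙 _ = 𝟙 _ ≫ f.map (𝟙 x.pt)
        rw [x.map_aut, f.toFunctor.map_id])) rfl ((fp_isHomLift_iff _ _).2 (by
        have h1 : 𝒳.p.map x.aut.hom = 𝟙 _ := by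
          have := BasedFunctor.isHomLift_iff f (𝟙 (𝒳.p.obj x.pt)) x.aut.hom
          have h2 : 𝒴.p.IsHomLift (𝟙 (𝒳.p.obj x.pt)) (f.map x.aut.hom) := by
            rw [x.map_aut]
            exact IsHomLift.id (f.w_obj _)
          have h3 := this.1 h2
          simpa using IsHomLift.fac' 𝒳.p (𝟙 (𝒳.p.obj x.pt)) x.aut.hom
        exact IsHomLift.of_fac' _ _ _ rfl rfl (h1.trans (by simp; rfl))))
      map := fun {x y} m => fpHom m.hom m.hom (fp_hom_ext m.comm.symm
        ((Category.comp_id _).trans (Category.id_comp _).symm))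
      map_id := fun x => fp_hom_ext rfl rfl
      map_comp := fun m n => fp_hom_ext rfl rfl }
  w := rfl

lemma inertiaPair_isEquivOver (h𝒳 : FibCat.IsFibGrpd 𝒳.p) (f : 𝒳 ⥤ᵇ 𝒴) :
    FibCat.IsEquivOver (inertiaPair h𝒳 f) := by
  refine (isEquivOver_iff _).2 ⟨⟨⟨fun {x y} m => ?_⟩, ⟨fun {x y} m n h => ?_⟩⟩, fun z => ?_⟩
  · have hw := m.hom.w
    have h1 : m.hom.fst ≫ y.aut.hom = x.aut.hom ≫ m.hom.snd := congrArg (fun t => t.hom.fst) hw
    have h2 : m.hom.fst ≫ 𝟙 _ = 𝟙 _ ≫ m.hom.snd := congrArg (fun t => t.hom.snd) hw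
    rw [Category.comp_id, Category.id_comp] at h2
    exact ⟨⟨m.hom.fst, by rw [h1, h2]⟩, fp_hom_ext rfl h2⟩
  · exact FibCat.InertiaObj.hom_ext (congrArg (fun t => t.hom.fst) h)
  · let u : z.obj.fst ≅ z.obj.snd :=
      (FibCat.fpFst f f).toFunctor.mapIso z.obj.iso
    let v : z.obj.fst ≅ z.obj.snd :=
      (FibCat.fpSnd f f).toFunctor.mapIso z.obj.iso
    have hw : f.map u.hom ≫ 𝟙 _ = 𝟙 _ ≫ f.map v.hom := z.obj.iso.hom.hom.w
    rw [Category.comp_id, Category.id_comp] at hw
    let x : (FibCat.inertia f).obj := ⟨z.obj.fst, u ≪≫ v.symm, by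
      rw [Iso.trans_hom, f.toFunctor.map_comp, hw, ← f.toFunctor.map_comp, Iso.symm_hom,
        Iso.hom_inv_id, f.toFunctor.map_id]⟩
    refine ⟨x, fpIsoMk (Iso.refl _) v (fp_hom_ext ?_ ?_),
      (fp_isHomLift_iff _ _).2 (IsHomLift.id rfl)⟩
    · change 𝟙 _ ≫ u.hom = (u.hom ≫ v.inv) ≫ v.hom
      rw [Category.assoc, Iso.inv_hom_id, Category.id_comp, Category.comp_id]
    · change 𝟙 _ ≫ v.hom = 𝟙 _ ≫ v.hom
      rfl

lemma repWith_inertiaToBase_iff (h𝒳 : FibCat.IsFibGrpd 𝒳.p) (f : 𝒳 ⥤ᵇ 𝒴) :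
    AlgSt.RepByAlgSpWith P (FibCat.inertiaToBase f) ↔
      AlgSt.RepByAlgSpWith P (FibCat.fpFst (FibCat.diag f) (FibCat.diag f)) :=
  (repWith_equiv_comp_iff (inertiaPair_isEquivOver h𝒳 f)
    (f := FibCat.fpFst (FibCat.diag f) (FibCat.diag f))).symm

/-- A property of the self base change of a representable morphism passes to the self base changes
of the representing maps. -/
lemma repWith_pullback_fst_of_self {ℰ : AlgSt.Cat S} {d : 𝒳 ⥤ᵇ ℰ}
    (h : AlgSt.RepByAlgSpWith P (FibCat.fpFst d d)) {U : Over S}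
    (z : FibCat.overCat U ⥤ᵇ ℰ) (G : AlgSp.Space S) (e : AlgSt.ofSp G.obj ⥤ᵇ FibCat.fp z d)
    (he : FibCat.IsEquivOver e) :
    AlgSt.RepByAlgSpWith P (AlgSt.ofSpMap
      (pullback.fst (AlgSt.spMapOfOver (BasedFunctor.comp e (FibCat.fpFst z d)))
        (AlgSt.spMapOfOver (BasedFunctor.comp e (FibCat.fpFst z d))))) := by
  let q := BasedFunctor.comp e (FibCat.fpFst z d)
  let π := AlgSt.spMapOfOver q
  let w := BasedFunctor.comp e (FibCat.fpSnd z d)
  obtain ⟨k⟩ := spMapOfOver_eq q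
  let i : BasedFunctor.comp q z ≅ BasedFunctor.comp w d := (Stk.restr e _).mapIso (FibCat.fpIso z d)
  have h1 : AlgSt.RepByAlgSpWith P (FibCat.fpFst (BasedFunctor.comp w d) d) :=
    (repWith_equiv_comp_iff (pasteBase_isEquivOver d d w)).2 (repWith_fpFst w h)
  let M : FibCat.fp (BasedFunctor.comp q z) d ⥤ᵇ FibCat.fp (BasedFunctor.comp w d) d :=
    fpMap (F := BasedFunctor.comp w d) (G := d) (BasedFunctor.id _) (BasedFunctor.id 𝒳)
      (BasedFunctor.id ℰ) i (Iso.refl (BasedFunctor.comp d (BasedFunctor.id ℰ)))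
  have : (BasedFunctor.id (AlgSt.ofSp G.obj)).toFunctor.Full :=
    inferInstanceAs (Functor.id _).Full
  have : (BasedFunctor.id (AlgSt.ofSp G.obj)).toFunctor.Faithful :=
    inferInstanceAs (Functor.id _).Faithful
  have : (BasedFunctor.id 𝒳).toFunctor.Full := inferInstanceAs (Functor.id _).Full
  have : (BasedFunctor.id 𝒳).toFunctor.Faithful := inferInstanceAs (Functor.id _).Faithful
  have hM : FibCat.IsEquivOver M :=
    fpMap_isEquivOver _ _ _ _ _ (essSurjOver_id _) (essSurjOver_id _)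
  have h2 : AlgSt.RepByAlgSpWith P (FibCat.fpFst (BasedFunctor.comp q z) d) :=
    (repWith_equiv_comp_iff hM).1 h1
  have h3 : AlgSt.RepByAlgSpWith P (FibCat.fpFst q (FibCat.fpFst z d)) :=
    (repWith_equiv_comp_iff (pasteBase_isEquivOver z d q)).1 h2
  obtain ⟨⟨_, _⟩, -⟩ := (isEquivOver_iff _).1 (toOverCat_isEquivOver U)
  obtain ⟨⟨_, _⟩, hse⟩ := (isEquivOver_iff _).1 he
  let N : FibCat.fp (AlgSt.ofSpMap π) (AlgSt.ofSpMap π) ⥤ᵇ FibCat.fp q (FibCat.fpFst z d) :=
    fpMap (F := q) (G := FibCat.fpFst z d) (BasedFunctor.id _) e (AlgSt.toOverCat U) k.symm k.symm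
  have hN : FibCat.IsEquivOver N := fpMap_isEquivOver _ _ _ _ _ (essSurjOver_id _) hse
  have sqp := (IsPullback.of_hasPullback π π).map (sheafToPresheaf (AlgSp.J S) (Type (u + 1)))
  have hN' := isEquivOver_comp (pshComparison_isEquivOver sqp) hN
  exact (repWith_equiv_comp_iff hN').1 h3

lemma prop_pullback_fst_of_self {ℰ : AlgSt.Cat S} {d : 𝒳 ⥤ᵇ ℰ} (hiso : SourceIsoInv P)
    (hloc : TestOnSchemes P) (h : AlgSt.RepByAlgSpWith P (FibCat.fpFst d d)) {U : Over S}
    (z : FibCat.overCat U ⥤ᵇ ℰ) (G : AlgSp.Space S) (e : AlgSt.ofSp G.obj ⥤ᵇ FibCat.fp z d)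
    (he : FibCat.IsEquivOver e) :
    P (pullback.fst (AlgSt.spMapOfOver (BasedFunctor.comp e (FibCat.fpFst z d)))
      (AlgSt.spMapOfOver (BasedFunctor.comp e (FibCat.fpFst z d)))) :=
  prop_of_repWith_ofSpMap hiso hloc
    (H12AlgSp.isAlgSpace_pullback (AlgSp.IsAlgSpace.yon_obj U).diag G.property G.property _ _)
    G.property (repWith_pullback_fst_of_self h z G e he)

lemma formallyUnramified_of_fst {A T : Scheme.{u}} (v : A ⟶ T)
    [h : FormallyUnramified (pullback.fst v v)] [LocallyOfFiniteType v] :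
    FormallyUnramified v := by
  let δ := pullback.diagonal v
  let p := pullback.fst v v
  let j : pullback v v ⟶ pullback p p := pullback.lift (p ≫ δ) (𝟙 _)
    (by simp [p, δ])
  have w : δ ≫ j = δ ≫ pullback.diagonal p := by
    apply pullback.hom_ext <;> simp [j, p, δ]
  have sq : IsPullback δ δ j (pullback.diagonal p) :=
    IsPullback.of_isLimit' ⟨w⟩ (PullbackCone.IsLimit.mk w (fun s => s.fst ≫ p)
      (fun s => by
        have h1 := congrArg (fun t => t ≫ pullback.fst p p) s.condition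
        have h2 := congrArg (fun t => t ≫ pullback.snd p p) s.condition
        simp [j] at h1 h2
        rw [Category.assoc, h1, h2])
      (fun s => by
        have h1 := congrArg (fun t => t ≫ pullback.fst p p) s.condition
        simp [j] at h1
        rw [Category.assoc, h1])
      (fun s m h1 h2 => by
        rw [← h1, Category.assoc]
        simp [δ, p]))
  have hp : IsOpenImmersion (pullback.diagonal p) := inferInstance
  have : IsOpenImmersion δ := MorphismProperty.of_isPullback sq.flip hp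
  exact inferInstance

/-- The etale chart of the square of a space over a scheme. -/
lemma exists_square_chart {G : AlgSp.Sp S} {T A : Over S} (π : G ⟶ (AlgSp.yon S).obj T)
    {p : (AlgSp.yon S).obj A ⟶ G} (hp : AlgSp.RepWith @Etale p) {v : A ⟶ T}
    (hv : (AlgSp.yon S).map v = p ≫ π) :
    ∃ m : (AlgSp.yon S).obj (pullback v v) ⟶ pullback π π, AlgSp.RepWith @Etale m ∧
      m ≫ pullback.fst π π = (AlgSp.yon S).map (pullback.fst v v) ≫ p := by
  let m : (AlgSp.yon S).obj (pullback v v) ⟶ pullback π π :=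
    pullback.lift ((AlgSp.yon S).map (pullback.fst v v) ≫ p)
      ((AlgSp.yon S).map (pullback.snd v v) ≫ p)
      (by rw [Category.assoc, Category.assoc, ← hv, ← Functor.map_comp, ← Functor.map_comp,
        pullback.condition])
  have hm : AlgSp.RepWith @Etale m := by
    have sqA := (IsPullback.of_hasPullback v v).map (AlgSp.yon S)
    rw [hv] at sqA
    let m₁ := pullback.lift ((AlgSp.yon S).map (pullback.fst v v))
      ((AlgSp.yon S).map (pullback.snd v v) ≫ p) (by rw [Category.assoc]; exact sqA.w)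
    have hm₁ : IsPullback m₁ ((AlgSp.yon S).map (pullback.snd v v)) (pullback.snd (p ≫ π) π) p :=
      IsPullback.of_right (h₁₂ := pullback.fst (p ≫ π) π) (h₂₂ := π) (v₁₃ := p ≫ π)
        (by rw [pullback.lift_fst]; exact sqA)
        (pullback.lift_snd _ _ _) (IsPullback.of_hasPullback _ _)
    let m₂ : pullback (p ≫ π) π ⟶ pullback π π :=
      pullback.lift (pullback.fst _ _ ≫ p) (pullback.snd _ _)
        (by rw [Category.assoc]; exact pullback.condition)
    have hm₂ : IsPullback (pullback.fst (p ≫ π) π) m₂ p (pullback.fst π π) :=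
      IsPullback.of_bot (v₂₁ := pullback.snd π π) (v₁₁ := m₂)
        (by rw [pullback.lift_snd]; exact IsPullback.of_hasPullback (p ≫ π) π)
        (pullback.lift_fst _ _ _).symm (IsPullback.of_hasPullback π π)
    have e : m = m₁ ≫ m₂ := by
      apply pullback.hom_ext <;> simp [m, m₁, m₂]
    rw [e]
    exact H12AlgSp.repWith_comp (H12AlgSp.repWith_of_isPullback hm₁.flip hp)
      (H12AlgSp.repWith_of_isPullback hm₂ hp)
  exact ⟨m, hm, pullback.lift_fst _ _ _⟩

/-- Unramified inertia gives unramified diagonal. -/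
lemma locP_unramified_of_self {G : AlgSp.Sp S} {T : Over S} (hG : AlgSp.IsAlgSpace G)
    (π : G ⟶ (AlgSp.yon S).obj T) (hl : AlgSp.LocP @LocallyOfFiniteType π)
    (h : AlgSp.LocP (@LocallyOfFiniteType ⊓ @FormallyUnramified) (pullback.fst π π)) :
    AlgSp.LocP (@LocallyOfFiniteType ⊓ @FormallyUnramified) π := by
  refine H12AlgSp.locP_inf_iff.2 ⟨hl, ?_⟩
  obtain ⟨A, p, hp, hps⟩ := hG.atlas
  obtain ⟨v, hv⟩ := (AlgSp.yon S).map_surjective (p ≫ π)
  refine H12AlgSp.locP_of_one_chart H12AlgSp.etLocal_formallyUnramified v hp hps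
    (AlgSp.repWith_id @Etale T) (by rw [hv, Category.comp_id]) ?_
  have : LocallyOfFiniteType v.left :=
    hl p (𝟙 _) v hp (AlgSp.repWith_id @Etale T) (by rw [hv, Category.comp_id])
  obtain ⟨m, hm, hm1⟩ := exists_square_chart π hp hv
  have h2 := (h m p (pullback.fst v v) hm hp hm1).2
  let e := ((IsPullback.of_hasPullback v v).map (Over.forget S)).isoPullback
  have : FormallyUnramified (pullback.fst v.left v.left) := by
    rw [show pullback.fst v.left v.left = e.inv ≫ (pullback.fst v v).left by simp [e]]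
    exact (MorphismProperty.cancel_left_of_respectsIso @FormallyUnramified _ _).2 h2
  exact formallyUnramified_of_fst v.left

end Groth.Agent.H14AlgSt

namespace Groth.Agent.H14AlgSt

open H14Fib H14Stk

variable {S : Scheme.{u}} {𝒳 𝒴 : AlgSt.Cat S}

local notation "K₀" => Scheme.fppfPrecoverage

/-- The unramified inertia criterion for Deligne--Mumford morphisms. -/
theorem isDMMor_iff_inertia (hX : AlgSt.IsAlgStack K₀ 𝒳) (hY : AlgSt.IsAlgStack K₀ 𝒴)
    (f : 𝒳 ⥤ᵇ 𝒴) :
    AlgSt.RepByAlgSpWith (AlgSp.LocP (@LocallyOfFiniteType ⊓ @FormallyUnramified))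
      (FibCat.inertiaToBase f) ↔ AlgSt.IsDMMor f := by
  rw [repWith_inertiaToBase_iff hX.isStack.1]
  refine ⟨fun h U z => ?_, fun h => repWith_fpFst (FibCat.diag f) h⟩
  obtain ⟨G, e, he, hl⟩ := repWith_lft_diag hX hY f U z
  exact ⟨G, e, he, locP_unramified_of_self G.property _ hl
    (prop_pullback_fst_of_self (sourceIsoInv_locP _) (testOnSchemes_locP _) h z G e he)⟩

end Groth.Agent.H14AlgSt

namespace Groth.Agent.H14AlgSt

open H14Fib H14Stk

variable {S : Scheme.{u}} {𝒳 𝒴 : AlgSt.Cat S}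

local notation "K₀" => Scheme.fppfPrecoverage

lemma repWith_inertiaNeutral_iff {P : MorphismProperty (AlgSp.Sp S)} (hX : FibCat.IsFibGrpd 𝒳.p)
    (f : 𝒳 ⥤ᵇ 𝒴) :
    AlgSt.RepByAlgSpWith P (FibCat.inertiaNeutral f) ↔
      AlgSt.RepByAlgSpWith P (FibCat.diag (FibCat.diag f)) := by
  let i : BasedFunctor.comp (FibCat.inertiaNeutral f) (inertiaPair hX f) ≅
      FibCat.diag (FibCat.diag f) :=
    mkIso (fun x => fpIsoMk (F := FibCat.diag f) (G := FibCat.diag f)
        (Iso.refl _) (Iso.refl _) (fp_hom_ext (by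
          change 𝟙 x ≫ 𝟙 x = 𝟙 x ≫ 𝟙 x
          rfl) (by
          change 𝟙 x ≫ 𝟙 x = 𝟙 x ≫ 𝟙 x
          rfl)))
      (fun {_ _} _ => fp_hom_ext ((Category.comp_id _).trans (Category.id_comp _).symm)
        ((Category.comp_id _).trans (Category.id_comp _).symm))
      (fun _ => (fp_isHomLift_iff _ _).2 (IsHomLift.id rfl))
  exact ⟨fun h => repWith_of_iso i ((repWith_comp_equiv_iff (inertiaPair_isEquivOver hX f)).2 h),
    fun h => (repWith_comp_equiv_iff (inertiaPair_isEquivOver hX f)).1 (repWith_of_iso i.symm h)⟩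

lemma repWith_diagonal_of_fst {Q : MorphismProperty Scheme.{u}} [Q.IsStableUnderBaseChange]
    {G T : AlgSp.Sp S} (π : G ⟶ T)
    (h : AlgSp.RepWith Q (pullback.diagonal (pullback.fst π π))) :
    AlgSp.RepWith Q (pullback.diagonal π) := by
  let δ := pullback.diagonal π
  let p := pullback.fst π π
  let j : pullback π π ⟶ pullback p p := pullback.lift (p ≫ δ) (𝟙 _) (by simp [p, δ])
  have w : δ ≫ j = δ ≫ pullback.diagonal p := by
    apply pullback.hom_ext <;> simp [j, p, δ]
  have sq : IsPullback δ δ j (pullback.diagonal p) :=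
    IsPullback.of_isLimit' ⟨w⟩ (PullbackCone.IsLimit.mk w (fun s => s.fst ≫ p)
      (fun s => by
        have h1 := congrArg (fun t => t ≫ pullback.fst p p) s.condition
        have h2 := congrArg (fun t => t ≫ pullback.snd p p) s.condition
        simp [j] at h1 h2
        rw [Category.assoc, h1, h2])
      (fun s => by
        have h1 := congrArg (fun t => t ≫ pullback.fst p p) s.condition
        simp [j] at h1
        rw [Category.assoc, h1])
      (fun s m h1 h2 => by
        rw [← h1, Category.assoc]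
        simp [δ, p]))
  exact MorphismProperty.of_isPullback sq.flip h

/-- The inertia, the diagonal and the neutral section. -/
theorem tfae_inertia_diagonal (Q : MorphismProperty Scheme.{u}) [Q.IsStableUnderBaseChange]
    (hX : AlgSt.IsAlgStack K₀ 𝒳) (hY : AlgSt.IsAlgStack K₀ 𝒴) (f : 𝒳 ⥤ᵇ 𝒴) :
    [AlgSt.RepByAlgSpWith (fun _ _ π => AlgSp.RepWith Q (pullback.diagonal π))
        (FibCat.inertiaToBase f),
      AlgSt.RepByAlgSpWith (fun _ _ π => AlgSp.RepWith Q (pullback.diagonal π)) (FibCat.diag f),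
      AlgSt.RepByAlgSpWith (AlgSp.RepWith Q) (FibCat.inertiaNeutral f)].TFAE := by
  have hd := rep1_diag_of_algStack hX hY f
  tfae_have 1 ↔ 2 := by
    rw [repWith_inertiaToBase_iff hX.isStack.1]
    refine ⟨fun h U z => ?_, fun h => repWith_fpFst (FibCat.diag f) h⟩
    obtain ⟨G, e, he⟩ := hd U z
    refine ⟨G, e, he, repWith_diagonal_of_fst _ ?_⟩
    let π := AlgSt.spMapOfOver (BasedFunctor.comp e (FibCat.fpFst z (FibCat.diag f)))
    have hP := H12AlgSp.isAlgSpace_pullback (AlgSp.IsAlgSpace.yon_obj U).diag G.property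
      G.property π π
    have h' := repWith_pullback_fst_of_self h z G e he
    exact repWith_of_ofSpMap Q _ (H12AlgSp.representable_diagonal _ hP.diag)
      ((repWith_diag_ofSpMap_iff _).1 ((repWith_diag_iff_diagonal Q
        (repByAlgSp1_of_with h')).2 h'))
  tfae_have 2 ↔ 3 := by
    rw [repWith_inertiaNeutral_iff hX.isStack.1]
    exact (repWith_diag_iff_diagonal Q hd).symm
  tfae_finish

end Groth.Agent.H14AlgSt
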