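import Groth.Agent.H14AlgSt.InertiaDiag
import Groth.Agent.H14AlgSt.PointsSpace
import Groth.Agent.H14AlgSt.Descent
import Groth.Agent.H14AlgSt.DiagLFT
import Groth.Agent.H14AlgSt.SourceDescent
import Groth.Agent.H12AlgSp.Immersion
import Groth.Agent.H13AlgSp.FiniteMor
import Groth.Agent.H13AlgSp.AffineLocal
import Groth.Agent.S10540
import Groth.Prelude.Def_StGerb2
import Mathlib.FieldTheory.IsAlgClosed.AlgebraicClosure

/-!
# Stabilizer preserving etale morphisms and finite inertia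
-/

set_option autoImplicit false
set_option backward.isDefEq.respectTransparency false
set_option backward.isDefEq.respectTransparency.types false

universe u

open CategoryTheory CategoryTheory.Functor Opposite AlgebraicGeometry CategoryTheory.Limits

noncomputable section

namespace Groth.Agent.H14AlgSt

open H14Fib H14Stk

variable {S : Scheme.{u}} {𝒰 𝒳 : AlgSt.Cat S}

local notation "K₀" => Scheme.fppfPrecoverage

/-- The diagonal of a representable etale morphism is an open immersion. -/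
lemma repWith_openImm_diag_of_etale {h : 𝒰 ⥤ᵇ 𝒳}
    (he : AlgSt.RepByAlgSpWith AlgSp.IsEtaleMor h) :
    AlgSt.RepByAlgSpWith (AlgSp.RepWith @IsOpenImmersion) (FibCat.diag h) :=
  repWith_diag_of_repWith he fun _ T _ hG hπ _ _ _ _ _ sq =>
    H12AlgSp.repWith_of_isPullback sq (H12AlgSp.isOpenImmersion_diagonal_of_etale hG
      (AlgSp.IsAlgSpace.yon_obj T) (H12AlgSp.locP_etale_of_isEtaleMor hπ))

/-- Surjectivity of the map of automorphism groups, in unbundled form. -/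
lemma exists_aut_lift {h : 𝒰 ⥤ᵇ 𝒳} (hX : FibCat.IsFibGrpd 𝒳.p) {U : Over S} (x : 𝒰.obj)
    (hx : 𝒰.p.obj x = U) (H : Function.Surjective (Gerb.autMap h x)) (β : h.obj x ⟶ h.obj x)
    (hβ : 𝒳.p.IsHomLift (𝟙 U) β) :
    ∃ α : x ⟶ x, 𝒰.p.IsHomLift (𝟙 U) α ∧ h.map α = β := by
  subst hx
  have : IsIso β := isIso_of_fibGrpd hX (𝟙 (𝒰.p.obj x)) β
  have hβ' : 𝒳.p.IsHomLift (𝟙 (𝒳.p.obj (h.obj x))) (asIso β).hom := by
    rw [h.w_obj x]
    exact hβ
  let b : Gerb.AutO (h.obj x) :=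
    fiberIso (a := Gerb.fib (h.obj x)) (b := Gerb.fib (h.obj x)) (asIso β) hβ'
  obtain ⟨α, hα⟩ := H b
  exact ⟨α.hom.1, α.hom.2, congrArg (fun t => t.hom.1) hα⟩

/-- Automorphisms lift along a representable etale morphism surjective on geometric stabilizers. -/
theorem exists_aut_of_etale (hU : FibCat.IsFibGrpd 𝒰.p) (hX : FibCat.IsFibGrpd 𝒳.p) {h : 𝒰 ⥤ᵇ 𝒳}
    (he : AlgSt.RepByAlgSpWith AlgSp.IsEtaleMor h)
    (hgeom : ∀ (Ω : Type u) [Field Ω] [IsAlgClosed Ω] (t : Spec (CommRingCat.of Ω) ⟶ S)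
      (u : 𝒰.p.Fiber (Over.mk t)), Function.Surjective (Gerb.autMap h u.1))
    {T : Over S} (x : 𝒰.obj) (hx : 𝒰.p.obj x = T) (β : h.obj x ≅ h.obj x)
    (hβ : 𝒳.p.IsHomLift (𝟙 T) β.hom) :
    ∃ α : x ≅ x, 𝒰.p.IsHomLift (𝟙 T) α.hom ∧ h.map α.hom = β.hom := by
  let o : (FibCat.fp h h).obj := fpObj x x β hx hβ
  have hpp := fp_fibGrpd (F := h) (G := h) hU hU hX
  have := isFibered_of_fibGrpd hpp
  obtain ⟨z, ez, hzT, hez⟩ := exists_fromOver (𝒳 := FibCat.fp h h) (x := o) (U := T) hx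
  obtain ⟨G, e, hee, hπ⟩ := repWith_openImm_diag_of_etale he T z
  let Φ := BasedFunctor.comp e (FibCat.fpFst z (FibCat.diag h))
  let π := AlgSt.spMapOfOver Φ
  obtain ⟨⟨_, _⟩, hes⟩ := (isEquivOver_iff e).1 hee
  let J := AlgSp.J S
  let j := hπ.rep.snd (𝟙 ((AlgSp.yon S).obj T))
  have sq := hπ.rep.isPullback (𝟙 ((AlgSp.yon S).obj T))
  have hj : IsOpenImmersion j.left := hπ.property_snd _
  have hsurj : Surjective j.left := ⟨fun t => by
    let κ := T.left.residueField t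
    let Ω := AlgebraicClosure κ
    let m : Spec (CommRingCat.of Ω) ⟶ T.left :=
      Spec.map (CommRingCat.ofHom (algebraMap κ Ω)) ≫ T.left.fromSpecResidueField t
    let τ : Over.mk (m ≫ T.hom) ⟶ T := Over.homMk m rfl
    obtain ⟨x', χ, hχ⟩ := exists_sc_lift hU hx τ
    have hx' : 𝒰.p.obj x' = Over.mk (m ≫ T.hom) := IsHomLift.domain_eq 𝒰.p τ χ
    have hhχ : 𝒳.p.IsHomLift τ (h.map χ) := BasedFunctor.preserves_isHomLift h τ χ
    have := sc_of_fibGrpd hX τ (h.map χ)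
    have : 𝒳.p.IsHomLift τ (h.map χ ≫ β.hom) := by
      have := homLift_comp' hhχ hβ
      exact homLift_congr (Category.comp_id τ) _
    let β' : h.obj x' ⟶ h.obj x' := IsStronglyCartesian.map 𝒳.p τ (h.map χ)
      (show τ = 𝟙 _ ≫ τ from (Category.id_comp τ).symm) (h.map χ ≫ β.hom)
    have hβ' : 𝒳.p.IsHomLift (𝟙 (Over.mk (m ≫ T.hom))) β' :=
      IsStronglyCartesian.map_isHomLift 𝒳.p τ (h.map χ)
        (show τ = 𝟙 _ ≫ τ from (Category.id_comp τ).symm) (h.map χ ≫ β.hom)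
    have hβ'χ : β' ≫ h.map χ = h.map χ ≫ β.hom := IsStronglyCartesian.fac 𝒳.p τ (h.map χ)
      (show τ = 𝟙 _ ≫ τ from (Category.id_comp τ).symm) (h.map χ ≫ β.hom)
    obtain ⟨α', hα', hα''⟩ := exists_aut_lift hX x' hx' (hgeom Ω (m ≫ T.hom) ⟨x', hx'⟩) β' hβ'
    let c : (FibCat.overCat T).obj := (Over.mk τ : Over T)
    let d : (FibCat.fp h h).obj := (FibCat.diag h).obj x'
    let φ : d ⟶ o := fpHom χ (α' ≫ χ) (by
      change h.map χ ≫ β.hom = 𝟙 (h.obj x') ≫ h.map (α' ≫ χ)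
      rw [Category.id_comp, h.toFunctor.map_comp, hα'', hβ'χ])
    have hφ : (FibCat.fp h h).p.IsHomLift τ φ := (fp_isHomLift_iff _ φ).2 hχ.toIsHomLift
    have := hzT c
    have hzc : (FibCat.fp h h).p.IsHomLift τ (z.map (toTop c)) :=
      BasedFunctor.preserves_isHomLift z c.hom (toTop c)
    have : (FibCat.fp h h).p.IsHomLift τ (z.map (toTop c) ≫ ez.hom) := by
      have := homLift_comp' hzc hez
      exact homLift_congr (Category.comp_id τ) _
    have := sc_of_fibGrpd hpp τ φ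
    let v : z.obj c ⟶ d := IsStronglyCartesian.map (FibCat.fp h h).p τ φ
      (show τ = 𝟙 _ ≫ τ from (Category.id_comp τ).symm) (z.map (toTop c) ≫ ez.hom)
    have hv : (FibCat.fp h h).p.IsHomLift (𝟙 (Over.mk (m ≫ T.hom))) v :=
      IsStronglyCartesian.map_isHomLift (FibCat.fp h h).p τ φ
        (show τ = 𝟙 _ ≫ τ from (Category.id_comp τ).symm) (z.map (toTop c) ≫ ez.hom)
    have : IsIso v := isIso_of_fibGrpd hpp (𝟙 (Over.mk (m ≫ T.hom))) v
    let C : (FibCat.fp z (FibCat.diag h)).obj := fpObj c x' (asIso v) rfl hv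
    obtain ⟨⟨b, s⟩, η, hη⟩ := hes C
    obtain rfl : b = Over.mk (m ≫ T.hom) := EssSurjOver.obj_eq η.hom
    have l1 : (FibCat.overCat T).p.IsHomLift (𝟙 (Over.mk (m ≫ T.hom))) η.hom.hom.fst :=
      (fp_isHomLift_iff _ _).1 hη
    have hsec : AlgSt.secHom Φ ⟨Over.mk (m ≫ T.hom), s⟩ = τ := by
      have w1 : η.hom.hom.fst.left ≫ τ =
          (Φ.obj ⟨Over.mk (m ≫ T.hom), s⟩).hom := Over.w η.hom.hom.fst
      have e1 : η.hom.hom.fst.left = _ :=
        IsHomLift.fac' (FibCat.overCat T).p (𝟙 (Over.mk (m ≫ T.hom))) η.hom.hom.fst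
      rw [AlgSt.secHom, ← w1, e1]
      simp [C, c]
    let σ : (AlgSp.yon S).obj (Over.mk (m ≫ T.hom)) ⟶ G.obj := J.uliftYonedaEquiv.symm s
    have hσ : σ ≫ π = (AlgSp.yon S).map τ ≫ 𝟙 _ := by
      apply J.uliftYonedaEquiv.injective
      rw [GrothendieckTopology.uliftYonedaEquiv_comp, Equiv.apply_symm_apply, Category.comp_id]
      refine (congrArg ULift.up hsec).trans ?_
      exact ULift.ext _ _ (Category.id_comp τ).symm
    obtain ⟨l, hl⟩ := (AlgSp.yon S).map_surjective (sq.lift σ ((AlgSp.yon S).map τ) hσ)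
    have hl' : l ≫ j = τ := (AlgSp.yon S).map_injective (by rw [Functor.map_comp, hl, sq.lift_snd])
    refine ⟨l.left (IsLocalRing.closedPoint Ω), ?_⟩
    rw [← Scheme.Hom.comp_apply, ← Over.comp_left, hl']
    change T.left.fromSpecResidueField t (Spec.map (CommRingCat.ofHom (algebraMap κ Ω)) _) = t
    exact Scheme.fromSpecResidueField_apply t _⟩
  have : IsIso j.left := (isIso_iff_isOpenImmersion_and_surjective _).2 ⟨hj, hsurj⟩
  have : IsIso ((Over.forget S).map j) := this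
  have : IsIso j := isIso_of_reflects_iso j (Over.forget S)
  let σ : (AlgSp.yon S).obj T ⟶ G.obj :=
    inv ((AlgSp.yon S).map j) ≫ hπ.rep.fst (𝟙 ((AlgSp.yon S).obj T))
  have hσ : σ ≫ π = 𝟙 _ := by
    rw [Category.assoc, sq.w, Category.comp_id, IsIso.inv_hom_id]
  let s : (AlgSt.ofSp G.obj).obj := ⟨T, J.uliftYonedaEquiv σ⟩
  have hsec : AlgSt.secHom Φ s = 𝟙 T := by
    have := (GrothendieckTopology.uliftYonedaEquiv_comp (J := J) σ π).symm
    rw [hσ] at this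
    exact congrArg ULift.down this
  let Z := e.obj s
  let q : Z.obj.fst ≅ topObj T := Over.isoMk (eqToIso (Φ.w_obj s)) (by
    rw [← cancel_epi (eqToHom (Φ.w_obj s).symm)]
    have h' : eqToHom (Φ.w_obj s).symm ≫ Z.obj.fst.hom = 𝟙 T := hsec
    rw [h']
    simp [topObj]; rfl)
  have hq : (FibCat.overCat T).p.IsHomLift (𝟙 T) q.hom :=
    IsHomLift.of_fac' _ _ _ (Φ.w_obj s) rfl (show eqToHom (Φ.w_obj s) = _ by simp [topObj, s])
  let θ : o ≅ (FibCat.diag h).obj Z.obj.snd :=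
    ez.symm ≪≫ (z.toFunctor.mapIso q).symm ≪≫ Z.obj.iso
  have hZ : (FibCat.fp h h).p.IsHomLift (𝟙 T) Z.obj.iso.hom := by
    have e1 : (FibCat.overCat T).p.obj Z.obj.fst = T := Φ.w_obj s
    have e2 : (FibCat.fp h h).p.IsHomLift (𝟙 ((FibCat.overCat T).p.obj Z.obj.fst)) Z.obj.iso.hom :=
      Z.property
    rwa [e1] at e2
  have hθ : (FibCat.fp h h).p.IsHomLift (𝟙 T) θ.hom := by
    have h1 : (FibCat.fp h h).p.IsHomLift (𝟙 T) ez.inv := IsHomLift.lift_id_inv _ _ ez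
    have h2 : (FibCat.fp h h).p.IsHomLift (𝟙 T) (z.toFunctor.mapIso q).hom :=
      BasedFunctor.preserves_isHomLift z (𝟙 T) q.hom
    have h3 : (FibCat.fp h h).p.IsHomLift (𝟙 T) (z.toFunctor.mapIso q).inv :=
      IsHomLift.lift_id_inv _ _ (z.toFunctor.mapIso q)
    exact homLift_id_comp h1 (homLift_id_comp h3 hZ)
  let θ₁ : x ≅ Z.obj.snd := (FibCat.fpFst h h).toFunctor.mapIso θ
  let θ₂ : x ≅ Z.obj.snd := (FibCat.fpSnd h h).toFunctor.mapIso θ
  have hw : h.map θ₁.hom ≫ 𝟙 _ = β.hom ≫ h.map θ₂.hom := θ.hom.hom.w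
  have hθ₁ : 𝒰.p.IsHomLift (𝟙 T) θ₁.hom :=
    BasedFunctor.preserves_isHomLift (FibCat.fpFst h h) (𝟙 T) θ.hom
  have hθ₂ : 𝒰.p.IsHomLift (𝟙 T) θ₂.hom :=
    BasedFunctor.preserves_isHomLift (FibCat.fpSnd h h) (𝟙 T) θ.hom
  refine ⟨θ₁ ≪≫ θ₂.symm, homLift_id_comp hθ₁ (IsHomLift.lift_id_inv _ _ θ₂), ?_⟩
  rw [Category.comp_id] at hw
  rw [Iso.trans_hom, h.toFunctor.map_comp, hw, Category.assoc, Iso.symm_hom,
    ← h.toFunctor.map_comp, Iso.hom_inv_id, h.toFunctor.map_id, Category.comp_id]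

lemma map_toSelf_eq_id (h : 𝒰 ⥤ᵇ 𝒳) (x : FibCat.InertiaObj (FibCat.toSelf 𝒰)) :
    (FibCat.toSelf 𝒳).map (h.toFunctor.mapIso x.aut).hom = 𝟙 ((FibCat.toSelf 𝒳).obj (h.obj x.pt)) := by
  change 𝒳.p.map (h.map x.aut.hom) = 𝟙 _
  have h1 := x.map_aut
  change 𝒰.p.map x.aut.hom = 𝟙 (𝒰.p.obj x.pt) at h1
  rw [← Functor.comp_map, Functor.congr_hom h.w x.aut.hom, h1]
  simp

/-- The comparison of inertia along a morphism. -/
def inertiaBase (h : 𝒰 ⥤ᵇ 𝒳) :
    FibCat.inertia (FibCat.toSelf 𝒰) ⥤ᵇ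
      FibCat.fp h (FibCat.inertiaToBase (FibCat.toSelf 𝒳)) where
  toFunctor :=
    { obj := fun x => fpObj x.pt (⟨h.obj x.pt, h.toFunctor.mapIso x.aut, map_toSelf_eq_id h x⟩ :
          FibCat.InertiaObj (FibCat.toSelf 𝒳)) (Iso.refl (h.obj x.pt)) rfl (IsHomLift.id (h.w_obj _))
      map := fun {x y} m => fpHom m.hom ⟨h.map m.hom, by
          change h.map x.aut.hom ≫ h.map m.hom = h.map m.hom ≫ h.map y.aut.hom
          rw [← h.toFunctor.map_comp, ← h.toFunctor.map_comp, m.comm]⟩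
          ((Category.comp_id _).trans (Category.id_comp _).symm)
      map_id := fun x => fp_hom_ext rfl (FibCat.InertiaObj.hom_ext (h.toFunctor.map_id _))
      map_comp := fun m n => fp_hom_ext rfl (FibCat.InertiaObj.hom_ext (h.toFunctor.map_comp _ _)) }
  w := rfl

theorem inertiaBase_isEquivOver (hU : FibCat.IsFibGrpd 𝒰.p) (hX : FibCat.IsFibGrpd 𝒳.p)
    {h : 𝒰 ⥤ᵇ 𝒳} (he : AlgSt.RepByAlgSpWith AlgSp.IsEtaleMor h)
    (hgeom : ∀ (Ω : Type u) [Field Ω] [IsAlgClosed Ω] (t : Spec (CommRingCat.of Ω) ⟶ S)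
      (u : 𝒰.p.Fiber (Over.mk t)), Function.Surjective (Gerb.autMap h u.1)) :
    FibCat.IsEquivOver (inertiaBase h) := by
  have hf : h.toFunctor.Faithful := faithful_of_repByAlgSp1 hU hX (repByAlgSp1_of_with he)
  refine (isEquivOver_iff _).2 ⟨⟨⟨fun {x y} m => ?_⟩, ⟨fun {x y} m n e => ?_⟩⟩, fun z => ?_⟩
  · have hw : h.map m.hom.fst ≫ 𝟙 _ = 𝟙 _ ≫ m.hom.snd.hom := m.hom.w
    rw [Category.comp_id, Category.id_comp] at hw
    have hc : h.map x.aut.hom ≫ m.hom.snd.hom = m.hom.snd.hom ≫ h.map y.aut.hom := m.hom.snd.comm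
    rw [← hw, ← h.toFunctor.map_comp, ← h.toFunctor.map_comp] at hc
    exact ⟨⟨m.hom.fst, h.toFunctor.map_injective hc⟩, fp_hom_ext rfl
      (FibCat.InertiaObj.hom_ext hw)⟩
  · exact FibCat.InertiaObj.hom_ext (congrArg (fun t => t.hom.fst) e)
  · let φ : h.obj z.obj.fst ≅ z.obj.snd.pt := z.obj.iso
    let β : h.obj z.obj.fst ≅ h.obj z.obj.fst := φ ≪≫ z.obj.snd.aut ≪≫ φ.symm
    have hφ : 𝒳.p.IsHomLift (𝟙 (𝒰.p.obj z.obj.fst)) φ.hom := z.property
    have hpt : 𝒳.p.obj z.obj.snd.pt = 𝒰.p.obj z.obj.fst :=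
      IsHomLift.codomain_eq 𝒳.p (𝟙 (𝒰.p.obj z.obj.fst)) φ.hom
    have ha : 𝒳.p.IsHomLift (𝟙 (𝒰.p.obj z.obj.fst)) z.obj.snd.aut.hom := by
      have h1 := z.obj.snd.map_aut
      change 𝒳.p.map z.obj.snd.aut.hom = 𝟙 _ at h1
      exact IsHomLift.of_fac' _ _ _ hpt hpt (by rw [h1]; simp)
    have hβ : 𝒳.p.IsHomLift (𝟙 (𝒰.p.obj z.obj.fst)) β.hom :=
      homLift_id_comp hφ (homLift_id_comp ha (IsHomLift.lift_id_inv _ _ φ))
    obtain ⟨α, hα, hα'⟩ := exists_aut_of_etale hU hX he hgeom z.obj.fst rfl β hβ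
    let x : (FibCat.inertia (FibCat.toSelf 𝒰)).obj := ⟨z.obj.fst, α, by
      change 𝒰.p.map α.hom = 𝟙 _
      exact (IsHomLift.eq_of_isHomLift 𝒰.p (𝟙 _) α.hom).symm⟩
    let A : FibCat.InertiaObj (FibCat.toSelf 𝒳) :=
      ⟨h.obj x.pt, h.toFunctor.mapIso x.aut, map_toSelf_eq_id h x⟩
    let i : A ≅ z.obj.snd :=
      { hom := ⟨φ.hom, by
          change h.map α.hom ≫ φ.hom = φ.hom ≫ z.obj.snd.aut.hom
          rw [hα']
          simp [β]⟩
        inv := ⟨φ.inv, by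
          change z.obj.snd.aut.hom ≫ φ.inv = φ.inv ≫ h.map α.hom
          rw [hα']
          simp [β]⟩
        hom_inv_id := FibCat.InertiaObj.hom_ext φ.hom_inv_id
        inv_hom_id := FibCat.InertiaObj.hom_ext φ.inv_hom_id }
    refine ⟨x, fpIsoMk (Iso.refl _) i ?_, (fp_isHomLift_iff _ _).2 (IsHomLift.id rfl)⟩
    change h.map (𝟙 z.obj.fst) ≫ φ.hom = 𝟙 _ ≫ φ.hom
    rw [h.toFunctor.map_id]

/-- Finiteness of the inertia from stabilizer preserving etale neighbourhoods with proper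
diagonal. -/
theorem repWith_finite_inertia_of_local (hX : AlgSt.IsAlgStack K₀ 𝒳)
    (hqf : AlgSt.IsQuasiDMOver 𝒳)
    (hloc : ∀ x : AlgSt.Points 𝒳, ∃ (𝒰 : AlgSt.Cat S) (h : 𝒰 ⥤ᵇ 𝒳),
      FibCat.IsFibGrpd 𝒰.p ∧ x ∈ Set.range (AlgSt.Points.map h) ∧
      AlgSt.RepByAlgSpWith AlgSp.IsEtaleMor h ∧ AlgSt.IsSeparatedOver 𝒰 ∧
      ∀ (Ω : Type u) [Field Ω] [IsAlgClosed Ω] (t : Spec (CommRingCat.of Ω) ⟶ S)
        (u : 𝒰.p.Fiber (Over.mk t)), Function.Surjective (Gerb.autMap h u.1)) :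
    AlgSt.RepByAlgSpWith AlgSp.IsFiniteMor (FibCat.inertiaToBase (FibCat.toSelf 𝒳)) := by
  let I := FibCat.inertiaToBase (FibCat.toSelf 𝒳)
  have hXg := hX.isStack.1
  have hlqf : AlgSt.RepByAlgSpWith (AlgSp.LocP (@LocallyQuasiFinite ⊓ @LocallyOfFiniteType)) I :=
    (repWith_inertiaToBase_iff hXg _).2
      (repWith_fpFst (FibCat.diag (FibCat.toSelf 𝒳)) hqf)
  have : (AlgSp.IsFiniteMor (S := S)).RespectsIso := by
    rw [show (AlgSp.IsFiniteMor (S := S)) = AlgSp.RepWith @IsFinite from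
      MorphismProperty.ext _ _ fun _ _ _ => H13AlgSp.isFiniteMor_iff]
    infer_instance
  intro V y
  have H : ∀ v : V.left, ∃ (A : Over S) (c : A ⟶ V), Flat c.left ∧
      LocallyOfFinitePresentation c.left ∧ v ∈ Set.range c.left ∧
      RepData AlgSp.IsFiniteMor (FibCat.fpFst (BasedFunctor.comp (AlgSt.overMap c) y) I) := by
    intro v
    obtain ⟨𝒰, h, hU, ⟨p, hp⟩, he, hsU, hgeom⟩ := hloc (AlgSt.Points.ofChart y v)
    have hfin : AlgSt.RepByAlgSpWith AlgSp.IsFiniteMor (FibCat.fpFst h I) := by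
      have h1 : AlgSt.RepByAlgSpWith AlgSp.IsProperMor (FibCat.fpFst h I) := by
        refine (repWith_equiv_comp_iff (inertiaBase_isEquivOver hU hXg he hgeom)).2 ?_
        exact (repWith_inertiaToBase_iff hU (FibCat.toSelf 𝒰)).2
          (repWith_fpFst (FibCat.diag (FibCat.toSelf 𝒰)) hsU)
      intro U z
      obtain ⟨F, e, hee, hp', hl⟩ :=
        repWith_inf (sourceIsoInv_locP _) h1 (repWith_fpFst h hlqf) U z
      exact ⟨F, e, hee, H13AlgSp.isFiniteMor_of_univClosed_lqf F.property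
        (AlgSp.IsAlgSpace.yon_obj U) hp'.2.2 hp'.1 hl⟩
    obtain ⟨F, e, hee, het⟩ := he V y
    let q := BasedFunctor.comp e (FibCat.fpFst y h)
    let σ := AlgSt.spMapOfOver q
    obtain ⟨k⟩ := spMapOfOver_eq q
    have hσ : AlgSp.LocP @Etale σ := H12AlgSp.locP_etale_of_isEtaleMor het
    obtain ⟨A, a, hae, has⟩ := F.property.atlas
    obtain ⟨c, hc⟩ := (AlgSp.yon S).map_surjective (a ≫ σ)
    have hcet : Etale c.left := AlgSp.locP_yon_map (hc ▸ H12AlgSp.locP_comp H12AlgSp.etLocal_etale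
      (AlgSp.IsAlgSpace.yon_obj A) F.property (AlgSp.IsAlgSpace.yon_obj V)
      (H12AlgSp.locP_of_repWith H12AlgSp.etLocal_etale hae) hσ)
    obtain ⟨w, hw1, -⟩ := exists_points_fp (isAlgStack_overCat V).isStack.1 hU hXg (F := y) (G := h)
      (x := AlgSt.Points.ofChart (BasedFunctor.id (FibCat.overCat V)) v) (y := p)
      (by rw [← ofChart_eq_map, hp])
    obtain ⟨w', rfl⟩ := (points_map_bijective hee).2 w
    obtain ⟨r, rfl⟩ := AlgSt.Points.mk_surjective w'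
    obtain ⟨r', hr'⟩ := H12AlgSp.surjective_map_of_repWith le_rfl has
      (AlgSp.Points.mk (toFieldPt r))
    obtain ⟨t, rfl⟩ := (AlgSp.Points.schemeEquiv A).surjective r'
    refine ⟨A, c, inferInstance, inferInstance, ⟨t, (AlgSp.Points.schemeEquiv V).injective ?_⟩, ?_⟩
    · rw [← points_map_comp] at hw1
      have h1 : chartPoint (AlgSt.Points.map (BasedFunctor.comp (AlgSt.ofSpMap σ)
          (AlgSt.toOverCat V)) (AlgSt.Points.mk r)) = v := by
        rw [← points_map_iso k]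
        exact (congrArg chartPoint hw1).trans (chartPoint_ofChart v)
      rw [chartPoint_ofSpMap] at h1
      refine (range_map_yon_map c t).symm.trans ?_
      rw [hc, AlgSp.Points.map_comp]
      erw [hr']
      rw [← h1]
      exact ((AlgSp.Points.schemeEquiv V).apply_symm_apply _).symm
    · let z₀ := BasedFunctor.comp (BasedFunctor.comp (AlgSt.ofOverCat A) (AlgSt.ofSpMap a)) e
      let m : BasedFunctor.comp (BasedFunctor.comp (AlgSt.ofOverCat A) (AlgSt.ofSpMap (a ≫ σ)))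
          (AlgSt.toOverCat V) ≅ AlgSt.overMap c := by
        rw [← hc]
        exact mkIso (fun s => Iso.refl _)
          (fun {_ _} φ => (Category.comp_id _).trans ((Category.id_comp _).trans
            (Over.OverMorphism.ext rfl)).symm)
          (fun s => IsHomLift.id rfl)
      let j : BasedFunctor.comp (BasedFunctor.comp z₀ (FibCat.fpSnd y h)) h ≅
          BasedFunctor.comp (AlgSt.overMap c) y :=
        (Stk.restr z₀ _).mapIso (FibCat.fpIso y h).symm ≪≫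
          (post (FibCat.overCat A) y).mapIso
            ((Stk.restr (BasedFunctor.comp (AlgSt.ofOverCat A) (AlgSt.ofSpMap a)) _).mapIso k ≪≫ m)
      exact repData_congr j (RepData.of_equiv AlgSp.IsFiniteMor
        (pasteBase_isEquivOver h I (BasedFunctor.comp z₀ (FibCat.fpSnd y h))) (Iso.refl _)
        (hfin A (BasedFunctor.comp z₀ (FibCat.fpSnd y h))))
  choose A c hfl hfp hv hd using H
  exact repData_of_family (localFppf_of_fpqc (Groth.Agent.S10540.result S)) (sourceIsoInv_of_respectsIso _) y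
    (RepData.rep _ (hlqf V y)) A c hfl hfp (fun v => ⟨v, hv v⟩) hd

end Groth.Agent.H14AlgSt
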