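import Groth.Agent.H14AlgSt.InertiaDiag
import Groth.Agent.H18Descent.Basic

/-!
# Quasi-finite inertia and quasi-finite diagonal
-/

set_option autoImplicit false
set_option backward.isDefEq.respectTransparency false
set_option backward.isDefEq.respectTransparency.types false

universe u

open CategoryTheory CategoryTheory.Functor Opposite AlgebraicGeometry CategoryTheory.Limits

noncomputable section

namespace Groth.Agent.H14AlgSt

open H14Fib H14Stk

variable {S : Scheme.{u}} {𝒳 𝒴 : AlgSt.Cat S}

local notation "K₀" => Scheme.fppfPrecoverage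

lemma lqf_of_fst_field {X : Scheme.{u}} {K : Type u} [Field K]
    (g : X ⟶ Spec (CommRingCat.of K)) [LocallyOfFiniteType g] [Flat g]
    [h : LocallyQuasiFinite (pullback.fst g g)] : LocallyQuasiFinite g := by
  refine (IsZariskiLocalAtSource.iff_of_openCover X.affineCover).mpr fun i => ?_
  let k := X.affineCover.f i
  let w := k ≫ g
  rcases isEmpty_or_nonempty (X.affineCover.X i) with hE | hE
  · have : IsOpenImmersion w := isOpenImmersion_of_isEmpty w
    exact (inferInstance : LocallyQuasiFinite w)
  · have : Surjective w := ⟨fun y => ⟨Classical.arbitrary _, Subsingleton.elim _ _⟩⟩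
    have hfp : H18Descent.fpqc w := ⟨⟨inferInstance, inferInstance⟩, inferInstance⟩
    have hkg : LocallyQuasiFinite (pullback.fst w g) := by
      have sq : IsPullback (pullback.lift (pullback.fst w g ≫ k) (pullback.snd w g)
          (by rw [Category.assoc]; exact pullback.condition) : pullback w g ⟶ pullback g g)
          (pullback.fst w g) (pullback.fst g g) k :=
        IsPullback.of_right (h₁₂ := pullback.snd g g) (h₂₂ := g)
          (by rw [pullback.lift_snd]; exact (IsPullback.of_hasPullback w g).flip)
          (pullback.lift_fst _ _ _) (IsPullback.of_hasPullback g g).flip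
      exact MorphismProperty.of_isPullback sq h
    have hg : LocallyQuasiFinite g := MorphismProperty.of_pullback_fst_of_descendsAlong
      (P := @LocallyQuasiFinite) (Q := H18Descent.fpqc) hfp hkg
    exact (inferInstance : LocallyQuasiFinite (k ≫ g))

lemma lqf_of_fst {A T : Scheme.{u}} (v : A ⟶ T) [LocallyOfFiniteType v]
    [h : LocallyQuasiFinite (pullback.fst v v)] : LocallyQuasiFinite v := by
  refine .of_fiberToSpecResidueField v fun t => ?_
  let g := v.fiberToSpecResidueField t
  let i : v.fiber t ⟶ A := pullback.fst v (T.fromSpecResidueField t)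
  have sq : IsPullback i g v (T.fromSpecResidueField t) := IsPullback.of_hasPullback _ _
  have : LocallyOfFiniteType g := MorphismProperty.of_isPullback sq ‹_›
  let m : pullback g g ⟶ pullback v v := pullback.lift (pullback.fst g g ≫ i) (pullback.snd g g ≫ i)
    (by simp only [Category.assoc, sq.w]; rw [pullback.condition_assoc])
  have sqm : IsPullback m (pullback.fst g g) (pullback.fst v v) i :=
    IsPullback.of_right (h₁₂ := pullback.snd v v) (h₂₂ := v)
      (by
        rw [pullback.lift_snd, sq.w]
        exact ((IsPullback.of_hasPullback g g).flip.paste_horiz sq))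
      (pullback.lift_fst _ _ _) (IsPullback.of_hasPullback v v).flip
  have : LocallyQuasiFinite (pullback.fst g g) := MorphismProperty.of_isPullback sqm h
  exact lqf_of_fst_field g

lemma locP_lqf_of_self {G : AlgSp.Sp S} {T : Over S} (hG : AlgSp.IsAlgSpace G)
    (π : G ⟶ (AlgSp.yon S).obj T) (hl : AlgSp.LocP @LocallyOfFiniteType π)
    (h : AlgSp.LocP (@LocallyQuasiFinite ⊓ @LocallyOfFiniteType) (pullback.fst π π)) :
    AlgSp.LocP (@LocallyQuasiFinite ⊓ @LocallyOfFiniteType) π := by
  refine H12AlgSp.locP_inf_iff.2 ⟨?_, hl⟩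
  obtain ⟨A, p, hp, hps⟩ := hG.atlas
  obtain ⟨v, hv⟩ := (AlgSp.yon S).map_surjective (p ≫ π)
  refine H12AlgSp.locP_of_one_chart H12AlgSp.etLocal_lqf v hp hps
    (AlgSp.repWith_id @Etale T) (by rw [hv, Category.comp_id]) ?_
  have : LocallyOfFiniteType v.left :=
    hl p (𝟙 _) v hp (AlgSp.repWith_id @Etale T) (by rw [hv, Category.comp_id])
  obtain ⟨m, hm, hm1⟩ := exists_square_chart π hp hv
  have h2 := (h m p (pullback.fst v v) hm hp hm1).1
  let e := ((IsPullback.of_hasPullback v v).map (Over.forget S)).isoPullback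
  have : LocallyQuasiFinite (pullback.fst v.left v.left) := by
    rw [show pullback.fst v.left v.left = e.inv ≫ (pullback.fst v v).left by simp [e]]
    exact (MorphismProperty.cancel_left_of_respectsIso @LocallyQuasiFinite _ _).2 h2
  exact lqf_of_fst v.left

/-- The quasi-finite inertia criterion for quasi-Deligne--Mumford morphisms. -/
theorem isQuasiDMMor_iff_inertia (hX : AlgSt.IsAlgStack K₀ 𝒳) (hY : AlgSt.IsAlgStack K₀ 𝒴)
    (f : 𝒳 ⥤ᵇ 𝒴) :
    AlgSt.RepByAlgSpWith (AlgSp.LocP (@LocallyQuasiFinite ⊓ @LocallyOfFiniteType))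
      (FibCat.inertiaToBase f) ↔ AlgSt.IsQuasiDMMor f := by
  rw [repWith_inertiaToBase_iff hX.isStack.1]
  refine ⟨fun h U z => ?_, fun h => repWith_fpFst (FibCat.diag f) h⟩
  obtain ⟨G, e, he, hl⟩ := repWith_lft_diag hX hY f U z
  exact ⟨G, e, he, locP_lqf_of_self G.property _ hl
    (prop_pullback_fst_of_self (sourceIsoInv_locP _) (testOnSchemes_locP _) h z G e he)⟩

end Groth.Agent.H14AlgSt
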