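import Groth.Agent.H14AlgSt.InertiaDiag
import Groth.Agent.H14AlgSt.DiagLFT
import Groth.Agent.H12AlgSp.Immersion
import Groth.Agent.H19Grp.TangentDer
import Mathlib.RingTheory.SimpleModule.Basic
import Mathlib.AlgebraicGeometry.Morphisms.FormallyUnramified

/-!
# The infinitesimal criterion for unramified diagonals

An automorphism killed by a morphism and trivial on an infinitesimally thin subscheme is trivial if
and only if the morphism is Deligne--Mumford.
-/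

set_option autoImplicit false
set_option backward.isDefEq.respectTransparency false
set_option backward.isDefEq.respectTransparency.types false

universe u

open CategoryTheory CategoryTheory.Functor Opposite AlgebraicGeometry CategoryTheory.Limits
open TrivSqZeroExt

noncomputable section

namespace Groth.Agent.H14AlgSt

open H14Fib H14Stk AlgSp

variable {S : Scheme.{u}}

/-- Two points of an unramified space over a connected thickening agreeing on the closed part are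
equal. -/
lemma eq_of_unramified {X Y : AlgSp.Sp S} (hX : IsAlgSpace X) (hY : IsAlgSpace Y) {f : X ⟶ Y}
    (h : LocP (@LocallyOfFiniteType ⊓ @FormallyUnramified) f) {T₀ T : Over S} (i : T₀ ⟶ T)
    (hi : ∀ t : T.left, ∃ z : T₀.left, t ⤳ i.left z) (a b : (yon S).obj T ⟶ X) (hab : a ≫ f = b ≫ f)
    (h0 : (yon S).map i ≫ a = (yon S).map i ≫ b) : a = b := by
  have hδ := H12AlgSp.isOpenImmersion_diagonal_of_unramified hX hY h
  let c := pullback.lift a b hab
  let W := hδ.rep.pullback c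
  let j : W ⟶ T := hδ.rep.snd c
  have sq := hδ.rep.isPullback c
  have hj : IsOpenImmersion j.left := hδ.property_snd c
  have w0 : ((yon S).map i ≫ a) ≫ pullback.diagonal f = (yon S).map i ≫ c := by
    apply pullback.hom_ext
    · simp [c]
    · simp [c, h0]
  obtain ⟨l, hl⟩ := (yon S).map_surjective (sq.lift ((yon S).map i ≫ a) ((yon S).map i) w0)
  have hl' : l ≫ j = i := (yon S).map_injective (by rw [Functor.map_comp, hl, sq.lift_snd])
  have hsurj : Surjective j.left := ⟨fun t => by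
    obtain ⟨z, hz⟩ := hi t
    have hz' : i.left z ∈ Set.range j.left := ⟨l.left z, by
      rw [← Scheme.Hom.comp_apply, ← Over.comp_left, hl']⟩
    exact hz.mem_open j.left.isOpenEmbedding.isOpen_range hz'⟩
  have : IsIso j.left := (isIso_iff_isOpenImmersion_and_surjective _).2 ⟨hj, hsurj⟩
  have : IsIso ((Over.forget S).map j) := this
  have : IsIso j := isIso_of_reflects_iso j (Over.forget S)
  have e : hδ.rep.fst c ≫ pullback.diagonal f = (yon S).map j ≫ c := sq.w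
  have ea : hδ.rep.fst c = (yon S).map j ≫ a := by
    have := e =≫ pullback.fst f f
    simpa [c] using this
  have eb : hδ.rep.fst c = (yon S).map j ≫ b := by
    have := e =≫ pullback.snd f f
    simpa [c] using this
  exact (cancel_epi ((yon S).map j)).1 (ea.symm.trans eb)

/-- Unramifiedness from uniqueness of lifts to dual numbers over fields. -/
lemma formallyUnramified_of_dualNumber {X Y : Scheme.{u}} (v : X ⟶ Y) [hl : LocallyOfFiniteType v]
    (h : ∀ (k : Type u) [Field k] (a b : Spec (CommRingCat.of (DualNumber k)) ⟶ X),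
      Spec.map (CommRingCat.ofHom (fstHom k k k).toRingHom) ≫ a =
        Spec.map (CommRingCat.ofHom (fstHom k k k).toRingHom) ≫ b → a ≫ v = b ≫ v → a = b) :
    FormallyUnramified v := by
  rw [HasRingHomProperty.iff_appLE (P := @FormallyUnramified)]
  intro U V e
  have h1 := HasRingHomProperty.appLE @LocallyOfFiniteType v hl U V e
  algebraize [(v.appLE U V e).hom]
  refine ⟨?_⟩
  by_contra hns
  let R := Γ(Y, U)
  let B := Γ(X, V)
  have : Nontrivial Ω[B⁄R] := not_subsingleton_iff_nontrivial.1 hns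
  obtain ⟨N, hN, -⟩ := (eq_top_or_exists_le_coatom (⊥ : Submodule B Ω[B⁄R])).resolve_left bot_ne_top
  have : IsSimpleModule B (Ω[B⁄R] ⧸ N) := isSimpleModule_iff_isCoatom.2 hN
  obtain ⟨m, hm, ⟨g⟩⟩ := isSimpleModule_iff_quot_maximal.1 this
  let : Field (B ⧸ m) := Ideal.Quotient.field m
  let k := B ⧸ m
  let q : B →+* k := Ideal.Quotient.mk m
  let ℓ : Ω[B⁄R] →ₗ[B] k := g.toLinearMap ∘ₗ N.mkQ
  let τ : B →+ k := AddMonoidHom.mk' (fun b => ℓ (KaehlerDifferential.D R B b)) (by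
    intro a b; simp)
  have hτ : ∀ a b, τ (a * b) = q a * τ b + q b * τ a := by
    intro a b
    change ℓ (KaehlerDifferential.D R B (a * b)) =
      q a * ℓ (KaehlerDifferential.D R B b) + q b * ℓ (KaehlerDifferential.D R B a)
    rw [Derivation.leibniz, _root_.map_add, _root_.map_smul, _root_.map_smul]
    rfl
  let g₁ := H19Grp.dualHom q τ hτ
  let g₂ := H19Grp.dualHom q 0 (by intro a b; simp)
  have hv : IsAffineOpen V.1 := V.2
  have key := h k (Spec.map (CommRingCat.ofHom g₁) ≫ hv.fromSpec)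
    (Spec.map (CommRingCat.ofHom g₂) ≫ hv.fromSpec) ?_ ?_
  · rw [cancel_mono, Spec.map_inj] at key
    have hz : ∀ b, ℓ (KaehlerDifferential.D R B b) = 0 := fun b => by
      have := congrArg (fun z : B →+* DualNumber k => TrivSqZeroExt.snd (z b))
        (congrArg CommRingCat.Hom.hom key)
      simpa [g₁, g₂, τ] using this
    have hℓ : ℓ = 0 := by
      refine LinearMap.ext_on_range (KaehlerDifferential.span_range_derivation R B) fun b => ?_
      exact hz b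
    have hs : Function.Surjective ℓ := g.surjective.comp N.mkQ_surjective
    obtain ⟨w, hw⟩ := hs 1
    rw [hℓ] at hw
    exact zero_ne_one (α := k) hw
  · simp only [← Spec.map_comp_assoc, ← CommRingCat.ofHom_comp]
    congr 3
  · simp only [Category.assoc, ← U.2.SpecMap_appLE_fromSpec v hv e, ← Spec.map_comp_assoc]
    congr 2
    refine CommRingCat.hom_ext (RingHom.ext fun r => ?_)
    change g₁ (algebraMap R B r) = g₂ (algebraMap R B r)
    ext <;> simp [g₁, g₂, τ]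

variable {𝒳 𝒴 : AlgSt.Cat S}

/-- Automorphisms killed by `f` and trivial along `i` are trivial. -/
def TrivAlong (f : 𝒳 ⥤ᵇ 𝒴) {T₀ T : Over S} (i : T₀ ⟶ T) : Prop :=
  ∀ (x x₀ : 𝒳.obj) (θ : x ⟶ x) (m : x₀ ⟶ x), 𝒳.p.IsHomLift i m → 𝒳.p.IsHomLift (𝟙 T) θ →
    f.map θ = 𝟙 (f.obj x) → m ≫ θ = m → θ = 𝟙 x

lemma map_aut_eq_id (f : 𝒳 ⥤ᵇ 𝒴) (x : FibCat.InertiaObj f) {T : Over S} (hx : 𝒳.p.obj x.pt = T) :
    𝒳.p.IsHomLift (𝟙 T) x.aut.hom := by
  subst hx
  refine (BasedFunctor.isHomLift_iff f _ _).1 ?_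
  rw [x.map_aut]
  exact IsHomLift.id (f.w_obj _)

section Points

variable {f : 𝒳 ⥤ᵇ 𝒴} {U : Over S} (y : FibCat.overCat U ⥤ᵇ 𝒳) {G : AlgSp.Sp S}
  (e : AlgSt.ofSp G ⥤ᵇ FibCat.fp y (FibCat.inertiaToBase f)) (he : FibCat.IsEquivOver e)

include he in
/-- Points of the inertia over a chart agreeing along `i` and over the chart are equal. -/
lemma inertia_points_eq {T₀ T : Over S} (i : T₀ ⟶ T) (H : TrivAlong f i)
    (a b : (yon S).obj T ⟶ G)
    (hab : a ≫ AlgSt.spMapOfOver (BasedFunctor.comp e (FibCat.fpFst y (FibCat.inertiaToBase f))) =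
      b ≫ AlgSt.spMapOfOver (BasedFunctor.comp e (FibCat.fpFst y (FibCat.inertiaToBase f))))
    (h0 : (yon S).map i ≫ a = (yon S).map i ≫ b) : a = b := by
  let J := AlgSp.J S
  let Φ := BasedFunctor.comp e (FibCat.fpFst y (FibCat.inertiaToBase f))
  let s : (AlgSt.ofSp G).obj := ⟨T, J.uliftYonedaEquiv a⟩
  let s' : (AlgSt.ofSp G).obj := ⟨T, J.uliftYonedaEquiv b⟩
  let s₀ : (AlgSt.ofSp G).obj := ⟨T₀, G.obj.map i.op (J.uliftYonedaEquiv a)⟩
  have e0 : G.obj.map i.op (J.uliftYonedaEquiv b) = G.obj.map i.op (J.uliftYonedaEquiv a) := by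
    have := congrArg J.uliftYonedaEquiv h0.symm
    rwa [← GrothendieckTopology.uliftYonedaEquiv_naturality,
      ← GrothendieckTopology.uliftYonedaEquiv_naturality] at this
  let α : s₀ ⟶ s := ⟨i, rfl⟩
  let β : s₀ ⟶ s' := ⟨i, e0⟩
  have hsec : AlgSt.secHom Φ s = AlgSt.secHom Φ s' := by
    have key : ∀ c : (yon S).obj T ⟶ G, (AlgSt.spMapOfOver Φ).hom.app (op T) (J.uliftYonedaEquiv c) =
        J.uliftYonedaEquiv (c ≫ AlgSt.spMapOfOver Φ) := fun c =>
      (GrothendieckTopology.uliftYonedaEquiv_comp (J := J) c (AlgSt.spMapOfOver Φ)).symm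
    exact congrArg ULift.down (((key a).trans (congrArg J.uliftYonedaEquiv hab)).trans (key b).symm)
  let z₁ := e.obj s
  let z₂ := e.obj s'
  let z₀ := e.obj s₀
  have hl : (Φ.obj s).left = (Φ.obj s').left := (Φ.w_obj s).trans (Φ.w_obj s').symm
  let q : z₁.obj.fst ≅ z₂.obj.fst := Over.isoMk (eqToIso hl) (by
    rw [← cancel_epi (eqToHom (Φ.w_obj s).symm)]
    simp [AlgSt.secHom] at hsec ⊢
    exact hsec.symm)
  have hq : (FibCat.overCat U).p.IsHomLift (𝟙 T) q.hom :=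
    IsHomLift.of_fac' _ _ _ (Φ.w_obj s) (Φ.w_obj s') (show eqToHom hl = _ by simp [s, s'])
  let φ : z₀ ⟶ z₁ := e.map α
  let ψ : z₀ ⟶ z₂ := e.map β
  have hφψ : φ.hom.fst ≫ q.hom = ψ.hom.fst := by
    apply Over.OverMorphism.ext
    have h1 : (φ.hom.fst).left = _ := Functor.congr_hom Φ.w α
    have h2 : (ψ.hom.fst).left = _ := Functor.congr_hom Φ.w β
    change φ.hom.fst.left ≫ eqToHom hl = ψ.hom.fst.left
    rw [h1, h2]
    simp [α, β, s₀, s, s']
  let m : z₀.obj.snd.pt ⟶ z₁.obj.snd.pt := φ.hom.snd.hom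
  let n : z₀.obj.snd.pt ⟶ z₂.obj.snd.pt := ψ.hom.snd.hom
  let w : z₁.obj.snd.pt ≅ z₂.obj.snd.pt :=
    z₁.obj.iso.symm ≪≫ y.toFunctor.mapIso q ≪≫ z₂.obj.iso
  have hmw : m ≫ w.hom = n := by
    have h1 : y.map φ.hom.fst ≫ z₁.obj.iso.hom = z₀.obj.iso.hom ≫ m := φ.hom.w
    have h2 : y.map ψ.hom.fst ≫ z₂.obj.iso.hom = z₀.obj.iso.hom ≫ n := ψ.hom.w
    rw [← cancel_epi z₀.obj.iso.hom, ← reassoc_of% h1, ← h2, ← hφψ, y.toFunctor.map_comp]
    simp [w]
  let θ : z₁.obj.snd.pt ⟶ z₁.obj.snd.pt :=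
    w.hom ≫ z₂.obj.snd.aut.hom ≫ w.inv ≫ z₁.obj.snd.aut.inv
  let Ψ := BasedFunctor.comp (BasedFunctor.comp e (FibCat.fpSnd y (FibCat.inertiaToBase f)))
    (FibCat.inertiaToBase f)
  have hz₁ : 𝒳.p.obj z₁.obj.snd.pt = T := Ψ.w_obj s
  have hz₂ : 𝒳.p.obj z₂.obj.snd.pt = T := Ψ.w_obj s'
  have hα : (AlgSt.ofSp G).p.IsHomLift i α := IsHomLift.map (AlgSt.ofSp G).p α
  have hm : 𝒳.p.IsHomLift i m := BasedFunctor.preserves_isHomLift Ψ i α
  have haut₁ : 𝒳.p.map z₁.obj.snd.aut.inv = 𝟙 _ := by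
    have := map_aut_eq_id f z₁.obj.snd rfl
    have h' : 𝟙 _ = 𝒳.p.map z₁.obj.snd.aut.hom :=
      IsHomLift.eq_of_isHomLift 𝒳.p (𝟙 _) z₁.obj.snd.aut.hom
    rw [← cancel_epi (𝒳.p.map z₁.obj.snd.aut.hom), ← Functor.map_comp, Iso.hom_inv_id, ← h']
    simp
  have haut₂ : 𝒳.p.map z₂.obj.snd.aut.hom = 𝟙 _ := by
    have := map_aut_eq_id f z₂.obj.snd rfl
    exact (IsHomLift.eq_of_isHomLift 𝒳.p (𝟙 _) z₂.obj.snd.aut.hom).symm
  have hθ : 𝒳.p.IsHomLift (𝟙 T) θ := by
    refine IsHomLift.of_fac' _ _ _ hz₁ hz₁ ?_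
    simp only [θ, Functor.map_comp, haut₁, haut₂, Category.comp_id, Category.id_comp]
    rw [← Functor.map_comp, Iso.hom_inv_id]
    simp
  have hfθ : f.map θ = 𝟙 _ := by
    have h1 : f.map z₁.obj.snd.aut.inv = 𝟙 _ := by
      rw [← cancel_epi (f.map z₁.obj.snd.aut.hom), ← f.toFunctor.map_comp, Iso.hom_inv_id,
        z₁.obj.snd.map_aut]
      simp
    simp only [θ, f.toFunctor.map_comp, h1, z₂.obj.snd.map_aut, Category.comp_id, Category.id_comp]
    rw [← f.toFunctor.map_comp, Iso.hom_inv_id]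
    simp
  have hmθ : m ≫ θ = m := by
    have h1 : z₀.obj.snd.aut.hom ≫ m = m ≫ z₁.obj.snd.aut.hom := φ.hom.snd.comm
    have h2 : z₀.obj.snd.aut.hom ≫ n = n ≫ z₂.obj.snd.aut.hom := ψ.hom.snd.comm
    have h3 : n ≫ w.inv = m := by rw [← hmw, Category.assoc, w.hom_inv_id, Category.comp_id]
    simp only [θ]
    rw [reassoc_of% hmw, ← reassoc_of% h2, reassoc_of% h3, ← Category.assoc, h1, Category.assoc,
      Iso.hom_inv_id, Category.comp_id]
  have hθ1 := H _ _ θ m hm hθ hfθ hmθ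
  have hcomm : z₁.obj.snd.aut.hom ≫ w.hom = w.hom ≫ z₂.obj.snd.aut.hom := by
    have := congrArg (fun t => t ≫ z₁.obj.snd.aut.hom ≫ w.hom) hθ1
    simpa [θ] using this.symm
  let k : z₁ ⟶ z₂ := fpHom q.hom ⟨w.hom, hcomm⟩ (by
    change y.map q.hom ≫ z₂.obj.iso.hom = z₁.obj.iso.hom ≫ w.hom
    simp [w])
  obtain ⟨⟨hf, _⟩, -⟩ := (isEquivOver_iff e).1 he
  obtain ⟨r, hr⟩ := hf.map_surjective (X := s) (Y := s') k
  have hrl : (AlgSt.ofSp G).p.IsHomLift (𝟙 T) r := by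
    refine (BasedFunctor.isHomLift_iff e _ _).1 ?_
    rw [hr]
    exact (fp_isHomLift_iff _ _).2 hq
  have hrh : r.hom = 𝟙 T := (IsHomLift.fac' (AlgSt.ofSp G).p (𝟙 T) r).trans (by simp [s, s'])
  have := r.map_sec
  rw [hrh, op_id, CategoryTheory.Functor.map_id] at this
  exact J.uliftYonedaEquiv.injective this.symm

end Points

section Criterion

variable {K : Precoverage Scheme.{u}}

lemma repWith_lft_inertia (hX : AlgSt.IsAlgStack K 𝒳) (hY : AlgSt.IsAlgStack K 𝒴) (f : 𝒳 ⥤ᵇ 𝒴) :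
    AlgSt.RepByAlgSpWith (AlgSp.LocP @LocallyOfFiniteType) (FibCat.diag f) :=
  repWith_diag_cancel (g := FibCat.toSelf 𝒴) (baseStable_locP H12AlgSp.etLocal_lft) cancelsLeft_lft
    hX.isStack.1 hY.isStack.1 (rep1_diag_of_algStack hX hY f)
    (with_top_of_repByAlgSp1 hY.diag)
    (by rw [comp_toSelf]; exact repWith_lft_diag_toSelf hX)

lemma specializes_fst (k : Type u) [Field k] (p : Spec (CommRingCat.of (DualNumber k))) :
    ∃ z, p ⤳ Spec.map (CommRingCat.ofHom (fstHom k k k).toRingHom) z := by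
  have h : ∀ q : PrimeSpectrum (DualNumber k), q.asIdeal = Ideal.span {DualNumber.eps} := fun q => by
    have hq : Ideal.span {(DualNumber.eps : DualNumber k)} ≤ q.asIdeal :=
      (Ideal.span_singleton_le_iff_mem _).2
        (nilradical_le_prime q.asIdeal DualNumber.isNilpotent_eps)
    exact ((DualNumber.isMaximal_span_singleton_eps (K := k)).eq_of_le q.isPrime.ne_top hq).symm
  have : Subsingleton (PrimeSpectrum (DualNumber k)) :=
    ⟨fun q q' => PrimeSpectrum.ext ((h q).trans (h q').symm)⟩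
  exact ⟨Classical.arbitrary (PrimeSpectrum k),
    specializes_of_eq (Subsingleton.elim (α := PrimeSpectrum (DualNumber k)) _ _)⟩

/-- DM morphisms are those with no infinitesimal automorphisms. -/
theorem isDMMor_of_trivAlong (hX : AlgSt.IsAlgStack K 𝒳) (hY : AlgSt.IsAlgStack K 𝒴) (f : 𝒳 ⥤ᵇ 𝒴)
    (H : ∀ (k : Type u) [Field k] (sA : Spec (CommRingCat.of (DualNumber k)) ⟶ S),
      TrivAlong f (Over.homMk (Spec.map (CommRingCat.ofHom (fstHom k k k).toRingHom)) rfl :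
        Over.mk (Spec.map (CommRingCat.ofHom (fstHom k k k).toRingHom) ≫ sA) ⟶ Over.mk sA)) :
    AlgSt.IsDMMor f := by
  have hI : AlgSt.RepByAlgSpWith (AlgSp.LocP (@LocallyOfFiniteType ⊓ @FormallyUnramified))
      (FibCat.inertiaToBase f) := by
    intro U y
    have hlft : AlgSt.RepByAlgSpWith (AlgSp.LocP @LocallyOfFiniteType) (FibCat.inertiaToBase f) :=
      (repWith_inertiaToBase_iff hX.isStack.1 f).2
        (repWith_fpFst (FibCat.diag f) (repWith_lft_inertia hX hY f))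
    obtain ⟨G, e, he, hl⟩ := hlft U y
    refine ⟨G, e, he, H12AlgSp.locP_inf_iff.2 ⟨hl, ?_⟩⟩
    obtain ⟨A, p, hp, hps⟩ := G.property.atlas
    obtain ⟨v, hv⟩ := (AlgSp.yon S).map_surjective
      (p ≫ AlgSt.spMapOfOver (BasedFunctor.comp e (FibCat.fpFst y (FibCat.inertiaToBase f))))
    refine H12AlgSp.locP_of_one_chart H12AlgSp.etLocal_formallyUnramified v hp hps
      (AlgSp.repWith_id @Etale U) (by rw [hv, Category.comp_id]) ?_
    have : LocallyOfFiniteType v.left :=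
      hl p (𝟙 _) v hp (AlgSp.repWith_id @Etale U) (by rw [hv, Category.comp_id])
    refine formallyUnramified_of_dualNumber v.left fun k _ a b hab hv' => ?_
    let sA := a ≫ A.hom
    have hbA : b ≫ A.hom = sA := by
      change b ≫ A.hom = a ≫ A.hom
      rw [← Over.w v, reassoc_of% hv']
    let a' : Over.mk sA ⟶ A := Over.homMk a rfl
    let b' : Over.mk sA ⟶ A := Over.homMk b hbA
    let i : Over.mk (Spec.map (CommRingCat.ofHom (fstHom k k k).toRingHom) ≫ sA) ⟶ Over.mk sA :=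
      Over.homMk (Spec.map (CommRingCat.ofHom (fstHom k k k).toRingHom)) rfl
    have hab' : i ≫ a' = i ≫ b' := Over.OverMorphism.ext hab
    have hv'' : a' ≫ v = b' ≫ v := Over.OverMorphism.ext hv'
    have hG : (AlgSp.yon S).map a' ≫ p = (AlgSp.yon S).map b' ≫ p := by
      refine inertia_points_eq y e he i (H k sA) _ _ ?_ ?_
      · rw [Category.assoc, Category.assoc, ← hv, ← Functor.map_comp, ← Functor.map_comp, hv'']
      · rw [← Functor.map_comp_assoc, ← Functor.map_comp_assoc, hab']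
    have := eq_of_unramified (AlgSp.IsAlgSpace.yon_obj A) G.property
      (H12AlgSp.locP_mono (fun _ _ g (_ : Etale g) =>
          (⟨inferInstance, inferInstance⟩ : LocallyOfFiniteType g ∧ FormallyUnramified g))
        (H12AlgSp.locP_of_repWith H12AlgSp.etLocal_etale hp)) i (specializes_fst k) _ _ hG
      (by rw [← Functor.map_comp, ← Functor.map_comp, hab'])
    exact congrArg (fun g : Over.mk sA ⟶ A => g.left) ((AlgSp.yon S).map_injective this)
  rw [repWith_inertiaToBase_iff hX.isStack.1] at hI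
  intro U z
  obtain ⟨G, e, he, hl⟩ := repWith_lft_inertia hX hY f U z
  exact ⟨G, e, he, locP_unramified_of_self G.property _ hl
    (prop_pullback_fst_of_self (sourceIsoInv_locP _) (testOnSchemes_locP _) hI z G e he)⟩

/-- DM morphisms have no infinitesimal automorphisms. -/
theorem trivAlong_of_isDMMor (hX : AlgSt.IsAlgStack K 𝒳) (f : 𝒳 ⥤ᵇ 𝒴) (h : AlgSt.IsDMMor f)
    {T₀ T : Over S} (i : T₀ ⟶ T) (hi : ∀ t : T.left, ∃ z : T₀.left, t ⤳ i.left z) :
    TrivAlong f i := by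
  intro x x₀ θ m hm hθ hfθ hmθ
  have hxT : 𝒳.p.obj x = T := IsHomLift.domain_eq 𝒳.p (𝟙 T) θ
  subst hxT
  have hx₀ : 𝒳.p.obj x₀ = T₀ := IsHomLift.domain_eq 𝒳.p i m
  have := isFibered_of_fibGrpd hX.isStack.1
  obtain ⟨y, ey, hyT, hey⟩ := exists_fromOver (𝒳 := 𝒳) (x := x) rfl
  have : IsIso θ := isIso_of_fibGrpd hX.isStack.1 (𝟙 (𝒳.p.obj x)) θ
  have hI : AlgSt.RepByAlgSpWith (AlgSp.LocP (@LocallyOfFiniteType ⊓ @FormallyUnramified))
      (FibCat.inertiaToBase f) :=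
    (repWith_inertiaToBase_iff hX.isStack.1 f).2 (repWith_fpFst (FibCat.diag f) h)
  obtain ⟨G, e, he, hu⟩ := hI _ y
  let P : (FibCat.inertia f).obj := ⟨x, asIso θ, hfθ⟩
  let Q : (FibCat.inertia f).obj := ⟨x, Iso.refl x, f.toFunctor.map_id x⟩
  let A : (FibCat.fp y (FibCat.inertiaToBase f)).obj := fpObj (topObj (𝒳.p.obj x)) P ey rfl hey
  let B : (FibCat.fp y (FibCat.inertiaToBase f)).obj := fpObj (topObj (𝒳.p.obj x)) Q ey rfl hey
  let c : (FibCat.overCat (𝒳.p.obj x)).obj := (Over.mk i : Over (𝒳.p.obj x))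
  have := hyT c
  have : 𝒳.p.IsHomLift i (y.map (toTop c)) :=
    BasedFunctor.preserves_isHomLift y c.hom (toTop c)
  have hφ : 𝒳.p.IsHomLift i (y.map (toTop c) ≫ ey.hom) := by
    have := homLift_comp' this hey
    exact homLift_congr (Category.comp_id i) _
  have := sc_of_fibGrpd hX.isStack.1 i (y.map (toTop c) ≫ ey.hom)
  have := sc_of_fibGrpd hX.isStack.1 i m
  let u : y.obj c ≅ x₀ := IsStronglyCartesian.domainIsoOfBaseIso 𝒳.p
    (show i = (Iso.refl T₀).hom ≫ i from (Category.id_comp i).symm) m (y.map (toTop c) ≫ ey.hom)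
  have hum : u.hom ≫ m = y.map (toTop c) ≫ ey.hom := IsStronglyCartesian.fac 𝒳.p i m
    (show i = (Iso.refl T₀).hom ≫ i from (Category.id_comp i).symm) (y.map (toTop c) ≫ ey.hom)
  have hul : 𝒳.p.IsHomLift (𝟙 T₀) u.hom := IsStronglyCartesian.map_isHomLift 𝒳.p i m
    (show i = (Iso.refl T₀).hom ≫ i from (Category.id_comp i).symm) (y.map (toTop c) ≫ ey.hom)
  let R : (FibCat.inertia f).obj := ⟨x₀, Iso.refl x₀, f.toFunctor.map_id x₀⟩
  let C : (FibCat.fp y (FibCat.inertiaToBase f)).obj := fpObj c R u rfl hul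
  let φ : C ⟶ A := fpHom (toTop c) ⟨m, (Category.id_comp m).trans hmθ.symm⟩ hum.symm
  let ψ : C ⟶ B := fpHom (toTop c) ⟨m, (Category.id_comp m).trans (Category.comp_id m).symm⟩
    hum.symm
  obtain ⟨⟨hf, _⟩, hse⟩ := (isEquivOver_iff e).1 he
  obtain ⟨⟨a₁, a⟩, ηA, hA⟩ := hse A
  obtain ⟨⟨b₁, b⟩, ηB, hB⟩ := hse B
  obtain ⟨⟨c₁, cs⟩, ηC, hC⟩ := hse C
  have hA' : (FibCat.fp y (FibCat.inertiaToBase f)).p.obj A = 𝒳.p.obj x := rfl
  have hC' : (FibCat.fp y (FibCat.inertiaToBase f)).p.obj C = T₀ := rfl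
  obtain rfl : a₁ = 𝒳.p.obj x := EssSurjOver.obj_eq ηA.hom
  obtain rfl : b₁ = 𝒳.p.obj x := EssSurjOver.obj_eq ηB.hom
  obtain rfl : T₀ = c₁ := (EssSurjOver.obj_eq ηC.hom).symm
  let Φ := BasedFunctor.comp e (FibCat.fpFst y (FibCat.inertiaToBase f))
  let s : (AlgSt.ofSp G.obj).obj := ⟨𝒳.p.obj x, a⟩
  let s' : (AlgSt.ofSp G.obj).obj := ⟨𝒳.p.obj x, b⟩
  let s₀ : (AlgSt.ofSp G.obj).obj := ⟨T₀, cs⟩
  have hAl : (FibCat.fp y (FibCat.inertiaToBase f)).p.IsHomLift (𝟙 (𝒳.p.obj x)) ηA.hom := hA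
  have hBl : (FibCat.fp y (FibCat.inertiaToBase f)).p.IsHomLift (𝟙 (𝒳.p.obj x)) ηB.hom := hB
  have hAi : (FibCat.fp y (FibCat.inertiaToBase f)).p.IsHomLift (𝟙 (𝒳.p.obj x)) ηA.inv :=
    IsHomLift.lift_id_inv _ _ ηA
  have hBi : (FibCat.fp y (FibCat.inertiaToBase f)).p.IsHomLift (𝟙 (𝒳.p.obj x)) ηB.inv :=
    IsHomLift.lift_id_inv _ _ ηB
  have hCl : (FibCat.fp y (FibCat.inertiaToBase f)).p.IsHomLift (𝟙 T₀) ηC.hom := hC
  have hφl : (FibCat.fp y (FibCat.inertiaToBase f)).p.IsHomLift i φ :=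
    (fp_isHomLift_iff i φ).2 (toTop_isHomLift c)
  have hψl : (FibCat.fp y (FibCat.inertiaToBase f)).p.IsHomLift i ψ :=
    (fp_isHomLift_iff i ψ).2 (toTop_isHomLift c)
  have restr : ∀ {D : (FibCat.fp y (FibCat.inertiaToBase f)).obj} (t : G.obj.obj.obj (op (𝒳.p.obj x)))
      (η : e.obj ⟨𝒳.p.obj x, t⟩ ≅ D) (χ : C ⟶ D)
      (_ : (FibCat.fp y (FibCat.inertiaToBase f)).p.IsHomLift (𝟙 (𝒳.p.obj x)) η.inv)
      (_ : (FibCat.fp y (FibCat.inertiaToBase f)).p.IsHomLift i χ),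
      G.obj.obj.map i.op t = cs := by
    intro D t η χ hη hχ
    obtain ⟨g, hg⟩ := hf.map_surjective (X := s₀) (Y := ⟨𝒳.p.obj x, t⟩) (ηC.hom ≫ χ ≫ η.inv)
    have h1 : (AlgSt.ofSp G.obj).p.IsHomLift i g := by
      refine (BasedFunctor.isHomLift_iff e _ _).1 ?_
      rw [hg]
      have := homLift_comp' hCl (homLift_comp' hχ hη)
      exact homLift_congr ((Category.id_comp _).trans (Category.comp_id i)) _
    have h2 : g.hom = i :=
      (IsHomLift.fac' (AlgSt.ofSp G.obj).p i g).trans (by simp [s₀])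
    have := g.map_sec
    rwa [h2] at this
  let J := AlgSp.J S
  let ta : (AlgSp.yon S).obj (𝒳.p.obj x) ⟶ G.obj := J.uliftYonedaEquiv.symm a
  let tb : (AlgSp.yon S).obj (𝒳.p.obj x) ⟶ G.obj := J.uliftYonedaEquiv.symm b
  have hsec : AlgSt.secHom Φ s = AlgSt.secHom Φ s' := by
    have l1 : (FibCat.overCat (𝒳.p.obj x)).p.IsHomLift (𝟙 (𝒳.p.obj x)) ηA.hom.hom.fst :=
      (fp_isHomLift_iff _ _).1 hAl
    have l2 : (FibCat.overCat (𝒳.p.obj x)).p.IsHomLift (𝟙 (𝒳.p.obj x)) ηB.hom.hom.fst :=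
      (fp_isHomLift_iff _ _).1 hBl
    have w1 : ηA.hom.hom.fst.left ≫ 𝟙 _ = (Φ.obj s).hom := Over.w ηA.hom.hom.fst
    have w2 : ηB.hom.hom.fst.left ≫ 𝟙 _ = (Φ.obj s').hom := Over.w ηB.hom.hom.fst
    have e1 : ηA.hom.hom.fst.left = _ :=
      IsHomLift.fac' (FibCat.overCat (𝒳.p.obj x)).p (𝟙 (𝒳.p.obj x)) ηA.hom.hom.fst
    have e2 : ηB.hom.hom.fst.left = _ :=
      IsHomLift.fac' (FibCat.overCat (𝒳.p.obj x)).p (𝟙 (𝒳.p.obj x)) ηB.hom.hom.fst
    rw [AlgSt.secHom, AlgSt.secHom, ← w1, ← w2, e1, e2]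
    simp [s, s', A, B]
  have key : ∀ t : G.obj.obj.obj (op (𝒳.p.obj x)),
      J.uliftYonedaEquiv ((show (AlgSp.yon S).obj (𝒳.p.obj x) ⟶ G.obj from
        J.uliftYonedaEquiv.symm t) ≫ AlgSt.spMapOfOver Φ) =
      (AlgSt.spMapOfOver Φ).hom.app (op (𝒳.p.obj x)) t := fun t => by
    rw [GrothendieckTopology.uliftYonedaEquiv_comp, Equiv.apply_symm_apply]
  have hab : ta ≫ AlgSt.spMapOfOver Φ = tb ≫ AlgSt.spMapOfOver Φ :=
    J.uliftYonedaEquiv.injective (((key a).trans (congrArg ULift.up hsec)).trans (key b).symm)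
  have h0 : (AlgSp.yon S).map i ≫ ta = (AlgSp.yon S).map i ≫ tb := by
    apply J.uliftYonedaEquiv.injective
    rw [← GrothendieckTopology.uliftYonedaEquiv_naturality,
      ← GrothendieckTopology.uliftYonedaEquiv_naturality, Equiv.apply_symm_apply,
      Equiv.apply_symm_apply]
    exact (restr a ηA φ hAi hφl).trans (restr b ηB ψ hBi hψl).symm
  have hs : a = b := J.uliftYonedaEquiv.symm.injective
    (eq_of_unramified G.property (AlgSp.IsAlgSpace.yon_obj _) hu i hi ta tb hab h0)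
  subst hs
  let k : A ⟶ B := ηA.inv ≫ ηB.hom
  have hk : (FibCat.fp y (FibCat.inertiaToBase f)).p.IsHomLift (𝟙 (𝒳.p.obj x)) k :=
    homLift_id_comp hAi hBl
  have hkl : (FibCat.overCat (𝒳.p.obj x)).p.IsHomLift (𝟙 (𝒳.p.obj x)) k.hom.fst :=
    (fp_isHomLift_iff _ _).1 hk
  have hk1 : k.hom.fst = 𝟙 _ := Over.OverMorphism.ext
    ((IsHomLift.fac' (FibCat.overCat (𝒳.p.obj x)).p (𝟙 (𝒳.p.obj x)) k.hom.fst).trans
      (by simp [A, B]; rfl))
  have hw : y.map k.hom.fst ≫ ey.hom = ey.hom ≫ k.hom.snd.hom := k.hom.w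
  rw [hk1, y.toFunctor.map_id, Category.id_comp] at hw
  have hw1 : k.hom.snd.hom = 𝟙 x := (cancel_epi ey.hom).1 (hw.symm.trans (Category.comp_id _).symm)
  have hc : θ ≫ k.hom.snd.hom = k.hom.snd.hom ≫ 𝟙 x := k.hom.snd.comm
  rw [hw1] at hc
  exact (Category.comp_id θ).symm.trans (hc.trans (Category.comp_id _))

/-- The criterion for a functor out of a slice. -/
lemma trivAlong_iff_whisker (hX : FibCat.IsFibGrpd 𝒳.p) (hY : FibCat.IsFibGrpd 𝒴.p)
    (f : 𝒳 ⥤ᵇ 𝒴) {T₀ T : Over S} (i : T₀ ⟶ T) :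
    TrivAlong f i ↔ ∀ (xt : FibCat.overCat T ⥤ᵇ 𝒳) (Θ : xt ≅ xt),
      BasedCategory.whiskerLeft (AlgSt.overMap i) Θ.hom =
        𝟙 (BasedFunctor.comp (AlgSt.overMap i) xt) →
      BasedCategory.whiskerRight Θ.hom f = 𝟙 (BasedFunctor.comp xt f) → Θ.hom = 𝟙 xt := by
  let d : (FibCat.overCat T).obj := (AlgSt.overMap i).obj (topObj T₀)
  have hd : d.hom = i := Category.id_comp i
  constructor
  · intro H xt Θ h1 h2
    let θ : xt.obj (topObj T) ⟶ xt.obj (topObj T) := Θ.hom.toNatTrans.app (topObj T)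
    have hθ : 𝒳.p.IsHomLift (𝟙 T) θ := BasedNatTrans.isHomLift Θ.hom rfl
    have hm : 𝒳.p.IsHomLift i (xt.map (toTop d)) :=
      have := BasedFunctor.preserves_isHomLift xt d.hom (toTop d)
      homLift_congr hd _
    have h1' : Θ.hom.toNatTrans.app d = 𝟙 _ :=
      congrArg (fun α => α.toNatTrans.app (topObj T₀)) h1
    have h3 : xt.map (toTop d) ≫ θ = xt.map (toTop d) :=
      (Θ.hom.toNatTrans.naturality (toTop d)).trans (by rw [h1', Category.id_comp])
    have := H _ _ θ (xt.map (toTop d)) hm hθ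
      (congrArg (fun α => α.toNatTrans.app (topObj T)) h2) h3
    exact natTrans_ext (topSC_of_fibGrpd hX xt) this
  · intro H x x₀ θ m hm hθ hfθ hmθ
    have hxT : 𝒳.p.obj x = T := IsHomLift.domain_eq 𝒳.p (𝟙 T) θ
    have := isFibered_of_fibGrpd hX
    obtain ⟨xt, ex, -, hex⟩ := exists_fromOver (𝒳 := 𝒳) hxT
    have : IsIso θ := isIso_of_fibGrpd hX (𝟙 T) θ
    let θ' : xt.obj (topObj T) ≅ xt.obj (topObj T) := ex ≪≫ asIso θ ≪≫ ex.symm
    have hexi : 𝒳.p.IsHomLift (𝟙 T) ex.inv := IsHomLift.lift_id_inv _ _ ex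
    have hθ' : 𝒳.p.IsHomLift (𝟙 T) θ'.hom := by
      exact homLift_id_comp hex (homLift_id_comp hθ hexi)
    let Θ := isoOfTop (topSC_of_fibGrpd hX xt) (topSC_of_fibGrpd hX xt) θ' hθ'
    have htop : Θ.hom.toNatTrans.app (topObj T) = θ'.hom :=
      extendNatTrans_top (topSC_of_fibGrpd hX xt) θ'.hom
    have hsc := topSC_of_fibGrpd hX xt d
    have hφ : 𝒳.p.IsHomLift i (xt.map (toTop d) ≫ ex.hom) := by
      have : 𝒳.p.IsHomLift i (xt.map (toTop d)) :=
        have := BasedFunctor.preserves_isHomLift xt d.hom (toTop d)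
      homLift_congr hd _
      have := homLift_comp' this hex
      exact homLift_congr (Category.comp_id i) _
    have := sc_of_fibGrpd hX i m
    let v : xt.obj d ⟶ x₀ := IsStronglyCartesian.map 𝒳.p i m
      (show i = 𝟙 T₀ ≫ i from (Category.id_comp i).symm) (xt.map (toTop d) ≫ ex.hom)
    have hv : v ≫ m = xt.map (toTop d) ≫ ex.hom := IsStronglyCartesian.fac 𝒳.p i m
      (show i = 𝟙 T₀ ≫ i from (Category.id_comp i).symm) (xt.map (toTop d) ≫ ex.hom)
    have hfix : xt.map (toTop d) ≫ θ'.hom = xt.map (toTop d) := by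
      change xt.map (toTop d) ≫ ex.hom ≫ θ ≫ ex.inv = _
      rw [← reassoc_of% hv, reassoc_of% hmθ, reassoc_of% hv, Iso.hom_inv_id, Category.comp_id]
    have h1 : BasedCategory.whiskerLeft (AlgSt.overMap i) Θ.hom =
        𝟙 (BasedFunctor.comp (AlgSt.overMap i) xt) := by
      refine natTrans_ext (topSC_of_fibGrpd hX _) ?_
      change Θ.hom.toNatTrans.app d = 𝟙 (xt.obj d)
      have hl : 𝒳.p.IsHomLift (𝟙 d.left) (Θ.hom.toNatTrans.app d) :=
        BasedNatTrans.isHomLift Θ.hom rfl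
      have hl' : 𝒳.p.IsHomLift (𝟙 d.left) (𝟙 (xt.obj d)) := IsHomLift.id (xt.w_obj d)
      apply IsStronglyCartesian.ext 𝒳.p d.hom (xt.map (toTop d)) (𝟙 d.left)
      rw [← Θ.hom.toNatTrans.naturality (toTop d), htop, hfix, Category.id_comp]
    have h2 : BasedCategory.whiskerRight Θ.hom f = 𝟙 (BasedFunctor.comp xt f) := by
      refine natTrans_ext (topSC_of_fibGrpd hY _) ?_
      change f.map (Θ.hom.toNatTrans.app (topObj T)) = 𝟙 (f.obj (xt.obj (topObj T)))
      rw [htop]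
      change f.map (ex.hom ≫ θ ≫ ex.inv) = _
      rw [f.toFunctor.map_comp, f.toFunctor.map_comp, hfθ, Category.id_comp,
        ← f.toFunctor.map_comp, Iso.hom_inv_id, f.toFunctor.map_id]
    have h3 : Θ.hom.toNatTrans.app (topObj T) = 𝟙 _ :=
      congrArg (fun α => α.toNatTrans.app (topObj T)) (H xt Θ h1 h2)
    rw [htop] at h3
    change ex.hom ≫ θ ≫ ex.inv = 𝟙 _ at h3
    rw [← cancel_epi ex.hom, ← cancel_mono ex.inv, Category.assoc, h3]
    simp

end Criterion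

end Groth.Agent.H14AlgSt
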