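import Groth.Agent.H14AlgSt.Rep
import Groth.Agent.H14AlgSt.Diag

/-!
# The sheaf of arrows between the values of a chart

For a functor `x : (Sch/W) ⟶ 𝒳`, the presheaf of triples `(s, t, φ)` of two points of `W` and a vertical
morphism between the objects they define.  It represents `W ×_𝒳 W`, hence is an algebraic space when `x`
is representable.
-/

set_option autoImplicit false
set_option backward.isDefEq.respectTransparency false
set_option backward.isDefEq.respectTransparency.types false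

universe u

open CategoryTheory CategoryTheory.Functor Opposite AlgebraicGeometry CategoryTheory.Limits

noncomputable section

namespace Groth.Agent.H14AlgSt

open H14Fib H14Stk

variable {S : Scheme.{u}} {𝒳 : AlgSt.Cat S} {W : Over S} (x : FibCat.overCat W ⥤ᵇ 𝒳)

/-- The object of a point. -/
abbrev xo {T : Over S} (w : T ⟶ W) : 𝒳.obj := x.obj (Over.mk w)

/-- The morphism of objects of a morphism of points. -/
def xm {T' T : Over S} (g : T' ⟶ T) {w' : T' ⟶ W} {w : T ⟶ W} (e : g ≫ w = w') :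
    xo x w' ⟶ xo x w :=
  x.map (Over.homMk g e)

lemma xm_lift {T' T : Over S} (g : T' ⟶ T) {w' : T' ⟶ W} {w : T ⟶ W} (e : g ≫ w = w') :
    𝒳.p.IsHomLift g (xm x g e) :=
  @BasedFunctor.preserves_isHomLift _ _ _ _ x _ _ _ _ g _
    (IsHomLift.map (Over.forget W) (Over.homMk g e : Over.mk w' ⟶ Over.mk w))

@[reassoc]
lemma xm_comp {T'' T' T : Over S} (h : T'' ⟶ T') (g : T' ⟶ T) {w'' : T'' ⟶ W} {w' : T' ⟶ W} {w : T ⟶ W}
    (e' : h ≫ w' = w'') (e : g ≫ w = w') :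
    xm x h e' ≫ xm x g e = xm x (h ≫ g) (by rw [Category.assoc, e, e']) := by
  rw [xm, xm, xm, ← x.toFunctor.map_comp]
  exact congrArg x.map (Over.OverMorphism.ext rfl)

lemma xm_congr {T' T : Over S} {g g' : T' ⟶ T} (h : g = g') {w' : T' ⟶ W} {w : T ⟶ W}
    (e : g ≫ w = w') : xm x g e = xm x g' (h ▸ e) := by
  subst h
  rfl

lemma xm_id {T : Over S} (w : T ⟶ W) : xm x (𝟙 T) (Category.id_comp w) = 𝟙 (xo x w) :=
  (congrArg x.map (Over.OverMorphism.ext rfl)).trans (x.toFunctor.map_id _)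

lemma xm_eq {T : Over S} {g : T ⟶ T} (hg : g = 𝟙 T) {w : T ⟶ W} (e : g ≫ w = w) :
    xm x g e = 𝟙 (xo x w) := by
  subst hg
  exact xm_id x w

@[simp]
lemma xm_one {T : Over S} {w : T ⟶ W} (e : 𝟙 T ≫ w = w) : xm x (𝟙 T) e = 𝟙 (xo x w) := xm_eq x rfl e

lemma xo_obj {T : Over S} (w : T ⟶ W) : 𝒳.p.obj (xo x w) = T := x.w_obj (Over.mk w)

/-- A vertical morphism between the objects of two points. -/
structure Arr (T : Over S) : Type (u + 1) where
  /-- the source -/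
  s : T ⟶ W
  /-- the target -/
  t : T ⟶ W
  /-- the arrow -/
  φ : xo x s ⟶ xo x t
  lift : 𝒳.p.IsHomLift (𝟙 T) φ

variable {x}

namespace Arr

variable {T T' T'' : Over S}

/-- `r'` is the pullback of `r` along `h`. -/
def Rel (h : T' ⟶ T) (r : Arr x T) (r' : Arr x T') : Prop :=
  ∃ (es : h ≫ r.s = r'.s) (et : h ≫ r.t = r'.t), r'.φ ≫ xm x h et = xm x h es ≫ r.φ

lemma ext' {r r' : Arr x T} (h : Rel (𝟙 T) r r') : r = r' := by
  obtain ⟨s, t, φ, hφ⟩ := r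
  obtain ⟨s', t', φ', hφ'⟩ := r'
  obtain ⟨es, et, e⟩ := h
  dsimp at es et
  obtain rfl : s = s' := (Category.id_comp s).symm.trans es
  obtain rfl : t = t' := (Category.id_comp t).symm.trans et
  dsimp at e
  rw [xm_eq x rfl es, xm_eq x rfl et, Category.id_comp, Category.comp_id] at e
  subst e
  rfl

lemma rel_id (r : Arr x T) : Rel (𝟙 T) r r :=
  ⟨Category.id_comp _, Category.id_comp _, by
    rw [xm_eq x rfl, xm_eq x rfl, Category.id_comp, Category.comp_id]⟩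

lemma rel_comp {h : T' ⟶ T} {h' : T'' ⟶ T'} {r : Arr x T} {r' : Arr x T'} {r'' : Arr x T''}
    (H : Rel h r r') (H' : Rel h' r' r'') : Rel (h' ≫ h) r r'' := by
  obtain ⟨es, et, e⟩ := H
  obtain ⟨es', et', e'⟩ := H'
  refine ⟨by rw [Category.assoc, es, es'], by rw [Category.assoc, et, et'], ?_⟩
  rw [← xm_comp x h' h et' et, ← Category.assoc, e', Category.assoc, e, ← Category.assoc,
    xm_comp x h' h es' es]

variable (h𝒳 : FibCat.IsFibGrpd 𝒳.p)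

include h𝒳 in
lemma rel_unique {h : T' ⟶ T} {r : Arr x T} {r' r'' : Arr x T'} (H : Rel h r r')
    (H' : Rel h r r'') : r' = r'' := by
  obtain ⟨s, t, φ, hφ⟩ := r'
  obtain ⟨s', t', φ', hφ'⟩ := r''
  obtain ⟨es, et, e⟩ := H
  obtain ⟨es', et', e'⟩ := H'
  dsimp at es et es' et'
  subst es et es' et'
  dsimp at e e'
  have := xm_lift x h (rfl : h ≫ r.t = _)
  have := sc_of_fibGrpd h𝒳 h (xm x h (rfl : h ≫ r.t = _))
  obtain rfl : φ = φ' := IsStronglyCartesian.ext 𝒳.p h (xm x h (rfl : h ≫ r.t = _)) (𝟙 T')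
    (e.trans e'.symm)
  rfl

include h𝒳 in
lemma exists_rel (h : T' ⟶ T) (r : Arr x T) : ∃ r' : Arr x T', Rel h r r' := by
  have h1 := xm_lift x h (rfl : h ≫ r.t = _)
  have := sc_of_fibGrpd h𝒳 h (xm x h (rfl : h ≫ r.t = _))
  have := r.lift
  have h2 := xm_lift x h (rfl : h ≫ r.s = _)
  have h3 : 𝒳.p.IsHomLift h (xm x h (rfl : h ≫ r.s = _) ≫ r.φ) := by
    simpa using homLift_comp' h2 r.lift
  exact ⟨⟨h ≫ r.s, h ≫ r.t, IsCartesian.map 𝒳.p h (xm x h rfl) (xm x h rfl ≫ r.φ), inferInstance⟩,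
    rfl, rfl, IsCartesian.fac 𝒳.p h _ _⟩

/-- The pullback of an arrow. -/
def pull (h : T' ⟶ T) (r : Arr x T) : Arr x T' := (exists_rel h𝒳 h r).choose

lemma pull_rel (h : T' ⟶ T) (r : Arr x T) : Rel h r (pull h𝒳 h r) :=
  (exists_rel h𝒳 h r).choose_spec

lemma eq_pull {h : T' ⟶ T} {r : Arr x T} {r' : Arr x T'} (H : Rel h r r') : r' = pull h𝒳 h r :=
  rel_unique h𝒳 H (pull_rel h𝒳 h r)

lemma pull_s (h : T' ⟶ T) (r : Arr x T) : (pull h𝒳 h r).s = h ≫ r.s :=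
  (pull_rel h𝒳 h r).choose.symm

lemma pull_t (h : T' ⟶ T) (r : Arr x T) : (pull h𝒳 h r).t = h ≫ r.t :=
  (pull_rel h𝒳 h r).choose_spec.choose.symm

lemma pull_id (r : Arr x T) : pull h𝒳 (𝟙 T) r = r := (eq_pull h𝒳 (rel_id r)).symm

lemma pull_comp (h : T' ⟶ T) (h' : T'' ⟶ T') (r : Arr x T) :
    pull h𝒳 (h' ≫ h) r = pull h𝒳 h' (pull h𝒳 h r) :=
  (eq_pull h𝒳 (rel_comp (pull_rel h𝒳 h r) (pull_rel h𝒳 h' _))).symm

variable (x) in
/-- The identity arrow. -/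
def id' (w : T ⟶ W) : Arr x T := ⟨w, w, 𝟙 _, IsHomLift.id (xo_obj x w)⟩

lemma rel_id' {h : T' ⟶ T} {w : T ⟶ W} {w' : T' ⟶ W} (e : h ≫ w = w') :
    Rel h (id' x w) (id' x w') := ⟨e, e, by simp [id']⟩

/-- Composition. -/
def comp (r q : Arr x T) (e : r.t = q.s) : Arr x T where
  s := r.s
  t := q.t
  φ := r.φ ≫ xm x (𝟙 T) (w := q.s) (by rw [Category.id_comp, e]) ≫ q.φ
  lift := homLift_id_comp r.lift (homLift_id_comp (xm_lift x _ _) q.lift)

lemma rel_comp' {h : T' ⟶ T} {r q : Arr x T} {r' q' : Arr x T'} (Hr : Rel h r r') (Hq : Rel h q q')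
    (e : r.t = q.s) (e' : r'.t = q'.s) : Rel h (comp r q e) (comp r' q' e') := by
  obtain ⟨es, et, er⟩ := Hr
  obtain ⟨es', et', eq⟩ := Hq
  refine ⟨es, et', ?_⟩
  change (r'.φ ≫ xm x (𝟙 T') _ ≫ q'.φ) ≫ xm x h et' = xm x h es ≫ r.φ ≫ xm x (𝟙 T) _ ≫ q.φ
  rw [Category.assoc, Category.assoc, eq, ← reassoc_of% er, xm_comp_assoc, xm_comp_assoc,
    xm_congr x ((Category.id_comp h).trans (Category.comp_id h).symm)]

lemma pull_comp' (h : T' ⟶ T) (r q : Arr x T) (e : r.t = q.s) :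
    pull h𝒳 h (comp r q e) =
      comp (pull h𝒳 h r) (pull h𝒳 h q) (by rw [pull_t, pull_s, e]) :=
  (eq_pull h𝒳 (rel_comp' (pull_rel h𝒳 h r) (pull_rel h𝒳 h q) e _)).symm

/-- The inverse. -/
def inv' (r : Arr x T) : Arr x T :=
  have := r.lift
  have := isIso_of_fibGrpd h𝒳 (𝟙 T) r.φ
  ⟨r.t, r.s, inv r.φ, IsHomLift.lift_id_inv_isIso 𝒳.p T r.φ⟩

lemma inv'_s (r : Arr x T) : (inv' h𝒳 r).s = r.t := rfl

lemma inv'_t (r : Arr x T) : (inv' h𝒳 r).t = r.s := rfl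

lemma hom_inv' (r : Arr x T) : comp r (inv' h𝒳 r) rfl = id' x r.s := by
  have := r.lift
  have := isIso_of_fibGrpd h𝒳 (𝟙 T) r.φ
  refine ext' ⟨Category.id_comp _, Category.id_comp _, ?_⟩
  change 𝟙 _ ≫ xm x (𝟙 T) _ = xm x (𝟙 T) _ ≫ r.φ ≫ xm x (𝟙 T) _ ≫ inv r.φ
  simp

lemma inv_hom' (r : Arr x T) : comp (inv' h𝒳 r) r rfl = id' x r.t := by
  have := r.lift
  have := isIso_of_fibGrpd h𝒳 (𝟙 T) r.φ
  refine ext' ⟨Category.id_comp _, Category.id_comp _, ?_⟩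
  change 𝟙 _ ≫ xm x (𝟙 T) _ = xm x (𝟙 T) _ ≫ inv r.φ ≫ xm x (𝟙 T) _ ≫ r.φ
  simp

lemma id_comp' (r : Arr x T) {w : T ⟶ W} (e : w = r.s) : comp (id' x w) r e = r := by
  subst e
  refine ext' ⟨Category.id_comp _, Category.id_comp _, ?_⟩
  change r.φ ≫ xm x (𝟙 T) _ = xm x (𝟙 T) _ ≫ 𝟙 _ ≫ xm x (𝟙 T) _ ≫ r.φ
  simp

lemma comp_id' (r : Arr x T) {w : T ⟶ W} (e : r.t = w) : comp r (id' x w) e = r := by
  subst e
  refine ext' ⟨Category.id_comp _, Category.id_comp _, ?_⟩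
  change r.φ ≫ xm x (𝟙 T) _ = xm x (𝟙 T) _ ≫ r.φ ≫ xm x (𝟙 T) _ ≫ 𝟙 _
  simp

lemma comp_assoc' (r q p : Arr x T) (e : r.t = q.s) (e' : q.t = p.s) :
    comp (comp r q e) p e' = comp r (comp q p e') e := by
  refine ext' ⟨Category.id_comp _, Category.id_comp _, ?_⟩
  change (r.φ ≫ xm x (𝟙 T) _ ≫ q.φ ≫ xm x (𝟙 T) _ ≫ p.φ) ≫ xm x (𝟙 T) _ =
    xm x (𝟙 T) _ ≫ (r.φ ≫ xm x (𝟙 T) _ ≫ q.φ) ≫ xm x (𝟙 T) _ ≫ p.φ
  rw [xm_eq x rfl, xm_eq x rfl, Category.id_comp, Category.comp_id]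
  simp only [Category.assoc]

lemma comp_congr {r r' q q' : Arr x T} (hr : r = r') (hq : q = q') (e : r.t = q.s) :
    comp r q e = comp r' q' (hr ▸ hq ▸ e) := by
  subst hr hq
  rfl

lemma inv_comp' (r q : Arr x T) (e : r.t = q.s) (e' : (inv' h𝒳 r).t = r.s) :
    comp (inv' h𝒳 r) (comp r q e) e' = q := by
  rw [← comp_assoc' (inv' h𝒳 r) r q rfl e, comp_congr (inv_hom' h𝒳 r) rfl]
  exact id_comp' q _

lemma pull_inv' (h : T' ⟶ T) (r : Arr x T) :
    pull h𝒳 h (inv' h𝒳 r) = inv' h𝒳 (pull h𝒳 h r) := by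
  have h1 : (pull h𝒳 h r).t = (pull h𝒳 h (inv' h𝒳 r)).s := by rw [pull_t, pull_s, inv'_s]
  have key : comp (pull h𝒳 h r) (pull h𝒳 h (inv' h𝒳 r)) h1 = id' x (pull h𝒳 h r).s := by
    rw [← pull_comp' h𝒳 h r (inv' h𝒳 r) rfl, hom_inv']
    exact (eq_pull h𝒳 (rel_id' (pull_s h𝒳 h r).symm)).symm
  have := inv_comp' h𝒳 (pull h𝒳 h r) (pull h𝒳 h (inv' h𝒳 r)) h1 rfl
  rw [← this, comp_congr rfl key]
  exact comp_id' _ _

end Arr

variable (x) in
/-- The presheaf of arrows. -/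
def arrPsh (h𝒳 : FibCat.IsFibGrpd 𝒳.p) : AlgSp.PSp S where
  obj T := Arr x T.unop
  map h := ↾(Arr.pull h𝒳 h.unop)
  map_id T := by
    ext r
    exact Arr.pull_id h𝒳 r
  map_comp f g := by
    ext r
    exact Arr.pull_comp h𝒳 f.unop g.unop r

variable (h𝒳 : FibCat.IsFibGrpd 𝒳.p)

variable (x) in
/-- The comparison with `W ×_𝒳 W`. -/
def arrFun : Stk.ofPsh (arrPsh x h𝒳) ⥤ᵇ FibCat.fp x x where
  toFunctor :=
    { obj := fun a =>
        ⟨{ fst := Over.mk a.sec.s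
           snd := Over.mk a.sec.t
           iso :=
            haveI := a.sec.lift
            haveI := isIso_of_fibGrpd h𝒳 (𝟙 a.base) a.sec.φ
            asIso a.sec.φ }, a.sec.lift⟩
      map := fun {a b} g =>
        haveI H : Arr.Rel g.hom b.sec a.sec := by
          have e : Arr.pull h𝒳 g.hom b.sec = a.sec := g.map_sec
          exact e ▸ Arr.pull_rel h𝒳 g.hom b.sec
        ObjectProperty.homMk
          { fst := Over.homMk g.hom H.choose
            snd := Over.homMk g.hom H.choose_spec.choose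
            w := H.choose_spec.choose_spec.symm }
      map_id := fun a => fp_hom_ext (Over.OverMorphism.ext rfl) (Over.OverMorphism.ext rfl)
      map_comp := fun f g => fp_hom_ext (Over.OverMorphism.ext rfl) (Over.OverMorphism.ext rfl) }
  w := rfl

theorem arrFun_isEquivOver : FibCat.IsEquivOver (arrFun x h𝒳) := by
  have hF : (arrFun x h𝒳).toFunctor.Faithful := ⟨fun {a b} f g e =>
    Stk.EltObj.hom_ext (congrArg (fun m : (arrFun x h𝒳).obj a ⟶ (arrFun x h𝒳).obj b => m.hom.fst.left) e)⟩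
  have hf : (arrFun x h𝒳).toFunctor.Full := ⟨fun {a b} m => by
    let g : a.base ⟶ b.base := m.hom.fst.left
    have h2 := FibCat.fp_isHomLift_snd x x m
    have hg : m.hom.snd.left = g := by
      have := @IsHomLift.fac' _ _ _ _ (FibCat.overCat W).p _ _ _ _ ((FibCat.fp x x).p.map m) m.hom.snd h2
      exact this.trans ((Category.id_comp _).trans (Category.comp_id _))
    have H : Arr.Rel g b.sec a.sec := by
      have es : g ≫ b.sec.s = a.sec.s := Over.w m.hom.fst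
      have et : g ≫ b.sec.t = a.sec.t := hg ▸ Over.w m.hom.snd
      refine ⟨es, et, ?_⟩
      have w := m.hom.w
      have e1 : xm x g es = x.map m.hom.fst := congrArg x.map (Over.OverMorphism.ext rfl)
      have e2 : xm x g et = x.map m.hom.snd := congrArg x.map (Over.OverMorphism.ext hg.symm)
      rw [e1, e2]
      exact w.symm
    refine ⟨(⟨g, (Arr.eq_pull h𝒳 H).symm⟩ : a ⟶ b), fp_hom_ext (Over.OverMorphism.ext rfl) (Over.OverMorphism.ext hg.symm)⟩⟩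
  refine (isEquivOver_iff _).2 ⟨⟨hf, hF⟩, fun η => ?_⟩
  let T : Over S := η.obj.fst.left
  have hb : η.obj.snd.left = T := fp_snd_obj η
  let t : T ⟶ W := eqToHom hb.symm ≫ η.obj.snd.hom
  let i₂ : Over.mk t ≅ η.obj.snd := Over.isoMk (eqToIso hb.symm) rfl
  let i₁ : Over.mk η.obj.fst.hom ≅ η.obj.fst := Over.isoMk (Iso.refl _) (Category.id_comp _)
  let φ : xo x η.obj.fst.hom ⟶ xo x t := x.map i₁.hom ≫ η.obj.iso.hom ≫ x.map i₂.inv
  have hη : 𝒳.p.IsHomLift (𝟙 T) η.obj.iso.hom := η.property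
  have hi₁ : 𝒳.p.IsHomLift (𝟙 T) (x.map i₁.hom) :=
    @BasedFunctor.preserves_isHomLift _ _ _ _ x _ _ _ _ (𝟙 T) _
      (IsHomLift.map (Over.forget W) i₁.hom)
  have hi₂ : 𝒳.p.IsHomLift (𝟙 T) (x.map i₂.inv) := by
    refine @BasedFunctor.preserves_isHomLift _ _ _ _ x _ _ _ _ (𝟙 T) _ ?_
    refine IsHomLift.of_fac' _ _ _ hb rfl ?_
    change eqToHom hb.symm.symm = _
    simp
  let r : Arr x T := ⟨η.obj.fst.hom, t, φ, homLift_id_comp hi₁ (homLift_id_comp hη hi₂)⟩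
  refine ⟨(⟨T, r⟩ : Stk.EltObj (arrPsh x h𝒳)), fpIsoMk i₁ i₂ ?_, ?_⟩
  · change x.map i₁.hom ≫ η.obj.iso.hom = (x.map i₁.hom ≫ η.obj.iso.hom ≫ x.map i₂.inv) ≫ x.map i₂.hom
    simp only [Category.assoc, ← x.toFunctor.map_comp, i₂.inv_hom_id, x.toFunctor.map_id, Category.comp_id]
  · exact fpIsoMk_lift _ _ _ (IsHomLift.map (Over.forget W) i₁.hom)

/-- The presheaf of arrows of a representable chart is an algebraic space. -/
theorem isAlgSpaceP_arrPsh (hx : AlgSt.RepByAlgSp1 x) : AlgSp.IsAlgSpaceP (arrPsh x h𝒳) :=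
  repByAlgSp_ofPsh_iff.1 (repByAlgSp_of_equiv' (arrFun_isEquivOver h𝒳) (hx W x))

end Groth.Agent.H14AlgSt
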