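import Groth.Agent.H14AlgSt.LargestSmooth
import Groth.Agent.H14AlgSt.CoverCriterion
import Groth.Agent.H14AlgSt.Bootstrap
import Groth.Agent.H12AlgSp.OpenSub
import Groth.Agent.H12AlgSp.NormSp.BaseChange

/-!
# Largest open substacks on which a representable morphism has a property
-/

set_option autoImplicit false
set_option backward.isDefEq.respectTransparency false
set_option backward.isDefEq.respectTransparency.types false

universe u

open CategoryTheory CategoryTheory.Functor Opposite AlgebraicGeometry CategoryTheory.Limits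

noncomputable section

namespace Groth.Agent.H14AlgSt

open H14Fib H14Stk

variable {S : Scheme.{u}}

local notation "K₀" => Scheme.fppfPrecoverage

/-- `w` is the largest open subspace of the source of `σ` on which `σ` has `P`. -/
def IsLargest (P : MorphismProperty (AlgSp.Sp S)) {W G Y : AlgSp.Sp S} (σ : G ⟶ Y) (w : W ⟶ G) :
    Prop :=
  AlgSp.RepWith @IsOpenImmersion w ∧ P (w ≫ σ) ∧
    ∀ W₁ : AlgSp.Sp S, AlgSp.IsAlgSpace W₁ → ∀ w₁ : W₁ ⟶ G,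
      AlgSp.RepWith @IsOpenImmersion w₁ → P (w₁ ≫ σ) → ∃ k : W₁ ⟶ W, k ≫ w = w₁

/-- The hypotheses: `Q`-morphisms have a largest open subspace with `P`, compatibly with `R`. -/
structure LargestHyps (P Q R : MorphismProperty (AlgSp.Sp S)) : Prop where
  hPb : BaseStable P
  hQb : BaseStable Q
  hP : AlgSp.IsLocalOnBase AlgSp.IsFppfCover P
  hQ : AlgSp.IsLocalOnBase AlgSp.IsFppfCover Q
  smooth : ∀ {X Y : AlgSp.Sp S} (g : X ⟶ Y), AlgSp.IsAlgSpace X → AlgSp.IsAlgSpace Y →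
    AlgSp.LocP @Smooth g → R g
  exists_largest : ∀ {G Y : AlgSp.Sp S} (σ : G ⟶ Y), AlgSp.IsAlgSpace G → AlgSp.IsAlgSpace Y →
    Q σ → ∃ W : AlgSp.Sp S, AlgSp.IsAlgSpace W ∧ ∃ w : W ⟶ G, IsLargest P σ w
  baseChange : ∀ {G Y G' Y' W W' : AlgSp.Sp S}, AlgSp.IsAlgSpace G → AlgSp.IsAlgSpace Y →
    AlgSp.IsAlgSpace G' → AlgSp.IsAlgSpace Y' → AlgSp.IsAlgSpace W → AlgSp.IsAlgSpace W' →
    ∀ (σ : G ⟶ Y) (g : Y' ⟶ Y) (σ' : G' ⟶ Y') (g' : G' ⟶ G), IsPullback g' σ' σ g → Q σ → R g →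
      ∀ w : W ⟶ G, IsLargest P σ w → ∀ (w' : W' ⟶ G') (k : W' ⟶ W), IsPullback k w' w g' →
        IsLargest P σ' w'

lemma range_map_of_isPullback {W G W' G' : AlgSp.Sp S} {k : W' ⟶ W} {w' : W' ⟶ G'} {w : W ⟶ G}
    {g : G' ⟶ G} (sq : IsPullback k w' w g) :
    Set.range (AlgSp.Points.map w') = AlgSp.Points.map g ⁻¹' Set.range (AlgSp.Points.map w) := by
  ext t
  constructor
  · rintro ⟨x, rfl⟩
    exact ⟨AlgSp.Points.map k x, by rw [← AlgSp.Points.map_comp, sq.w, AlgSp.Points.map_comp]⟩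
  · rintro ⟨x, hx⟩
    obtain ⟨p, -, hp⟩ := H12AlgSp.exists_point_of_isPullback sq x t hx
    exact ⟨p, hp⟩

lemma range_eq_of_largest {P : MorphismProperty (AlgSp.Sp S)} {W W' G Y : AlgSp.Sp S} {σ : G ⟶ Y}
    {w : W ⟶ G} {w' : W' ⟶ G} (hW : AlgSp.IsAlgSpace W) (hW' : AlgSp.IsAlgSpace W')
    (h : IsLargest P σ w) (h' : IsLargest P σ w') :
    Set.range (AlgSp.Points.map w) = Set.range (AlgSp.Points.map w') := by
  obtain ⟨k, hk⟩ := h'.2.2 W hW w h.1 h.2.1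
  obtain ⟨k', hk'⟩ := h.2.2 W' hW' w' h'.1 h'.2.1
  exact (H12AlgSp.range_map_subset_of_factor hk).antisymm
    (H12AlgSp.range_map_subset_of_factor hk')

/-- The points of a stack represented by a space. -/
def chartPts {G : AlgSp.Space S} {𝒲 : AlgSt.Cat S} (e : AlgSt.ofSp G.obj ⥤ᵇ 𝒲)
    (x : AlgSp.Points G.obj) : AlgSt.Points 𝒲 :=
  AlgSt.Points.map e (spEquiv G.obj x)

lemma chartPts_bijective {G : AlgSp.Space S} {𝒲 : AlgSt.Cat S} {e : AlgSt.ofSp G.obj ⥤ᵇ 𝒲}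
    (he : FibCat.IsEquivOver e) : Function.Bijective (chartPts e) :=
  (points_map_bijective he).comp (spEquiv G.obj).bijective

lemma chartPts_comp {G : AlgSp.Space S} {𝒲 𝒲' : AlgSt.Cat S} (e : AlgSt.ofSp G.obj ⥤ᵇ 𝒲)
    (E : 𝒲 ⥤ᵇ 𝒲') (x : AlgSp.Points G.obj) :
    chartPts (BasedFunctor.comp e E) x = AlgSt.Points.map E (chartPts e x) :=
  points_map_comp _ _ _

lemma chartPts_iso {G : AlgSp.Space S} {𝒲 : AlgSt.Cat S} {e e' : AlgSt.ofSp G.obj ⥤ᵇ 𝒲}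
    (i : e ≅ e') (x : AlgSp.Points G.obj) : chartPts e x = chartPts e' x :=
  points_map_iso i _

lemma chartPts_map {G G' : AlgSp.Space S} {𝒲 : AlgSt.Cat S} (a : G'.obj ⟶ G.obj)
    (e : AlgSt.ofSp G.obj ⥤ᵇ 𝒲) (x : AlgSp.Points G'.obj) :
    chartPts (BasedFunctor.comp (AlgSt.ofSpMap a) e) x = chartPts e (AlgSp.Points.map a x) := by
  change AlgSt.Points.map _ _ = AlgSt.Points.map e (spEquiv G.obj (AlgSp.Points.map a x))
  rw [spEquiv_map, points_map_comp]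

variable {𝒳 𝒴 𝒵 𝒵' : AlgSt.Cat S} {P Q R : MorphismProperty (AlgSp.Sp S)}

/-- `O` is the set of points of the base change of `f` along `y` where it has `P`. -/
def LSet (P : MorphismProperty (AlgSp.Sp S)) (f : 𝒳 ⥤ᵇ 𝒴) (y : 𝒵 ⥤ᵇ 𝒴) {Y : AlgSp.Space S}
    (eY : AlgSt.ofSp Y.obj ⥤ᵇ 𝒵) (O : Set (AlgSt.Points (FibCat.fp y f))) : Prop :=
  ∀ (G : AlgSp.Space S) (e : AlgSt.ofSp G.obj ⥤ᵇ FibCat.fp y f) (σ : G.obj ⟶ Y.obj),
    FibCat.IsEquivOver e →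
    Nonempty (BasedFunctor.comp e (FibCat.fpFst y f) ≅ BasedFunctor.comp (AlgSt.ofSpMap σ) eY) →
    ∀ (W : AlgSp.Sp S) (w : W ⟶ G.obj), AlgSp.IsAlgSpace W → IsLargest P σ w →
      chartPts e '' Set.range (AlgSp.Points.map w) = O

variable {f : 𝒳 ⥤ᵇ 𝒴} {y : 𝒵 ⥤ᵇ 𝒴} {Y : AlgSp.Space S} {eY : AlgSt.ofSp Y.obj ⥤ᵇ 𝒵}

/-- A property of a morphism passes to every chart of its base changes. -/
lemma prop_of_chart (hiso : SourceIsoInv P) (hloc : TestOnSchemes P)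
    (heY : FibCat.IsEquivOver eY) (hf : AlgSt.RepByAlgSpWith P f) {G : AlgSp.Space S}
    {e : AlgSt.ofSp G.obj ⥤ᵇ FibCat.fp y f} (he : FibCat.IsEquivOver e) {σ : G.obj ⟶ Y.obj}
    (k : BasedFunctor.comp e (FibCat.fpFst y f) ≅ BasedFunctor.comp (AlgSt.ofSpMap σ) eY) : P σ :=
  prop_of_repWith_ofSpMap hiso hloc G.property Y.property
    ((repWith_comp_equiv_iff heY).1
      (repWith_of_iso k ((repWith_equiv_comp_iff he).1 (repWith_fpFst y hf))))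

lemma exists_chart (h𝒳 : FibCat.IsFibGrpd 𝒳.p) (h𝒴 : FibCat.IsFibGrpd 𝒴.p)
    (hf : AlgSt.RepByAlgSp1 f) (y : 𝒵 ⥤ᵇ 𝒴) (heY : FibCat.IsEquivOver eY) :
    ∃ (G : AlgSp.Space S) (e : AlgSt.ofSp G.obj ⥤ᵇ FibCat.fp y f) (σ : G.obj ⟶ Y.obj),
      FibCat.IsEquivOver e ∧
        Nonempty (BasedFunctor.comp e (FibCat.fpFst y f) ≅ BasedFunctor.comp (AlgSt.ofSpMap σ) eY) := by
  obtain ⟨G, e, he⟩ := repByAlgSp_fp h𝒳 h𝒴 hf y ⟨Y, eY, heY⟩
  obtain ⟨d, -, ⟨j⟩⟩ := id heY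
  let q := BasedFunctor.comp e (FibCat.fpFst y f)
  exact ⟨G, e, ObjectProperty.homMk (mapOfFun (BasedFunctor.comp q d)), he,
    ⟨(Stk.restr q _).mapIso j.symm ≪≫ (post _ eY).mapIso (isoOfPshMap (BasedFunctor.comp q d))⟩⟩

lemma isIso_of_equiv_ofSp {F G : AlgSp.Sp S} (m : F ⟶ G)
    (h : FibCat.IsEquivOver (AlgSt.ofSpMap m)) : IsIso m := by
  have : IsIso ((sheafToPresheaf (AlgSp.J S) (Type (u + 1))).map m) :=
    isIso_of_isEquivOver m.hom h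
  exact isIso_of_reflects_iso m (sheafToPresheaf (AlgSp.J S) (Type (u + 1)))

namespace LargestHyps

variable (H : LargestHyps P Q R)
include H

lemma lset_unique (h𝒳 : FibCat.IsFibGrpd 𝒳.p) (h𝒴 : FibCat.IsFibGrpd 𝒴.p)
    (hf : AlgSt.RepByAlgSpWith Q f) (heY : FibCat.IsEquivOver eY)
    {O O' : Set (AlgSt.Points (FibCat.fp y f))} (h : LSet P f y eY O) (h' : LSet P f y eY O') :
    O = O' := by
  obtain ⟨G, e, σ, he, ⟨k⟩⟩ := exists_chart h𝒳 h𝒴 (repByAlgSp1_of_with hf) y heY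
  obtain ⟨W, hW, w, hw⟩ := H.exists_largest σ G.property Y.property
    (prop_of_chart H.hQb.sourceIsoInv (testOnSchemes_of_localFppf H.hQ) heY hf he k)
  exact (h G e σ he ⟨k⟩ W w hW hw).symm.trans (h' G e σ he ⟨k⟩ W w hW hw)

lemma lset_of_chart (hf : AlgSt.RepByAlgSpWith Q f) (heY : FibCat.IsEquivOver eY)
    {G : AlgSp.Space S} {e : AlgSt.ofSp G.obj ⥤ᵇ FibCat.fp y f} (he : FibCat.IsEquivOver e)
    {σ : G.obj ⟶ Y.obj}
    (k : BasedFunctor.comp e (FibCat.fpFst y f) ≅ BasedFunctor.comp (AlgSt.ofSpMap σ) eY)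
    {W : AlgSp.Sp S} {w : W ⟶ G.obj} (hW : AlgSp.IsAlgSpace W) (hw : IsLargest P σ w) :
    LSet P f y eY (chartPts e '' Set.range (AlgSp.Points.map w)) := by
  intro G' e' σ' he' ⟨k'⟩ W' w' hW' hw'
  obtain ⟨ei, ⟨i₁⟩, ⟨i₂⟩⟩ := id he
  let φ := BasedFunctor.comp e' ei
  let m : G'.obj ⟶ G.obj := ObjectProperty.homMk (mapOfFun φ)
  have hφ : FibCat.IsEquivOver φ := isEquivOver_comp he' ⟨e, ⟨i₂⟩, ⟨i₁⟩⟩
  have : IsIso m := isIso_of_equiv_ofSp m (isEquivOver_of_iso (isoOfPshMap φ) hφ)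
  let j : BasedFunctor.comp (AlgSt.ofSpMap m) e ≅ e' :=
    (post _ e).mapIso (isoOfPshMap φ).symm ≪≫ (Stk.restr e' _).mapIso i₂
  have hm : m ≫ σ = σ' := by
    obtain ⟨d, ⟨l⟩, -⟩ := id heY
    let a : BasedFunctor.comp (AlgSt.ofSpMap (m ≫ σ)) eY ≅ BasedFunctor.comp (AlgSt.ofSpMap σ') eY :=
      (Stk.restr (AlgSt.ofSpMap m) _).mapIso k.symm ≪≫ (post _ (FibCat.fpFst y f)).mapIso j ≪≫ k'
    exact Sheaf.hom_ext (ofPshMap_injective
      ((Stk.restr (AlgSt.ofSpMap (m ≫ σ)) _).mapIso l.symm ≪≫ (post _ d).mapIso a ≪≫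
        (Stk.restr (AlgSt.ofSpMap σ') _).mapIso l))
  have sq : IsPullback m σ' σ (𝟙 Y.obj) := IsPullback.of_horiz_isIso ⟨by simp [hm]⟩
  have sq' := IsPullback.of_hasPullback w m
  have hP := H12AlgSp.isAlgSpace_of_isPullback G.property.diag hW G'.property sq'
  have hl := H.baseChange G.property Y.property G'.property Y.property hW hP σ (𝟙 _) σ' m sq
    (prop_of_chart H.hQb.sourceIsoInv (testOnSchemes_of_localFppf H.hQ) heY hf he k)
    (H.smooth _ Y.property Y.property (H12AlgSp.NormSp.locP_smooth_id _)) w hw _ _ sq'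
  have hr := (range_eq_of_largest hW' hP hw' hl).trans (range_map_of_isPullback sq')
  rw [hr]
  ext z
  constructor
  · rintro ⟨x, hx, rfl⟩
    exact ⟨_, hx, by rw [← chartPts_iso j, chartPts_map]⟩
  · rintro ⟨t, ht, rfl⟩
    obtain ⟨x, hx⟩ := (chartPts_bijective he').2 (chartPts e t)
    refine ⟨x, ?_, hx⟩
    rw [← chartPts_iso j, chartPts_map] at hx
    change AlgSp.Points.map m x ∈ Set.range (AlgSp.Points.map w)
    rw [(chartPts_bijective he).1 hx]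
    exact ht

lemma exists_lset (h𝒳 : FibCat.IsFibGrpd 𝒳.p) (h𝒴 : FibCat.IsFibGrpd 𝒴.p)
    (hf : AlgSt.RepByAlgSpWith Q f) (y : 𝒵 ⥤ᵇ 𝒴) (heY : FibCat.IsEquivOver eY) :
    ∃ O, LSet P f y eY O := by
  obtain ⟨G, e, σ, he, ⟨k⟩⟩ := exists_chart h𝒳 h𝒴 (repByAlgSp1_of_with hf) y heY
  obtain ⟨W, hW, w, hw⟩ := H.exists_largest σ G.property Y.property
    (prop_of_chart H.hQb.sourceIsoInv (testOnSchemes_of_localFppf H.hQ) heY hf he k)
  exact ⟨_, H.lset_of_chart hf heY he k hW hw⟩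

/-- The set of points where the property holds pulls back along `R`-morphisms. -/
lemma lset_baseChange (h𝒳 : FibCat.IsFibGrpd 𝒳.p) (h𝒴 : FibCat.IsFibGrpd 𝒴.p)
    (hf : AlgSt.RepByAlgSpWith Q f) (heY : FibCat.IsEquivOver eY)
    {O : Set (AlgSt.Points (FibCat.fp y f))} (hO : LSet P f y eY O)
    {Y' : AlgSp.Space S} {eY' : AlgSt.ofSp Y'.obj ⥤ᵇ 𝒵'} (heY' : FibCat.IsEquivOver eY')
    {g : Y'.obj ⟶ Y.obj} (hg : R g) (φ : 𝒵' ⥤ᵇ 𝒵)
    (i : BasedFunctor.comp (AlgSt.ofSpMap g) eY ≅ BasedFunctor.comp eY' φ)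
    {y' : 𝒵' ⥤ᵇ 𝒴} (l : BasedFunctor.comp φ y ≅ y') :
    LSet P f y' eY' (AlgSt.Points.map
      (fpMap (F' := y') (G' := f) (F := y) (G := f) φ (BasedFunctor.id 𝒳) (BasedFunctor.id 𝒴)
        l.symm (Iso.refl _)) ⁻¹' O) := by
  obtain ⟨G, e, σ, he, ⟨k⟩⟩ := exists_chart h𝒳 h𝒴 (repByAlgSp1_of_with hf) y heY
  have hQσ := prop_of_chart H.hQb.sourceIsoInv (testOnSchemes_of_localFppf H.hQ) heY hf he k
  obtain ⟨W, hW, w, hw⟩ := H.exists_largest σ G.property Y.property hQσ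
  let Φ := fpMap (F' := y') (G' := f) (F := y) (G := f) φ (BasedFunctor.id 𝒳) (BasedFunctor.id 𝒴)
    l.symm (Iso.refl _)
  have sq := IsPullback.of_hasPullback g σ
  let G' : AlgSp.Space S := ⟨pullback g σ,
    H12AlgSp.isAlgSpace_of_isPullback Y.property.diag Y'.property G.property sq⟩
  have sqp := sq.map (sheafToPresheaf (AlgSp.J S) (Type (u + 1)))
  obtain ⟨⟨_, _⟩, hsY'⟩ := (isEquivOver_iff _).1 heY'
  obtain ⟨⟨_, _⟩, -⟩ := (isEquivOver_iff _).1 heY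
  obtain ⟨⟨_, _⟩, hse⟩ := (isEquivOver_iff _).1 he
  have : (BasedFunctor.id 𝒵').toFunctor.Full := inferInstanceAs (𝟭 𝒵'.obj).Full
  have : (BasedFunctor.id 𝒵').toFunctor.Faithful := inferInstanceAs (𝟭 𝒵'.obj).Faithful
  have : (BasedFunctor.id 𝒳).toFunctor.Full := inferInstanceAs (𝟭 𝒳.obj).Full
  have : (BasedFunctor.id 𝒳).toFunctor.Faithful := inferInstanceAs (𝟭 𝒳.obj).Faithful
  have : (BasedFunctor.id 𝒴).toFunctor.Full := inferInstanceAs (𝟭 𝒴.obj).Full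
  have : (BasedFunctor.id 𝒴).toFunctor.Faithful := inferInstanceAs (𝟭 𝒴.obj).Faithful
  let E₁ : AlgSt.ofSp G'.obj ⥤ᵇ FibCat.fp (AlgSt.ofSpMap g) (AlgSt.ofSpMap σ) := pshComparison sqp.w
  let E₂ : FibCat.fp (AlgSt.ofSpMap g) (AlgSt.ofSpMap σ) ⥤ᵇ FibCat.fp φ (FibCat.fpFst y f) :=
    fpMap eY' e eY i k.symm
  let E₃ : FibCat.fp φ (FibCat.fpFst y f) ⥤ᵇ FibCat.fp (BasedFunctor.comp φ y) f :=
    pasteBase y f φ
  let E₄ : FibCat.fp (BasedFunctor.comp φ y) f ⥤ᵇ FibCat.fp y' f :=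
    fpMap (BasedFunctor.id 𝒵') (BasedFunctor.id 𝒳) (BasedFunctor.id 𝒴) l (Iso.refl _)
  let e' := BasedFunctor.comp (BasedFunctor.comp (BasedFunctor.comp E₁ E₂) E₃) E₄
  have he' : FibCat.IsEquivOver e' := isEquivOver_comp (isEquivOver_comp (isEquivOver_comp
    (pshComparison_isEquivOver sqp) (fpMap_isEquivOver _ _ _ _ _ hsY' hse))
    (pasteBase_isEquivOver y f φ)) (fpMap_isEquivOver _ _ _ _ _ (essSurjOver_id _) (essSurjOver_id _))
  let k' : BasedFunctor.comp e' (FibCat.fpFst y' f) ≅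
      BasedFunctor.comp (AlgSt.ofSpMap (pullback.fst g σ)) eY' := Iso.refl _
  let J : BasedFunctor.comp (BasedFunctor.comp E₃ E₄) Φ ≅ FibCat.fpSnd φ (FibCat.fpFst y f) :=
    mkIso (fun p => fpIsoMk p.obj.iso (Iso.refl _) (by
        change y.map p.obj.iso.hom ≫ p.obj.snd.obj.iso.hom =
          ((isoApp l p.obj.fst).hom ≫ ((isoApp l p.obj.fst).inv ≫
            (y.map p.obj.iso.hom ≫ p.obj.snd.obj.iso.hom) ≫ 𝟙 _) ≫ 𝟙 _) ≫ f.map (𝟙 _)
        erw [f.toFunctor.map_id]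
        simp only [Category.comp_id]
        exact ((isoApp l p.obj.fst).hom_inv_id_assoc _).symm))
      (fun {p q} m => fp_hom_ext m.hom.w ((Category.comp_id _).trans (Category.id_comp _).symm))
      (fun p => (fp_isHomLift_iff _ _).2 p.property)
  let je : BasedFunctor.comp e' Φ ≅ BasedFunctor.comp (AlgSt.ofSpMap (pullback.snd g σ)) e :=
    (Stk.restr (BasedFunctor.comp E₁ E₂) _).mapIso J
  have hQσ' : Q (pullback.fst g σ) :=
    H.hQb G.property Y.property G'.property Y'.property σ g _ _ sq.flip hQσ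
  have sq' := IsPullback.of_hasPullback w (pullback.snd g σ)
  have hW' := H12AlgSp.isAlgSpace_of_isPullback G.property.diag hW G'.property sq'
  have hl : IsLargest P (pullback.fst g σ) (pullback.snd w (pullback.snd g σ)) :=
    H.baseChange G.property Y.property G'.property Y'.property hW hW' σ g _ _ sq.flip hQσ hg w hw
      _ _ sq'
  have key : chartPts e' '' Set.range (AlgSp.Points.map (pullback.snd w (pullback.snd g σ))) =
      AlgSt.Points.map Φ ⁻¹' O := by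
    rw [range_map_of_isPullback sq', ← hO G e σ he ⟨k⟩ W w hW hw]
    ext z
    obtain ⟨t, rfl⟩ := (chartPts_bijective he').2 z
    rw [(chartPts_bijective he').1.mem_set_image, Set.mem_preimage, Set.mem_preimage,
      ← chartPts_comp, chartPts_iso je, chartPts_map, (chartPts_bijective he).1.mem_set_image]
  rw [← key]
  exact H.lset_of_chart hf heY' he' k' hW' hl

end LargestHyps

end Groth.Agent.H14AlgSt
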