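import Groth.Agent.H14AlgSt.LargestP

/-!
# Existence of the largest open substack with a property, and its base change
-/

set_option autoImplicit false
set_option backward.isDefEq.respectTransparency false
set_option backward.isDefEq.respectTransparency.types false

universe u

open CategoryTheory CategoryTheory.Functor Opposite AlgebraicGeometry CategoryTheory.Limits

noncomputable section

namespace Groth.Agent.H14AlgSt

open H14Fib H14Stk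

variable {S : Scheme.{u}} {𝒳 𝒴 𝒵 : AlgSt.Cat S} {P Q R : MorphismProperty (AlgSp.Sp S)}

local notation "K₀" => Scheme.fppfPrecoverage

/-- Restricting the second factor of a fibre product along `i`. -/
def substackComparison (v : 𝒵 ⥤ᵇ 𝒴) (f : 𝒳 ⥤ᵇ 𝒴) {𝒰 : AlgSt.Cat S} (i : 𝒰 ⥤ᵇ 𝒳) :
    FibCat.fp (FibCat.fpSnd v f) i ⥤ᵇ FibCat.fp v (BasedFunctor.comp i f) :=
  FibCat.fpLift (BasedFunctor.comp (FibCat.fpFst _ _) (FibCat.fpFst v f))
    (FibCat.fpSnd (FibCat.fpSnd v f) i)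
    ((Stk.restr (FibCat.fpFst (FibCat.fpSnd v f) i) 𝒴).mapIso (FibCat.fpIso v f) ≪≫
      (post _ f).mapIso (FibCat.fpIso (FibCat.fpSnd v f) i))

lemma substackComparison_isEquivOver (v : 𝒵 ⥤ᵇ 𝒴) (f : 𝒳 ⥤ᵇ 𝒴) {𝒰 : AlgSt.Cat S} (i : 𝒰 ⥤ᵇ 𝒳) :
    FibCat.IsEquivOver (substackComparison v f i) := by
  let G : FibCat.fp v (BasedFunctor.comp i f) ⥤ᵇ FibCat.fp (FibCat.fpSnd v f) i :=
    FibCat.fpLift
      (FibCat.fpLift (F := v) (G := f) (FibCat.fpFst v (BasedFunctor.comp i f))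
        (BasedFunctor.comp (FibCat.fpSnd v (BasedFunctor.comp i f)) i)
        (FibCat.fpIso v (BasedFunctor.comp i f)))
      (FibCat.fpSnd v (BasedFunctor.comp i f)) (Iso.refl _)
  refine ⟨G, ⟨mkIso (fun p => fpIsoMk (fpIsoMk (Iso.refl _) p.obj.iso.symm ?_) (Iso.refl _) ?_)
      (fun {p q} m => fp_hom_ext (fp_hom_ext ((Category.comp_id _).trans (Category.id_comp _).symm) ?_)
        ((Category.comp_id _).trans (Category.id_comp _).symm))
      (fun p => (fp_isHomLift_iff _ _).2 ((fp_isHomLift_iff _ _).2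
        (IsHomLift.id rfl)))⟩,
    ⟨mkIso (fun p => fpIsoMk (Iso.refl _) (Iso.refl _) ?_)
      (fun {p q} m => fp_hom_ext ((Category.comp_id _).trans (Category.id_comp _).symm)
        ((Category.comp_id _).trans (Category.id_comp _).symm))
      (fun p => (fp_isHomLift_iff _ _).2 (IsHomLift.id rfl))⟩⟩
  · change v.map (𝟙 _) ≫ p.obj.fst.obj.iso.hom =
      (p.obj.fst.obj.iso.hom ≫ f.map p.obj.iso.hom) ≫ f.map p.obj.iso.inv
    erw [v.toFunctor.map_id]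
    simp [← Functor.map_comp]
  · change p.obj.iso.inv ≫ p.obj.iso.hom = 𝟙 _ ≫ i.map (𝟙 _)
    erw [i.toFunctor.map_id, Iso.inv_hom_id, Category.comp_id]
  · change i.map m.hom.snd ≫ q.obj.iso.inv = p.obj.iso.inv ≫ m.hom.fst.hom.snd
    rw [Iso.comp_inv_eq, Category.assoc, Iso.eq_inv_comp]
    exact m.hom.w.symm
  · change v.map (𝟙 _) ≫ p.obj.iso.hom = (p.obj.iso.hom ≫ f.map (𝟙 _)) ≫ f.map (i.map (𝟙 _))
    erw [v.toFunctor.map_id, f.toFunctor.map_id, i.toFunctor.map_id, f.toFunctor.map_id]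
    simp
    exact (Category.comp_id _).symm

variable {f : 𝒳 ⥤ᵇ 𝒴} {Y : AlgSp.Space S} {v : AlgSt.ofSp Y.obj ⥤ᵇ 𝒴}

/-- An open substack cuts out an open subspace of every chart of the base change. -/
lemma exists_chart_sub (h𝒳 : AlgSt.IsAlgStack K₀ 𝒳) {Q₁ : 𝒳.obj → Prop}
    (hQ₁ : AlgSt.IsOpenSubstack 𝒳 Q₁ K₀) {G : AlgSp.Space S}
    {e : AlgSt.ofSp G.obj ⥤ᵇ FibCat.fp v f} (he : FibCat.IsEquivOver e) {σ : G.obj ⟶ Y.obj}
    (k : BasedFunctor.comp e (FibCat.fpFst v f) ≅ AlgSt.ofSpMap σ) :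
    ∃ (G₀ : AlgSp.Space S) (j : G₀.obj ⟶ G.obj)
      (e₀ : AlgSt.ofSp G₀.obj ⥤ᵇ FibCat.fp v (BasedFunctor.comp (AlgSt.subIncl 𝒳 Q₁) f)),
      AlgSp.RepWith @IsOpenImmersion j ∧ FibCat.IsEquivOver e₀ ∧
      Nonempty (BasedFunctor.comp e₀ (FibCat.fpFst v _) ≅ AlgSt.ofSpMap (j ≫ σ)) ∧
      chartPts e '' Set.range (AlgSp.Points.map j) =
        AlgSt.Points.map (FibCat.fpSnd v f) ⁻¹'
          Set.range (AlgSt.Points.map (AlgSt.subIncl 𝒳 Q₁)) := by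
  let i := AlgSt.subIncl 𝒳 Q₁
  let z := BasedFunctor.comp e (FibCat.fpSnd v f)
  obtain ⟨G₀, e₁, j, he₁, ⟨kj⟩, hj⟩ := exists_space_baseChange
    (sourceIsoInv_of_respectsIso _) (testOnSchemes_repWith @IsOpenImmersion) hQ₁.2.1.isStack.1
    h𝒳.isStack.1 hQ₁.2.2 G z
  obtain ⟨⟨_, _⟩, hse⟩ := (isEquivOver_iff _).1 he
  let 𝒰 := AlgSt.fullSub 𝒳 Q₁
  have : (BasedFunctor.id 𝒰).toFunctor.Full := inferInstanceAs (𝟭 𝒰.obj).Full
  have : (BasedFunctor.id 𝒰).toFunctor.Faithful := inferInstanceAs (𝟭 𝒰.obj).Faithful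
  have : (BasedFunctor.id 𝒳).toFunctor.Full := inferInstanceAs (𝟭 𝒳.obj).Full
  have : (BasedFunctor.id 𝒳).toFunctor.Faithful := inferInstanceAs (𝟭 𝒳.obj).Faithful
  let M : FibCat.fp z i ⥤ᵇ FibCat.fp (FibCat.fpSnd v f) i :=
    fpMap e (BasedFunctor.id 𝒰) (BasedFunctor.id 𝒳) (Iso.refl z)
      (Iso.refl (BasedFunctor.comp i (BasedFunctor.id 𝒳)))
  let e₀ := BasedFunctor.comp (BasedFunctor.comp e₁ M) (substackComparison v f i)
  refine ⟨G₀, j, e₀, hj, isEquivOver_comp (isEquivOver_comp he₁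
    (fpMap_isEquivOver _ _ _ _ _ hse (essSurjOver_id _))) (substackComparison_isEquivOver v f i),
    ⟨(post _ (BasedFunctor.comp e (FibCat.fpFst v f))).mapIso kj ≪≫
      (Stk.restr (AlgSt.ofSpMap j) _).mapIso k⟩, ?_⟩
  have hz : ∀ x : AlgSp.Points G.obj,
      AlgSt.Points.map (FibCat.fpSnd v f) (chartPts e x) = chartPts z x := fun x =>
    (chartPts_comp e (FibCat.fpSnd v f) x).symm
  ext w
  constructor
  · rintro ⟨_, ⟨x, rfl⟩, rfl⟩
    refine ⟨chartPts (BasedFunctor.comp e₁ (FibCat.fpSnd z i)) x, ?_⟩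
    rw [hz, ← chartPts_map, ← chartPts_comp]
    exact chartPts_iso ((Stk.restr e₁ _).mapIso (FibCat.fpIso z i).symm ≪≫ (post _ z).mapIso kj) x
  · rintro ⟨q, hq⟩
    obtain ⟨t, rfl⟩ := (chartPts_bijective he).2 w
    rw [hz] at hq
    obtain ⟨p, hp, -⟩ := exists_points_fp (isAlgStack_ofSp G).isStack.1 hQ₁.2.1.isStack.1
      h𝒳.isStack.1 (F := z) (G := i) (x := spEquiv G.obj t) (y := q) hq.symm
    obtain ⟨x, rfl⟩ := (chartPts_bijective he₁).2 p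
    refine ⟨AlgSp.Points.map j x, ⟨x, rfl⟩, congrArg (chartPts e) ((spEquiv G.obj).injective ?_)⟩
    rw [← hp, spEquiv_map, ← chartPts_comp]
    exact points_map_iso kj.symm _

/-- The set of points of the stack where the property holds. -/
def projSet (v : AlgSt.ofSp Y.obj ⥤ᵇ 𝒴) (f : 𝒳 ⥤ᵇ 𝒴)
    (O : Set (AlgSt.Points (FibCat.fp v f))) : Set (AlgSt.Points 𝒳) :=
  AlgSt.Points.map (FibCat.fpSnd v f) '' O

namespace LargestHyps

variable (H : LargestHyps P Q R)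
include H

/-- The set of points where the property holds is saturated. -/
lemma preimage_projSet (h𝒳 : AlgSt.IsAlgStack K₀ 𝒳) (h𝒴 : AlgSt.IsAlgStack K₀ 𝒴)
    (hf : AlgSt.RepByAlgSpWith Q f) (hvm : AlgSt.RepByAlgSpWith (AlgSp.LocP @Smooth) v)
    {O : Set (AlgSt.Points (FibCat.fp v f))} (hO : LSet P f v (BasedFunctor.id _) O) :
    AlgSt.Points.map (FibCat.fpSnd v f) ⁻¹' projSet v f O = O := by
  refine Set.Subset.antisymm ?_ (Set.subset_preimage_image _ _)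
  rintro t' ⟨t, ht, e⟩
  let π := FibCat.fpSnd v f
  have hY := (isAlgStack_ofSp Y).isStack.1
  have hP := fp_fibGrpd (F := v) (G := f) hY h𝒳.isStack.1 h𝒴.isStack.1
  obtain ⟨R₀, eR, heR⟩ := repByAlgSp_fp hY h𝒴.isStack.1 (repByAlgSp1_of_with hvm) v
    (repByAlgSp_ofSp Y)
  let pr₁ : R₀.obj ⟶ Y.obj :=
    ObjectProperty.homMk (mapOfFun (BasedFunctor.comp eR (FibCat.fpFst v v)))
  let pr₂ : R₀.obj ⟶ Y.obj :=
    ObjectProperty.homMk (mapOfFun (BasedFunctor.comp eR (FibCat.fpSnd v v)))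
  let i₁ : BasedFunctor.comp (AlgSt.ofSpMap pr₁) (BasedFunctor.id _) ≅
      BasedFunctor.comp eR (FibCat.fpFst v v) := (isoOfPshMap _).symm
  let i₂ : BasedFunctor.comp (AlgSt.ofSpMap pr₂) (BasedFunctor.id _) ≅
      BasedFunctor.comp eR (FibCat.fpSnd v v) := (isoOfPshMap _).symm
  have key : ∀ {p : R₀.obj ⟶ Y.obj} {φ : FibCat.fp v v ⥤ᵇ AlgSt.ofSp Y.obj},
      AlgSt.RepByAlgSpWith (AlgSp.LocP @Smooth) φ →
      (AlgSt.ofSpMap p ≅ BasedFunctor.comp eR φ) → R p := fun {p φ} hφ a =>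
    H.smooth p R₀.property Y.property
      (locP_smooth_of_repWith (repWith_of_iso a.symm ((repWith_equiv_comp_iff heR).1 hφ)))
  have h₁ : R pr₁ := key (repWith_fpFst v hvm) i₁
  have h₂ : R pr₂ := key (repWith_fpSnd v hvm) i₂
  let y₂ := BasedFunctor.comp (FibCat.fpFst v v) v
  let l₂ : BasedFunctor.comp (FibCat.fpSnd v v) v ≅ y₂ := (FibCat.fpIso v v).symm
  have hO₁ := H.lset_baseChange h𝒳.isStack.1 h𝒴.isStack.1 hf (isEquivOver_id _) hO heR h₁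
    (FibCat.fpFst v v) i₁ (y' := y₂) (Iso.refl _)
  have hO₂ := H.lset_baseChange h𝒳.isStack.1 h𝒴.isStack.1 hf (isEquivOver_id _) hO heR h₂
    (FibCat.fpSnd v v) i₂ (y' := y₂) l₂
  have heq := H.lset_unique h𝒳.isStack.1 h𝒴.isStack.1 hf heR hO₁ hO₂
  obtain ⟨w₀, hw₁, hw₂⟩ := exists_points_fp hP hP h𝒳.isStack.1 (F := π) (G := π) e
  let q₁ := FibCat.fpFst π π
  let q₂ := FibCat.fpSnd π π
  let a₁ := BasedFunctor.comp q₁ (FibCat.fpFst v f)
  let a₂ := BasedFunctor.comp q₂ (FibCat.fpFst v f)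
  let Ψ : FibCat.fp π π ⥤ᵇ FibCat.fp v v := FibCat.fpLift (F := v) (G := v) a₁ a₂
    ((Stk.restr q₁ 𝒴).mapIso (FibCat.fpIso v f) ≪≫ (post _ f).mapIso (FibCat.fpIso π π) ≪≫
      (Stk.restr q₂ 𝒴).mapIso (FibCat.fpIso v f).symm)
  let Θ : FibCat.fp π π ⥤ᵇ FibCat.fp y₂ f := FibCat.fpLift (F := y₂) (G := f) Ψ
    (BasedFunctor.comp q₁ π) ((Stk.restr q₁ 𝒴).mapIso (FibCat.fpIso v f))
  let Φ₁ : FibCat.fp y₂ f ⥤ᵇ FibCat.fp v f := fpMap (FibCat.fpFst v v) (BasedFunctor.id 𝒳)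
    (BasedFunctor.id 𝒴) (Iso.refl y₂).symm (Iso.refl _)
  let Φ₂ : FibCat.fp y₂ f ⥤ᵇ FibCat.fp v f := fpMap (FibCat.fpSnd v v) (BasedFunctor.id 𝒳)
    (BasedFunctor.id 𝒴) l₂.symm (Iso.refl _)
  let J₁ : BasedFunctor.comp Θ Φ₁ ≅ q₁ :=
    mkIso (fun p => fpIsoMk (Iso.refl _) (Iso.refl _) (by
        change v.map (𝟙 _) ≫ p.obj.fst.obj.iso.hom =
          (𝟙 _ ≫ p.obj.fst.obj.iso.hom ≫ 𝟙 _) ≫ f.map (𝟙 _)
        erw [v.toFunctor.map_id, f.toFunctor.map_id]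
        simp))
      (fun {p q} m => fp_hom_ext ((Category.comp_id _).trans (Category.id_comp _).symm)
        ((Category.comp_id _).trans (Category.id_comp _).symm))
      (fun p => (fp_isHomLift_iff _ _).2 (IsHomLift.id rfl))
  let J₂ : BasedFunctor.comp Θ Φ₂ ≅ q₂ :=
    mkIso (fun p => fpIsoMk (Iso.refl _) p.obj.iso (by
        change v.map (𝟙 _) ≫ p.obj.snd.obj.iso.hom =
          (((p.obj.snd.obj.iso.hom ≫ f.map p.obj.iso.inv) ≫ p.obj.fst.obj.iso.inv) ≫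
            p.obj.fst.obj.iso.hom ≫ 𝟙 _) ≫ f.map p.obj.iso.hom
        erw [v.toFunctor.map_id]
        simp [← Functor.map_comp]))
      (fun {p q} m => fp_hom_ext ((Category.comp_id _).trans (Category.id_comp _).symm) m.hom.w)
      (fun p => (fp_isHomLift_iff _ _).2 (IsHomLift.id (fp_snd_obj p)))
  have hm₁ : AlgSt.Points.map Φ₁ (AlgSt.Points.map Θ w₀) = t := by
    rw [← points_map_comp, points_map_iso J₁]
    exact hw₁
  have hm₂ : AlgSt.Points.map Φ₂ (AlgSt.Points.map Θ w₀) = t' := by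
    rw [← points_map_comp, points_map_iso J₂]
    exact hw₂
  have : AlgSt.Points.map Θ w₀ ∈ AlgSt.Points.map Φ₂ ⁻¹' O :=
    (Set.ext_iff.1 heq _).1 (show AlgSt.Points.map Φ₁ (AlgSt.Points.map Θ w₀) ∈ O from hm₁ ▸ ht)
  exact hm₂ ▸ (this : AlgSt.Points.map Φ₂ (AlgSt.Points.map Θ w₀) ∈ O)

lemma isOpen_projSet (h𝒳 : AlgSt.IsAlgStack K₀ 𝒳) (h𝒴 : AlgSt.IsAlgStack K₀ 𝒴)
    (hf : AlgSt.RepByAlgSpWith Q f) (hvm : AlgSt.RepByAlgSpWith (AlgSp.LocP @Smooth) v)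
    {O : Set (AlgSt.Points (FibCat.fp v f))} (hO : LSet P f v (BasedFunctor.id _) O) :
    IsOpen (projSet v f O) := by
  obtain ⟨G, e, σ, he, ⟨k⟩⟩ := exists_chart h𝒳.isStack.1 h𝒴.isStack.1 (repByAlgSp1_of_with hf) v
    (isEquivOver_id _)
  obtain ⟨W, hW, w, hw⟩ := H.exists_largest σ G.property Y.property
    (prop_of_chart H.hQb.sourceIsoInv (testOnSchemes_of_localFppf H.hQ) (isEquivOver_id _) hf he k)
  obtain ⟨A, p, hpe, hps⟩ := G.property.atlas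
  have hG := isAlgStack_ofSp G
  have hp : AlgSt.RepByAlgSpWith (AlgSp.LocP @Smooth) (AlgSt.ofSpMap p) := by
    have := respectsIso_locP (S := S) @Smooth
    exact repWith_ofSpMap_of_baseStable (baseStable_locP H12AlgSp.etLocal_smooth)
      (AlgSp.IsAlgSpace.yon_obj A) G.property p
      (H12AlgSp.locP_of_repWith H12AlgSp.etLocal_smooth (H12AlgSp.repWith_le
        (fun _ _ g (_ : Etale g) => (inferInstance : Smooth g)) hpe))
  let π := FibCat.fpSnd v f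
  let c := BasedFunctor.comp (AlgSt.ofOverCat A) (AlgSt.ofSpMap p)
  let X₀ := BasedFunctor.comp c (BasedFunctor.comp e π)
  have hc : AlgSt.RepByAlgSpWith (AlgSp.LocP @Smooth) c :=
    (repWith_equiv_comp_iff (ofOverCat_isEquivOver A)).1 hp
  have hX₀ : AlgSt.RepByAlgSpWith (AlgSp.LocP @Smooth) X₀ :=
    repWith_locP_comp H12AlgSp.etLocal_smooth (fibGrpd_overCat _) hG.isStack.1 hc
      ((repWith_equiv_comp_iff he).1 (repWith_fpSnd f hvm))
  have hpt : ∀ a : A.left, AlgSt.Points.ofChart X₀ a =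
      AlgSt.Points.map π (chartPts e (AlgSp.Points.ofPt p a)) := fun a => by
    rw [ofChart_comp, ← spEquiv_ofPt, points_map_comp]
    rfl
  have hset : projSet v f O = AlgSt.Points.ofChart X₀ ''
      (AlgSp.Points.ofPt p ⁻¹' Set.range (AlgSp.Points.map w)) := by
    rw [projSet, ← hO G e σ he ⟨k⟩ W w hW hw]
    ext q
    constructor
    · rintro ⟨_, ⟨x, hx, rfl⟩, rfl⟩
      obtain ⟨r, rfl⟩ := H12AlgSp.surjective_map_of_repWith le_rfl hps x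
      obtain ⟨a, rfl⟩ := (AlgSp.Points.schemeEquiv A).surjective r
      have hr : AlgSp.Points.ofPt p a = AlgSp.Points.map p (AlgSp.Points.ofScheme A a) :=
        AlgSp.Points.ofPt_eq_map_ofScheme _ _
      exact ⟨a, Set.mem_preimage.2 (hr ▸ hx), (hpt a).trans (by rw [hr]; rfl)⟩
    · rintro ⟨a, ha, rfl⟩
      exact ⟨_, ⟨_, ha, rfl⟩, (hpt a).symm⟩
  rw [hset]
  refine isOpenMap_ofChart h𝒳.isStack.1 (repWith_locP_mono smooth_le_flat hX₀)
    (repWith_locP_mono smooth_le_lfp hX₀) _ ?_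
  obtain ⟨V, b, c', sq⟩ := hw.1.rep p
  have : IsOpenImmersion b.left := hw.1.property _ c' b sq
  rw [H12AlgSp.preimage_ofPt_range sq]
  exact b.left.isOpenEmbedding.isOpen_range

/-- The largest open substack with the property, described through any smooth atlas. -/
theorem largest_spec (h𝒳 : AlgSt.IsAlgStack K₀ 𝒳) (h𝒴 : AlgSt.IsAlgStack K₀ 𝒴)
    (hf : AlgSt.RepByAlgSpWith Q f) (hvm : AlgSt.RepByAlgSpWith (AlgSp.LocP @Smooth) v)
    (hvs : AlgSt.RepByAlgSpWith AlgSp.IsSurjectiveMor v)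
    {O : Set (AlgSt.Points (FibCat.fp v f))} (hO : LSet P f v (BasedFunctor.id _) O) :
    AlgSt.IsOpenSubstack 𝒳 (ptPred (projSet v f O)) K₀ ∧
      AlgSt.RepByAlgSpWith P
        (BasedFunctor.comp (AlgSt.subIncl 𝒳 (ptPred (projSet v f O))) f) ∧
      ∀ Q₁ : 𝒳.obj → Prop, AlgSt.IsOpenSubstack 𝒳 Q₁ K₀ →
        AlgSt.RepByAlgSpWith P (BasedFunctor.comp (AlgSt.subIncl 𝒳 Q₁) f) →
        ∀ a, Q₁ a → ptPred (projSet v f O) a := by
  have hQs := isOpenSubstack_ptPred h𝒳 (H.isOpen_projSet h𝒳 h𝒴 hf hvm hO)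
  obtain ⟨G, e, σ, he, ⟨k⟩⟩ := exists_chart h𝒳.isStack.1 h𝒴.isStack.1 (repByAlgSp1_of_with hf) v
    (isEquivOver_id _)
  have hQσ := prop_of_chart H.hQb.sourceIsoInv (testOnSchemes_of_localFppf H.hQ) (isEquivOver_id _)
    hf he k
  obtain ⟨W, hW, w, hw⟩ := H.exists_largest σ G.property Y.property hQσ
  have hO' := hO G e σ he ⟨k⟩ W w hW hw
  refine ⟨hQs, ?_, fun Q₁ hQ₁ hP₁ => (openSubstack_le_iff h𝒳 hQ₁ hQs).2 ?_⟩
  · obtain ⟨G₀, j, e₀, hj, he₀, ⟨k₀⟩, hr⟩ := exists_chart_sub h𝒳 hQs he k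
    rw [range_ptPred, H.preimage_projSet h𝒳 h𝒴 hf hvm hO, ← hO'] at hr
    have hrange := ((chartPts_bijective he).1.image_injective hr)
    obtain ⟨m, hm⟩ := H12AlgSp.exists_factor_open hj w hrange.ge
    obtain ⟨m', hm'⟩ := H12AlgSp.exists_factor_open hw.1 j hrange.le
    have := H12AlgSp.mono_of_openImmersion hj
    have := H12AlgSp.mono_of_openImmersion hw.1
    have : IsIso m := ⟨m', by rw [← cancel_mono w, Category.assoc, hm', hm, Category.id_comp],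
      by rw [← cancel_mono j, Category.assoc, hm, hm', Category.id_comp]⟩
    have hiso : SourceIsoInv P := H.hPb.sourceIsoInv
    have hwj : P (m ≫ j ≫ σ) := by
      rw [← Category.assoc, hm]
      exact hw.2.1
    have hPj : P (j ≫ σ) := hiso m (j ≫ σ) hW Y.property hwj
    exact repWith_of_fppf H.hP H.hPb.sourceIsoInv
      (rep1_comp hQs.2.1.isStack.1 h𝒳.isStack.1 (repByAlgSp1_of_with hQs.2.2)
        (repByAlgSp1_of_with hf))
      (repWith_locP_mono smooth_le_flat hvm) (repWith_locP_mono smooth_le_lfp hvm) hvs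
      (repWith_fpFst_of_space H.hPb he₀ k₀ hPj)
  · obtain ⟨G₀, j, e₀, hj, he₀, ⟨k₀⟩, hr⟩ := exists_chart_sub h𝒳 hQ₁ he k
    have hPj : P (j ≫ σ) := prop_of_chart (eY := BasedFunctor.id _) H.hPb.sourceIsoInv
      (testOnSchemes_of_localFppf H.hP) (isEquivOver_id _) hP₁ he₀ k₀
    obtain ⟨m, hm⟩ := hw.2.2 G₀.obj G₀.property j hj hPj
    rw [range_ptPred]
    intro q hq
    obtain ⟨t, rfl⟩ := surjective_of_repWith h𝒳.isStack.1 (repWith_fpSnd f hvs) q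
    refine ⟨t, ?_, rfl⟩
    rw [← hO']
    exact Set.image_mono (H12AlgSp.range_map_subset_of_factor hm) (hr.ge hq)

theorem exists_largest_substack (h𝒳 : AlgSt.IsAlgStack K₀ 𝒳) (h𝒴 : AlgSt.IsAlgStack K₀ 𝒴)
    (hf : AlgSt.RepByAlgSpWith Q f) :
    ∃ Q₀ : 𝒳.obj → Prop, AlgSt.IsOpenSubstack 𝒳 Q₀ K₀ ∧
      AlgSt.RepByAlgSpWith P (BasedFunctor.comp (AlgSt.subIncl 𝒳 Q₀) f) ∧
      ∀ Q₁ : 𝒳.obj → Prop, AlgSt.IsOpenSubstack 𝒳 Q₁ K₀ →
        AlgSt.RepByAlgSpWith P (BasedFunctor.comp (AlgSt.subIncl 𝒳 Q₁) f) → ∀ a, Q₁ a → Q₀ a := by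
  obtain ⟨V, v, hvm, hvs⟩ := h𝒴.atlas
  let Y : AlgSp.Space S := ⟨(AlgSp.yon S).obj V, AlgSp.IsAlgSpace.yon_obj V⟩
  let v' : AlgSt.ofSp Y.obj ⥤ᵇ 𝒴 := BasedFunctor.comp (AlgSt.toOverCat V) v
  obtain ⟨O, hO⟩ := H.exists_lset h𝒳.isStack.1 h𝒴.isStack.1 hf v' (isEquivOver_id _)
  exact ⟨_, H.largest_spec h𝒳 h𝒴 hf ((repWith_equiv_comp_iff (toOverCat_isEquivOver V)).1 hvm)
    ((repWith_equiv_comp_iff (toOverCat_isEquivOver V)).1 hvs) hO⟩

/-- The largest open substack is compatible with base change along `R`-morphisms. -/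
theorem largest_baseChange {z : 𝒵 ⥤ᵇ 𝒴} (h𝒳 : AlgSt.IsAlgStack K₀ 𝒳)
    (h𝒴 : AlgSt.IsAlgStack K₀ 𝒴) (h𝒵 : AlgSt.IsAlgStack K₀ 𝒵) (hRb : BaseStable R)
    (hR : AlgSp.IsLocalOnBase AlgSp.IsFppfCover R)
    (hf : AlgSt.RepByAlgSpWith Q f) {Q₀ : 𝒳.obj → Prop} (hQ₀ : AlgSt.IsOpenSubstack 𝒳 Q₀ K₀)
    (hQ₀P : AlgSt.RepByAlgSpWith P (BasedFunctor.comp (AlgSt.subIncl 𝒳 Q₀) f))
    (hQ₀max : ∀ Q₁ : 𝒳.obj → Prop, AlgSt.IsOpenSubstack 𝒳 Q₁ K₀ →
      AlgSt.RepByAlgSpWith P (BasedFunctor.comp (AlgSt.subIncl 𝒳 Q₁) f) → ∀ y, Q₁ y → Q₀ y)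
    (hz : AlgSt.RepByAlgSpWith R z) :
    AlgSt.IsOpenSubstack (FibCat.fp z f) (fun b => Q₀ b.obj.snd) K₀ ∧
      AlgSt.RepByAlgSpWith P (BasedFunctor.comp
        (AlgSt.subIncl (FibCat.fp z f) fun b => Q₀ b.obj.snd) (FibCat.fpFst z f)) ∧
      ∀ Q₁ : (FibCat.fp z f).obj → Prop, AlgSt.IsOpenSubstack (FibCat.fp z f) Q₁ K₀ →
        AlgSt.RepByAlgSpWith P
          (BasedFunctor.comp (AlgSt.subIncl (FibCat.fp z f) Q₁) (FibCat.fpFst z f)) →
        ∀ b, Q₁ b → Q₀ b.obj.snd := by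
  obtain ⟨V, v₀, hvm₀, hvs₀⟩ := h𝒴.atlas
  let Y : AlgSp.Space S := ⟨(AlgSp.yon S).obj V, AlgSp.IsAlgSpace.yon_obj V⟩
  let v : AlgSt.ofSp Y.obj ⥤ᵇ 𝒴 := BasedFunctor.comp (AlgSt.toOverCat V) v₀
  have hvm : AlgSt.RepByAlgSpWith (AlgSp.LocP @Smooth) v :=
    (repWith_equiv_comp_iff (toOverCat_isEquivOver V)).1 hvm₀
  have hvs : AlgSt.RepByAlgSpWith AlgSp.IsSurjectiveMor v :=
    (repWith_equiv_comp_iff (toOverCat_isEquivOver V)).1 hvs₀
  obtain ⟨O, hO⟩ := H.exists_lset h𝒳.isStack.1 h𝒴.isStack.1 hf v (isEquivOver_id _)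
  obtain ⟨hs, hsP, hsmax⟩ := H.largest_spec h𝒳 h𝒴 hf hvm hvs hO
  have hQ₀eq : Q₀ = ptPred (projSet v f O) := funext fun a =>
    propext ⟨hsmax Q₀ hQ₀ hQ₀P a, hQ₀max _ hs hsP a⟩
  -- the atlas of `𝒵` pulled back from the one of `𝒴`
  obtain ⟨Y', eY', g, heY', ⟨i₀⟩⟩ := exists_chart h𝒵.isStack.1 h𝒴.isStack.1 (repByAlgSp1_of_with hz) v
    (isEquivOver_id _)
  have hg : R g := prop_of_chart hRb.sourceIsoInv (testOnSchemes_of_localFppf hR)
    (isEquivOver_id _) hz heY' i₀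
  let φ := BasedFunctor.comp eY' (FibCat.fpFst v z)
  let u := BasedFunctor.comp eY' (FibCat.fpSnd v z)
  have hum : AlgSt.RepByAlgSpWith (AlgSp.LocP @Smooth) u :=
    (repWith_equiv_comp_iff heY').1 (repWith_fpSnd z hvm)
  have hus : AlgSt.RepByAlgSpWith AlgSp.IsSurjectiveMor u :=
    (repWith_equiv_comp_iff heY').1 (repWith_fpSnd z hvs)
  have hF := isAlgStack_fp' h𝒵 h𝒳 h𝒴 z f
  let f' := FibCat.fpFst z f
  have hf' : AlgSt.RepByAlgSpWith Q f' := repWith_fpFst z hf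
  obtain ⟨O', hO'⟩ := H.exists_lset hF.isStack.1 h𝒵.isStack.1 hf' u (isEquivOver_id _)
  let l : BasedFunctor.comp φ v ≅ BasedFunctor.comp u z :=
    (Stk.restr eY' 𝒴).mapIso (FibCat.fpIso v z)
  let Φ : FibCat.fp (BasedFunctor.comp u z) f ⥤ᵇ FibCat.fp v f :=
    fpMap φ (BasedFunctor.id 𝒳) (BasedFunctor.id 𝒴) l.symm (Iso.refl _)
  have hΦ : LSet P f (BasedFunctor.comp u z) (BasedFunctor.id _) (AlgSt.Points.map Φ ⁻¹' O) :=
    H.lset_baseChange h𝒳.isStack.1 h𝒴.isStack.1 hf (isEquivOver_id _) hO (isEquivOver_id _) hg φ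
      i₀.symm l
  let E := pasteBase z f u
  have hE : LSet P f (BasedFunctor.comp u z) (BasedFunctor.id _) (AlgSt.Points.map E '' O') := by
    obtain ⟨G, e, σ, he, ⟨k⟩⟩ := exists_chart hF.isStack.1 h𝒵.isStack.1 (repByAlgSp1_of_with hf') u
      (isEquivOver_id _)
    obtain ⟨W, hW, w, hw⟩ := H.exists_largest σ G.property Y'.property
      (prop_of_chart H.hQb.sourceIsoInv (testOnSchemes_of_localFppf H.hQ) (isEquivOver_id _)
        hf' he k)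
    rw [← hO' G e σ he ⟨k⟩ W w hW hw, Set.image_image]
    simp only [← chartPts_comp]
    exact H.lset_of_chart hf (isEquivOver_id _) (e := BasedFunctor.comp e E)
      (isEquivOver_comp he (pasteBase_isEquivOver z f u)) k hW hw
  have heq := H.lset_unique h𝒳.isStack.1 h𝒴.isStack.1 hf (isEquivOver_id _) hE hΦ
  let π' := FibCat.fpSnd z f
  have hset : projSet u f' O' = AlgSt.Points.map π' ⁻¹' projSet v f O := by
    have hpt : ∀ t : AlgSt.Points (FibCat.fp u f'),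
        AlgSt.Points.map π' (AlgSt.Points.map (FibCat.fpSnd u f') t) =
          AlgSt.Points.map (FibCat.fpSnd v f) (AlgSt.Points.map Φ (AlgSt.Points.map E t)) := by
      intro t
      simp only [← points_map_comp]
      rfl
    ext q
    obtain ⟨t, rfl⟩ := surjective_of_repWith hF.isStack.1 (repWith_fpSnd f' hus) q
    rw [← Set.mem_preimage (s := projSet u f' O'), H.preimage_projSet hF h𝒵 hf' hum hO',
      Set.mem_preimage, hpt, ← Set.mem_preimage (s := projSet v f O),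
      H.preimage_projSet h𝒳 h𝒴 hf hvm hO, ← Set.mem_preimage (f := AlgSt.Points.map Φ), ← heq,
      (points_map_bijective (pasteBase_isEquivOver z f u)).1.mem_set_image]
  have hpred : (fun b : (FibCat.fp z f).obj => Q₀ b.obj.snd) = ptPred (projSet u f' O') := by
    rw [hset, hQ₀eq]
    exact funext fun b => propext (ptPred_preimage hF.isStack.1 h𝒳.isStack.1 π' _ b)
  rw [hpred]
  obtain ⟨h1, h2, h3⟩ := H.largest_spec hF h𝒵 hf' hum hus hO'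
  exact ⟨h1, h2, fun Q₁ hQ₁ hP₁ b hb => (congrFun hpred b).mpr (h3 Q₁ hQ₁ hP₁ b hb)⟩

end LargestHyps

end Groth.Agent.H14AlgSt
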