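import Groth.Agent.H14AlgSt.LocQ2
import Groth.Agent.H13AlgSp.EtaleLocally

/-!
# Properties read on atlases: composites and base change
-/

set_option autoImplicit false
set_option backward.isDefEq.respectTransparency false
set_option backward.isDefEq.respectTransparency.types false

universe u

open CategoryTheory Opposite AlgebraicGeometry CategoryTheory.Limits

noncomputable section

namespace Groth.Agent.H14AlgSt

open H14Fib H14Stk H13AlgSp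

variable {S : Scheme.{u}} {P : MorphismProperty (AlgSp.Sp S)} {𝒳 𝒴 𝒵 : AlgSt.Cat S}

local notation "K₀" => Scheme.fppfPrecoverage

lemma ofChart_surjective_of_atlas {A V : Over S} {f : 𝒳 ⥤ᵇ 𝒴} (h𝒳 : AlgSt.IsAlgStack K₀ 𝒳)
    (h𝒴 : AlgSt.IsAlgStack K₀ 𝒴) (hf : AlgSt.IsSurjective f)
    {y : FibCat.overCat V ⥤ᵇ 𝒴} {a : FibCat.overCat A ⥤ᵇ FibCat.fp f y} {h : A ⟶ V}
    (has : AlgSt.RepByAlgSpWith AlgSp.IsSurjectiveMor a)
    (j : BasedFunctor.comp a (FibCat.fpSnd f y) ≅ AlgSt.overMap h) :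
    Function.Surjective h.left := by
  intro t
  let tt := AlgSt.Points.ofChart (BasedFunctor.id (FibCat.overCat V)) t
  obtain ⟨x, hx⟩ := hf (AlgSt.Points.map y tt)
  obtain ⟨w, -, hw⟩ := exists_points_fp h𝒳.isStack.1 (fibGrpd_overCat V) h𝒴.isStack.1
    (F := f) (G := y) hx
  obtain ⟨s, rfl⟩ :=
    surjective_of_repWith (fp_fibGrpd h𝒳.isStack.1 (fibGrpd_overCat V) h𝒴.isStack.1) has w
  refine ⟨chartPoint s, ?_⟩
  rw [← chartPoint_overMap, ← points_map_iso j, points_map_comp, hw]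
  exact chartPoint_ofChart t

/-- Compatible atlases for a composite. -/
lemma exists_tower (h𝒳 : AlgSt.IsAlgStack K₀ 𝒳) (h𝒴 : AlgSt.IsAlgStack K₀ 𝒴)
    (h𝒵 : AlgSt.IsAlgStack K₀ 𝒵) (f : 𝒳 ⥤ᵇ 𝒴) (g : 𝒴 ⥤ᵇ 𝒵) :
    ∃ (A B C : Over S) (h : A ⟶ B) (c : B ⟶ C) (z : FibCat.overCat C ⥤ᵇ 𝒵)
      (b : FibCat.overCat B ⥤ᵇ FibCat.fp g z) (y : FibCat.overCat B ⥤ᵇ 𝒴)
      (a : FibCat.overCat A ⥤ᵇ FibCat.fp f y)
      (Θ : FibCat.overCat A ⥤ᵇ FibCat.fp (BasedFunctor.comp f g) z),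
      (AlgSt.RepByAlgSpWith (AlgSp.LocP @Smooth) z ∧
        AlgSt.RepByAlgSpWith AlgSp.IsSurjectiveMor z) ∧
      (AlgSt.RepByAlgSpWith (AlgSp.LocP @Smooth) b ∧
        AlgSt.RepByAlgSpWith AlgSp.IsSurjectiveMor b) ∧
      (AlgSt.RepByAlgSpWith (AlgSp.LocP @Smooth) y ∧
        AlgSt.RepByAlgSpWith AlgSp.IsSurjectiveMor y) ∧
      (AlgSt.RepByAlgSpWith (AlgSp.LocP @Smooth) a ∧
        AlgSt.RepByAlgSpWith AlgSp.IsSurjectiveMor a) ∧
      (AlgSt.RepByAlgSpWith (AlgSp.LocP @Smooth) Θ ∧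
        AlgSt.RepByAlgSpWith AlgSp.IsSurjectiveMor Θ) ∧
      Nonempty (BasedFunctor.comp a (FibCat.fpSnd f y) ≅ AlgSt.overMap h) ∧
      Nonempty (BasedFunctor.comp b (FibCat.fpSnd g z) ≅ AlgSt.overMap c) ∧
      Nonempty (BasedFunctor.comp Θ (FibCat.fpSnd (BasedFunctor.comp f g) z) ≅
        AlgSt.overMap (h ≫ c)) := by
  obtain ⟨C, z, hz, hzs⟩ := h𝒵.atlas
  obtain ⟨B, b, c, hb, hbs, ⟨jc⟩⟩ := exists_atlas_fp h𝒴 h𝒵 g z
  let q := FibCat.fpFst g z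
  let sf := FibCat.fpSnd f q
  let y := BasedFunctor.comp b q
  have hC := isAlgStack_overCat C
  have hW : AlgSt.IsAlgStack K₀ (FibCat.fp f q) :=
    isAlgStack_fp' h𝒳 (isAlgStack_fp' h𝒴 hC h𝒵 g z) h𝒴 f q
  have hgz : FibCat.IsFibGrpd (FibCat.fp g z).p :=
    (isAlgStack_fp' h𝒴 hC h𝒵 g z).isStack.1
  have hW' : AlgSt.IsAlgStack K₀ (FibCat.fp sf b) :=
    isAlgStack_fp' hW (isAlgStack_overCat B) (isAlgStack_fp' h𝒴 hC h𝒵 g z) sf b
  obtain ⟨A, a', ha', has'⟩ := hW'.atlas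
  let a : FibCat.overCat A ⥤ᵇ FibCat.fp f y := BasedFunctor.comp a' (pasteComp f q b)
  obtain ⟨h, ⟨jh⟩⟩ := exists_overMap_iso (BasedFunctor.comp a (FibCat.fpSnd f y))
  let Θ : FibCat.overCat A ⥤ᵇ FibCat.fp (BasedFunctor.comp f g) z :=
    BasedFunctor.comp (BasedFunctor.comp a' (FibCat.fpFst sf b)) (pasteBase g z f)
  refine ⟨A, B, C, h, c, z, b, y, a, Θ, ⟨hz, hzs⟩, ⟨hb, hbs⟩,
    ⟨chart_of_atlas_fp h𝒴.isStack.1 h𝒵.isStack.1 hz hb,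
      chartSurj_of_atlas_fp h𝒴.isStack.1 h𝒵.isStack.1 hzs hbs⟩,
    ⟨(repWith_comp_equiv_iff (pasteComp_isEquivOver f q b)).2 ha',
      (repWith_comp_equiv_iff (pasteComp_isEquivOver f q b)).2 has'⟩, ⟨?_, ?_⟩, ⟨jh⟩, ⟨jc⟩, ⟨?_⟩⟩
  · exact (repWith_comp_equiv_iff (pasteBase_isEquivOver g z f)).2
      (repWith_locP_comp H12AlgSp.etLocal_smooth (fibGrpd_overCat A) hW'.isStack.1 ha'
        (repWith_fpFst sf hb))
  · exact (repWith_comp_equiv_iff (pasteBase_isEquivOver g z f)).2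
      (repWith_surjective_comp (fibGrpd_overCat A) hW'.isStack.1 has' (repWith_fpFst sf hbs))
  · exact (post (FibCat.overCat A) (FibCat.fpSnd g z)).mapIso
        ((Stk.restr a' _).mapIso (FibCat.fpIso sf b)) ≪≫
      (Stk.restr (BasedFunctor.comp a (FibCat.fpSnd f y)) _).mapIso jc ≪≫
      (post (FibCat.overCat A) (AlgSt.overMap c)).mapIso jh ≪≫ overMapCompIso h c

/-- Composites of morphisms with a property read on atlases. -/
lemma locQ_comp {Q : MorphismProperty Scheme.{u}} (hQ : H12AlgSp.EtLocal Q)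
    (hsl : AlgSp.IsSmoothLocalST (AlgSp.LocP (S := S) Q)) (h𝒳 : AlgSt.IsAlgStack K₀ 𝒳)
    (h𝒴 : AlgSt.IsAlgStack K₀ 𝒴) (h𝒵 : AlgSt.IsAlgStack K₀ 𝒵) {f : 𝒳 ⥤ᵇ 𝒴} {g : 𝒴 ⥤ᵇ 𝒵}
    (hf : AlgSt.LocQ (AlgSp.LocP Q) f) (hg : AlgSt.LocQ (AlgSp.LocP Q) g) :
    AlgSt.LocQ (AlgSp.LocP Q) (BasedFunctor.comp f g) := by
  obtain ⟨A, B, C, h, c, z, b, y, a, Θ, hz, hb, hy, ha, hΘ, ⟨jh⟩, ⟨jc⟩, ⟨jt⟩⟩ :=
    exists_tower h𝒳 h𝒴 h𝒵 f g
  refine locQ_of_atlas h𝒳.isStack.1 h𝒵.isStack.1 hz.1 hz.2 hΘ.1 hΘ.2 jt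
    ((locP_yon_iff hQ _).2 ?_)
  have := hQ.comp
  rw [Over.comp_left]
  exact Q.comp_mem _ _ ((locP_yon_iff hQ h).1 (prop_of_locQ hsl hf hy.1 a ha.1 jh))
    ((locP_yon_iff hQ c).1 (prop_of_locQ hsl hg hz.1 b hb.1 jc))

/-- Compatible atlases for a base change. -/
lemma exists_baseChange_atlas' (h𝒳 : AlgSt.IsAlgStack K₀ 𝒳) (h𝒴 : AlgSt.IsAlgStack K₀ 𝒴)
    (h𝒵 : AlgSt.IsAlgStack K₀ 𝒵) (f : 𝒳 ⥤ᵇ 𝒴) (g : 𝒵 ⥤ᵇ 𝒴) :
    ∃ (A B C Q : Over S) (h : A ⟶ B) (k : C ⟶ B) (p : Q ⟶ C) (q : Q ⟶ A)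
      (y : FibCat.overCat B ⥤ᵇ 𝒴) (a : FibCat.overCat A ⥤ᵇ FibCat.fp f y)
      (c₀ : FibCat.overCat C ⥤ᵇ FibCat.fp g y) (z : FibCat.overCat C ⥤ᵇ 𝒵)
      (r : FibCat.overCat Q ⥤ᵇ FibCat.fp (FibCat.fpFst g f) z),
      IsPullback p q k h ∧
      (AlgSt.RepByAlgSpWith (AlgSp.LocP @Smooth) y ∧
        AlgSt.RepByAlgSpWith AlgSp.IsSurjectiveMor y) ∧
      (AlgSt.RepByAlgSpWith (AlgSp.LocP @Smooth) a ∧
        AlgSt.RepByAlgSpWith AlgSp.IsSurjectiveMor a) ∧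
      (AlgSt.RepByAlgSpWith (AlgSp.LocP @Smooth) c₀ ∧
        AlgSt.RepByAlgSpWith AlgSp.IsSurjectiveMor c₀) ∧
      (AlgSt.RepByAlgSpWith (AlgSp.LocP @Smooth) z ∧
        AlgSt.RepByAlgSpWith AlgSp.IsSurjectiveMor z) ∧
      (AlgSt.RepByAlgSpWith (AlgSp.LocP @Smooth) r ∧
        AlgSt.RepByAlgSpWith AlgSp.IsSurjectiveMor r) ∧
      Nonempty (BasedFunctor.comp a (FibCat.fpSnd f y) ≅ AlgSt.overMap h) ∧
      Nonempty (BasedFunctor.comp c₀ (FibCat.fpSnd g y) ≅ AlgSt.overMap k) ∧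
      Nonempty (BasedFunctor.comp z g ≅ BasedFunctor.comp (AlgSt.overMap k) y) ∧
      Nonempty (BasedFunctor.comp r (FibCat.fpSnd (FibCat.fpFst g f) z) ≅ AlgSt.overMap p) ∧
      Nonempty (BasedFunctor.comp (BasedFunctor.comp r (FibCat.fpFst (FibCat.fpFst g f) z))
          (FibCat.fpSnd g f) ≅
        BasedFunctor.comp (AlgSt.overMap q) (BasedFunctor.comp a (FibCat.fpFst f y))) := by
  obtain ⟨B, y, hy, hys⟩ := h𝒴.atlas
  obtain ⟨A, a, h, ha, has, ⟨jh⟩⟩ := exists_atlas_fp h𝒳 h𝒴 f y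
  obtain ⟨C, c₀, k, hc, hcs, ⟨jk⟩⟩ := exists_atlas_fp h𝒵 h𝒴 g y
  let z := BasedFunctor.comp c₀ (FibCat.fpFst g y)
  let jz : BasedFunctor.comp z g ≅ BasedFunctor.comp (AlgSt.overMap k) y :=
    (Stk.restr c₀ 𝒴).mapIso (FibCat.fpIso g y) ≪≫ (post (FibCat.overCat C) y).mapIso jk
  have sq := IsPullback.of_hasPullback k h
  let Q := pullback k h
  have sqp := (sq.map (AlgSp.yon S)).map (sheafToPresheaf (AlgSp.J S) (Type (u + 1)))
  obtain ⟨⟨_, _⟩, htC⟩ := (isEquivOver_iff _).1 (toOverCat_isEquivOver C)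
  obtain ⟨⟨_, _⟩, htA⟩ := (isEquivOver_iff _).1 (toOverCat_isEquivOver A)
  obtain ⟨⟨_, _⟩, -⟩ := (isEquivOver_iff _).1 (toOverCat_isEquivOver B)
  let mk' : ∀ {U V : Over S} (u : U ⟶ V),
      BasedFunctor.comp (Stk.ofPshMap ((AlgSp.yon S).map u).hom) (AlgSt.toOverCat V) ≅
        BasedFunctor.comp (AlgSt.toOverCat U) (AlgSt.overMap u) := fun {U V} u =>
    mkIso (fun s => Iso.refl _)
      (fun {_ _} φ => (Category.comp_id _).trans ((Category.id_comp _).trans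
        (Over.OverMorphism.ext rfl)).symm)
      (fun s => IsHomLift.id rfl)
  let R₁ : FibCat.fp (Stk.ofPshMap ((AlgSp.yon S).map k).hom)
      (Stk.ofPshMap ((AlgSp.yon S).map h).hom) ⥤ᵇ
        FibCat.fp (AlgSt.overMap k) (AlgSt.overMap h) :=
    fpMap (F := AlgSt.overMap k) (G := AlgSt.overMap h) (AlgSt.toOverCat C) (AlgSt.toOverCat A)
      (AlgSt.toOverCat B) (mk' k) (mk' h)
  have hR₁ : FibCat.IsEquivOver R₁ := fpMap_isEquivOver _ _ _ _ _ htC htA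
  let a₁ := BasedFunctor.comp a (fpSwap f y)
  let R₂ : FibCat.fp (AlgSt.overMap k) (AlgSt.overMap h) ⥤ᵇ
      FibCat.fp (AlgSt.overMap k) (BasedFunctor.comp a₁ (FibCat.fpFst y f)) :=
    fpMap (F := AlgSt.overMap k) (G := BasedFunctor.comp a₁ (FibCat.fpFst y f))
      (BasedFunctor.id (FibCat.overCat C)) (BasedFunctor.id (FibCat.overCat A))
      (BasedFunctor.id (FibCat.overCat B))
      (Iso.refl (BasedFunctor.comp (AlgSt.overMap k) (BasedFunctor.id (FibCat.overCat B)))) jh.symm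
  have hR₂ : FibCat.IsEquivOver R₂ :=
    fpMap_isEquivOver _ _ _ _ _ (essSurjOver_id _) (essSurjOver_id _)
  obtain ⟨I, ⟨iI⟩, ⟨iI'⟩⟩ := pasteComp_isEquivOver (AlgSt.overMap k) (FibCat.fpFst y f) a₁
  let M : FibCat.fp (BasedFunctor.comp (AlgSt.overMap k) y) f ⥤ᵇ
      FibCat.fp (BasedFunctor.comp z g) f :=
    fpMap (F := BasedFunctor.comp z g) (G := f) (BasedFunctor.id (FibCat.overCat C))
      (BasedFunctor.id 𝒳) (BasedFunctor.id 𝒴) jz.symm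
      (Iso.refl (BasedFunctor.comp f (BasedFunctor.id 𝒴)))
  have hM : FibCat.IsEquivOver M :=
    fpMap_isEquivOver _ _ _ _ _ (essSurjOver_id _) (essSurjOver_id _)
  obtain ⟨N, ⟨iN⟩, ⟨iN'⟩⟩ := pasteBase_isEquivOver g f z
  let R₀ : FibCat.overCat Q ⥤ᵇ FibCat.fp (AlgSt.overMap k)
      (BasedFunctor.comp a₁ (FibCat.fpFst y f)) :=
    BasedFunctor.comp (BasedFunctor.comp (BasedFunctor.comp (AlgSt.ofOverCat Q)
      (pshComparison sqp.w)) R₁) R₂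
  have hR₀ : FibCat.IsEquivOver R₀ :=
    isEquivOver_comp (isEquivOver_comp (isEquivOver_comp (ofOverCat_isEquivOver Q)
      (pshComparison_isEquivOver sqp)) hR₁) hR₂
  let T₀ := BasedFunctor.comp R₀ I
  have hT₀ : FibCat.IsEquivOver T₀ :=
    isEquivOver_comp hR₀ ⟨_, ⟨iI'⟩, ⟨iI⟩⟩
  let T₁ := BasedFunctor.comp (BasedFunctor.comp (BasedFunctor.comp (BasedFunctor.comp T₀
      (FibCat.fpFst (FibCat.fpSnd (AlgSt.overMap k) (FibCat.fpFst y f)) a₁))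
      (pasteBase y f (AlgSt.overMap k))) M) N
  let r := BasedFunctor.comp T₁ (fpSwap z (FibCat.fpFst g f))
  have hN : FibCat.IsEquivOver N := ⟨_, ⟨iN'⟩, ⟨iN⟩⟩
  have hr : ∀ {P : MorphismProperty (AlgSp.Sp S)}, AlgSt.RepByAlgSpWith P a →
      AlgSt.RepByAlgSpWith P r := fun {P} hP =>
    (repWith_comp_equiv_iff (fpSwap_isEquivOver _ _)).2 ((repWith_comp_equiv_iff hN).2
      ((repWith_comp_equiv_iff hM).2 ((repWith_comp_equiv_iff (pasteBase_isEquivOver y f _)).2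
        ((repWith_equiv_comp_iff hT₀).1
          (repWith_fpFst _ ((repWith_comp_equiv_iff (fpSwap_isEquivOver f y)).2 hP))))))
  refine ⟨A, B, C, Q, h, k, pullback.fst k h, pullback.snd k h, y, a, c₀, z, r, sq, ⟨hy, hys⟩,
    ⟨ha, has⟩, ⟨hc, hcs⟩,
    ⟨chart_of_atlas_fp h𝒵.isStack.1 h𝒴.isStack.1 hy hc,
      chartSurj_of_atlas_fp h𝒵.isStack.1 h𝒴.isStack.1 hys hcs⟩,
    ⟨hr ha, hr has⟩, ⟨jh⟩, ⟨jk⟩, ⟨jz⟩, ⟨?_⟩, ⟨?_⟩⟩
  let m : BasedFunctor.comp (BasedFunctor.comp (AlgSt.ofOverCat Q)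
      (Stk.ofPshMap ((AlgSp.yon S).map (pullback.fst k h)).hom)) (AlgSt.toOverCat C) ≅
      AlgSt.overMap (pullback.fst k h) :=
    mkIso (fun s => Iso.refl _)
      (fun {_ _} φ => (Category.comp_id _).trans ((Category.id_comp _).trans
        (Over.OverMorphism.ext rfl)).symm)
      (fun s => IsHomLift.id rfl)
  · exact (Stk.restr (BasedFunctor.comp (BasedFunctor.comp (BasedFunctor.comp T₀
        (FibCat.fpFst (FibCat.fpSnd (AlgSt.overMap k) (FibCat.fpFst y f)) a₁))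
        (pasteBase y f (AlgSt.overMap k))) M) _).mapIso
          ((post (FibCat.fp (BasedFunctor.comp z g) f)
            (FibCat.fpFst (BasedFunctor.comp z g) f)).mapIso iN') ≪≫
      (post (FibCat.overCat Q)
        (FibCat.fpFst (AlgSt.overMap k) (BasedFunctor.comp a₁ (FibCat.fpFst y f)))).mapIso
          ((Stk.restr R₀ _).mapIso iI') ≪≫ m
  let T₀' := BasedFunctor.comp (BasedFunctor.comp (BasedFunctor.comp T₀
      (FibCat.fpFst (FibCat.fpSnd (AlgSt.overMap k) (FibCat.fpFst y f)) a₁))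
      (pasteBase y f (AlgSt.overMap k))) M
  let m' : BasedFunctor.comp (BasedFunctor.comp (AlgSt.ofOverCat Q)
      (Stk.ofPshMap ((AlgSp.yon S).map (pullback.snd k h)).hom)) (AlgSt.toOverCat A) ≅
      AlgSt.overMap (pullback.snd k h) :=
    mkIso (fun s => Iso.refl _)
      (fun {_ _} φ => (Category.comp_id _).trans ((Category.id_comp _).trans
        (Over.OverMorphism.ext rfl)).symm)
      (fun s => IsHomLift.id rfl)
  have h0 : ∀ {𝒜 : AlgSt.Cat S} (T : 𝒜 ⥤ᵇ FibCat.fp z (FibCat.fpFst g f)),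
      BasedFunctor.comp (BasedFunctor.comp (BasedFunctor.comp T (fpSwap z (FibCat.fpFst g f)))
          (FibCat.fpFst (FibCat.fpFst g f) z)) (FibCat.fpSnd g f) =
        BasedFunctor.comp (BasedFunctor.comp T (pasteBase g f z))
          (FibCat.fpSnd (BasedFunctor.comp z g) f) := fun _ => rfl
  have h1 : ∀ {𝒜 : AlgSt.Cat S}
      (T : 𝒜 ⥤ᵇ FibCat.fp (FibCat.fpSnd (AlgSt.overMap k) (FibCat.fpFst y f)) a₁),
      BasedFunctor.comp (BasedFunctor.comp (BasedFunctor.comp (BasedFunctor.comp T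
        (FibCat.fpFst (FibCat.fpSnd (AlgSt.overMap k) (FibCat.fpFst y f)) a₁))
        (pasteBase y f (AlgSt.overMap k))) M) (FibCat.fpSnd (BasedFunctor.comp z g) f) =
      BasedFunctor.comp (BasedFunctor.comp T (BasedFunctor.comp
        (FibCat.fpFst (FibCat.fpSnd (AlgSt.overMap k) (FibCat.fpFst y f)) a₁)
        (FibCat.fpSnd (AlgSt.overMap k) (FibCat.fpFst y f)))) (FibCat.fpSnd y f) := fun _ => rfl
  have h2 : ∀ {𝒜 : AlgSt.Cat S}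
      (T : 𝒜 ⥤ᵇ FibCat.fp (FibCat.fpSnd (AlgSt.overMap k) (FibCat.fpFst y f)) a₁),
      BasedFunctor.comp (BasedFunctor.comp T (BasedFunctor.comp
        (FibCat.fpSnd (FibCat.fpSnd (AlgSt.overMap k) (FibCat.fpFst y f)) a₁) a₁)) (FibCat.fpSnd y f) =
      BasedFunctor.comp (BasedFunctor.comp T
        (BasedFunctor.comp (pasteComp (AlgSt.overMap k) (FibCat.fpFst y f) a₁)
          (FibCat.fpSnd (AlgSt.overMap k) (BasedFunctor.comp a₁ (FibCat.fpFst y f)))))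
        (BasedFunctor.comp a₁ (FibCat.fpSnd y f)) := fun _ => rfl
  let T₀' := BasedFunctor.comp (BasedFunctor.comp (BasedFunctor.comp T₀
      (FibCat.fpFst (FibCat.fpSnd (AlgSt.overMap k) (FibCat.fpFst y f)) a₁))
      (pasteBase y f (AlgSt.overMap k))) M
  refine eqToIso (h0 T₁) ≪≫ ?_
  refine (Stk.restr T₀' _).mapIso
      ((post (FibCat.fp (BasedFunctor.comp z g) f)
        (FibCat.fpSnd (BasedFunctor.comp z g) f)).mapIso iN') ≪≫ ?_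
  refine eqToIso (h1 T₀) ≪≫ ?_
  refine (post (FibCat.overCat Q) (FibCat.fpSnd y f)).mapIso
      ((Stk.restr T₀ _).mapIso
        (FibCat.fpIso (FibCat.fpSnd (AlgSt.overMap k) (FibCat.fpFst y f)) a₁)) ≪≫ ?_
  refine eqToIso (h2 T₀) ≪≫ ?_
  have h4 : ∀ {𝒜 : AlgSt.Cat S} (R : 𝒜 ⥤ᵇ FibCat.fp (AlgSt.overMap k) (BasedFunctor.comp a₁ (FibCat.fpFst y f)))
      (J : FibCat.fp (AlgSt.overMap k) (BasedFunctor.comp a₁ (FibCat.fpFst y f)) ⥤ᵇ
        FibCat.fp (FibCat.fpSnd (AlgSt.overMap k) (FibCat.fpFst y f)) a₁)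
      (P : FibCat.fp (FibCat.fpSnd (AlgSt.overMap k) (FibCat.fpFst y f)) a₁ ⥤ᵇ
        FibCat.fp (AlgSt.overMap k) (BasedFunctor.comp a₁ (FibCat.fpFst y f))),
      BasedFunctor.comp (BasedFunctor.comp (BasedFunctor.comp R J) (BasedFunctor.comp P
          (FibCat.fpSnd (AlgSt.overMap k) (BasedFunctor.comp a₁ (FibCat.fpFst y f)))))
        (BasedFunctor.comp a₁ (FibCat.fpSnd y f)) =
      BasedFunctor.comp (BasedFunctor.comp R (BasedFunctor.comp J P))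
        (BasedFunctor.comp (FibCat.fpSnd (AlgSt.overMap k) (BasedFunctor.comp a₁ (FibCat.fpFst y f)))
          (BasedFunctor.comp a₁ (FibCat.fpSnd y f))) := fun _ _ _ => rfl
  refine eqToIso (h4 R₀ I _) ≪≫ ?_
  refine (post (FibCat.overCat Q) (BasedFunctor.comp
      (FibCat.fpSnd (AlgSt.overMap k) (BasedFunctor.comp a₁ (FibCat.fpFst y f)))
      (BasedFunctor.comp a₁ (FibCat.fpSnd y f)))).mapIso ((Stk.restr R₀ _).mapIso iI') ≪≫ ?_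
  have h5 : ∀ {𝒜 : AlgSt.Cat S} (R : 𝒜 ⥤ᵇ FibCat.fp (AlgSt.overMap k) (BasedFunctor.comp a₁ (FibCat.fpFst y f))),
      BasedFunctor.comp (BasedFunctor.comp R (BasedFunctor.id _))
        (BasedFunctor.comp (FibCat.fpSnd (AlgSt.overMap k) (BasedFunctor.comp a₁ (FibCat.fpFst y f)))
          (BasedFunctor.comp a₁ (FibCat.fpSnd y f))) =
      BasedFunctor.comp (BasedFunctor.comp R
          (FibCat.fpSnd (AlgSt.overMap k) (BasedFunctor.comp a₁ (FibCat.fpFst y f))))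
        (BasedFunctor.comp a (FibCat.fpFst f y)) := fun _ => rfl
  have h6 : ∀ {𝒜 : AlgSt.Cat S}
      (T : 𝒜 ⥤ᵇ FibCat.fp (Stk.ofPshMap ((AlgSp.yon S).map k).hom)
        (Stk.ofPshMap ((AlgSp.yon S).map h).hom)),
      BasedFunctor.comp (BasedFunctor.comp (BasedFunctor.comp T R₁) R₂)
          (FibCat.fpSnd (AlgSt.overMap k) (BasedFunctor.comp a₁ (FibCat.fpFst y f))) =
        BasedFunctor.comp (BasedFunctor.comp T (FibCat.fpSnd (Stk.ofPshMap ((AlgSp.yon S).map k).hom)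
          (Stk.ofPshMap ((AlgSp.yon S).map h).hom))) (AlgSt.toOverCat A) := fun _ => rfl
  have h7 : BasedFunctor.comp (BasedFunctor.comp (AlgSt.ofOverCat Q) (pshComparison sqp.w))
      (FibCat.fpSnd (Stk.ofPshMap ((AlgSp.yon S).map k).hom) (Stk.ofPshMap ((AlgSp.yon S).map h).hom)) =
      BasedFunctor.comp (AlgSt.ofOverCat Q)
        (Stk.ofPshMap ((AlgSp.yon S).map (pullback.snd k h)).hom) := rfl
  refine eqToIso (h5 R₀) ≪≫ (post (FibCat.overCat Q) (BasedFunctor.comp a (FibCat.fpFst f y))).mapIso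
    (eqToIso (h6 _) ≪≫ (post (FibCat.overCat Q) (AlgSt.toOverCat A)).mapIso (eqToIso h7) ≪≫ m')

/-- An atlas of a base change from atlases of the morphism and of the new base. -/
lemma exists_baseChange_atlas (h𝒳 : AlgSt.IsAlgStack K₀ 𝒳) (h𝒴 : AlgSt.IsAlgStack K₀ 𝒴)
    (h𝒵 : AlgSt.IsAlgStack K₀ 𝒵) (f : 𝒳 ⥤ᵇ 𝒴) (g : 𝒵 ⥤ᵇ 𝒴) :
    ∃ (A B C Q : Over S) (h : A ⟶ B) (k : C ⟶ B) (p : Q ⟶ C) (q : Q ⟶ A)
      (y : FibCat.overCat B ⥤ᵇ 𝒴) (a : FibCat.overCat A ⥤ᵇ FibCat.fp f y)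
      (c₀ : FibCat.overCat C ⥤ᵇ FibCat.fp g y) (z : FibCat.overCat C ⥤ᵇ 𝒵)
      (r : FibCat.overCat Q ⥤ᵇ FibCat.fp (FibCat.fpFst g f) z),
      IsPullback p q k h ∧
      (AlgSt.RepByAlgSpWith (AlgSp.LocP @Smooth) y ∧
        AlgSt.RepByAlgSpWith AlgSp.IsSurjectiveMor y) ∧
      (AlgSt.RepByAlgSpWith (AlgSp.LocP @Smooth) a ∧
        AlgSt.RepByAlgSpWith AlgSp.IsSurjectiveMor a) ∧
      (AlgSt.RepByAlgSpWith (AlgSp.LocP @Smooth) c₀ ∧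
        AlgSt.RepByAlgSpWith AlgSp.IsSurjectiveMor c₀) ∧
      (AlgSt.RepByAlgSpWith (AlgSp.LocP @Smooth) z ∧
        AlgSt.RepByAlgSpWith AlgSp.IsSurjectiveMor z) ∧
      (AlgSt.RepByAlgSpWith (AlgSp.LocP @Smooth) r ∧
        AlgSt.RepByAlgSpWith AlgSp.IsSurjectiveMor r) ∧
      Nonempty (BasedFunctor.comp a (FibCat.fpSnd f y) ≅ AlgSt.overMap h) ∧
      Nonempty (BasedFunctor.comp c₀ (FibCat.fpSnd g y) ≅ AlgSt.overMap k) ∧
      Nonempty (BasedFunctor.comp z g ≅ BasedFunctor.comp (AlgSt.overMap k) y) ∧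
      Nonempty (BasedFunctor.comp r (FibCat.fpSnd (FibCat.fpFst g f) z) ≅ AlgSt.overMap p) := by
  obtain ⟨A, B, C, Q, H, k, p, q, y, a, c₀, z, r, h1, h2, h3, h4, h5, h6, h7, h8, h9, h10, -⟩ :=
    exists_baseChange_atlas' h𝒳 h𝒴 h𝒵 f g
  exact ⟨A, B, C, Q, H, k, p, q, y, a, c₀, z, r, h1, h2, h3, h4, h5, h6, h7, h8, h9, h10⟩

end Groth.Agent.H14AlgSt
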