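import Groth.Agent.H14AlgSt.StackProps
import Groth.Agent.H14AlgSt.DiagDescent
import Groth.Agent.H14AlgSt.SourceDescent

/-!
# Quasi-compact and locally noetherian algebraic stacks
-/

set_option autoImplicit false
set_option backward.isDefEq.respectTransparency false
set_option backward.isDefEq.respectTransparency.types false

universe u

open CategoryTheory Opposite AlgebraicGeometry CategoryTheory.Limits

noncomputable section

namespace Groth.Agent.H14AlgSt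

open H14Fib H14Stk

variable {S : Scheme.{u}} {𝒳 𝒴 𝒵 : AlgSt.Cat S}

local notation "K₀" => Scheme.fppfPrecoverage

lemma isAlgStack_selfOver : AlgSt.IsAlgStack K₀ (FibCat.selfOver (Over S)) :=
  (isAlgStack_iff K₀ toSelf_final_isEquivOver).1 (isAlgStack_overCat (Over.mk (𝟙 S)))

lemma repWith_qc_toSelf_overCat [QuasiSeparatedSpace S] (U : Over S) [CompactSpace U.left] :
    AlgSt.RepByAlgSpWith AlgSp.IsQuasiCompactMor (FibCat.toSelf (FibCat.overCat U)) := by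
  let c : U ⟶ Over.mk (𝟙 S) := Over.homMk U.hom (Category.comp_id _)
  have hr : AlgSp.RepWith @QuasiCompact ((AlgSp.yon S).map c) :=
    (AlgSp.repWith_yon_map_iff @QuasiCompact c).2 (inferInstanceAs (QuasiCompact U.hom))
  have h : AlgSt.RepByAlgSpWith AlgSp.IsQuasiCompactMor (AlgSt.ofSpMap ((AlgSp.yon S).map c)) :=
    repWith_ofSpMap_of_representable _ _ hr.rep fun _ _ _ _ _ sq =>
      H12AlgSp.isQuasiCompactMor_of_repWith (AlgSp.IsAlgSpace.yon_obj _) (AlgSp.IsAlgSpace.yon_obj _)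
        (H12AlgSp.repWith_of_isPullback sq hr)
  have h' : AlgSt.RepByAlgSpWith AlgSp.IsQuasiCompactMor (AlgSt.overMap c) := by
    refine repWith_of_iso (mkIso (fun s => Iso.refl _)
        (fun {_ _} φ => (Category.comp_id _).trans ((Category.id_comp _).trans
          (Over.OverMorphism.ext rfl)).symm)
        (fun s => IsHomLift.id rfl) :
      BasedFunctor.comp (BasedFunctor.comp (AlgSt.ofOverCat U) (AlgSt.ofSpMap ((AlgSp.yon S).map c)))
        (AlgSt.toOverCat (Over.mk (𝟙 S))) ≅ AlgSt.overMap c) ?_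
    exact (repWith_comp_equiv_iff (toOverCat_isEquivOver _)).2
      ((repWith_equiv_comp_iff (ofOverCat_isEquivOver U)).1 h)
  rw [← comp_toSelf (AlgSt.overMap c)]
  exact (repWith_comp_equiv_iff toSelf_final_isEquivOver).2 h'

lemma isQCMor_toSelf [QuasiSeparatedSpace S] (hX : AlgSt.IsAlgStack K₀ 𝒳)
    (hc : AlgSt.IsQuasiCompact 𝒳) : AlgSt.IsQuasiCompactMor K₀ (FibCat.toSelf 𝒳) := by
  obtain ⟨U, x, hU, hx, hxs⟩ := hc
  have := hU
  have hself := isAlgStack_selfOver (S := S)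
  exact isQCMor_of_surjective (isAlgStack_overCat U) hX hself (p := FibCat.toSelf (FibCat.overCat U))
    (eqToIso (comp_toSelf x)) (surjective_of_repWith hX.isStack.1 hxs)
    (isQCMor_of_repWith (isAlgStack_overCat U) hself (repWith_qc_toSelf_overCat U))

lemma isQCMor_of_isQuasiCompact [QuasiSeparatedSpace S] (hX : AlgSt.IsAlgStack K₀ 𝒳)
    (hY : AlgSt.IsAlgStack K₀ 𝒴) (hc : AlgSt.IsQuasiCompact 𝒳)
    (hs : AlgSt.IsQuasiSeparatedOver 𝒴) (f : 𝒳 ⥤ᵇ 𝒴) : AlgSt.IsQuasiCompactMor K₀ f :=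
  isQCMor_cancel (g := FibCat.toSelf 𝒴) hX hY isAlgStack_selfOver
    (by rw [comp_toSelf]; exact isQCMor_toSelf hX hc) (repWith_mono (fun _ _ _ h => h.1) hs)

lemma cancelsLeft_qcqs : CancelsLeft (S := S) QCQS AlgSp.IsQuasiSeparatedMor :=
  fun _ _ _ hA hB hC _ _ hb h =>
    ⟨H12AlgSp.isQuasiCompactMor_of_comp hA hB hC h.1 hb, isQuasiSeparatedMor_of_comp h.2⟩

lemma qs_comp (hX : AlgSt.IsAlgStack K₀ 𝒳) (hY : AlgSt.IsAlgStack K₀ 𝒴) {f : 𝒳 ⥤ᵇ 𝒴}
    {g : 𝒴 ⥤ᵇ 𝒵} (hf : AlgSt.RepByAlgSpWith QCQS (FibCat.diag f))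
    (hg : AlgSt.RepByAlgSpWith QCQS (FibCat.diag g)) :
    AlgSt.RepByAlgSpWith QCQS (FibCat.diag (BasedFunctor.comp f g)) :=
  repWith_diag_comp (BaseStable.sourceIsoInv baseStable_qcqs) testOnSchemes_qcqs
    (fun _ _ _ _ hB hC _ _ ha hb => ⟨H12AlgSp.isQuasiCompactMor_comp hB hC ha.1 hb.1,
      isQuasiSeparatedMor_comp ha.2 hb.2⟩) hX.isStack.1 hY.isStack.1 hf hg

lemma qsOver_fp (hX : AlgSt.IsAlgStack K₀ 𝒳) (hY : AlgSt.IsAlgStack K₀ 𝒴)
    (hZ : AlgSt.IsAlgStack K₀ 𝒵) (a : 𝒳 ⥤ᵇ 𝒴) (b : 𝒵 ⥤ᵇ 𝒴)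
    (hXs : AlgSt.IsQuasiSeparatedOver 𝒳) (hYs : AlgSt.IsQuasiSeparatedOver 𝒴)
    (hZs : AlgSt.IsQuasiSeparatedOver 𝒵) : AlgSt.IsQuasiSeparatedOver (FibCat.fp a b) := by
  have hb : AlgSt.RepByAlgSpWith QCQS (FibCat.diag b) :=
    repWith_diag_cancel (g := FibCat.toSelf 𝒴) baseStable_qcqs cancelsLeft_qcqs
      hZ.isStack.1 hY.isStack.1 (rep1_diag_of_algStack hZ hY b)
      (repWith_mono (fun _ _ _ h => h.2) hYs) (by rw [comp_toSelf]; exact hZs)
  have h := qs_comp (isAlgStack_fp' hX hZ hY a b) hX (g := FibCat.toSelf 𝒳)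
    (repWith_diag_fpFst a hb) hXs
  rw [comp_toSelf] at h
  exact h

lemma noetherianSpace_image {U : Over S} (hX : AlgSt.IsAlgStack K₀ 𝒳)
    (x : FibCat.overCat U ⥤ᵇ 𝒳) (W : U.left.Opens) (hW : IsAffineOpen W)
    [IsLocallyNoetherian U.left] :
    TopologicalSpace.NoetherianSpace ↥(AlgSt.Points.ofChart x '' (W : Set U.left)) := by
  have : IsNoetherianRing Γ(U.left, W) := IsLocallyNoetherian.component_noetherian ⟨W, hW⟩
  have : TopologicalSpace.NoetherianSpace (W : Set U.left) :=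
    noetherianSpace_of_isAffineOpen W hW
  rw [Set.image_eq_range]
  exact TopologicalSpace.NoetherianSpace.range _
    ((continuous_ofChart hX x).comp continuous_subtype_val)

lemma noetherianSpace_points (hX : AlgSt.IsAlgStack K₀ 𝒳) (hc : AlgSt.IsQuasiCompact 𝒳)
    (hN : AlgSt.SmoothLocally (fun T ↦ IsLocallyNoetherian T) 𝒳) :
    TopologicalSpace.NoetherianSpace (AlgSt.Points 𝒳) := by
  obtain ⟨U, x, hU, hx, hxs⟩ := hc
  have := hU
  have : IsLocallyNoetherian U.left := hN U x hx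
  have h := noetherianSpace_image hX x ⊤ (isAffineOpen_top U.left)
  rw [TopologicalSpace.Opens.coe_top, Set.image_univ,
    Set.range_eq_univ.2 (ofChart_surjective hX.isStack.1 hxs)] at h
  exact TopologicalSpace.noetherian_univ_iff.1 h

lemma locallyNoetherian_points (hX : AlgSt.IsAlgStack K₀ 𝒳)
    (hN : AlgSt.SmoothLocally (fun T ↦ IsLocallyNoetherian T) 𝒳) (y : AlgSt.Points 𝒳) :
    ∃ O : Set (AlgSt.Points 𝒳), IsOpen O ∧ y ∈ O ∧ TopologicalSpace.NoetherianSpace O := by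
  obtain ⟨U, x, hx, hxs⟩ := hX.atlas
  have : IsLocallyNoetherian U.left := hN U x hx
  obtain ⟨t, rfl⟩ := ofChart_surjective hX.isStack.1 hxs y
  obtain ⟨W, hW⟩ := TopologicalSpace.Opens.mem_iSup.1
    ((iSup_affineOpens_eq_top U.left).ge (Set.mem_univ t))
  exact ⟨_, isOpenMap_ofChart hX.isStack.1 (repWith_locP_mono smooth_le_flat hx)
    (repWith_locP_mono smooth_le_lfp hx) _ W.1.isOpen, ⟨t, hW, rfl⟩,
    noetherianSpace_image hX x W.1 W.2⟩

lemma quasiCompact_of_isImmersion {A B : Scheme.{u}} (f : A ⟶ B) [IsImmersion f]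
    [IsLocallyNoetherian B] : QuasiCompact f := by
  rw [← f.liftCoborder_ι]
  infer_instance

lemma qc_of_isImm (hX : AlgSt.IsAlgStack K₀ 𝒳) (hY : AlgSt.IsAlgStack K₀ 𝒴) {j : 𝒳 ⥤ᵇ 𝒴}
    (hj : AlgSt.IsImm j) (hN : AlgSt.SmoothLocally (fun T ↦ IsLocallyNoetherian T) 𝒴) :
    AlgSt.RepByAlgSpWith AlgSp.IsQuasiCompactMor j := by
  obtain ⟨V, y, hy, hys⟩ := hY.atlas
  have : IsLocallyNoetherian V.left := hN V y hy
  obtain ⟨G, e, he, hσ⟩ := hj V y
  let σ := AlgSt.spMapOfOver (BasedFunctor.comp e (FibCat.fpFst y j))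
  obtain ⟨A, v, fst, sq⟩ := hσ.rep (𝟙 ((AlgSp.yon S).obj V))
  have : IsImmersion v.left := hσ.property (𝟙 _) fst v sq
  have hq : AlgSp.RepWith @QuasiCompact ((AlgSp.yon S).map v) :=
    (AlgSp.repWith_yon_map_iff _ _).2 (quasiCompact_of_isImmersion v.left)
  have : IsIso fst := sq.isIso_fst_of_isIso
  have hσq : AlgSp.IsQuasiCompactMor σ :=
    H12AlgSp.isQuasiCompactMor_of_repWith G.property (AlgSp.IsAlgSpace.yon_obj V) (by
      have hv : σ = inv fst ≫ (AlgSp.yon S).map v := by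
        rw [IsIso.eq_inv_comp, sq.w, Category.comp_id]
      rw [hv]
      exact ((AlgSp.RepWith @QuasiCompact).cancel_left_of_respectsIso (inv fst) _).2 hq)
  exact repWith_of_fppf (localFppf_of_fpqc (S10519.result S)) sourceIsoInv_qc
    (repByAlgSp1_of_with hj) (repWith_locP_mono smooth_le_flat hy)
    (repWith_locP_mono smooth_le_lfp hy) hys
    (repWith_fpFst_of_data (fun _ _ _ _ _ _ _ _ _ _ _ _ sq h =>
      H12AlgSp.isQuasiCompactMor_of_isPullback sq h) y he hσq)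

lemma noetherian_of_isImm (hX : AlgSt.IsAlgStack K₀ 𝒳) (hY : AlgSt.IsAlgStack K₀ 𝒴) {j : 𝒳 ⥤ᵇ 𝒴}
    (hj : AlgSt.IsImm j) (hN : AlgSt.SmoothLocally (fun T ↦ IsLocallyNoetherian T) 𝒴) :
    AlgSt.SmoothLocally (fun T ↦ IsLocallyNoetherian T) 𝒳 := by
  intro U x' hx'
  obtain ⟨V, y, hy, hys⟩ := hY.atlas
  have : IsLocallyNoetherian V.left := hN V y hy
  obtain ⟨A, a, h, ha, has, ⟨jh⟩⟩ := exists_atlas_fp hX hY j y
  have hl : AlgSt.LocQ (AlgSp.LocP @LocallyOfFiniteType) j :=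
    locQ_of_repWith smLocal_lft hX hY (repWith_mono (fun _ _ _ hh =>
      H12AlgSp.locP_of_repWith H12AlgSp.etLocal_lft
        (H12AlgSp.repWith_le (fun _ _ g (_ : IsImmersion g) =>
          (inferInstance : LocallyOfFiniteType g)) hh)) hj)
  have : LocallyOfFiniteType h.left :=
    (locP_yon_iff H12AlgSp.etLocal_lft h).1 (prop_of_locQ smLocal_lft hl hy a ha jh)
  have : IsLocallyNoetherian A.left := LocallyOfFiniteType.isLocallyNoetherian h.left
  obtain ⟨B, c, d, hc, hd, hcs⟩ := exists_common_chart hX.isStack.1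
    (chart_of_atlas_fp hX.isStack.1 hY.isStack.1 hy ha)
    (chartSurj_of_atlas_fp hX.isStack.1 hY.isStack.1 hys has) hx'
  have : LocallyOfFinitePresentation d.left := smooth_le_lfp _ _ _ hd
  have : IsLocallyNoetherian B.left := LocallyOfFiniteType.isLocallyNoetherian d.left
  have : Flat c.left := smooth_le_flat _ _ _ hc
  have : LocallyOfFinitePresentation c.left := smooth_le_lfp _ _ _ hc
  have := hcs
  exact H13AlgSp.isLocallyNoetherian_of_flat_lfp_surjective c.left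

lemma isQuasiCompact_source (hX : AlgSt.IsAlgStack K₀ 𝒳) (hY : AlgSt.IsAlgStack K₀ 𝒴)
    {f : 𝒳 ⥤ᵇ 𝒴} (hf : AlgSt.IsQuasiCompactMor K₀ f) (hc : AlgSt.IsQuasiCompact 𝒴) :
    AlgSt.IsQuasiCompact 𝒳 :=
  isQuasiCompact_of_surjective (isAlgStack_fp' hY hX hY (BasedFunctor.id 𝒴) f) hX
    (hf 𝒴 hY hc (BasedFunctor.id 𝒴)) (FibCat.fpSnd (BasedFunctor.id 𝒴) f)
    (points_map_bijective (fpSnd_id_isEquivOver f)).2

/-- A substack by an immersion is quasi-separated relative to the ambient stack. -/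
lemma qs_of_isImm {j : 𝒳 ⥤ᵇ 𝒴} (hj : AlgSt.IsImm j) :
    AlgSt.RepByAlgSpWith QCQS (FibCat.diag j) := by
  refine repWith_diag_of_repWith hj fun G T π hG hπ U V g fst v sq => ?_
  have : Mono π := H12AlgSp.mono_of_yon fun W a b e => by
    obtain ⟨A, p, q, sqA⟩ := hπ.rep (a ≫ π)
    have : IsImmersion p.left := hπ.property (a ≫ π) q p sqA
    have : Mono p := (Over.forget S).mono_of_mono_map (inferInstanceAs (Mono p.left))
    let l := sqA.lift a (𝟙 _) (by simp)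
    let l' := sqA.lift b (𝟙 _) (by simp [← e])
    obtain ⟨k, hk⟩ := (AlgSp.yon S).map_surjective l
    obtain ⟨k', hk'⟩ := (AlgSp.yon S).map_surjective l'
    have hkk : k = k' := by
      rw [← cancel_mono p]
      apply (AlgSp.yon S).map_injective
      rw [Functor.map_comp, Functor.map_comp, hk, hk', sqA.lift_snd, sqA.lift_snd]
    have : l = l' := by rw [← hk, ← hk', hkk]
    simpa [l, l'] using this =≫ q
  have : IsIso (pullback.diagonal π) := (pullback.isIso_diagonal_iff _).2 ‹_›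
  have : IsIso ((AlgSp.yon S).map v) := sq.isIso_snd_of_isIso
  exact ⟨H12AlgSp.isQuasiCompactMor_of_repWith (AlgSp.IsAlgSpace.yon_obj V)
      (AlgSp.IsAlgSpace.yon_obj U) (H12AlgSp.repWith_of_isIso _),
    H12AlgSp.repWith_of_isIso _⟩

end Groth.Agent.H14AlgSt
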