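import Groth.Agent.H12AlgSp.Bootstrap
import Groth.Agent.H12AlgSp.Charts

/-!
# A sheaf covered by open algebraic subspaces is an algebraic space
-/

set_option autoImplicit false
set_option backward.isDefEq.respectTransparency false
set_option backward.isDefEq.respectTransparency.types false

universe u

open CategoryTheory CategoryTheory.Limits AlgebraicGeometry Opposite Topology
open AlgSp Groth.Agent.H13AlgSp Groth.Agent.H12AlgSp

noncomputable section

namespace Groth.Agent.H14AlgSt

variable {S : Scheme.{u}} {F : AlgSp.Sp S} {I : Type u} {Fi : I → AlgSp.Sp S}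
  {a : ∀ i, Fi i ⟶ F}

lemma exists_open_pullback {G : AlgSp.Sp S} {b : G ⟶ F} (hb : RepWith @IsOpenImmersion b)
    {T : Over S} (x : (yon S).obj T ⟶ F) :
    ∃ (V : Over S) (l : (yon S).obj V ⟶ G) (v : V ⟶ T),
      IsPullback l ((yon S).map v) b x ∧ IsOpenImmersion v.left := by
  obtain ⟨V, v, l, sq⟩ := hb.rep x
  exact ⟨V, l, v, sq, hb.property x l v sq⟩

/-- The diagonal of a sheaf covered by open algebraic subspaces is representable. -/
lemma representable_diag_of_openCover (hA : ∀ i, IsAlgSpace (Fi i))
    (ho : ∀ i, RepWith @IsOpenImmersion (a i))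
    (hcov : ∀ z : Points F, ∃ i, z ∈ Set.range (Points.map (a i))) :
    Representable (Limits.diag F) := by
  refine Functor.relativelyRepresentable.diag_of_map_from_obj fun T x A y => ?_
  choose Vx lx vx sqx hvx using fun i => exists_open_pullback (ho i) x
  choose Vy ly vy sqy hvy using fun i => exists_open_pullback (ho i) y
  let P := pullback x y
  have hl := fun i => (hA i).representable_from_yon (lx i)
  choose Z zy zx sqZ using fun i => hl i (ly i)
  let j : ∀ i, (yon S).obj (Z i) ⟶ P := fun i =>
    pullback.lift (zx i ≫ (yon S).map (vx i)) ((yon S).map (zy i) ≫ (yon S).map (vy i)) (by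
      rw [Category.assoc, Category.assoc, ← (sqx i).w, ← (sqy i).w, ← Category.assoc,
        (sqZ i).w, Category.assoc])
  have hsq : ∀ i, IsPullback (zx i ≫ lx i) (j i) (a i) (pullback.fst x y ≫ x) := by
    intro i
    have := mono_of_openImmersion (ho i)
    have hmx : Mono ((yon S).map (vx i)) := (sqx i).flip.mono_fst_of_mono
    have hmy : Mono ((yon S).map (vy i)) := (sqy i).flip.mono_fst_of_mono
    refine ⟨⟨?_⟩, ⟨PullbackCone.IsLimit.mk _
      (fun s => (sqZ i).lift ((sqx i).lift s.fst (s.snd ≫ pullback.fst x y) ?_)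
        ((sqy i).lift s.fst (s.snd ≫ pullback.snd x y) ?_) ?_) ?_ ?_ ?_⟩⟩
    · simp only [j, pullback.lift_fst_assoc, Category.assoc, (sqx i).w]
    · exact (s.condition.trans (Category.assoc _ _ _).symm)
    · exact s.condition.trans ((congrArg (s.snd ≫ ·) pullback.condition).trans
        (Category.assoc _ _ _).symm)
    · rw [IsPullback.lift_fst, IsPullback.lift_fst]
    · intro s
      rw [IsPullback.lift_fst_assoc, IsPullback.lift_fst]
    · intro s
      ext
      · simp only [j, Category.assoc, pullback.lift_fst, IsPullback.lift_fst_assoc,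
          IsPullback.lift_snd]
      · simp only [j, Category.assoc, pullback.lift_snd, IsPullback.lift_snd_assoc,
          IsPullback.lift_snd]
    · intro s m hm₁ hm₂
      apply (sqZ i).hom_ext
      · rw [← cancel_mono ((yon S).map (vx i)), IsPullback.lift_fst, IsPullback.lift_snd, ← hm₂]
        simp [j]
      · rw [← cancel_mono ((yon S).map (vy i)), IsPullback.lift_snd, IsPullback.lift_snd, ← hm₂]
        simp [j]
  have hjo : ∀ i, RepWith @IsOpenImmersion (j i) := fun i => repWith_of_isPullback (hsq i) (ho i)
  obtain ⟨GT, μ, hμ⟩ := exists_iso_of_openCover Z j hjo fun T' w t => by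
    obtain ⟨i, q, hq⟩ := hcov (Points.map (pullback.fst x y ≫ x) (Points.ofPt w t))
    obtain ⟨p, -, hp⟩ := exists_point_of_isPullback (hsq i) q (Points.ofPt w t) hq
    exact ⟨i, p, hp⟩
  obtain ⟨γ, hγ⟩ := (yon S).map_surjective (μ ≫ pullback.snd x y)
  refine ⟨GT, γ, μ ≫ pullback.fst x y,
    IsPullback.of_iso_pullback ⟨?_⟩ (asIso μ) rfl hγ.symm⟩
  rw [hγ, Category.assoc, Category.assoc, pullback.condition]

lemma exists_sigma_hom {κ : Type u} (V : κ → Over S) (f : ∀ k, (yon S).obj (V k) ⟶ F) :
    ∃ p : (yon S).obj (Over.mk (Sigma.desc fun k => (V k).hom)) ⟶ F,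
      ∀ k, (yon S).map (Over.homMk (Sigma.ι (fun k => (V k).left) k) (Sigma.ι_desc _ _) :
        V k ⟶ Over.mk (Sigma.desc fun k => (V k).hom)) ≫ p = f k := by
  let U : Over S := Over.mk (Sigma.desc fun k => (V k).hom)
  let ι : ∀ k, V k ⟶ U := fun k =>
    Over.homMk (Sigma.ι (fun k => (V k).left) k) (Sigma.ι_desc _ _)
  have hι : ∀ k, IsOpenImmersion (ι k).left := fun k =>
    inferInstanceAs (IsOpenImmersion (Sigma.ι (fun k => (V k).left) k))
  have hsurj : ∀ u : U.left, ∃ k, u ∈ Set.range (ι k).left := fun u => by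
    obtain ⟨⟨k, v⟩, hv⟩ := (sigmaMk fun k => (V k).left).surjective u
    exact ⟨k, v, (sigmaMk_mk (fun k => (V k).left) k v).symm.trans hv⟩
  have hcovS : Sieve.ofArrows V ι ∈ J S U :=
    ofArrows_mem_J ι (fun k => have := hι k; inferInstance) (fun k => have := hι k; inferInstance)
      hsurj
  obtain ⟨t, ht, -⟩ := (Presieve.isSheafFor_arrows_iff _ _).1
    ((Presieve.isSheafFor_iff_generate _).2
      (((isSheaf_iff_isSheaf_of_type _ _).1 F.property) _ hcovS))
    (fun k => (J S).uliftYonedaEquiv (f k)) (fun k k' W x y e => by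
      rw [GrothendieckTopology.uliftYonedaEquiv_naturality,
        GrothendieckTopology.uliftYonedaEquiv_naturality]
      congr 1
      by_cases hkk : k = k'
      · subst hkk
        have : Mono (ι k) := (Over.forget S).mono_of_mono_map
          (have := hι k; inferInstanceAs (Mono (ι k).left))
        rw [(cancel_mono (ι k)).1 e]
      · have hW : IsEmpty W.left := ⟨fun w => hkk (by
          have h1 : (ι k).left (x.left w) = (ι k').left (y.left w) :=
            congrArg (fun g : W ⟶ U => g.left w) e
          have h2 : sigmaMk (fun k => (V k).left) ⟨k, x.left w⟩ =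
              sigmaMk (fun k => (V k).left) ⟨k', y.left w⟩ :=
            (sigmaMk_mk _ _ _).trans (h1.trans (sigmaMk_mk _ _ _).symm)
          exact congrArg Sigma.fst ((sigmaMk fun k => (V k).left).injective h2))⟩
        exact hom_ext_of_cover (fun z : PEmpty.{u+1} => (z.elim : W ⟶ W))
          (ofArrows_mem_J _ (fun z => z.elim) (fun z => z.elim) (fun w => isEmptyElim w))
          (fun z => z.elim))
  refine ⟨(J S).uliftYonedaEquiv.symm t, fun k => ?_⟩
  apply (J S).uliftYonedaEquiv.injective
  rw [← GrothendieckTopology.uliftYonedaEquiv_naturality, Equiv.apply_symm_apply]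
  exact ht k

/-- A sheaf covered by open algebraic subspaces is an algebraic space. -/
theorem isAlgSpace_of_openCover (hA : ∀ i, IsAlgSpace (Fi i))
    (ho : ∀ i, RepWith @IsOpenImmersion (a i))
    (hcov : ∀ z : Points F, ∃ i, z ∈ Set.range (Points.map (a i))) : IsAlgSpace F := by
  have hd := representable_diag_of_openCover hA ho hcov
  choose V q hqe hqs using fun i => (hA i).atlas
  obtain ⟨p, hp⟩ := exists_sigma_hom V fun i => q i ≫ a i
  let U : Over S := Over.mk (Sigma.desc fun i => (V i).hom)
  let ι : ∀ i, V i ⟶ U := fun i =>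
    Over.homMk (Sigma.ι (fun i => (V i).left) i) (Sigma.ι_desc _ _)
  have hι : ∀ i, IsOpenImmersion (ι i).left := fun i =>
    inferInstanceAs (IsOpenImmersion (Sigma.ι (fun i => (V i).left) i))
  have hsurj : ∀ u : U.left, ∃ i, u ∈ Set.range (ι i).left := fun u => by
    obtain ⟨⟨i, v⟩, hv⟩ := (sigmaMk fun i => (V i).left).surjective u
    exact ⟨i, v, (sigmaMk_mk (fun i => (V i).left) i v).symm.trans hv⟩
  have hr : Representable p := Functor.relativelyRepresentable.of_diag hd p
  have he : ∀ i, RepWith @Etale (q i ≫ a i) := fun i =>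
    repWith_comp (hqe i) (repWith_le (fun _ _ g (_ : IsOpenImmersion g) => (inferInstance : Etale g))
      (ho i))
  have key : ∀ (T : Over S) (g : (yon S).obj T ⟶ F) (X : Over S)
      (fst : (yon S).obj X ⟶ (yon S).obj U) (h : X ⟶ T),
      IsPullback fst ((yon S).map h) p g → Etale h.left ∧ Surjective h.left := by
    intro T g X fst h sq
    obtain ⟨e, rfl⟩ := (yon S).map_surjective fst
    have hW : ∀ i, Etale ((pullback.snd (ι i) e).left ≫ h.left) := fun i => by
      have big := ((IsPullback.of_hasPullback (ι i) e).map (yon S)).paste_vert sq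
      rw [hp i, ← Functor.map_comp] at big
      exact (he i).property g _ _ big
    constructor
    · have hk : ∀ i, IsOpenImmersion (pullback.snd (ι i) e).left := fun i =>
        MorphismProperty.of_isPullback
          ((IsPullback.of_hasPullback (ι i) e).map (Over.forget S)) (hι i)
      refine IsZariskiLocalAtSource.of_iSup_eq_top
        (fun i => @Scheme.Hom.opensRange _ _ (pullback.snd (ι i) e).left (hk i)) ?_ fun i => ?_
      · rw [eq_top_iff]
        rintro x -
        obtain ⟨i, v, hv⟩ := hsurj (e.left x)
        obtain ⟨w, -, hw⟩ := Scheme.Pullback.exists_preimage_pullback v x hv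
        have sq0 : IsPullback (pullback.fst (ι i) e).left (pullback.snd (ι i) e).left (ι i).left
            e.left := (IsPullback.of_hasPullback (ι i) e).map (Over.forget S)
        refine TopologicalSpace.Opens.mem_iSup.2 ⟨i, sq0.isoPullback.inv w, ?_⟩
        rw [← Scheme.Hom.comp_apply, sq0.isoPullback_inv_snd]
        exact hw
      · have := hk i
        have h1 : Etale ((Scheme.Hom.isoOpensRange (pullback.snd (ι i) e).left).hom ≫
            (Scheme.Hom.opensRange (pullback.snd (ι i) e).left).ι ≫ h.left) := by
          rw [← Category.assoc, Scheme.Hom.isoOpensRange_hom_ι]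
          exact hW i
        exact (MorphismProperty.cancel_left_of_respectsIso @Etale _ _).1 h1
    · refine ⟨fun t => ?_⟩
      obtain ⟨i, z, hz⟩ := hcov (Points.ofPt g t)
      obtain ⟨v, rfl⟩ := surjective_ofPt_of_repWith le_rfl (hqs i) z
      rw [Points.map_ofPt, ← hp i, ofPt_map] at hz
      rw [Points.ofPt_eq_map_ofScheme, Points.ofPt_eq_map_ofScheme g] at hz
      obtain ⟨w, -, hw⟩ := exists_point_of_isPullback sq _ _ hz
      refine ⟨Points.toScheme X w, ?_⟩
      rw [← Points.ofScheme_toScheme X w] at hw
      have h1 := congrArg (Points.toScheme T) hw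
      rw [Points.toScheme_ofScheme] at h1
      rw [← h1]
      conv_rhs => rw [← Category.comp_id ((yon S).map h)]
      exact (Points.toScheme_ofPt h _).symm.trans
        (congrArg (Points.toScheme T) (Points.ofPt_eq_map_ofScheme _ _))
  exact ⟨hd, U, p, ⟨hr, fun T X g fst snd sq => (key T g X fst snd sq).1⟩,
    ⟨hr, fun T X g fst snd sq => (key T g X fst snd sq).2⟩⟩

end Groth.Agent.H14AlgSt
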