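import Groth.Agent.H14AlgSt.DiagCalc
import Groth.Agent.H14AlgSt.LocQ4
import Groth.Agent.H14AlgSt.FieldPoint

/-!
# Charts of fibre products from charts of the factors
-/

set_option autoImplicit false
set_option backward.isDefEq.respectTransparency false
set_option backward.isDefEq.respectTransparency.types false

universe u

open CategoryTheory CategoryTheory.Functor Opposite AlgebraicGeometry CategoryTheory.Limits

noncomputable section

namespace Groth.Agent.H14AlgSt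

open H14Fib H14Stk

variable {S : Scheme.{u}} {𝒳 𝒴 𝒵 : AlgSt.Cat S} {A U V : Over S}

local notation "K₀" => Scheme.fppfPrecoverage

/-- Transport through the pasting of fibre products. -/
lemma exists_paste_lift {𝒜 ℬ 𝒞 𝒲 : AlgSt.Cat S} (G : ℬ ⥤ᵇ 𝒞) (q : 𝒵 ⥤ᵇ 𝒞) (a : 𝒲 ⥤ᵇ 𝒵)
    (R : 𝒜 ⥤ᵇ FibCat.fp G (BasedFunctor.comp a q)) (hR : FibCat.IsEquivOver R) :
    ∃ T : 𝒜 ⥤ᵇ FibCat.fp (FibCat.fpSnd G q) a, FibCat.IsEquivOver T ∧
      Nonempty (BasedFunctor.comp (BasedFunctor.comp T (FibCat.fpFst (FibCat.fpSnd G q) a))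
        (FibCat.fpFst G q) ≅ BasedFunctor.comp R (FibCat.fpFst G (BasedFunctor.comp a q))) ∧
      Nonempty (BasedFunctor.comp (BasedFunctor.comp T (FibCat.fpFst (FibCat.fpSnd G q) a))
        (FibCat.fpSnd G q) ≅
          BasedFunctor.comp (BasedFunctor.comp R (FibCat.fpSnd G (BasedFunctor.comp a q))) a) := by
  obtain ⟨I, ⟨iI⟩, ⟨iI'⟩⟩ := pasteComp_isEquivOver G q a
  let T := BasedFunctor.comp R I
  let k : BasedFunctor.comp T (pasteComp G q a) ≅ R := (Stk.restr R _).mapIso iI'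
  exact ⟨T, isEquivOver_comp hR ⟨_, ⟨iI'⟩, ⟨iI⟩⟩,
    ⟨(post 𝒜 (FibCat.fpFst G (BasedFunctor.comp a q))).mapIso k⟩,
    ⟨(Stk.restr T _).mapIso (FibCat.fpIso (FibCat.fpSnd G q) a) ≪≫
      (post 𝒜 a).mapIso ((post 𝒜 (FibCat.fpSnd G (BasedFunctor.comp a q))).mapIso k)⟩⟩

/-- The base change along a map of schemes of a chart. -/
lemma exists_pullback_chart (a : FibCat.overCat A ⥤ᵇ 𝒵) (q : 𝒵 ⥤ᵇ FibCat.overCat U) (τ : A ⟶ U)
    (j : BasedFunctor.comp a q ≅ AlgSt.overMap τ) (c : V ⟶ U) :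
    ∃ b : FibCat.overCat (pullback c τ) ⥤ᵇ FibCat.fp (AlgSt.overMap c) q,
      (∀ {P : MorphismProperty (AlgSp.Sp S)}, AlgSt.RepByAlgSpWith P a →
        AlgSt.RepByAlgSpWith P b) ∧
      Nonempty (BasedFunctor.comp b (FibCat.fpFst (AlgSt.overMap c) q) ≅
        AlgSt.overMap (pullback.fst c τ)) ∧
      Nonempty (BasedFunctor.comp b (FibCat.fpSnd (AlgSt.overMap c) q) ≅
        BasedFunctor.comp (AlgSt.overMap (pullback.snd c τ)) a) := by
  have sq := IsPullback.of_hasPullback c τ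
  let Q := pullback c τ
  have sqp := (sq.map (AlgSp.yon S)).map (sheafToPresheaf (AlgSp.J S) (Type (u + 1)))
  obtain ⟨⟨_, _⟩, htV⟩ := (isEquivOver_iff _).1 (toOverCat_isEquivOver V)
  obtain ⟨⟨_, _⟩, htA⟩ := (isEquivOver_iff _).1 (toOverCat_isEquivOver A)
  obtain ⟨⟨_, _⟩, -⟩ := (isEquivOver_iff _).1 (toOverCat_isEquivOver U)
  let mk' : ∀ {U V : Over S} (u : U ⟶ V),
      BasedFunctor.comp (Stk.ofPshMap ((AlgSp.yon S).map u).hom) (AlgSt.toOverCat V) ≅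
        BasedFunctor.comp (AlgSt.toOverCat U) (AlgSt.overMap u) := fun {U V} u =>
    mkIso (fun s => Iso.refl _)
      (fun {_ _} φ => (Category.comp_id _).trans ((Category.id_comp _).trans
        (Over.OverMorphism.ext rfl)).symm)
      (fun s => IsHomLift.id rfl)
  let R₁ : FibCat.fp (Stk.ofPshMap ((AlgSp.yon S).map c).hom)
      (Stk.ofPshMap ((AlgSp.yon S).map τ).hom) ⥤ᵇ
        FibCat.fp (AlgSt.overMap c) (AlgSt.overMap τ) :=
    fpMap (F := AlgSt.overMap c) (G := AlgSt.overMap τ) (AlgSt.toOverCat V) (AlgSt.toOverCat A)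
      (AlgSt.toOverCat U) (mk' c) (mk' τ)
  have hR₁ : FibCat.IsEquivOver R₁ := fpMap_isEquivOver _ _ _ _ _ htV htA
  let R₂ : FibCat.fp (AlgSt.overMap c) (AlgSt.overMap τ) ⥤ᵇ
      FibCat.fp (AlgSt.overMap c) (BasedFunctor.comp a q) :=
    fpMap (F := AlgSt.overMap c) (G := BasedFunctor.comp a q)
      (BasedFunctor.id (FibCat.overCat V)) (BasedFunctor.id (FibCat.overCat A))
      (BasedFunctor.id (FibCat.overCat U))
      (Iso.refl (BasedFunctor.comp (AlgSt.overMap c) (BasedFunctor.id (FibCat.overCat U)))) j.symm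
  have hR₂ : FibCat.IsEquivOver R₂ :=
    fpMap_isEquivOver _ _ _ _ _ (essSurjOver_id _) (essSurjOver_id _)
  let R₀ : FibCat.overCat Q ⥤ᵇ FibCat.fp (AlgSt.overMap c) (BasedFunctor.comp a q) :=
    BasedFunctor.comp (BasedFunctor.comp (BasedFunctor.comp (AlgSt.ofOverCat Q)
      (pshComparison sqp.w)) R₁) R₂
  have hR₀ : FibCat.IsEquivOver R₀ :=
    isEquivOver_comp (isEquivOver_comp (isEquivOver_comp (ofOverCat_isEquivOver Q)
      (pshComparison_isEquivOver sqp)) hR₁) hR₂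
  obtain ⟨T₀, hT₀, ⟨k₁⟩, ⟨k₂⟩⟩ := exists_paste_lift (AlgSt.overMap c) q a R₀ hR₀
  let m₁ : BasedFunctor.comp (BasedFunctor.comp (AlgSt.ofOverCat Q)
      (Stk.ofPshMap ((AlgSp.yon S).map (pullback.fst c τ)).hom)) (AlgSt.toOverCat V) ≅
      AlgSt.overMap (pullback.fst c τ) :=
    mkIso (fun s => Iso.refl _)
      (fun {_ _} φ => (Category.comp_id _).trans ((Category.id_comp _).trans
        (Over.OverMorphism.ext rfl)).symm)
      (fun s => IsHomLift.id rfl)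
  let m₂ : BasedFunctor.comp (BasedFunctor.comp (AlgSt.ofOverCat Q)
      (Stk.ofPshMap ((AlgSp.yon S).map (pullback.snd c τ)).hom)) (AlgSt.toOverCat A) ≅
      AlgSt.overMap (pullback.snd c τ) :=
    mkIso (fun s => Iso.refl _)
      (fun {_ _} φ => (Category.comp_id _).trans ((Category.id_comp _).trans
        (Over.OverMorphism.ext rfl)).symm)
      (fun s => IsHomLift.id rfl)
  exact ⟨BasedFunctor.comp T₀ (FibCat.fpFst (FibCat.fpSnd (AlgSt.overMap c) q) a),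
    fun {P} hP => (repWith_equiv_comp_iff hT₀).1 (repWith_fpFst _ hP), ⟨k₁ ≪≫ m₁⟩,
    ⟨k₂ ≪≫ (post (FibCat.overCat Q) a).mapIso m₂⟩⟩

/-- A pair of charts over a common scheme gives a chart of the fibre product over it. -/
lemma exists_pair_chart {P : MorphismProperty Scheme.{u}} (hP : H12AlgSp.EtLocal P)
    (hZ : FibCat.IsFibGrpd 𝒵.p) {q : 𝒵 ⥤ᵇ FibCat.overCat U}
    {a : FibCat.overCat A ⥤ᵇ 𝒵} (ha : AlgSt.RepByAlgSpWith (AlgSp.LocP P) a) {h : A ⟶ U}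
    (j : BasedFunctor.comp a q ≅ AlgSt.overMap h) :
    ∃ m : FibCat.overCat (pullback h h) ⥤ᵇ FibCat.fp q q,
      AlgSt.RepByAlgSpWith (AlgSp.LocP P) m ∧
      Nonempty (BasedFunctor.comp m (FibCat.fpFst q q) ≅
        BasedFunctor.comp (AlgSt.overMap (pullback.fst h h)) a) ∧
      Nonempty (BasedFunctor.comp m (FibCat.fpSnd q q) ≅
        BasedFunctor.comp (AlgSt.overMap (pullback.snd h h)) a) := by
  obtain ⟨b, hb, ⟨j₁⟩, ⟨j₂⟩⟩ := exists_pullback_chart a q h j h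
  let M : FibCat.fp (AlgSt.overMap h) q ⥤ᵇ FibCat.fp (BasedFunctor.comp a q) q :=
    fpMap (F := BasedFunctor.comp a q) (G := q) (BasedFunctor.id (FibCat.overCat A))
      (BasedFunctor.id 𝒵) (BasedFunctor.id (FibCat.overCat U)) j.symm
      (Iso.refl (BasedFunctor.comp q (BasedFunctor.id (FibCat.overCat U))))
  have hM : FibCat.IsEquivOver M :=
    fpMap_isEquivOver _ _ _ _ _ (essSurjOver_id _) (essSurjOver_id _)
  obtain ⟨N, ⟨iN⟩, ⟨iN'⟩⟩ := pasteBase_isEquivOver q q a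
  have hN : FibCat.IsEquivOver N := ⟨_, ⟨iN'⟩, ⟨iN⟩⟩
  let b' := BasedFunctor.comp (BasedFunctor.comp b M) N
  have hb' : AlgSt.RepByAlgSpWith (AlgSp.LocP P) b' :=
    (repWith_comp_equiv_iff hN).2 ((repWith_comp_equiv_iff hM).2 (hb ha))
  have hF := fp_fibGrpd (F := q) (G := q) hZ hZ (fibGrpd_overCat U)
  refine ⟨BasedFunctor.comp b' (FibCat.fpSnd a (FibCat.fpFst q q)),
    repWith_locP_comp hP (fibGrpd_overCat _) (fp_fibGrpd (fibGrpd_overCat A) hF hZ) hb'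
      (repWith_fpSnd _ ha), ⟨?_⟩, ⟨?_⟩⟩
  · exact ((Stk.restr b' _).mapIso (FibCat.fpIso a (FibCat.fpFst q q))).symm ≪≫
      (post (FibCat.overCat _) a).mapIso
        ((post (FibCat.overCat _) (FibCat.fpFst (BasedFunctor.comp a q) q)).mapIso
          ((Stk.restr (BasedFunctor.comp b M) _).mapIso iN') ≪≫ j₁)
  · exact (post (FibCat.overCat _) (FibCat.fpSnd (BasedFunctor.comp a q) q)).mapIso
      ((Stk.restr (BasedFunctor.comp b M) _).mapIso iN') ≪≫ j₂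

section BasePair

variable (g : 𝒴 ⥤ᵇ 𝒵) (f : 𝒳 ⥤ᵇ 𝒵)

/-- `(𝒴 ×_𝒵 𝒳) ×_𝒴 (𝒴 ×_𝒵 𝒳) ⟶ 𝒴 ×_𝒵 (𝒳 ×_𝒵 𝒳)`. -/
def pairBase : FibCat.fp (FibCat.fpFst g f) (FibCat.fpFst g f) ⥤ᵇ
    FibCat.fp g (BasedFunctor.comp (FibCat.fpFst f f) f) :=
  FibCat.fpLift (BasedFunctor.comp (FibCat.fpFst (FibCat.fpFst g f) (FibCat.fpFst g f))
    (FibCat.fpFst g f)) (basePair g f)
    ((Stk.restr (FibCat.fpFst (FibCat.fpFst g f) (FibCat.fpFst g f)) _).mapIso (FibCat.fpIso g f))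

lemma pairBase_isEquivOver : FibCat.IsEquivOver (pairBase g f) := by
  refine (isEquivOver_iff _).2 ⟨⟨⟨fun {p p'} m => ?_⟩, ⟨fun {p p'} m n h => ?_⟩⟩, fun z => ?_⟩
  · let φ := m.hom.fst
    have hw : g.map φ ≫ p'.obj.fst.obj.iso.hom = p.obj.fst.obj.iso.hom ≫ f.map m.hom.snd.hom.fst :=
      m.hom.w
    have h2 : f.map m.hom.snd.hom.fst ≫ p'.obj.fst.obj.iso.inv ≫ g.map p'.obj.iso.hom ≫
        p'.obj.snd.obj.iso.hom = (p.obj.fst.obj.iso.inv ≫ g.map p.obj.iso.hom ≫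
          p.obj.snd.obj.iso.hom) ≫ f.map m.hom.snd.hom.snd := m.hom.snd.hom.w
    let ψ := p.obj.iso.inv ≫ φ ≫ p'.obj.iso.hom
    have hψ : g.map ψ ≫ p'.obj.snd.obj.iso.hom =
        p.obj.snd.obj.iso.hom ≫ f.map m.hom.snd.hom.snd := by
      have hw' : f.map m.hom.snd.hom.fst ≫ p'.obj.fst.obj.iso.inv =
          p.obj.fst.obj.iso.inv ≫ g.map φ := by
        rw [Iso.comp_inv_eq, Category.assoc, Iso.eq_inv_comp, hw]
      rw [← Category.assoc, hw'] at h2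
      simp only [Category.assoc] at h2
      have h4 := (cancel_epi _).1 h2
      simp only [ψ, Functor.map_comp, Category.assoc]
      rw [h4, ← g.toFunctor.map_comp_assoc, p.obj.iso.inv_hom_id]
      erw [g.toFunctor.map_id, Category.id_comp]
    refine ⟨fpHom (fpHom φ m.hom.snd.hom.fst hw) (fpHom ψ m.hom.snd.hom.snd hψ) ?_,
      fp_hom_ext rfl (fp_hom_ext rfl rfl)⟩
    change φ ≫ p'.obj.iso.hom = p.obj.iso.hom ≫ p.obj.iso.inv ≫ φ ≫ p'.obj.iso.hom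
    rw [Iso.hom_inv_id_assoc]
  · have h1 : m.hom.fst.hom.fst = n.hom.fst.hom.fst := congrArg (fun t => t.hom.fst) h
    refine fp_hom_ext (fp_hom_ext h1 (congrArg (fun t => t.hom.snd.hom.fst) h))
      (fp_hom_ext ?_ (congrArg (fun t => t.hom.snd.hom.snd) h))
    have hm : m.hom.fst.hom.fst ≫ p'.obj.iso.hom = p.obj.iso.hom ≫ m.hom.snd.hom.fst := m.hom.w
    have hn : n.hom.fst.hom.fst ≫ p'.obj.iso.hom = p.obj.iso.hom ≫ n.hom.snd.hom.fst := n.hom.w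
    rw [← cancel_epi p.obj.iso.hom, ← hm, ← hn, h1]
  · obtain ⟨⟨v, ⟨⟨u₁, u₂, κ⟩, hκ⟩, ι⟩, hι⟩ := z
    have hu₁ : 𝒳.p.obj u₁ = 𝒴.p.obj v :=
      fp_snd_obj (F := g) (G := BasedFunctor.comp (FibCat.fpFst f f) f) ⟨⟨v, ⟨⟨u₁, u₂, κ⟩, hκ⟩, ι⟩, hι⟩
    let p₁ : (FibCat.fp g f).obj := fpObj v u₁ ι rfl hι
    have hκ' : 𝒵.p.IsHomLift (𝟙 (𝒴.p.obj v)) κ.hom := hu₁ ▸ hκ
    let p₂ : (FibCat.fp g f).obj := fpObj v u₂ (ι ≪≫ κ) rfl (homLift_id_comp hι hκ')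
    let p : (FibCat.fp (FibCat.fpFst g f) (FibCat.fpFst g f)).obj :=
      fpObj p₁ p₂ (Iso.refl v) rfl (IsHomLift.id rfl)
    refine ⟨p, fpIsoMk (Iso.refl v) (fpIsoMk (Iso.refl u₁) (Iso.refl u₂) ?_) ?_, ?_⟩
    · change f.map (𝟙 u₁) ≫ κ.hom = (ι.inv ≫ g.map (𝟙 v) ≫ ι.hom ≫ κ.hom) ≫ f.map (𝟙 u₂)
      erw [f.toFunctor.map_id, f.toFunctor.map_id, g.toFunctor.map_id, Category.id_comp,
        Category.id_comp, Category.comp_id, ι.inv_hom_id_assoc]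
    · change g.map (𝟙 v) ≫ ι.hom = ι.hom ≫ f.map (𝟙 u₁)
      erw [f.toFunctor.map_id, g.toFunctor.map_id, Category.id_comp, Category.comp_id]
    · exact (fp_isHomLift_iff _ _).2 (IsHomLift.id rfl)

/-- The map to the square of a morphism inherits properties of the new base. -/
lemma repWith_basePair {P : MorphismProperty (AlgSp.Sp S)} (hg : AlgSt.RepByAlgSpWith P g) :
    AlgSt.RepByAlgSpWith P (basePair g f) :=
  repWith_of_iso (Iso.refl _ : BasedFunctor.comp (pairBase g f)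
      (FibCat.fpSnd g (BasedFunctor.comp (FibCat.fpFst f f) f)) ≅ basePair g f)
    ((repWith_equiv_comp_iff (pairBase_isEquivOver g f)).1 (repWith_fpSnd _ hg))

end BasePair

end Groth.Agent.H14AlgSt
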