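import Groth.Prelude.Def_AlgSt4
import Groth.Agent.H14AlgSt.Descent
import Groth.Agent.H14Fib.Yoneda

/-!
# Points of algebraic stacks
-/

set_option autoImplicit false
set_option backward.isDefEq.respectTransparency false
set_option backward.isDefEq.respectTransparency.types false

universe u

open CategoryTheory CategoryTheory.Functor Opposite AlgebraicGeometry CategoryTheory.Limits

noncomputable section

namespace Groth.Agent.H14AlgSt

open H14Fib H14Stk

variable {S : Scheme.{u}}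

/-- A common field over two fields over a third one. -/
lemma exists_field_square {K K₁ K₂ : Type u} [Field K] [Field K₁] [Field K₂]
    {w : Spec (CommRingCat.of K) ⟶ S} {w₁ : Spec (CommRingCat.of K₁) ⟶ S}
    {w₂ : Spec (CommRingCat.of K₂) ⟶ S} (b₁ : Over.mk w₁ ⟶ Over.mk w)
    (b₂ : Over.mk w₂ ⟶ Over.mk w) :
    ∃ (L : Type u) (_ : Field L) (v : Spec (CommRingCat.of L) ⟶ S)
      (d₁ : Over.mk v ⟶ Over.mk w₁) (d₂ : Over.mk v ⟶ Over.mk w₂), d₁ ≫ b₁ = d₂ ≫ b₂ := by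
  obtain ⟨L, _, i₁, i₂, hi⟩ := AlgSp.FieldPt.exists_amalgamation
    (Spec.preimage b₁.left).hom (Spec.preimage b₂.left).hom
  have hL : Spec.map (CommRingCat.ofHom i₁) ≫ b₁.left =
      Spec.map (CommRingCat.ofHom i₂) ≫ b₂.left := by
    conv_lhs => rw [← Spec.map_preimage b₁.left]
    conv_rhs => rw [← Spec.map_preimage b₂.left]
    rw [← Spec.map_comp, ← Spec.map_comp]
    congr 1
    exact CommRingCat.hom_ext hi
  let v : Spec (CommRingCat.of L) ⟶ S := Spec.map (CommRingCat.ofHom i₁) ≫ w₁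
  have e₁ : b₁.left ≫ w = w₁ := Over.w b₁
  have e₂ : b₂.left ≫ w = w₂ := Over.w b₂
  have hw : Spec.map (CommRingCat.ofHom i₂) ≫ w₂ = v := by
    change _ = Spec.map (CommRingCat.ofHom i₁) ≫ w₁
    rw [← e₁, ← e₂, ← Category.assoc, ← Category.assoc, hL]
  exact ⟨L, inferInstance, v, Over.homMk (Spec.map (CommRingCat.ofHom i₁)) rfl,
    Over.homMk (Spec.map (CommRingCat.ofHom i₂)) hw, Over.OverMorphism.ext hL⟩

variable {𝒳 𝒴 𝒵 : AlgSt.Cat S}

/-- The base of a morphism of field-valued points. -/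
def baseHom {r p : AlgSt.FPt 𝒳} (a : r.obj ⟶ p.obj) : Over.mk r.str ⟶ Over.mk p.str :=
  eqToHom r.lies.symm ≫ 𝒳.p.map a ≫ eqToHom p.lies

lemma baseHom_lift {r p : AlgSt.FPt 𝒳} (a : r.obj ⟶ p.obj) : 𝒳.p.IsHomLift (baseHom a) a :=
  IsHomLift.of_fac _ _ _ r.lies p.lies (by simp [baseHom])

lemma rel_trans (h : FibCat.IsFibGrpd 𝒳.p) {p q s : AlgSt.FPt 𝒳} (h₁ : AlgSt.FPt.Rel p q)
    (h₂ : AlgSt.FPt.Rel q s) : AlgSt.FPt.Rel p s := by
  obtain ⟨r₁, a₁, b₁, -⟩ := h₁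
  obtain ⟨r₂, a₂, b₂, -⟩ := h₂
  obtain ⟨L, _, v, d₁, d₂, hd⟩ := exists_field_square (baseHom b₁) (baseHom a₂)
  have := isFibered_of_fibGrpd h
  obtain ⟨a, χ, hχ⟩ := isFibered_exists_sc 𝒳.p r₁.lies d₁
  have := baseHom_lift a₂
  have := sc_of_fibGrpd h (baseHom a₂) a₂
  have := baseHom_lift b₁
  obtain ⟨χ₂, -, -⟩ := IsStronglyCartesian.universal_property 𝒳.p (baseHom a₂) a₂ d₂
    (d₁ ≫ baseHom b₁) hd (χ ≫ b₁)
  exact ⟨⟨L, v, a, IsHomLift.domain_eq 𝒳.p d₁ χ⟩, χ ≫ a₁, χ₂ ≫ b₂, trivial⟩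

lemma rel_equivalence (h : FibCat.IsFibGrpd 𝒳.p) : _root_.Equivalence (@AlgSt.FPt.Rel S 𝒳) where
  refl p := ⟨p, 𝟙 _, 𝟙 _, trivial⟩
  symm := fun ⟨r, a, b, _⟩ => ⟨r, b, a, trivial⟩
  trans := rel_trans h

lemma rel_of_mk_eq (h : FibCat.IsFibGrpd 𝒳.p) {p q : AlgSt.FPt 𝒳}
    (e : AlgSt.Points.mk p = AlgSt.Points.mk q) : AlgSt.FPt.Rel p q :=
  (rel_equivalence h).eqvGen_iff.1 (Quot.eqvGen_exact e)

/-- A morphism of objects over points gives the same point. -/
lemma mk_eq_of_hom {p q : AlgSt.FPt 𝒳} (a : p.obj ⟶ q.obj) :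
    AlgSt.Points.mk p = AlgSt.Points.mk q := AlgSt.Points.sound ⟨p, 𝟙 _, a, trivial⟩

lemma points_map_comp (f : 𝒳 ⥤ᵇ 𝒴) (g : 𝒴 ⥤ᵇ 𝒵) (x : AlgSt.Points 𝒳) :
    AlgSt.Points.map (BasedFunctor.comp f g) x = AlgSt.Points.map g (AlgSt.Points.map f x) := by
  obtain ⟨p, rfl⟩ := AlgSt.Points.mk_surjective x
  rfl

lemma points_map_iso {f g : 𝒳 ⥤ᵇ 𝒴} (e : f ≅ g) (x : AlgSt.Points 𝒳) :
    AlgSt.Points.map f x = AlgSt.Points.map g x := by
  obtain ⟨p, rfl⟩ := AlgSt.Points.mk_surjective x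
  exact mk_eq_of_hom (e.hom.toNatTrans.app p.obj)

lemma points_map_bijective {e : 𝒳 ⥤ᵇ 𝒴} (he : FibCat.IsEquivOver e) :
    Function.Bijective (AlgSt.Points.map e) := by
  obtain ⟨e', ⟨i⟩, ⟨j⟩⟩ := he
  have id' : ∀ {𝒲 : AlgSt.Cat S} (x : AlgSt.Points 𝒲),
      AlgSt.Points.map (BasedFunctor.id 𝒲) x = x := fun x => by
    obtain ⟨p, rfl⟩ := AlgSt.Points.mk_surjective x
    rfl
  exact Function.bijective_iff_has_inverse.2 ⟨AlgSt.Points.map e',
    fun x => by rw [← points_map_comp, points_map_iso i, id'],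
    fun y => by rw [← points_map_comp, points_map_iso j, id']⟩

section Chart

variable {U V : Over S}

lemma ofChart_eq_map (x : FibCat.overCat U ⥤ᵇ 𝒳) (t : U.left) :
    AlgSt.Points.ofChart x t =
      AlgSt.Points.map x (AlgSt.Points.ofChart (BasedFunctor.id (FibCat.overCat U)) t) := rfl

lemma ofChart_comp (x : FibCat.overCat U ⥤ᵇ 𝒳) (f : 𝒳 ⥤ᵇ 𝒴) (t : U.left) :
    AlgSt.Points.ofChart (BasedFunctor.comp x f) t =
      AlgSt.Points.map f (AlgSt.Points.ofChart x t) := rfl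

lemma ofChart_iso {x y : FibCat.overCat U ⥤ᵇ 𝒳} (e : x ≅ y) (t : U.left) :
    AlgSt.Points.ofChart x t = AlgSt.Points.ofChart y t :=
  points_map_iso e (AlgSt.Points.ofChart (BasedFunctor.id (FibCat.overCat U)) t)

/-- The morphism to `U` underlying a field-valued point of the slice. -/
def chartHom (p : AlgSt.FPt (FibCat.overCat U)) : Over.mk p.str ⟶ U :=
  eqToHom p.lies.symm ≫ p.obj.hom

lemma chartHom_comp {r p : AlgSt.FPt (FibCat.overCat U)} (a : r.obj ⟶ p.obj) :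
    baseHom a ≫ chartHom p = chartHom r := by
  have h : a.left ≫ p.obj.hom = r.obj.hom := Over.w a
  change (eqToHom r.lies.symm ≫ a.left ≫ eqToHom p.lies) ≫ eqToHom p.lies.symm ≫ p.obj.hom =
    eqToHom r.lies.symm ≫ r.obj.hom
  erw [Category.assoc, Category.assoc, eqToHom_trans_assoc, eqToHom_refl, Category.id_comp, h]

/-- The point of `U` underlying a field-valued point of the slice. -/
def chartPt (p : AlgSt.FPt (FibCat.overCat U)) : U.left :=
  (chartHom p).left (IsLocalRing.closedPoint p.K)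

lemma chartPt_rel {p q : AlgSt.FPt (FibCat.overCat U)} (h : AlgSt.FPt.Rel p q) :
    chartPt p = chartPt q := by
  have key : ∀ {r p : AlgSt.FPt (FibCat.overCat U)}, (r.obj ⟶ p.obj) → chartPt r = chartPt p := by
    intro r p a
    change (chartHom r).left _ = (chartHom p).left _
    rw [← chartHom_comp a, Over.comp_left, Scheme.Hom.comp_apply]
    exact congrArg _ (Subsingleton.elim (α := ↥(Spec (CommRingCat.of p.K))) _ _)
  obtain ⟨r, a, b, -⟩ := h
  rw [← key a, key b]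

/-- The point of `U` underlying a point of the slice. -/
def chartPoint : AlgSt.Points (FibCat.overCat U) → U.left :=
  Quot.lift chartPt fun _ _ h => chartPt_rel h

lemma chartPoint_ofChart (t : U.left) :
    chartPoint (AlgSt.Points.ofChart (BasedFunctor.id (FibCat.overCat U)) t) = t := by
  change chartPt _ = t
  unfold chartPt chartHom
  simp only [eqToHom_refl]
  change (U.left.fromSpecResidueField t) (IsLocalRing.closedPoint _) = t
  exact Scheme.fromSpecResidueField_apply _ _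

lemma exists_residue_factor {K : Type u} [Field K] {X : Scheme.{u}}
    (m : Spec (CommRingCat.of K) ⟶ X) :
    ∃ m' : Spec (CommRingCat.of K) ⟶ Spec (X.residueField (m (IsLocalRing.closedPoint K))),
      m' ≫ X.fromSpecResidueField (m (IsLocalRing.closedPoint K)) = m :=
  ⟨Spec.map (X.descResidueField (K := K) (Scheme.stalkClosedPointTo m)),
    Scheme.descResidueField_stalkClosedPointTo_fromSpecResidueField K X m⟩

lemma ofChart_chartPoint (q : AlgSt.Points (FibCat.overCat U)) :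
    AlgSt.Points.ofChart (BasedFunctor.id (FibCat.overCat U)) (chartPoint q) = q := by
  obtain ⟨p, rfl⟩ := AlgSt.Points.mk_surjective q
  let h := chartHom p
  let m : Spec (CommRingCat.of p.K) ⟶ U.left := h.left
  obtain ⟨m', key⟩ := exists_residue_factor m
  let r : AlgSt.FPt (FibCat.overCat U) := ⟨p.K, p.str, Over.mk h, rfl⟩
  let d : Over.mk p.str ⟶
      Over.mk (U.left.fromSpecResidueField (chartPt p) ≫ U.hom) :=
    Over.homMk m' (((Category.assoc _ _ _).symm.trans (congrArg (· ≫ U.hom) key)).trans (Over.w h))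
  exact AlgSt.Points.sound ⟨r, Over.homMk d (Over.OverMorphism.ext key),
    Over.homMk (eqToHom p.lies.symm) rfl, trivial⟩

lemma chartPoint_injective : Function.Injective (chartPoint (U := U)) :=
  Function.LeftInverse.injective ofChart_chartPoint

lemma map_eq_ofChart (x : FibCat.overCat U ⥤ᵇ 𝒳) (q : AlgSt.Points (FibCat.overCat U)) :
    AlgSt.Points.map x q = AlgSt.Points.ofChart x (chartPoint q) := by
  rw [ofChart_eq_map, ofChart_chartPoint]

lemma chartPoint_overMap (c : V ⟶ U) (q : AlgSt.Points (FibCat.overCat V)) :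
    chartPoint (AlgSt.Points.map (AlgSt.overMap c) q) = c.left (chartPoint q) := by
  obtain ⟨p, rfl⟩ := AlgSt.Points.mk_surjective q
  change chartPt (p.map (AlgSt.overMap c)) = c.left (chartPt p)
  have h : chartHom (p.map (AlgSt.overMap c)) = chartHom p ≫ c := (Category.assoc _ _ _).symm
  unfold chartPt
  rw [h, Over.comp_left, Scheme.Hom.comp_apply]
  rfl

/-- A functor between slices is a pullback functor. -/
lemma exists_overMap_iso (F : FibCat.overCat V ⥤ᵇ FibCat.overCat U) :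
    ∃ φ : V ⟶ U, Nonempty (F ≅ AlgSt.overMap φ) := by
  have h : (F.obj (topObj V)).left = V := F.w_obj (topObj V)
  have hg := (fibSetoid_of_fibSet (overCat_fibSet U)).1
  let e : F.obj (topObj V) ≅ (AlgSt.overMap (eqToHom h.symm ≫ (F.obj (topObj V)).hom)).obj (topObj V) :=
    Over.isoMk (eqToIso h) (by
      change eqToHom h ≫ 𝟙 V ≫ eqToHom h.symm ≫ (F.obj (topObj V)).hom = _
      simp)
  exact ⟨_, ⟨isoOfTop (topSC_of_fibGrpd hg F) (topSC_of_fibGrpd hg _) e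
    (IsHomLift.of_fac' _ _ _ h rfl (by simp [e]; rfl))⟩⟩

end Chart

/-- The point of a morphism of a fibre product. -/
lemma exists_points_fp (h𝒳 : FibCat.IsFibGrpd 𝒳.p) (h𝒴 : FibCat.IsFibGrpd 𝒴.p)
    (h𝒵 : FibCat.IsFibGrpd 𝒵.p) {F : 𝒳 ⥤ᵇ 𝒵} {G : 𝒴 ⥤ᵇ 𝒵} {x : AlgSt.Points 𝒳}
    {y : AlgSt.Points 𝒴} (e : AlgSt.Points.map F x = AlgSt.Points.map G y) :
    ∃ w : AlgSt.Points (FibCat.fp F G), AlgSt.Points.map (FibCat.fpFst F G) w = x ∧
      AlgSt.Points.map (FibCat.fpSnd F G) w = y := by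
  obtain ⟨p, rfl⟩ := AlgSt.Points.mk_surjective x
  obtain ⟨q, rfl⟩ := AlgSt.Points.mk_surjective y
  obtain ⟨r, a, b, -⟩ := rel_of_mk_eq h𝒵 e
  let U := Over.mk r.str
  have key : ∀ {𝒲 : AlgSt.Cat S} (hW : FibCat.IsFibGrpd 𝒲.p) (H : 𝒲 ⥤ᵇ 𝒵) (p : AlgSt.FPt 𝒲)
      (a : r.obj ⟶ (p.map H).obj), ∃ (o : 𝒲.obj) (_ : 𝒲.p.obj o = U) (_ : o ⟶ p.obj)
        (i : r.obj ≅ H.obj o), 𝒵.p.IsHomLift (𝟙 U) i.hom := by
    intro 𝒲 hW H p a
    let d : U ⟶ Over.mk p.str := baseHom (p := p.map H) a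
    have := isFibered_of_fibGrpd hW
    obtain ⟨o, χ, hχ⟩ := isFibered_exists_sc 𝒲.p p.lies d
    have : 𝒵.p.IsHomLift d (H.map χ) := BasedFunctor.preserves_isHomLift H d χ
    have := sc_of_fibGrpd h𝒵 d (H.map χ)
    have : 𝒵.p.IsHomLift d a := baseHom_lift (p := p.map H) a
    obtain ⟨u, ⟨hu, -⟩, -⟩ := IsStronglyCartesian.universal_property 𝒵.p d (H.map χ) (𝟙 U) d
      (Category.id_comp d).symm a
    have := hu
    have := isIso_of_fibGrpd h𝒵 (𝟙 U) u
    exact ⟨o, IsHomLift.domain_eq 𝒲.p d χ, χ, asIso u, hu⟩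
  obtain ⟨o, ho, χ, i, hi⟩ := key h𝒳 F p a
  obtain ⟨o', ho', χ', i', hi'⟩ := key h𝒴 G q b
  let w : (FibCat.fp F G).obj := fpObj o o' (i.symm ≪≫ i') ho
    (homLift_id_comp (@IsHomLift.lift_id_inv _ _ _ _ 𝒵.p U _ _ i hi) hi')
  refine ⟨AlgSt.Points.mk ⟨r.K, r.str, w, ho⟩, ?_, ?_⟩
  · exact mk_eq_of_hom (p := (⟨r.K, r.str, o, ho⟩ : AlgSt.FPt 𝒳)) χ
  · exact mk_eq_of_hom (p := (⟨r.K, r.str, o', ho'⟩ : AlgSt.FPt 𝒴)) χ'

/-- A field-valued point of a sheaf as a field-valued point of its category. -/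
def ofFieldPt {F : AlgSp.Sp S} (q : AlgSp.FieldPt F) : AlgSt.FPt (AlgSt.ofSp F) :=
  ⟨q.K, q.str, (⟨Over.mk q.str, q.val⟩ : Stk.EltObj F.obj), rfl⟩

/-- A morphism representable by spaces and surjective is surjective on points. -/
lemma surjective_of_repWith (h𝒴 : FibCat.IsFibGrpd 𝒴.p) {f : 𝒳 ⥤ᵇ 𝒴}
    (hf : AlgSt.RepByAlgSpWith AlgSp.IsSurjectiveMor f) :
    Function.Surjective (AlgSt.Points.map f) := by
  intro y
  obtain ⟨p, rfl⟩ := AlgSt.Points.mk_surjective y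
  let T := Over.mk p.str
  have := isFibered_of_fibGrpd h𝒴
  obtain ⟨ξ, i, -, -⟩ := exists_fromOver (U := T) p.lies
  obtain ⟨G, e, he, hσ⟩ := hf T ξ
  obtain ⟨q, -⟩ := hσ (AlgSp.Points.ofScheme T (IsLocalRing.closedPoint p.K))
  obtain ⟨q, rfl⟩ := AlgSp.Points.mk_surjective q
  let w := AlgSt.Points.map e (AlgSt.Points.mk (ofFieldPt q))
  refine ⟨AlgSt.Points.map (FibCat.fpSnd ξ f) w, ?_⟩
  rw [← points_map_comp, ← points_map_iso (FibCat.fpIso ξ f), points_map_comp, map_eq_ofChart]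
  let r : AlgSt.FPt (FibCat.overCat T) := ⟨p.K, p.str, topObj T, rfl⟩
  have : chartPoint (AlgSt.Points.map (FibCat.fpFst ξ f) w) = chartPt r :=
    @Subsingleton.elim _ (inferInstanceAs (Subsingleton ↥(Spec (CommRingCat.of p.K)))) _ _
  rw [this]
  change AlgSt.Points.ofChart ξ (chartPoint (AlgSt.Points.mk r)) = _
  rw [← map_eq_ofChart]
  exact mk_eq_of_hom (p := r.map ξ) i.hom

variable {U V : Over S}

/-- An atlas of the fibre product of two charts, one of them flat and locally finitely presented. -/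
lemma exists_fp_atlas (h𝒳 : FibCat.IsFibGrpd 𝒳.p) {x : FibCat.overCat U ⥤ᵇ 𝒳}
    (h1 : AlgSt.RepByAlgSpWith (AlgSp.LocP @Flat) x)
    (h2 : AlgSt.RepByAlgSpWith (AlgSp.LocP @LocallyOfFinitePresentation) x)
    (z : FibCat.overCat V ⥤ᵇ 𝒳) :
    ∃ (A : Over S) (c : A ⟶ V) (u : A ⟶ U), Flat c.left ∧ LocallyOfFinitePresentation c.left ∧
      (∀ s, AlgSt.Points.ofChart z (c.left s) = AlgSt.Points.ofChart x (u.left s)) ∧
      ∀ t a, AlgSt.Points.ofChart z t = AlgSt.Points.ofChart x a →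
        ∃ s, c.left s = t ∧ u.left s = a := by
  obtain ⟨F, e, he, hσf⟩ := h1 V z
  let q := BasedFunctor.comp e (FibCat.fpFst z x)
  let σ := AlgSt.spMapOfOver q
  obtain ⟨k⟩ := spMapOfOver_eq q
  have hσl : AlgSp.LocP @LocallyOfFinitePresentation σ :=
    prop_of_repData (sourceIsoInv_locP _) (h2 V z) he k
  obtain ⟨A, p, hpe, hps⟩ := F.property.atlas
  obtain ⟨c, hc⟩ := (AlgSp.yon S).map_surjective (p ≫ σ)
  have key : ∀ {Q : MorphismProperty Scheme.{u}}, H12AlgSp.EtLocal Q → AlgSp.LocP Q σ → Q c.left :=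
    fun {Q} hQ h => AlgSp.locP_yon_map (hc ▸ H12AlgSp.locP_comp hQ (AlgSp.IsAlgSpace.yon_obj A)
      F.property (AlgSp.IsAlgSpace.yon_obj V) (H12AlgSp.locP_mono hQ.etale_le
        (H12AlgSp.locP_of_repWith H12AlgSp.etLocal_etale hpe)) h)
  let a := BasedFunctor.comp (BasedFunctor.comp (AlgSt.ofOverCat A) (AlgSt.ofSpMap p)) e
  have hU := (isFibSetoid_of_rep (repByAlgSp_overCat U)).1
  have hV := (isFibSetoid_of_rep (repByAlgSp_overCat V)).1
  have hF := fp_fibGrpd (F := z) (G := x) hV hU h𝒳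
  have ha := surjective_of_repWith hF ((repWith_comp_equiv_iff he).2
    ((repWith_equiv_comp_iff (ofOverCat_isEquivOver A)).1 (repWith_surjective_of_repWith p hps)))
  let m : BasedFunctor.comp (BasedFunctor.comp (AlgSt.ofOverCat A) (AlgSt.ofSpMap (p ≫ σ)))
      (AlgSt.toOverCat V) ≅ AlgSt.overMap c := by
    rw [← hc]
    exact mkIso (fun s => Iso.refl _)
      (fun {_ _} φ => (Category.comp_id _).trans ((Category.id_comp _).trans
        (Over.OverMorphism.ext rfl)).symm)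
      (fun s => IsHomLift.id rfl)
  let i₁ : BasedFunctor.comp a (FibCat.fpFst z x) ≅ AlgSt.overMap c :=
    (Stk.restr (BasedFunctor.comp (AlgSt.ofOverCat A) (AlgSt.ofSpMap p)) _).mapIso k ≪≫ m
  obtain ⟨u, ⟨i₂⟩⟩ := exists_overMap_iso (BasedFunctor.comp a (FibCat.fpSnd z x))
  have H : ∀ s, AlgSt.Points.ofChart z (c.left (chartPoint s)) =
      AlgSt.Points.map z (AlgSt.Points.map (FibCat.fpFst z x) (AlgSt.Points.map a s)) := fun s => by
    rw [← chartPoint_overMap, ← map_eq_ofChart, ← points_map_iso i₁, points_map_comp]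
  have H' : ∀ s, AlgSt.Points.ofChart x (u.left (chartPoint s)) =
      AlgSt.Points.map x (AlgSt.Points.map (FibCat.fpSnd z x) (AlgSt.Points.map a s)) := fun s => by
    rw [← chartPoint_overMap, ← map_eq_ofChart, ← points_map_iso i₂, points_map_comp]
  refine ⟨A, c, u, key H12AlgSp.etLocal_flat hσf, key H12AlgSp.etLocal_lfp hσl, fun s => ?_,
    fun t b h => ?_⟩
  · rw [← chartPoint_ofChart s, H, H', ← points_map_comp (FibCat.fpFst z x) z,
      ← points_map_comp (FibCat.fpSnd z x) x]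
    exact points_map_iso (FibCat.fpIso z x) _
  · rw [ofChart_eq_map z, ofChart_eq_map x] at h
    obtain ⟨w, hw1, hw2⟩ := exists_points_fp hV hU h𝒳 h
    obtain ⟨s, rfl⟩ := ha w
    refine ⟨chartPoint s, ?_, ?_⟩
    · rw [← chartPoint_overMap, ← points_map_iso i₁, points_map_comp, hw1, chartPoint_ofChart]
    · rw [← chartPoint_overMap, ← points_map_iso i₂, points_map_comp, hw2, chartPoint_ofChart]

lemma ofChart_surjective (h𝒳 : FibCat.IsFibGrpd 𝒳.p) {x : FibCat.overCat U ⥤ᵇ 𝒳}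
    (hx : AlgSt.RepByAlgSpWith AlgSp.IsSurjectiveMor x) :
    Function.Surjective (AlgSt.Points.ofChart x) := fun y => by
  obtain ⟨q, rfl⟩ := surjective_of_repWith h𝒳 hx y
  exact ⟨chartPoint q, (map_eq_ofChart x q).symm⟩

/-- Flat and locally finitely presented charts are open on points. -/
lemma isOpenMap_ofChart (h𝒳 : FibCat.IsFibGrpd 𝒳.p) {x : FibCat.overCat U ⥤ᵇ 𝒳}
    (h1 : AlgSt.RepByAlgSpWith (AlgSp.LocP @Flat) x)
    (h2 : AlgSt.RepByAlgSpWith (AlgSp.LocP @LocallyOfFinitePresentation) x) :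
    IsOpenMap (AlgSt.Points.ofChart x) := by
  intro O hO V z _
  obtain ⟨A, c, u, hc1, hc2, h3, h4⟩ := exists_fp_atlas h𝒳 h1 h2 z
  have : AlgSt.Points.ofChart z ⁻¹' (AlgSt.Points.ofChart x '' O) = c.left '' (u.left ⁻¹' O) := by
    ext t
    constructor
    · rintro ⟨a, ha, e⟩
      obtain ⟨s, rfl, rfl⟩ := h4 t a e.symm
      exact ⟨s, ha, rfl⟩
    · rintro ⟨s, hs, rfl⟩
      exact ⟨u.left s, hs, (h3 s).symm⟩
  rw [this]
  exact c.left.isOpenMap _ (hO.preimage u.left.continuous)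

/-- All charts of an algebraic stack are continuous on points. -/
lemma continuous_ofChart (h : AlgSt.IsAlgStack Scheme.fppfPrecoverage 𝒳)
    (z : FibCat.overCat V ⥤ᵇ 𝒳) : Continuous (AlgSt.Points.ofChart z) := by
  refine ⟨fun W hW => ?_⟩
  obtain ⟨U, x, hx, hxs⟩ := h.atlas
  have hWx : IsOpen (AlgSt.Points.ofChart x ⁻¹' W) := hW U x hx
  obtain ⟨A, c, u, hc1, hc2, h3, h4⟩ := exists_fp_atlas h.isStack.1
    (repWith_mono (fun _ _ _ h => H12AlgSp.locP_mono
      (fun _ _ g (_ : Smooth g) => (inferInstance : Flat g)) h) hx)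
    (repWith_mono (fun _ _ _ h => H12AlgSp.locP_mono
      (fun _ _ g (_ : Smooth g) => (inferInstance : LocallyOfFinitePresentation g)) h) hx) z
  have hs : Function.Surjective c.left := fun t => by
    obtain ⟨a, ha⟩ := ofChart_surjective h.isStack.1 hxs (AlgSt.Points.ofChart z t)
    obtain ⟨s, hs, -⟩ := h4 t a ha.symm
    exact ⟨s, hs⟩
  rw [← Set.image_preimage_eq (AlgSt.Points.ofChart z ⁻¹' W) hs]
  refine c.left.isOpenMap _ ?_
  have : c.left ⁻¹' (AlgSt.Points.ofChart z ⁻¹' W) =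
      u.left ⁻¹' (AlgSt.Points.ofChart x ⁻¹' W) := by
    ext s
    simp only [Set.mem_preimage, h3 s]
  rw [this]
  exact hWx.preimage u.left.continuous

lemma continuous_points_map (h𝒴 : AlgSt.IsAlgStack Scheme.fppfPrecoverage 𝒴) (f : 𝒳 ⥤ᵇ 𝒴) :
    Continuous (AlgSt.Points.map f) :=
  ⟨fun _ hW _ z _ => (continuous_ofChart h𝒴 (BasedFunctor.comp z f)).isOpen_preimage _ hW⟩

/-- A scheme atlas of a space, composed. -/
lemma exists_chart_of_space {W : AlgSp.Space S} (w : AlgSt.ofSp W.obj ⥤ᵇ 𝒳) :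
    ∃ (U : Over S) (p : FibCat.overCat U ⥤ᵇ AlgSt.ofSp W.obj),
      Function.Surjective (AlgSt.Points.ofChart p) ∧
      AlgSt.RepByAlgSpWith AlgSp.IsSurjectiveMor p ∧
      ∀ {Q : MorphismProperty Scheme.{u}}, H12AlgSp.EtLocal Q →
        AlgSt.RepByAlgSpWith (AlgSp.LocP Q) w →
          AlgSt.RepByAlgSpWith (AlgSp.LocP Q) (BasedFunctor.comp p w) := by
  obtain ⟨U, p, hp1, hp2⟩ := (hasAtlas_ofSp W).2
  have hU' := (isFibSetoid_of_rep (repByAlgSp_overCat U)).1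
  have hW := (isFibSetoid_of_rep (repByAlgSp_ofSp W)).1
  exact ⟨U, p, ofChart_surjective hW hp2, hp2, fun {Q} hQ hw => repWith_locP_comp hQ hU' hW
    (repWith_mono (fun _ _ _ h => H12AlgSp.locP_mono hQ.etale_le
      (H12AlgSp.locP_etale_of_isEtaleMor h)) hp1) hw⟩

lemma isOpenMap_map_of_space (h𝒳 : FibCat.IsFibGrpd 𝒳.p) {W : AlgSp.Space S}
    {w : AlgSt.ofSp W.obj ⥤ᵇ 𝒳} (h1 : AlgSt.RepByAlgSpWith (AlgSp.LocP @Flat) w)
    (h2 : AlgSt.RepByAlgSpWith (AlgSp.LocP @LocallyOfFinitePresentation) w) :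
    IsOpenMap (AlgSt.Points.map w) := by
  intro O hO
  obtain ⟨U, p, hp, -, hc⟩ := exists_chart_of_space w
  have hpO : IsOpen (AlgSt.Points.ofChart p ⁻¹' O) :=
    (continuous_ofChart (isDM_of_repByAlgSp (repByAlgSp_ofSp W)).1 p).isOpen_preimage O hO
  have := isOpenMap_ofChart h𝒳 (hc H12AlgSp.etLocal_flat h1) (hc H12AlgSp.etLocal_lfp h2) _ hpO
  have e : AlgSt.Points.map w '' O =
      AlgSt.Points.ofChart (BasedFunctor.comp p w) '' (AlgSt.Points.ofChart p ⁻¹' O) := by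
    conv_lhs => rw [← Set.image_preimage_eq O hp, Set.image_image]
    rfl
  rwa [e]

/-- A field-valued point of the category of a sheaf as a field-valued point of the sheaf. -/
def toFieldPt {F : AlgSp.Sp S} (q : AlgSt.FPt (AlgSt.ofSp F)) : AlgSp.FieldPt F :=
  ⟨q.K, q.str, 
    F.obj.map (eqToHom (q.lies : q.obj.base = Over.mk q.str).symm).op q.obj.sec⟩

lemma chartPoint_ofSpMap {F : AlgSp.Sp S} (σ : F ⟶ (AlgSp.yon S).obj U)
    (q : AlgSt.FPt (AlgSt.ofSp F)) :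
    chartPoint (AlgSt.Points.map (BasedFunctor.comp (AlgSt.ofSpMap σ) (AlgSt.toOverCat U))
        (AlgSt.Points.mk q)) =
      AlgSp.Points.toScheme U (AlgSp.Points.map σ (AlgSp.Points.mk (toFieldPt q))) := by
  change (chartHom (q.map (BasedFunctor.comp (AlgSt.ofSpMap σ) (AlgSt.toOverCat U)))).left _ =
    ((toFieldPt q).map σ).val.down.left _
  have h0 := NatTrans.naturality_apply σ.hom
    (eqToHom (q.lies : q.obj.base = Over.mk q.str).symm).op (show F.obj.obj (op q.obj.base) from q.obj.sec)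
  have h : ((toFieldPt q).map σ).val.down =
      chartHom (q.map (BasedFunctor.comp (AlgSt.ofSpMap σ) (AlgSt.toOverCat U))) :=
    congrArg ULift.down h0
  rw [h]
  rfl

/-- Surjectivity on points gives surjectivity after base change to schemes. -/
lemma repWith_surjective_of_points (h𝒳 : FibCat.IsFibGrpd 𝒳.p) (h𝒴 : FibCat.IsFibGrpd 𝒴.p)
    {f : 𝒳 ⥤ᵇ 𝒴} (hf : AlgSt.RepByAlgSp1 f) (h : Function.Surjective (AlgSt.Points.map f)) :
    AlgSt.RepByAlgSpWith AlgSp.IsSurjectiveMor f := by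
  intro U y
  obtain ⟨G, e, he⟩ := hf U y
  refine ⟨G, e, he, fun x => ?_⟩
  obtain ⟨t, rfl⟩ := (AlgSp.Points.schemeEquiv U).surjective x
  let tt := AlgSt.Points.ofChart (BasedFunctor.id (FibCat.overCat U)) t
  obtain ⟨x₀, hx₀⟩ := h (AlgSt.Points.map y tt)
  obtain ⟨w, hw, -⟩ := exists_points_fp (isFibSetoid_of_rep (repByAlgSp_overCat U)).1 h𝒳 h𝒴
    (F := y) (G := f) hx₀.symm
  obtain ⟨s, rfl⟩ := (points_map_bijective he).2 w
  obtain ⟨q, rfl⟩ := AlgSt.Points.mk_surjective s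
  obtain ⟨k⟩ := spMapOfOver_eq (BasedFunctor.comp e (FibCat.fpFst y f))
  refine ⟨AlgSp.Points.mk (toFieldPt q), (AlgSp.Points.schemeEquiv U).symm.injective ?_⟩
  rw [Equiv.symm_apply_apply]
  change AlgSp.Points.toScheme U (AlgSp.Points.map
    (AlgSt.spMapOfOver (BasedFunctor.comp e (FibCat.fpFst y f))) (AlgSp.Points.mk (toFieldPt q))) = t
  rw [← chartPoint_ofSpMap, ← points_map_iso k, points_map_comp, hw]
  exact chartPoint_ofChart t

end Groth.Agent.H14AlgSt
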