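import Groth.Agent.H14AlgSt.Diag2
import Groth.Agent.H14AlgSt.DiagCalc
import Groth.Agent.H14AlgSt.Descent
import Groth.Agent.H14AlgSt.DiagProps

/-!
# The functor induced on 2-fibre products by a pair of functors, as a composite of base changes
-/

set_option autoImplicit false
set_option backward.isDefEq.respectTransparency false
set_option backward.isDefEq.respectTransparency.types false

universe u

open CategoryTheory Opposite AlgebraicGeometry

namespace Groth.Agent.H14AlgSt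

open H14Fib H14Stk

variable {S : Scheme.{u}} {𝒳 𝒳' 𝒴 𝒴' 𝒵 : AlgSt.Cat S} {P : MorphismProperty (AlgSp.Sp S)}
  (p' : 𝒳' ⥤ᵇ 𝒵) (q' : 𝒴' ⥤ᵇ 𝒵) (f : 𝒳 ⥤ᵇ 𝒳') (g : 𝒴 ⥤ᵇ 𝒴')
  (e : BasedFunctor.comp (BasedFunctor.comp (FibCat.fpFst (BasedFunctor.comp f p') (BasedFunctor.comp g q')) f) p' ≅
    BasedFunctor.comp (BasedFunctor.comp (FibCat.fpSnd (BasedFunctor.comp f p') (BasedFunctor.comp g q')) g) q')

/-- The second factor of the induced functor. -/
abbrev prodSnd : FibCat.fp p' (BasedFunctor.comp g q') ⥤ᵇ FibCat.fp p' q' :=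
  fpMap (F := p') (G := q') (BasedFunctor.id 𝒳') g (BasedFunctor.id 𝒵) (Iso.refl p')
    (Iso.refl (BasedFunctor.comp g q'))

lemma prodSnd_iso : Nonempty (BasedFunctor.comp (pasteComp p' q' g) (prodSnd p' q' g) ≅
    FibCat.fpFst (FibCat.fpSnd p' q') g) := by
  refine ⟨mkIso (fun p => fpIsoMk (Iso.refl _) p.obj.iso.symm ?_) (fun {p q} m => ?_)
    (fun p => (fp_isHomLift_iff _ _).2 (IsHomLift.id rfl))⟩
  · change p'.map (𝟙 _) ≫ p.obj.fst.obj.iso.hom =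
      (𝟙 _ ≫ (p.obj.fst.obj.iso.hom ≫ q'.map p.obj.iso.hom) ≫ 𝟙 _) ≫ q'.map p.obj.iso.inv
    rw [p'.toFunctor.map_id]
    erw [Category.id_comp, Category.id_comp, Category.comp_id]
    rw [Category.assoc, ← Functor.map_comp, Iso.hom_inv_id]
    erw [q'.toFunctor.map_id]
    exact (Category.comp_id _).symm
  · refine fp_hom_ext ((Category.comp_id _).trans (Category.id_comp _).symm) ?_
    change g.map m.hom.snd ≫ q.obj.iso.inv = p.obj.iso.inv ≫ m.hom.fst.hom.snd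
    have w : m.hom.fst.hom.snd ≫ q.obj.iso.hom = p.obj.iso.hom ≫ g.map m.hom.snd := m.hom.w
    rw [Iso.comp_inv_eq, Category.assoc, w, Iso.inv_hom_id_assoc]

lemma prodMap_iso (he : ∀ x, e.hom.toNatTrans.app x = x.obj.iso.hom) :
    Nonempty (BasedFunctor.comp (pasteBase p' (BasedFunctor.comp g q') f)
      (FibCat.fpLift (BasedFunctor.comp (FibCat.fpFst (BasedFunctor.comp f p') (BasedFunctor.comp g q')) f)
        (BasedFunctor.comp (FibCat.fpSnd (BasedFunctor.comp f p') (BasedFunctor.comp g q')) g) e) ≅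
      BasedFunctor.comp (FibCat.fpSnd f (FibCat.fpFst p' (BasedFunctor.comp g q'))) (prodSnd p' q' g)) := by
  refine ⟨mkIso (fun p => fpIsoMk p.obj.iso (Iso.refl _) ?_) (fun {p q} m => ?_)
    (fun p => (fp_isHomLift_iff _ _).2 p.property)⟩
  · change p'.map p.obj.iso.hom ≫ (𝟙 _ ≫ p.obj.snd.obj.iso.hom ≫ 𝟙 _) =
      e.hom.toNatTrans.app ((pasteBase p' (BasedFunctor.comp g q') f).obj p) ≫ q'.map (𝟙 _)
    rw [he, q'.toFunctor.map_id]
    erw [Category.id_comp, Category.comp_id, Category.comp_id]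
    rfl
  · exact fp_hom_ext m.hom.w ((Category.comp_id _).trans (Category.id_comp _).symm)

variable {p' q' f g}

/-- A product of functors with a property stable under composition and base change has it. -/
lemma repWith_prodMap (hiso : SourceIsoInv P) (hloc : TestOnSchemes P)
    (hc : ∀ ⦃A B C : AlgSp.Sp S⦄, AlgSp.IsAlgSpace A → AlgSp.IsAlgSpace B → AlgSp.IsAlgSpace C →
      ∀ (a : A ⟶ B) (b : B ⟶ C), P a → P b → P (a ≫ b))
    (h𝒳 : FibCat.IsFibGrpd 𝒳.p) (h𝒳' : FibCat.IsFibGrpd 𝒳'.p) (h𝒴 : FibCat.IsFibGrpd 𝒴.p)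
    (h𝒵 : FibCat.IsFibGrpd 𝒵.p)
    (hf : AlgSt.RepByAlgSpWith P f) (hg : AlgSt.RepByAlgSpWith P g)
    (he : ∀ x, e.hom.toNatTrans.app x = x.obj.iso.hom) :
    AlgSt.RepByAlgSpWith P
      (FibCat.fpLift (BasedFunctor.comp (FibCat.fpFst (BasedFunctor.comp f p') (BasedFunctor.comp g q')) f)
        (BasedFunctor.comp (FibCat.fpSnd (BasedFunctor.comp f p') (BasedFunctor.comp g q')) g) e) := by
  obtain ⟨i⟩ := prodMap_iso p' q' f g e he
  obtain ⟨j⟩ := prodSnd_iso p' q' g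
  have hN : AlgSt.RepByAlgSpWith P (prodSnd p' q' g) :=
    (repWith_equiv_comp_iff (pasteComp_isEquivOver p' q' g)).2 (repWith_of_iso j.symm (repWith_fpFst _ hg))
  exact (repWith_equiv_comp_iff (pasteBase_isEquivOver p' (BasedFunctor.comp g q') f)).2
    (repWith_of_iso i.symm (repWith_comp_of hiso hloc hc (fp_fibGrpd h𝒳 (fp_fibGrpd h𝒳' h𝒴 h𝒵) h𝒳')
      (fp_fibGrpd h𝒳' h𝒴 h𝒵) (repWith_fpSnd _ hf) hN))

lemma repWith_diag_equiv_comp_iff {𝒜 : AlgSt.Cat S} {a : 𝒜 ⥤ᵇ 𝒳} (ha : FibCat.IsEquivOver a)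
    {h : 𝒳 ⥤ᵇ 𝒴} : AlgSt.RepByAlgSpWith P (FibCat.diag h) ↔
      AlgSt.RepByAlgSpWith P (FibCat.diag (BasedFunctor.comp a h)) :=
  repWith_diag_square ha (isEquivOver_id 𝒴) (Iso.refl (BasedFunctor.comp a h))

lemma repWith_diag_congr {h h' : 𝒳 ⥤ᵇ 𝒴} (i : h ≅ h') (H : AlgSt.RepByAlgSpWith P (FibCat.diag h)) :
    AlgSt.RepByAlgSpWith P (FibCat.diag h') :=
  (repWith_diag_square (f := h) (f' := h') (isEquivOver_id 𝒳) (isEquivOver_id 𝒴) i.symm).1 H

/-- The diagonal of a product of functors. -/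
lemma repWith_diag_prodMap (hiso : SourceIsoInv P) (hloc : TestOnSchemes P)
    (hc : ∀ ⦃A B C : AlgSp.Sp S⦄, AlgSp.IsAlgSpace A → AlgSp.IsAlgSpace B → AlgSp.IsAlgSpace C →
      ∀ (a : A ⟶ B) (b : B ⟶ C), P a → P b → P (a ≫ b))
    (h𝒳 : FibCat.IsFibGrpd 𝒳.p) (h𝒳' : FibCat.IsFibGrpd 𝒳'.p) (h𝒴 : FibCat.IsFibGrpd 𝒴.p)
    (h𝒵 : FibCat.IsFibGrpd 𝒵.p)
    (hf : AlgSt.RepByAlgSpWith P (FibCat.diag f)) (hg : AlgSt.RepByAlgSpWith P (FibCat.diag g))
    (he : ∀ x, e.hom.toNatTrans.app x = x.obj.iso.hom) :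
    AlgSt.RepByAlgSpWith P (FibCat.diag
      (FibCat.fpLift (BasedFunctor.comp (FibCat.fpFst (BasedFunctor.comp f p') (BasedFunctor.comp g q')) f)
        (BasedFunctor.comp (FibCat.fpSnd (BasedFunctor.comp f p') (BasedFunctor.comp g q')) g) e)) := by
  obtain ⟨i⟩ := prodMap_iso p' q' f g e he
  obtain ⟨j⟩ := prodSnd_iso p' q' g
  have hN : AlgSt.RepByAlgSpWith P (FibCat.diag (prodSnd p' q' g)) :=
    (repWith_diag_equiv_comp_iff (pasteComp_isEquivOver p' q' g)).2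
      (repWith_diag_congr j.symm (repWith_diag_fpFst _ hg))
  have hS : AlgSt.RepByAlgSpWith P (FibCat.diag (FibCat.fpSnd f (FibCat.fpFst p' (BasedFunctor.comp g q')))) :=
    (repWith_diag_equiv_comp_iff (fpSwap_isEquivOver _ _)).1 (repWith_diag_fpFst _ hf)
  exact (repWith_diag_equiv_comp_iff (pasteBase_isEquivOver p' (BasedFunctor.comp g q') f)).2
    (repWith_diag_congr i.symm (repWith_diag_comp hiso hloc hc
      (fp_fibGrpd h𝒳 (fp_fibGrpd h𝒳' h𝒴 h𝒵) h𝒳') (fp_fibGrpd h𝒳' h𝒴 h𝒵) hS hN))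

/-- Two morphisms of the base category over itself lifting the same morphism are equal. -/
lemma selfOver_hom_eq {C : Type*} [Category C] {a b : (FibCat.selfOver C).obj} {R T : C} (t : R ⟶ T)
    (φ ψ : a ⟶ b) (h : (FibCat.selfOver C).p.IsHomLift t φ) (h' : (FibCat.selfOver C).p.IsHomLift t ψ) :
    φ = ψ :=
  (IsHomLift.fac' (FibCat.selfOver C).p t φ).trans (IsHomLift.fac' (FibCat.selfOver C).p t ψ).symm

end Groth.Agent.H14AlgSt
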