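import Groth.Agent.H14AlgSt.SigmaChart
import Groth.Agent.H14AlgSt.AlgFp

/-!
# Charts of a smooth stack are smooth over the base
-/

set_option autoImplicit false
set_option linter.unusedVariables false
set_option backward.isDefEq.respectTransparency false
set_option backward.isDefEq.respectTransparency.types false

universe u

open CategoryTheory CategoryTheory.Functor CategoryTheory.Limits AlgebraicGeometry

noncomputable section

namespace Groth.Agent.H14AlgSt

open H14Fib H14Stk H14IsoNat

variable {S : Scheme.{u}} {𝒳 : AlgSt.Cat S}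

/-- Smoothness over the base spreads from a surjective smooth chart to every smooth chart. -/
theorem smooth_hom_of_chart (h𝒳 : FibCat.IsFibGrpd 𝒳.p) {U₀ U : Over S}
    {x : FibCat.overCat U₀ ⥤ᵇ 𝒳} (hx : AlgSt.RepByAlgSpWith (AlgSp.LocP @Smooth) x)
    (hxs : AlgSt.RepByAlgSpWith AlgSp.IsSurjectiveMor x) (p : FibCat.overCat U ⥤ᵇ 𝒳)
    (hp : AlgSt.RepByAlgSpWith (AlgSp.LocP @Smooth) p) [Smooth U₀.hom] : Smooth U.hom := by
  obtain ⟨B, a, h, hh, ⟨j⟩, hae, has⟩ := exists_chart_data x p hx
  obtain ⟨w, ⟨jw⟩⟩ := exists_overMap_iso (BasedFunctor.comp a (FibCat.fpSnd p x))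
  have h1 : AlgSt.RepByAlgSpWith (AlgSp.LocP @Smooth) a := repWith_locP_mono etale_le_smooth' hae
  have h2 : AlgSt.RepByAlgSpWith (AlgSp.LocP @Smooth) (FibCat.fpSnd p x) := repWith_fpSnd x hp
  have hw : Smooth w.left := smooth_of_repWith_overMap w (repWith_of_iso jw
    (repWith_locP_comp (𝒴 := FibCat.fp p x) H12AlgSp.etLocal_smooth (fibGrpd_overCat _)
      (fp_fibGrpd (fibGrpd_overCat _) (fibGrpd_overCat _) h𝒳) h1 h2))
  have hhs : Surjective h.left := surjective_chart h𝒳 hxs j has
  have hhsm : Smooth h.left := hh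
  have hk : Smooth (h.left ≫ U.hom) := by
    rw [Over.w h, ← Over.w w]
    infer_instance
  exact H13AlgSp.smooth_of_jointly_surjective U.hom (fun _ : PUnit.{u + 1} => B.left) (fun _ => h.left)
    (fun s => ⟨⟨⟩, h.left.surjective s⟩) (fun _ => ⟨inferInstance, inferInstance⟩) fun _ => hk

variable (S) in
/-- The base as an object over itself. -/
abbrev baseObj : Over S := Over.mk (𝟙 S)

/-- The inverse of the structure functor of the base. -/
def selfInv : FibCat.selfOver (Over S) ⥤ᵇ FibCat.overCat (baseObj S) where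
  toFunctor :=
    { obj := fun X => Over.mk (Over.homMk X.hom (Category.comp_id _) : X ⟶ baseObj S)
      map := fun f => Over.homMk f (Over.OverMorphism.ext (Over.w f)) }
  w := rfl

lemma toSelf_overCat_base_isEquivOver :
    FibCat.IsEquivOver (FibCat.toSelf (FibCat.overCat (baseObj S))) :=
  ⟨selfInv, ⟨mkIso (fun s => Over.isoMk (Iso.refl _)
        (Over.OverMorphism.ext (by
          change 𝟙 _ ≫ s.hom.left = s.left.hom
          simpa using Over.w s.hom)))
      (fun {_ _} f => Over.OverMorphism.ext ((Category.comp_id _).trans (Category.id_comp _).symm))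
      (fun s => IsHomLift.of_fac' _ _ _ rfl rfl (by simp; rfl))⟩,
    ⟨mkIso (fun X => Iso.refl _)
      (fun {_ _} f => (Category.comp_id _).trans (Category.id_comp _).symm) (fun X => IsHomLift.id rfl)⟩⟩

/-- The structure functor of the base is a smooth surjective chart. -/
lemma repWith_toSelf_base :
    AlgSt.RepByAlgSpWith (AlgSp.LocP @Smooth) (FibCat.toSelf (FibCat.overCat (baseObj S))) ∧
      AlgSt.RepByAlgSpWith AlgSp.IsSurjectiveMor (FibCat.toSelf (FibCat.overCat (baseObj S))) := by
  have key : ∀ {P : MorphismProperty (AlgSp.Sp S)},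
      AlgSt.RepByAlgSpWith P (BasedFunctor.id (FibCat.overCat (baseObj S))) →
        AlgSt.RepByAlgSpWith P (FibCat.toSelf (FibCat.overCat (baseObj S))) := fun {P} h => by
    obtain ⟨G, ⟨i⟩, ⟨i'⟩⟩ := toSelf_overCat_base_isEquivOver (S := S)
    have hG : FibCat.IsEquivOver G := ⟨_, ⟨i'⟩, ⟨i⟩⟩
    exact (repWith_square (f := BasedFunctor.id _) (f' := FibCat.toSelf _) (b := G)
      (a := BasedFunctor.id _) (isEquivOver_id _) hG i).1 h
  have : Smooth (𝟙 (baseObj S) : baseObj S ⟶ baseObj S).left := inferInstanceAs (Smooth (𝟙 S))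
  exact ⟨key (repWith_of_iso (overMapIdIso _) (repWith_overMap_smooth (𝟙 (baseObj S)))),
    key (repWith_of_iso (overMapIdIso _) (repWith_overMap_surj (𝟙 (baseObj S))
      (inferInstanceAs (Surjective (𝟙 S)))))⟩

/-- Smooth charts of a smooth stack are smooth over the base. -/
theorem smooth_hom_of_locQ (h𝒳 : FibCat.IsFibGrpd 𝒳.p)
    (hsm : AlgSt.LocQ (AlgSp.LocP @Smooth) (FibCat.toSelf 𝒳)) {U : Over S}
    (p : FibCat.overCat U ⥤ᵇ 𝒳) (hp : AlgSt.RepByAlgSpWith (AlgSp.LocP @Smooth) p) : Smooth U.hom := by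
  obtain ⟨U₀, V₀, x, y, h, -, hx, hxs, hy, hh⟩ := hsm
  have : Smooth (baseObj S).hom := inferInstanceAs (Smooth (𝟙 S))
  have hV : Smooth V₀.hom := smooth_hom_of_chart selfOver_fibGrpd repWith_toSelf_base.1
    repWith_toSelf_base.2 y hy
  have hh' : Smooth h.left := AlgSp.locP_yon_map hh
  have : Smooth U₀.hom := by
    rw [← Over.w h]
    infer_instance
  exact smooth_hom_of_chart h𝒳 hx hxs p hp

end Groth.Agent.H14AlgSt
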