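import Groth.Agent.H14AlgSt.DiagLFT
import Groth.Agent.H14AlgSt.FieldPoint
import Groth.Agent.H14AlgSt.SmoothTot
import Groth.Agent.H14AlgSt.Substack
import Groth.Agent.H14Quot.QuotDiagQAff
import Groth.Agent.H14AlgSt.CoverCriterion
import Groth.Agent.S10537

/-!
# Stacks with quasi-affine diagonal and their charts
-/

set_option autoImplicit false
set_option backward.isDefEq.respectTransparency false
set_option backward.isDefEq.respectTransparency.types false

universe u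

open CategoryTheory CategoryTheory.Functor Opposite AlgebraicGeometry CategoryTheory.Limits
open AlgSp (yon)

noncomputable section

namespace Groth.Agent.H14AlgSt

open H14Fib H14Stk

variable {S : Scheme.{u}} {𝒳 𝒴 𝒵 : AlgSt.Cat S}

local notation "K₀" => Scheme.fppfPrecoverage

/-- Composition of two morphisms with possibly different properties. -/
lemma repWith_comp_of' {P₁ P₂ P₃ : MorphismProperty (AlgSp.Sp S)} (hiso : SourceIsoInv P₁)
    (hloc : TestOnSchemes P₁)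
    (hc : ∀ ⦃A B C : AlgSp.Sp S⦄, AlgSp.IsAlgSpace A → AlgSp.IsAlgSpace B → AlgSp.IsAlgSpace C →
      ∀ (a : A ⟶ B) (b : B ⟶ C), P₁ a → P₂ b → P₃ (a ≫ b))
    (h𝒳 : FibCat.IsFibGrpd 𝒳.p) (h𝒴 : FibCat.IsFibGrpd 𝒴.p) {f : 𝒳 ⥤ᵇ 𝒴} {g : 𝒴 ⥤ᵇ 𝒵}
    (hf : AlgSt.RepByAlgSpWith P₁ f) (hg : AlgSt.RepByAlgSpWith P₂ g) :
    AlgSt.RepByAlgSpWith P₃ (BasedFunctor.comp f g) := by
  intro U y
  obtain ⟨F, e₀, he₀, hp₀⟩ := hg U y
  let z := BasedFunctor.comp e₀ (FibCat.fpSnd y g)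
  obtain ⟨G, e, π, he, ⟨k⟩, hπ⟩ := exists_space_baseChange hiso hloc h𝒳 h𝒴 hf F z
  obtain ⟨⟨_, _⟩, hs⟩ := (isEquivOver_iff _).1 he₀
  let M : FibCat.fp z f ⥤ᵇ FibCat.fp (FibCat.fpSnd y g) f :=
    fpMap (F := FibCat.fpSnd y g) (G := f) e₀ (BasedFunctor.id 𝒳) (BasedFunctor.id 𝒴)
      (Iso.refl z) (Iso.refl (BasedFunctor.comp f (BasedFunctor.id 𝒴)))
  have hM : FibCat.IsEquivOver M := fpMap_isEquivOver _ _ _ _ _ hs (essSurjOver_id _)
  let E := BasedFunctor.comp (BasedFunctor.comp e M) (pasteComp y g f)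
  have hE : FibCat.IsEquivOver E :=
    isEquivOver_comp (isEquivOver_comp he hM) (pasteComp_isEquivOver y g f)
  refine ⟨G, E, hE, ?_⟩
  have i : BasedFunctor.comp E (FibCat.fpFst y (BasedFunctor.comp f g)) ≅
      BasedFunctor.comp (AlgSt.ofSpMap π) (BasedFunctor.comp e₀ (FibCat.fpFst y g)) :=
    (post (AlgSt.ofSp G.obj) (BasedFunctor.comp e₀ (FibCat.fpFst y g))).mapIso k
  rw [spMapOfOver_congr i, spMapOfOver_comp]
  exact hc G.property F.property (AlgSp.IsAlgSpace.yon_obj U) _ _ hπ hp₀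

/-- A quasi-affine morphism followed by an affine one is quasi-affine. -/
lemma isQuasiAffineMor_comp_affine {A B C : AlgSp.Sp S} (a : A ⟶ B) (b : B ⟶ C)
    (ha : AlgSp.IsQuasiAffineMor a) (hb : AlgSp.IsAffineMor b) :
    AlgSp.IsQuasiAffineMor (a ≫ b) := fun Z hZ g => by
  obtain ⟨W₁, i₁, f₁, sq₁, hW₁⟩ := hb hZ g
  obtain ⟨W, i, f, sq, hW⟩ := ha hW₁ f₁
  exact ⟨W, i ≫ i₁, f, by rw [Functor.map_comp]; exact sq.paste_vert sq₁, hW⟩

/-- Cancellation of an affine morphism on the left of a quasi-affine composite. -/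
lemma isQuasiAffineMor_of_comp_affine {A B C : AlgSp.Sp S} (a : A ⟶ B) (b : B ⟶ C)
    (hab : AlgSp.IsQuasiAffineMor (a ≫ b)) (hb : AlgSp.IsAffineMor b) :
    AlgSp.IsQuasiAffineMor a := fun Z hZ g => by
  obtain ⟨W₁, i₁, f₁, sq₁, hW₁⟩ := hb hZ (g ≫ b)
  obtain ⟨W₂, i₂, f₂, sq₂, hW₂⟩ := hab hZ (g ≫ b)
  obtain ⟨m, hm⟩ := (yon S).map_surjective
    (sq₁.lift (f₂ ≫ a) ((yon S).map i₂) (by rw [Category.assoc]; exact sq₂.w))
  obtain ⟨s, hs⟩ := (yon S).map_surjective (sq₁.lift g (𝟙 _) (by rw [Category.id_comp]))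
  have hs₁ : s ≫ i₁ = 𝟙 Z := (yon S).map_injective (by
    rw [Functor.map_comp, hs, sq₁.lift_snd, CategoryTheory.Functor.map_id])
  have hm₁ : m ≫ i₁ = i₂ := (yon S).map_injective (by rw [Functor.map_comp, hm, sq₁.lift_snd])
  have sqm : IsPullback f₂ ((yon S).map m) a f₁ := by
    refine IsPullback.of_bot ?_ (by rw [hm, sq₁.lift_fst]) sq₁
    rw [← Functor.map_comp, hm₁]
    exact sq₂
  have := hZ
  have := hW₁
  have := hW₂
  let W := pullback m s
  refine ⟨W, pullback.snd m s, (yon S).map (pullback.fst m s) ≫ f₂, ?_, ?_⟩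
  · have h := ((IsPullback.of_hasPullback m s).map (yon S)).paste_horiz sqm
    rwa [show (yon S).map s ≫ f₁ = g by rw [hs, sq₁.lift_fst]] at h
  · have : IsSeparated i₁.left := inferInstance
    have : IsClosedImmersion (s.left ≫ i₁.left) := by
      rw [← Over.comp_left, hs₁]
      infer_instance
    have : IsClosedImmersion s.left := IsClosedImmersion.of_comp s.left i₁.left
    have hp : IsClosedImmersion (pullback.fst m s).left := MorphismProperty.of_isPullback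
      ((IsPullback.of_hasPullback m s).map (Over.forget S)).flip this
    have : CompactSpace W.left := (pullback.fst m s).left.isClosedEmbedding.compactSpace
    exact Scheme.IsQuasiAffine.of_isImmersion (Y := W₂.left) (pullback.fst m s).left

/-- The structure functor of an affine scheme over an affine base is affine. -/
lemma repWith_toSelf_affine [IsAffine S] (V : Over S) [IsAffine V.left] :
    AlgSt.RepByAlgSpWith AlgSp.IsAffineMor (FibCat.toSelf (FibCat.overCat V)) := by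
  let t : V ⟶ baseObj S := Over.homMk V.hom (Category.comp_id _)
  have h1 : AlgSt.RepByAlgSpWith (AlgSp.RepWith @IsAffineHom) (AlgSt.overMap t) := by
    have hy : AlgSp.RepWith @IsAffineHom ((yon S).map t) :=
      (AlgSp.repWith_yon_map_iff _ t).2 (inferInstanceAs (IsAffineHom V.hom))
    have h := repWith_ofSpMap_of_baseStable (baseStable_repWith @IsAffineHom)
      (AlgSp.IsAlgSpace.yon_obj V) (AlgSp.IsAlgSpace.yon_obj (baseObj S)) _ hy
    refine repWith_of_iso (mkIso (fun s => Iso.refl _)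
        (fun {_ _} φ => (Category.comp_id _).trans ((Category.id_comp _).trans
          (Over.OverMorphism.ext rfl)).symm)
        (fun s => IsHomLift.id rfl) :
      BasedFunctor.comp (BasedFunctor.comp (AlgSt.ofOverCat V) (AlgSt.ofSpMap ((yon S).map t)))
        (AlgSt.toOverCat (baseObj S)) ≅ AlgSt.overMap t) ?_
    exact (repWith_comp_equiv_iff (toOverCat_isEquivOver _)).2
      ((repWith_equiv_comp_iff (ofOverCat_isEquivOver V)).1 h)
  rw [H14Quot.isAffineMor_eq, ← comp_toSelf (AlgSt.overMap t)]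
  exact (repWith_comp_equiv_iff toSelf_overCat_base_isEquivOver).2 h1

lemma sourceIsoInv_qaff : SourceIsoInv (S := S) AlgSp.IsQuasiAffineMor :=
  H14Quot.baseStable_qaff.sourceIsoInv

lemma localFppf_qaff : AlgSp.IsLocalOnBase AlgSp.IsFppfCover
    (AlgSp.IsQuasiAffineMor : MorphismProperty (AlgSp.Sp S)) :=
  localFppf_of_fpqc (Groth.Agent.S10537.result S)

/-- Morphisms from affine schemes to a stack with quasi-affine diagonal are quasi-affine. -/
lemma repWith_qaff_of_diag [IsAffine S] (hX : AlgSt.IsAlgStack K₀ 𝒳)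
    (hΔ : AlgSt.RepByAlgSpWith AlgSp.IsQuasiAffineMor (FibCat.diag (FibCat.toSelf 𝒳))) {V : Over S}
    [IsAffine V.left] (y : FibCat.overCat V ⥤ᵇ 𝒳) :
    AlgSt.RepByAlgSpWith AlgSp.IsQuasiAffineMor y := by
  intro U y₀
  let H := FibCat.toSelf 𝒳
  have hg : AlgSt.RepByAlgSpWith AlgSp.IsAffineMor
      (FibCat.fpFst (BasedFunctor.comp y₀ H) (BasedFunctor.comp y H)) := by
    have h0 := repWith_fpFst (FibCat.toSelf (FibCat.overCat U)) (repWith_toSelf_affine V)
    rw [comp_toSelf, comp_toSelf]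
    exact h0
  have h : AlgSt.RepByAlgSpWith AlgSp.IsQuasiAffineMor (FibCat.fpFst y₀ y) :=
    repWith_comp_of' (f := fpDown y₀ y H)
      (g := FibCat.fpFst (BasedFunctor.comp y₀ H) (BasedFunctor.comp y H))
      sourceIsoInv_qaff (testOnSchemes_of_localFppf localFppf_qaff)
      (fun {A B C} _ _ _ a b => isQuasiAffineMor_comp_affine (S := S) a b)
      (fp_fibGrpd (fibGrpd_overCat _) (fibGrpd_overCat _) hX.isStack.1)
      (fp_fibGrpd (fibGrpd_overCat _) (fibGrpd_overCat _) selfOver_fibGrpd)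
      (repWith_fpDown hΔ y₀ y) hg
  exact RepData.of_equiv _ (fpSnd_id_isEquivOver (FibCat.fpFst y₀ y))
    (FibCat.fpIso (BasedFunctor.id (FibCat.overCat U)) (FibCat.fpFst y₀ y)).symm
    (h U (BasedFunctor.id _))

/-- Two lifts of the components through different maps give a lift along `pairMap`. -/
lemma exists_pair_lift' {U₁ U₂ T : Over S} (z : FibCat.overCat U₁ ⥤ᵇ 𝒳)
    (z' : FibCat.overCat U₂ ⥤ᵇ 𝒳) (F : 𝒳 ⥤ᵇ 𝒵) (y : FibCat.overCat T ⥤ᵇ FibCat.fp F F)
    (z₁ : FibCat.overCat T ⥤ᵇ FibCat.overCat U₁) (z₂ : FibCat.overCat T ⥤ᵇ FibCat.overCat U₂)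
    (α : BasedFunctor.comp z₁ z ≅ BasedFunctor.comp y (FibCat.fpFst F F))
    (β : BasedFunctor.comp z₂ z' ≅ BasedFunctor.comp y (FibCat.fpSnd F F)) :
    ∃ w : FibCat.overCat T ⥤ᵇ FibCat.fp (BasedFunctor.comp z F) (BasedFunctor.comp z' F),
      Nonempty (BasedFunctor.comp w (pairMap z z' F) ≅ y) := by
  let e : BasedFunctor.comp z₁ (BasedFunctor.comp z F) ≅
      BasedFunctor.comp z₂ (BasedFunctor.comp z' F) :=
    (post _ F).mapIso α ≪≫ (Stk.restr y _).mapIso (FibCat.fpIso F F) ≪≫ (post _ F).mapIso β.symm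
  refine ⟨FibCat.fpLift z₁ z₂ e, ⟨mkIso (fun s => fpIsoMk (isoApp α s) (isoApp β s) ?_)
    (fun {s t} f => fp_hom_ext (α.hom.toNatTrans.naturality f) (β.hom.toNatTrans.naturality f))
    (fun s => (fp_isHomLift_iff _ _).2 (isoApp_lift α s))⟩⟩
  change F.map (isoApp α s).hom ≫ (y.obj s).obj.iso.hom =
    (𝟙 _ ≫ (F.map (isoApp α s).hom ≫ (y.obj s).obj.iso.hom ≫ F.map (isoApp β s).inv) ≫ 𝟙 _) ≫
      F.map (isoApp β s).hom
  simp only [Category.id_comp, Category.comp_id, Category.assoc, ← Functor.map_comp,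
    Iso.inv_hom_id]
  erw [F.toFunctor.map_id, Category.comp_id]

/-- A chart whose affine pieces are quasi-affine gives a quasi-affine diagonal. -/
lemma repWith_qaff_diag_of_chart [IsAffine S] (hX : AlgSt.IsAlgStack K₀ 𝒳) {U : Over S}
    {x : FibCat.overCat U ⥤ᵇ 𝒳} (hxm : AlgSt.RepByAlgSpWith (AlgSp.LocP @Smooth) x)
    (hxs : AlgSt.RepByAlgSpWith AlgSp.IsSurjectiveMor x)
    (hx : ∀ V : U.left.Opens, IsAffineOpen V → AlgSt.RepByAlgSpWith AlgSp.IsQuasiAffineMor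
      (BasedFunctor.comp (AlgSt.overMap (subUIncl V)) x)) :
    AlgSt.RepByAlgSpWith AlgSp.IsQuasiAffineMor (FibCat.diag (FibCat.toSelf 𝒳)) := by
  let H := FibCat.toSelf 𝒳
  -- the property on products of affine pieces
  have key : ∀ {V W : U.left.Opens}, IsAffineOpen V → IsAffineOpen W →
      AlgSt.RepByAlgSpWith AlgSp.IsQuasiAffineMor
        (fpDown (BasedFunctor.comp (AlgSt.overMap (subUIncl V)) x)
          (BasedFunctor.comp (AlgSt.overMap (subUIncl W)) x) H) := by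
    intro V W hV hW
    let a := BasedFunctor.comp (AlgSt.overMap (subUIncl V)) x
    let b := BasedFunctor.comp (AlgSt.overMap (subUIncl W)) x
    have : IsAffine (subU W).left := hW
    have hg : AlgSt.RepByAlgSpWith AlgSp.IsAffineMor
        (FibCat.fpFst (BasedFunctor.comp a H) (BasedFunctor.comp b H)) := by
      have h0 := repWith_fpFst (FibCat.toSelf (FibCat.overCat (subU V))) (repWith_toSelf_affine (subU W))
      rw [comp_toSelf, comp_toSelf]
      exact h0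
    exact repWith_cancel (Q := AlgSp.IsAffineMor (S := S)) (f := fpDown a b H)
      (g := FibCat.fpFst (BasedFunctor.comp a H) (BasedFunctor.comp b H)) H14Quot.baseStable_qaff
      (fun {A B C} _ _ _ p q hq hpq => isQuasiAffineMor_of_comp_affine (S := S) p q hpq hq)
      (fp_fibGrpd (fibGrpd_overCat _) (fibGrpd_overCat _) hX.isStack.1)
      (fp_fibGrpd (fibGrpd_overCat _) (fibGrpd_overCat _) selfOver_fibGrpd)
      (repByAlgSp1_of_with (repWith_fpDown (with_top_of_repByAlgSp1 hX.diag) a b))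
      (repWith_fpFst a (hx W hW)) hg
  have hf := repWith_locP_mono smooth_le_flat hxm
  have hp := repWith_locP_mono smooth_le_lfp hxm
  intro T y
  obtain ⟨ι, C, c, hc1, hc2, hc3, hc4⟩ :=
    exists_lift_of_fppf hf hp hxs T (BasedFunctor.comp y (FibCat.fpFst H H))
  choose z hz using hc4
  have hd := fun i => exists_lift_of_fppf hf hp hxs (C i)
    (BasedFunctor.comp (AlgSt.overMap (c i)) (BasedFunctor.comp y (FibCat.fpSnd H H)))
  choose κ D d hd1 hd2 hd3 hd4 using hd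
  choose z₂ hz₂ using hd4
  have hφ := fun i j => exists_overMap_iso (BasedFunctor.comp (AlgSt.overMap (d i j)) (z i))
  choose φ₁ hφ₁ using hφ
  have hψ := fun i j => exists_overMap_iso (z₂ i j)
  choose φ₂ hφ₂ using hψ
  let piece := fun (p : Σ i, κ i) (vw : U.left.affineOpens × U.left.affineOpens) =>
    (φ₁ p.1 p.2).left ⁻¹ᵁ vw.1.1 ⊓ (φ₂ p.1 p.2).left ⁻¹ᵁ vw.2.1
  refine repData_of_family localFppf_qaff sourceIsoInv_qaff y (hX.diag T y)
    (fun q : Σ _ : Σ i, κ i, U.left.affineOpens × U.left.affineOpens => subU (piece q.1 q.2))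
    (fun q => subUIncl (piece q.1 q.2) ≫ d q.1.1 q.1.2 ≫ c q.1.1)
    (fun q => ?_) (fun q => ?_) (fun t => ?_) (fun q => ?_)
  · have := hd1 q.1.1 q.1.2
    have := hc1 q.1.1
    have : Flat (subUIncl (piece q.1 q.2)).left := inferInstanceAs (Flat (piece q.1 q.2).ι)
    rw [Over.comp_left, Over.comp_left]
    infer_instance
  · have := hd2 q.1.1 q.1.2
    have := hc2 q.1.1
    have : LocallyOfFinitePresentation (subUIncl (piece q.1 q.2)).left :=
      inferInstanceAs (LocallyOfFinitePresentation (piece q.1 q.2).ι)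
    rw [Over.comp_left, Over.comp_left]
    infer_instance
  · obtain ⟨i, a, rfl⟩ := hc3 t
    obtain ⟨j, b, rfl⟩ := hd3 i a
    obtain ⟨V, hV, hbV, -⟩ := exists_isAffineOpen_mem_and_subset (U := ⊤)
      (x := (φ₁ i j).left b) trivial
    obtain ⟨W, hW, hbW, -⟩ := exists_isAffineOpen_mem_and_subset (U := ⊤)
      (x := (φ₂ i j).left b) trivial
    obtain ⟨r, hr⟩ := (piece ⟨i, j⟩ ⟨⟨V, hV⟩, ⟨W, hW⟩⟩).range_ι.ge ⟨hbV, hbW⟩
    refine ⟨⟨⟨i, j⟩, ⟨⟨V, hV⟩, ⟨W, hW⟩⟩⟩, r, ?_⟩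
    exact congrArg (fun t => (c i).left ((d i j).left t)) hr
  obtain ⟨⟨i, j⟩, ⟨⟨V, hV⟩, ⟨W, hW⟩⟩⟩ := q
  obtain ⟨j₁⟩ := hz i
  obtain ⟨j₂⟩ := hz₂ i j
  obtain ⟨i₁⟩ := hφ₁ i j
  obtain ⟨i₂⟩ := hφ₂ i j
  let O := piece ⟨i, j⟩ ⟨⟨V, hV⟩, ⟨W, hW⟩⟩
  let o := subUIncl O
  obtain ⟨g₁, hg₁⟩ := subUIncl_factor V (o ≫ φ₁ i j) (fun t => (O.range_ι.le ⟨t, rfl⟩).1)
  obtain ⟨g₂, hg₂⟩ := subUIncl_factor W (o ≫ φ₂ i j) (fun t => (O.range_ι.le ⟨t, rfl⟩).2)
  let m := overMapCompIso o (d i j ≫ c i)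
  let y₁ := BasedFunctor.comp (AlgSt.overMap (o ≫ d i j ≫ c i)) y
  let dc := overMapCompIso (d i j) (c i)
  have lift : ∀ {V' : U.left.Opens} {φ : D i j ⟶ U} {g : subU O ⟶ subU V'}
      (_ : g ≫ subUIncl V' = o ≫ φ) {v : FibCat.overCat T ⥤ᵇ 𝒳}
      (_ : BasedFunctor.comp (AlgSt.overMap φ) x ≅
        BasedFunctor.comp (AlgSt.overMap (d i j ≫ c i)) v),
      Nonempty (BasedFunctor.comp (AlgSt.overMap g) (BasedFunctor.comp (AlgSt.overMap (subUIncl V')) x)
        ≅ BasedFunctor.comp (AlgSt.overMap (o ≫ d i j ≫ c i)) v) := fun {V' φ g} eg {v} γ =>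
    ⟨(post _ x).mapIso (overMapCompIso g (subUIncl V') ≪≫ eqToIso (congrArg AlgSt.overMap eg) ≪≫
      (overMapCompIso o φ).symm) ≪≫ (Stk.restr (AlgSt.overMap o) _).mapIso γ ≪≫
      (post _ v).mapIso m⟩
  obtain ⟨α⟩ := lift hg₁ (v := BasedFunctor.comp y (FibCat.fpFst H H))
    ((post _ x).mapIso i₁.symm ≪≫ (Stk.restr (AlgSt.overMap (d i j)) _).mapIso j₁ ≪≫
      (post _ (BasedFunctor.comp y (FibCat.fpFst H H))).mapIso dc)
  obtain ⟨β⟩ := lift hg₂ (v := BasedFunctor.comp y (FibCat.fpSnd H H))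
    ((post _ x).mapIso i₂.symm ≪≫ j₂ ≪≫
      (post _ (BasedFunctor.comp y (FibCat.fpSnd H H))).mapIso dc)
  let a := BasedFunctor.comp (AlgSt.overMap (subUIncl V)) x
  let b := BasedFunctor.comp (AlgSt.overMap (subUIncl W)) x
  obtain ⟨w, ⟨l⟩⟩ := exists_pair_lift' a b H y₁ _ _ α β
  exact repData_congr l (RepData.of_equiv _
    (pasteBase_isEquivOver (pairMap a b H) (FibCat.diag H) w) (Iso.refl _)
    ((repWith_equiv_comp_iff (f := FibCat.fpFst (pairMap a b H) (FibCat.diag H))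
      (magicFun_isEquivOver a b H)).2 (key hV hW) _ w))

end Groth.Agent.H14AlgSt
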