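import Groth.Agent.H8Props.FibreCriterion
import Groth.Agent.H17.Fibre
import Groth.Agent.H8Props.FlatLocus.Scheme
import Groth.Agent.S1386
import Mathlib.RingTheory.AlgebraicIndependent.TranscendenceBasis
import Mathlib.RingTheory.Algebraic.Integral
import Mathlib.AlgebraicGeometry.ZariskisMainTheorem
import Groth.Agent.H12AlgSp.SliceAlg

/-!
# Flat quasi-finite coordinates taken from a prescribed algebra
-/

set_option autoImplicit false
set_option backward.isDefEq.respectTransparency false
set_option backward.isDefEq.respectTransparency.types false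

universe u

open CategoryTheory CategoryTheory.Limits AlgebraicGeometry TensorProduct IsLocalRing

noncomputable section

namespace Groth.Agent.H14AlgSt

/-- An algebra quasi-finite over its subalgebra of coordinates is algebraic over it modulo a prime. -/
lemma isAlgebraic_adjoin_of_quasiFinite {R B C A : Type u} [CommRing R] [CommRing B] [CommRing C]
    [CommRing A] [Algebra R B] [Algebra R C] [Algebra B A] [Algebra C A] [Algebra R A]
    [IsScalarTower R B A] [IsScalarTower R C A]
    (h : (Algebra.TensorProduct.productMap (IsScalarTower.toAlgHom R B A)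
      (IsScalarTower.toAlgHom R C A)).toRingHom.QuasiFinite) (η : Ideal A) [η.IsPrime] :
    Algebra.IsAlgebraic (Algebra.adjoin B (Set.range fun c : C => Ideal.Quotient.mk η (algebraMap C A c)))
      (A ⧸ η) := by
  let Φ := Algebra.TensorProduct.productMap (IsScalarTower.toAlgHom R B A)
    (IsScalarTower.toAlgHom R C A)
  let P := B ⊗[R] C
  let := Φ.toRingHom.toAlgebra
  have : Algebra.QuasiFinite P A := h
  let p : Ideal P := η.comap (algebraMap P A)
  have : η.LiesOver p := ⟨rfl⟩
  have : Algebra.QuasiFiniteAt P η := inferInstance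
  let := Localization.AtPrime.algebraOfLiesOver p η
  have : Module.Finite p.ResidueField η.ResidueField := inferInstance
  let D := Algebra.adjoin B (Set.range fun c : C => Ideal.Quotient.mk η (algebraMap C A c))
  have hD : ∀ z : P, Ideal.Quotient.mk η (algebraMap P A z) ∈ D := fun z => by
    induction z using TensorProduct.induction_on with
    | zero => rw [map_zero, map_zero]; exact D.zero_mem
    | tmul b c =>
      rw [show algebraMap P A (b ⊗ₜ c) = algebraMap B A b * algebraMap C A c by
        rw [RingHom.algebraMap_toAlgebra]; exact Algebra.TensorProduct.productMap_apply_tmul _ _ _ _, map_mul]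
      exact D.mul_mem (D.algebraMap_mem b) (Algebra.subset_adjoin ⟨c, rfl⟩)
    | add a b ha hb => simp only [map_add]; exact D.add_mem ha hb
  refine ⟨fun a => ?_⟩
  obtain ⟨a, rfl⟩ := Ideal.Quotient.mk_surjective a
  have h1 : IsAlgebraic p.ResidueField (algebraMap A η.ResidueField a) :=
    (IsIntegral.of_finite p.ResidueField _).isAlgebraic
  let : Algebra (P ⧸ p) η.ResidueField :=
    ((algebraMap p.ResidueField η.ResidueField).comp (algebraMap (P ⧸ p) p.ResidueField)).toAlgebra
  have : IsScalarTower (P ⧸ p) p.ResidueField η.ResidueField := IsScalarTower.of_algebraMap_eq fun _ => rfl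
  have : IsScalarTower P (P ⧸ p) η.ResidueField := IsScalarTower.of_algebraMap_eq (R := P) (S := P ⧸ p) (A := η.ResidueField) fun z => by
    rw [IsScalarTower.algebraMap_apply P p.ResidueField η.ResidueField,
      IsScalarTower.algebraMap_apply P (P ⧸ p) p.ResidueField]
    rfl
  have h2 : IsAlgebraic (P ⧸ p) (algebraMap A η.ResidueField a) :=
    (IsFractionRing.isAlgebraic_iff (P ⧸ p) p.ResidueField η.ResidueField).2 h1
  obtain ⟨F, hF0, hF⟩ := h2
  obtain ⟨G, rfl⟩ := Polynomial.map_surjective _ Ideal.Quotient.mk_surjective F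
  let θ : P →+* D := ((Ideal.Quotient.mk η).comp (algebraMap P A)).codRestrict D hD
  refine ⟨G.map θ, fun h0 => hF0 ?_, ?_⟩
  · ext i
    rw [Polynomial.coeff_map, Polynomial.coeff_zero, Ideal.Quotient.eq_zero_iff_mem]
    have hi : θ (G.coeff i) = 0 := by rw [← Polynomial.coeff_map, h0, Polynomial.coeff_zero]
    exact (Ideal.Quotient.eq_zero_iff_mem (I := η)).1 (congrArg Subtype.val hi)
  · have hinj := Ideal.Quotient.mk_surjective (I := η)
    rw [Polynomial.aeval_def, Polynomial.eval₂_map,
      show (algebraMap D (A ⧸ η)).comp θ = (Ideal.Quotient.mk η).comp (algebraMap P A) from rfl,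
      ← Polynomial.hom_eval₂]
    rw [Ideal.Quotient.eq_zero_iff_mem, ← Ideal.algebraMap_residueField_eq_zero,
      Polynomial.hom_eval₂, ← IsScalarTower.algebraMap_eq]
    rw [Polynomial.aeval_def, Polynomial.eval₂_map] at hF
    rw [show (algebraMap (P ⧸ p) η.ResidueField).comp (Ideal.Quotient.mk p) = algebraMap P η.ResidueField from
      (IsScalarTower.algebraMap_eq P (P ⧸ p) η.ResidueField).symm] at hF
    exact hF

/-- Finitely many elements of `C` algebraically independent modulo a prime, over which the quotient is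
algebraic. -/
lemma exists_indep_coordinates {R B C A : Type u} [CommRing R] [CommRing B] [CommRing C]
    [CommRing A] [Algebra R B] [Algebra R C] [Algebra B A] [Algebra C A] [Algebra R A]
    [IsScalarTower R B A] [IsScalarTower R C A] [Algebra.FiniteType B A]
    (h : (Algebra.TensorProduct.productMap (IsScalarTower.toAlgHom R B A)
      (IsScalarTower.toAlgHom R C A)).toRingHom.QuasiFinite) (η : Ideal A) [η.IsPrime] :
    ∃ (κ : Type u) (_ : Finite κ) (f : κ → C),
      let φ : MvPolynomial κ B →ₐ[B] A := MvPolynomial.aeval fun i => algebraMap C A (f i)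
      η.comap φ = (η.comap (algebraMap B A)).map MvPolynomial.C ∧
        ∀ Q : Ideal A, Q.IsPrime → η ≤ Q → Q.comap φ = η.comap φ → Q = η := by
  classical
  let u := η.comap (algebraMap B A)
  let K := A ⧸ η
  let B₀ := B ⧸ u
  let : Algebra B₀ K := (Ideal.quotientMap η (algebraMap B A) le_rfl).toAlgebra
  have : IsScalarTower B B₀ K := IsScalarTower.of_algebraMap_eq fun b => rfl
  have hinj : Function.Injective (algebraMap B₀ K) := Ideal.quotientMap_injective
  have : FaithfulSMul B₀ K := (faithfulSMul_iff_algebraMap_injective B₀ K).2 hinj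
  let s : Set K := Set.range fun c : C => Ideal.Quotient.mk η (algebraMap C A c)
  have hle : Algebra.adjoin B s ≤ (Algebra.adjoin B₀ s).restrictScalars B :=
    Algebra.adjoin_le fun x hx => Algebra.subset_adjoin hx
  have halg : Algebra.IsAlgebraic (Algebra.adjoin B₀ s) K := ⟨fun a => by
    refine ((isAlgebraic_adjoin_of_quasiFinite h η).isAlgebraic a).ringHom_of_comp_eq
      (Subalgebra.inclusion hle).toRingHom (RingHom.id K) (Subalgebra.inclusion_injective hle) rfl⟩
  obtain ⟨t, hts, htb⟩ := exists_isTranscendenceBasis_subset (R := B₀) s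
  have : Finite t := by
    have : Algebra.FiniteType B K := inferInstance
    have : Algebra.FiniteType B₀ K := Algebra.FiniteType.of_restrictScalars_finiteType B B₀ K
    obtain ⟨gs, hgs⟩ := ‹Algebra.FiniteType B₀ K›
    have : Algebra.IsAlgebraic (Algebra.adjoin B₀ (gs : Set K)) K :=
      ⟨fun a => isAlgebraic_algebraMap (⟨a, hgs.ge trivial⟩ : Algebra.adjoin B₀ (gs : Set K))⟩
    obtain ⟨t', ht', htb'⟩ := exists_isTranscendenceBasis_subset (R := B₀) (gs : Set K)
    have : Finite t' := (gs.finite_toSet.subset ht').to_subtype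
    rw [← Cardinal.lt_aleph0_iff_finite, htb.cardinalMk_eq htb']
    exact Cardinal.lt_aleph0_of_finite _
  choose f hf using fun i : t => hts i.2
  refine ⟨t, inferInstance, f, ?_⟩
  intro φ
  have hφ : ∀ z, Ideal.Quotient.mk η (φ z) =
      MvPolynomial.aeval ((↑) : t → K) (MvPolynomial.map (Ideal.Quotient.mk u) z) := fun z => by
    induction z using MvPolynomial.induction_on with
    | C b => simp [φ]; rfl
    | add p q hp hq => simp [hp, hq]
    | mul_X p i hp => simp [hp, φ, hf]
  refine ⟨Ideal.ext fun z => ?_, fun Q hQ hle' hcomap => le_antisymm (fun a haQ => ?_) hle'⟩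
  · rw [Ideal.mem_comap, ← Ideal.Quotient.eq_zero_iff_mem, hφ,
      map_eq_zero_iff _ htb.1, ← RingHom.mem_ker, MvPolynomial.ker_map,
      Ideal.mk_ker]
  · by_contra ha
    have h1 : IsAlgebraic (Algebra.adjoin B₀ (Set.range ((↑) : t → K))) (Ideal.Quotient.mk η a) :=
      htb.isAlgebraic.isAlgebraic _
    obtain ⟨⟨r, hr⟩, hr0, m, hm⟩ := h1.exists_nonzero_dvd (mem_nonZeroDivisors_iff_ne_zero.2
      (mt Ideal.Quotient.eq_zero_iff_mem.1 ha))
    rw [Algebra.adjoin_range_eq_range_aeval] at hr
    obtain ⟨z₀, hz₀⟩ := hr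
    obtain ⟨z, rfl⟩ := MvPolynomial.map_surjective _ Ideal.Quotient.mk_surjective z₀
    obtain ⟨m, rfl⟩ := Ideal.Quotient.mk_surjective m
    have hm' : Ideal.Quotient.mk η (φ z) = Ideal.Quotient.mk η (a * m) := by
      rw [map_mul, hφ]
      exact hz₀.trans hm
    have hzQ : φ z ∈ Q := by
      have := hle' (Ideal.Quotient.eq.1 hm')
      simpa using Q.add_mem this (Q.mul_mem_right m haQ)
    have hzη : φ z ∈ η := by
      have : z ∈ η.comap φ := hcomap.le hzQ
      exact this
    refine hr0 (Subtype.ext ?_)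
    exact (hz₀.symm.trans (hφ z).symm).trans (Ideal.Quotient.eq_zero_iff_mem.2 hzη)

/-- A flat algebra of finite presentation, quasi-finite over `B ⊗ C`, is flat and quasi-finite over
coordinates taken from `C`, near a generic point of a fibre. -/
theorem exists_flat_qf_coordinates {R B C A : Type u} [CommRing R] [CommRing B] [CommRing C]
    [CommRing A] [Algebra R B] [Algebra R C] [Algebra B A] [Algebra C A] [Algebra R A]
    [IsScalarTower R B A] [IsScalarTower R C A] [Module.Flat B A] [Algebra.FinitePresentation B A]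
    (h : (Algebra.TensorProduct.productMap (IsScalarTower.toAlgHom R B A)
      (IsScalarTower.toAlgHom R C A)).toRingHom.QuasiFinite) (r : Ideal A) [r.IsPrime] :
    ∃ (κ : Type u) (_ : Finite κ) (f : κ → C) (η : PrimeSpectrum A) (g : A), g ∉ η.asIdeal ∧
      η.asIdeal.comap (algebraMap B A) = r.comap (algebraMap B A) ∧
      let a : Spec (CommRingCat.of (Localization.Away g)) ⟶ Spec (CommRingCat.of (MvPolynomial κ B)) :=
        Spec.map (CommRingCat.ofHom (MvPolynomial.aeval (R := B) fun i =>
          algebraMap A (Localization.Away g) (algebraMap C A (f i))).toRingHom)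
      Flat a ∧ LocallyOfFinitePresentation a ∧ LocallyQuasiFinite a := by
  classical
  let u := r.comap (algebraMap B A)
  obtain ⟨η₀, hη, hηr⟩ := Ideal.exists_minimalPrimes_le (I := u.map (algebraMap B A))
    (Ideal.map_comap_le : u.map (algebraMap B A) ≤ r)
  have : η₀.IsPrime := hη.1.1
  have hηu : η₀.comap (algebraMap B A) = u :=
    le_antisymm (Ideal.comap_mono hηr) (Ideal.map_le_iff_le_comap.1 hη.1.2)
  let η : PrimeSpectrum A := ⟨η₀, inferInstance⟩
  obtain ⟨κ, _, f, hn, hmax⟩ := exists_indep_coordinates h η₀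
  let φ : MvPolynomial κ B →ₐ[B] A := MvPolynomial.aeval fun i => algebraMap C A (f i)
  let := φ.toRingHom.toAlgebra
  have : IsScalarTower B (MvPolynomial κ B) A := IsScalarTower.of_algebraMap_eq fun x => (φ.commutes x).symm
  have : Algebra.FinitePresentation (MvPolynomial κ B) A :=
    Algebra.FinitePresentation.of_restrict_scalars_finitePresentation B _ A
  let Φ : Spec (CommRingCat.of A) ⟶ Spec (CommRingCat.of (MvPolynomial κ B)) :=
    Spec.map (CommRingCat.ofHom φ.toRingHom)
  let gS : Spec (CommRingCat.of (MvPolynomial κ B)) ⟶ Spec (CommRingCat.of B) :=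
    Spec.map (CommRingCat.ofHom (algebraMap B (MvPolynomial κ B)))
  have hfg : Φ ≫ gS = Spec.map (CommRingCat.ofHom (algebraMap B A)) := by
    rw [← Spec.map_comp]; congr 1; ext a; exact φ.commutes a
  have : LocallyOfFinitePresentation gS := (HasRingHomProperty.Spec_iff (P := @LocallyOfFinitePresentation)).2
    (RingHom.finitePresentation_algebraMap.2 inferInstance)
  have : LocallyOfFinitePresentation (Φ ≫ gS) := hfg ▸
    (HasRingHomProperty.Spec_iff (P := @LocallyOfFinitePresentation)).2
      (RingHom.finitePresentation_algebraMap.2 inferInstance)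
  have : Flat (Φ ≫ gS) := hfg ▸ (HasRingHomProperty.Spec_iff (P := @Flat)).2
    (RingHom.flat_algebraMap_iff.2 inferInstance)
  have hΦ : LocallyOfFinitePresentation Φ := (HasRingHomProperty.Spec_iff (P := @LocallyOfFinitePresentation)).2
    (RingHom.finitePresentation_algebraMap.2 inferInstance)
  have hu : (Φ η).asIdeal.comap (algebraMap B (MvPolynomial κ B)) = u := by
    rw [← hηu]
    exact congrArg PrimeSpectrum.asIdeal (congrArg (fun m => m η) hfg)
  have hxqf : Φ.QuasiFiniteAt η := by
    rw [H17.quasiFiniteAt_iff_isClosed_and_max]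
    have key : ∀ Q : PrimeSpectrum A, Φ Q = Φ η → η ⤳ Q → Q = η := fun Q hQ hsp =>
      PrimeSpectrum.ext (hmax Q.asIdeal Q.2 ((PrimeSpectrum.le_iff_specializes _ _).2 hsp)
        (congrArg PrimeSpectrum.asIdeal hQ))
    have hι := (Φ.fiberι (Φ η)).isEmbedding
    refine ⟨?_, fun x' hx' => hι.injective ?_⟩
    · have : ({Φ.asFiber η} : Set (Φ.fiber (Φ η))) = Φ.fiberι (Φ η) ⁻¹' closure {η} := by
        ext z
        simp only [Set.mem_preimage, Set.mem_singleton_iff, ← specializes_iff_mem_closure]
        refine ⟨fun e => by rw [e, Scheme.Hom.fiberι_asFiber], fun e => hι.injective ?_⟩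
        rw [Scheme.Hom.fiberι_asFiber]
        exact key _ ((Φ.range_fiberι (Φ η)).le ⟨z, rfl⟩) e
      rw [this]
      exact isClosed_closure.preimage hι.continuous
    · have hle := (PrimeSpectrum.le_iff_specializes _ _).2 (hx'.map hι.continuous)
      rw [Scheme.Hom.fiberι_asFiber] at hle ⊢
      have he : Φ (Φ.fiberι (Φ η) x') = Φ η := (Φ.range_fiberι (Φ η)).le ⟨x', rfl⟩
      refine PrimeSpectrum.ext (le_antisymm hle (hη.2 ⟨(Φ.fiberι (Φ η) x').2, ?_⟩ hle))
      rw [Ideal.map_le_iff_le_comap, ← hu]
      exact le_of_eq ((congrArg (fun q : PrimeSpectrum (MvPolynomial κ B) => q.asIdeal.comap (algebraMap B (MvPolynomial κ B))) he).symm.trans (congrArg PrimeSpectrum.asIdeal (congrArg (fun m => m (Φ.fiberι (Φ η) x')) hfg)))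
  have hxflat : (Φ.stalkMap η).hom.Flat := by
    refine ((S1386.result Φ gS).1 η |>.1 ⟨Flat.stalkMap (Φ ≫ gS) η, ?_⟩).2
    let s := gS (Φ η)
    let z := (Φ ≫ gS).asFiber η
    let w := MoreMor.fiberMap Φ gS s z
    have hw : gS.fiberι s w = Φ η := by
      rw [← Scheme.Hom.comp_apply, H8Props.FibreCriterion.fiberMap_fiberι, Scheme.Hom.comp_apply]
      exact congrArg Φ ((Φ ≫ gS).fiberι_asFiber η)
    have hm : (maximalIdeal ((Spec (CommRingCat.of B)).presheaf.stalk (gS (Φ η)))).map
        (gS.stalkMap (Φ η)).hom = maximalIdeal _ := by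
      let e := Scheme.arrowStalkMapSpecIso (CommRingCat.ofHom (algebraMap B (MvPolynomial κ B))) (Φ η)
      let eL : ((Spec (CommRingCat.of B)).presheaf.stalk (gS (Φ η))) ≃+* _ :=
        (Arrow.leftFunc.mapIso e).commRingCatIsoToRingEquiv
      let eR : ((Spec (CommRingCat.of (MvPolynomial κ B))).presheaf.stalk (Φ η)) ≃+*
          Localization.AtPrime (Φ η).asIdeal := (Arrow.rightFunc.mapIso e).commRingCatIsoToRingEquiv
      have hsq : eR.toRingHom.comp (gS.stalkMap (Φ η)).hom =
          (Localization.localRingHom _ (Φ η).asIdeal (algebraMap B (MvPolynomial κ B)) rfl).comp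
            eL.toRingHom :=
        congrArg CommRingCat.Hom.hom e.hom.w.symm
      apply Ideal.comap_injective_of_surjective eR.symm.toRingHom eR.symm.surjective
      have h1 : ∀ (S T : Type u) [CommRing S] [CommRing T] [IsLocalRing S] [IsLocalRing T] (d : S ≃+* T),
          (maximalIdeal S).map d.toRingHom = maximalIdeal T := fun S T _ _ _ _ d =>
        eq_maximalIdeal (Ideal.map_isMaximal_of_equiv d)
      rw [show ∀ J, Ideal.comap eR.symm.toRingHom J = J.map eR.toRingHom from fun J => Ideal.comap_symm eR,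
        show ∀ J, Ideal.comap eR.symm.toRingHom J = J.map eR.toRingHom from fun J => Ideal.comap_symm eR]
      rw [Ideal.map_map, hsq, ← Ideal.map_map, h1]
      refine Eq.trans ?_ (h1 _ _ eR).symm
      rw [← Localization.AtPrime.map_eq_maximalIdeal, Ideal.map_map,
        show (Localization.localRingHom _ (Φ η).asIdeal (algebraMap B (MvPolynomial κ B)) rfl).comp
            (algebraMap B _) = (algebraMap (MvPolynomial κ B) _).comp (algebraMap B _) from
          RingHom.ext fun b => Localization.localRingHom_to_map _ _ _ rfl b,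
        ← Ideal.map_map, show Ideal.map (algebraMap B (MvPolynomial κ B))
          ((Φ η).asIdeal.comap (algebraMap B (MvPolynomial κ B))) = (Φ η).asIdeal by
            rw [hu, MvPolynomial.algebraMap_eq]; exact (hn.trans (congrArg _ hηu)).symm,
        Localization.AtPrime.map_eq_maximalIdeal]
    let a := H8Props.FibreStalk.toFibre gS (Φ η) s w hw
    have hbot : maximalIdeal ((gS.fiber s).presheaf.stalk w) = ⊥ := by
      have hsurj := H8Props.FibreStalk.toFibre_surjective gS (Φ η) s w hw
      rw [← Ideal.map_comap_of_surjective _ hsurj (maximalIdeal _), eq_bot_iff, Ideal.map_le_iff_le_comap]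
      intro x hx
      have : x ∈ maximalIdeal _ := le_maximalIdeal (Ideal.comap_ne_top _ (maximalIdeal.isMaximal _).ne_top) hx
      rw [← hm, ← H8Props.FibreCriterion.ker_toFibre_of_eq gS (Φ η) s rfl w hw] at this
      exact this
    letI := (isField_iff_maximalIdeal_eq.2 hbot).toField
    letI := ((MoreMor.fiberMap Φ gS s).stalkMap z).hom.toAlgebra
    exact (inferInstance : Module.Flat ((gS.fiber s).presheaf.stalk w) (((Φ ≫ gS).fiber s).presheaf.stalk z))
  have hOo : IsOpen ({y : Spec (CommRingCat.of A) | (Φ.stalkMap y).hom.Flat} ∩ {y | Φ.QuasiFiniteAt y}) :=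
    (H8Props.FlatLocus.isOpen_setOf_flat_stalkMap Φ).inter Φ.isOpen_quasiFiniteAt
  have hηO : η ∈ ({y : Spec (CommRingCat.of A) | (Φ.stalkMap y).hom.Flat} ∩ {y | Φ.QuasiFiniteAt y}) :=
    ⟨hxflat, hxqf⟩
  obtain ⟨_, ⟨g, rfl⟩, hg, hle⟩ := PrimeSpectrum.isTopologicalBasis_basic_opens.exists_subset_of_mem_open
    hηO hOo
  let ag : Spec (CommRingCat.of (Localization.Away g)) ⟶ Spec (CommRingCat.of A) :=
    Spec.map (CommRingCat.ofHom (algebraMap A (Localization.Away g)))
  have : IsOpenImmersion ag := IsOpenImmersion.of_isLocalization g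
  have hag : ∀ y, (Φ.stalkMap (ag y)).hom.Flat ∧ Φ.QuasiFiniteAt (ag y) := fun y =>
    hle ((PrimeSpectrum.localization_away_comap_range (Localization.Away g) g).le ⟨y, rfl⟩)
  refine ⟨κ, ‹_›, f, η, g, hg, hηu, ?_⟩
  have e : Spec.map (CommRingCat.ofHom (MvPolynomial.aeval (R := B) fun i =>
      algebraMap A (Localization.Away g) (algebraMap C A (f i))).toRingHom) = ag ≫ Φ := by
    rw [← Spec.map_comp, ← CommRingCat.ofHom_comp]
    congr 2
    refine MvPolynomial.ringHom_ext (fun b => ?_) fun i => ?_
    · simp [φ, IsScalarTower.algebraMap_apply B A (Localization.Away g)]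
    · simp [φ]
  intro a
  rw [show a = ag ≫ Φ from e]
  refine ⟨(AlgebraicGeometry.Flat.iff_flat_stalkMap _).2 fun y => ?_, inferInstance,
    ((ag ≫ Φ).quasiFiniteLocus_eq_top_iff).1 (top_unique fun y _ => ?_)⟩
  · rw [Scheme.Hom.stalkMap_comp]
    exact RingHom.Flat.comp (hag y).1
      (RingHom.Flat.of_bijective (ConcreteCategory.bijective_of_isIso (ag.stalkMap y)))
  · exact Scheme.Hom.quasiFiniteAt_comp_iff_of_isOpenImmersion.2 (hag y).2

end Groth.Agent.H14AlgSt
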