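import Groth.Agent.H14AlgSt.QFSliceScheme
import Groth.Agent.H14AlgSt.ChartRel
import Groth.Agent.H14AlgSt.MonoQC
import Groth.Agent.H12AlgSp.SliceMain
import Groth.Agent.H13AlgSp.FppfSource
import Groth.Agent.S10527
import Groth.Agent.S10530
import Groth.Agent.S10541

/-!
# A flat, locally quasi-finite cover of a stack with quasi-finite separated diagonal
-/

set_option autoImplicit false
set_option linter.unusedVariables false
set_option backward.isDefEq.respectTransparency false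
set_option backward.isDefEq.respectTransparency.types false

universe u

open CategoryTheory CategoryTheory.Functor Opposite AlgebraicGeometry CategoryTheory.Limits

noncomputable section

namespace Groth.Agent.H14AlgSt

open H14Fib H14Stk

variable {S : Scheme.{u}} {𝒳 : AlgSt.Cat S} {U W R : Over S}

local notation "K₀" => Scheme.fppfPrecoverage

/-- A property of a pullback functor is a property of the map of schemes. -/
lemma prop_of_repWith_overMap {P : MorphismProperty Scheme.{u}} (hP : H12AlgSp.EtLocal P)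
    {A V : Over S} {φ : A ⟶ V} (h : AlgSt.RepByAlgSpWith (AlgSp.LocP P) (AlgSt.overMap φ)) :
    P φ.left := by
  have hd := prop_of_repWith_spMap (sourceIsoInv_locP _)
    (F := ⟨_, AlgSp.IsAlgSpace.yon_obj A⟩) ((repWith_equiv_comp_iff (toOverCat_isEquivOver A)).1 h)
  rw [spMapOfOver_overMap, spMapOfOver_toOverCat, Category.id_comp] at hd
  exact (locP_yon_iff hP φ).1 hd

/-- Restricting the second leg of the relation of a chart along a map. -/
theorem exists_restricted_relation {x : FibCat.overCat U ⥤ᵇ 𝒳} {K : FibCat.overCat R ⥤ᵇ FibCat.fp x x}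
    {t s : R ⟶ U} (hK : FibCat.IsEquivOver K)
    (jt : BasedFunctor.comp K (FibCat.fpFst x x) ≅ AlgSt.overMap t)
    (js : BasedFunctor.comp K (FibCat.fpSnd x x) ≅ AlgSt.overMap s) (d : W ⟶ U) :
    ∃ K' : FibCat.overCat (pullback d s) ⥤ᵇ FibCat.fp x (BasedFunctor.comp (AlgSt.overMap d) x),
      FibCat.IsEquivOver K' ∧
      Nonempty (BasedFunctor.comp K' (FibCat.fpFst _ _) ≅ AlgSt.overMap (pullback.snd d s ≫ t)) ∧
      Nonempty (BasedFunctor.comp K' (FibCat.fpSnd _ _) ≅ AlgSt.overMap (pullback.fst d s)) := by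
  obtain ⟨E, hE, ⟨k₁⟩, ⟨k₂⟩⟩ := exists_equiv_overMap_pullback d s
  obtain ⟨⟨_, _⟩, hKs⟩ := (isEquivOver_iff _).1 hK
  let M : FibCat.fp (AlgSt.overMap d) (AlgSt.overMap s) ⥤ᵇ
      FibCat.fp (AlgSt.overMap d) (FibCat.fpSnd x x) :=
    fpMap (F := AlgSt.overMap d) (G := FibCat.fpSnd x x) (BasedFunctor.id (FibCat.overCat W)) K
      (BasedFunctor.id (FibCat.overCat U))
      (Iso.refl (BasedFunctor.comp (AlgSt.overMap d) (BasedFunctor.id (FibCat.overCat U)))) js.symm
  have hM : FibCat.IsEquivOver M := fpMap_isEquivOver _ _ _ _ _ (essSurjOver_id _) hKs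
  let C := BasedFunctor.comp (fpSwap (AlgSt.overMap d) (FibCat.fpSnd x x))
    (pasteComp x x (AlgSt.overMap d))
  have hC : FibCat.IsEquivOver C :=
    isEquivOver_comp (fpSwap_isEquivOver _ _) (pasteComp_isEquivOver _ _ _)
  exact ⟨BasedFunctor.comp (BasedFunctor.comp E M) C, isEquivOver_comp (isEquivOver_comp hE hM) hC,
    ⟨(post _ (BasedFunctor.comp K (FibCat.fpFst x x))).mapIso k₂ ≪≫
      (Stk.restr (AlgSt.overMap (pullback.snd d s)) _).mapIso jt ≪≫ overMapCompIso _ t⟩, ⟨k₁⟩⟩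

/-- A chart is flat, locally of finite presentation, quasi-finite and surjective when its relation
with an atlas is so, flatness being needed on a part covering the chart. -/
theorem repWith_of_relation (h𝒳 : AlgSt.IsAlgStack K₀ 𝒳) {x : FibCat.overCat U ⥤ᵇ 𝒳}
    (hx : AlgSt.RepByAlgSpWith (AlgSp.LocP @Smooth) x) (hxs : AlgSt.RepByAlgSpWith AlgSp.IsSurjectiveMor x)
    {y : FibCat.overCat W ⥤ᵇ 𝒳} {K : FibCat.overCat R ⥤ᵇ FibCat.fp x y} (hK : FibCat.IsEquivOver K)
    {t : R ⟶ U} {s : R ⟶ W} (jt : BasedFunctor.comp K (FibCat.fpFst x y) ≅ AlgSt.overMap t)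
    (js : BasedFunctor.comp K (FibCat.fpSnd x y) ≅ AlgSt.overMap s)
    [LocallyOfFinitePresentation t.left] [LocallyQuasiFinite t.left] [Smooth s.left]
    (ht : Function.Surjective t.left) (L : R.left.Opens)
    (hflat : Flat (L.ι ≫ t.left)) (hcov : ∀ w : W.left, ∃ r ∈ L, s.left r = w) :
    AlgSt.RepByAlgSpWith
      (AlgSp.LocP (@Flat ⊓ @LocallyOfFinitePresentation ⊓ @LocallyQuasiFinite) ⊓ AlgSp.IsSurjectiveMor) y := by
  have hX := h𝒳.isStack.1
  have hy1 := rep1_chart h𝒳 y
  let α : BasedFunctor.comp (AlgSt.overMap t) x ≅ BasedFunctor.comp (AlgSt.overMap s) y :=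
    (post _ x).mapIso jt.symm ≪≫ (Stk.restr K 𝒳).mapIso (FibCat.fpIso x y) ≪≫ (post _ y).mapIso js
  -- flatness, from the open part
  let T : Over S := Over.mk (L.ι ≫ R.hom)
  let i : T ⟶ R := Over.homMk L.ι rfl
  have : Smooth (i ≫ s).left := inferInstanceAs (Smooth (L.ι ≫ s.left))
  have hsT : Surjective (i ≫ s).left := ⟨fun w => by
    obtain ⟨r, hr, e⟩ := hcov w
    exact ⟨(⟨r, hr⟩ : L.toScheme), e⟩⟩
  have hyf : AlgSt.RepByAlgSpWith (AlgSp.LocP @Flat) y := by
    let β : BasedFunctor.comp (AlgSt.overMap (i ≫ s)) y ≅ BasedFunctor.comp (AlgSt.overMap (i ≫ t)) x :=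
      (post _ y).mapIso (overMapCompIso i s).symm ≪≫ (Stk.restr (AlgSt.overMap i) 𝒳).mapIso α.symm ≪≫
        (post _ x).mapIso (overMapCompIso i t)
    refine repWith_of_comp_cover (Q := AlgSp.LocP @Smooth ⊓ AlgSp.IsSurjectiveMor) (sourceIsoInv_locP _)
      (sourceIsoInv_inf (sourceIsoInv_locP _) sourceIsoInv_surjective)
      (testOnSchemes_inf (testOnSchemes_locP _) testOnSchemes_surjective)
      (fun A B C hA hB hC τ π hτ hh => H13AlgSp.locP_of_surjective (P' := @Flat)
        H13AlgSp.flat_of_jointly_surjective hA hB hC hτ.2 (H12AlgSp.locP_mono smooth_le_flat hτ.1) hh)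
      (fibGrpd_overCat _) (fibGrpd_overCat _) hy1
      (repWith_inf sourceIsoInv_surjective (repWith_overMap_smooth (i ≫ s)) (repWith_overMap_surj _ hsT))
      (repWith_of_iso β.symm (repWith_locP_comp H12AlgSp.etLocal_flat (fibGrpd_overCat _) (fibGrpd_overCat _)
        (repWith_overMap H12AlgSp.etLocal_flat (i ≫ t) hflat) (repWith_locP_mono smooth_le_flat hx)))
  have htf : Flat t.left := prop_of_repWith_overMap H12AlgSp.etLocal_flat
    (repWith_of_iso jt ((repWith_equiv_comp_iff hK).1 (repWith_fpFst x hyf)))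
  -- descent along the atlas
  have key : ∀ {P : MorphismProperty Scheme.{u}}, H12AlgSp.EtLocal P →
      AlgSp.IsLocalOnBase (AlgSp.IsFpqcCover (S := S)) (AlgSp.LocP P) → P t.left →
      AlgSt.RepByAlgSpWith (AlgSp.LocP P) y := fun {P} hP hloc h =>
    repWith_of_fppf (localFppf_of_fpqc hloc) (sourceIsoInv_locP _) hy1
      (repWith_locP_mono smooth_le_flat hx) (repWith_locP_mono smooth_le_lfp hx) hxs
      ((repWith_equiv_comp_iff hK).2 (repWith_of_iso jt.symm (repWith_overMap hP t h)))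
  have h1 := key H12AlgSp.etLocal_flat (S10530.result S) htf
  have h2 := key H12AlgSp.etLocal_lfp (S10527.result S) ‹_›
  have h3 := key (H12AlgSp.etLocal_inf H12AlgSp.etLocal_lqf H12AlgSp.etLocal_lft) (S10541.result S).1
    ⟨‹_›, inferInstance⟩
  have h4 : AlgSt.RepByAlgSpWith AlgSp.IsSurjectiveMor y := by
    refine repWith_surjective_of_points (fibGrpd_overCat _) hX hy1 fun q => ?_
    obtain ⟨u, rfl⟩ := ofChart_surjective hX hxs q
    obtain ⟨r, rfl⟩ := ht u
    refine ⟨AlgSt.Points.ofChart (BasedFunctor.id (FibCat.overCat W)) (s.left r), ?_⟩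
    rw [← ofChart_eq_map, ← ofChart_comp_overMap y s r, ← ofChart_iso α r, ofChart_comp_overMap]
  refine repWith_mono (fun _ _ _ hh => ?_)
    (repWith_inf sourceIsoInv_surjective
      (repWith_inf (sourceIsoInv_locP _) (repWith_inf (sourceIsoInv_locP _) h1 h2) h3) h4)
  exact ⟨H12AlgSp.locP_inf_iff.2 ⟨H12AlgSp.locP_inf_iff.2 hh.1.1,
    (H12AlgSp.locP_inf_iff.1 hh.1.2).1⟩, hh.2⟩

/-- A stack with separated, locally quasi-finite diagonal has a flat locally quasi-finite chart. -/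
theorem exists_flat_qf_cover (h𝒳 : AlgSt.IsAlgStack K₀ 𝒳)
    (hsep : AlgSt.RepByAlgSpWith AlgSp.IsSeparatedMor (FibCat.diag (FibCat.toSelf 𝒳)))
    (hqf : AlgSt.RepByAlgSpWith (AlgSp.LocP (@LocallyQuasiFinite ⊓ @LocallyOfFiniteType))
      (FibCat.diag (FibCat.toSelf 𝒳))) :
    ∃ (W : Over S) (w : FibCat.overCat W ⥤ᵇ 𝒳),
      AlgSt.RepByAlgSpWith
        (AlgSp.LocP (@Flat ⊓ @LocallyOfFinitePresentation ⊓ @LocallyQuasiFinite) ⊓ AlgSp.IsSurjectiveMor) w := by
  classical
  obtain ⟨U, x, hx, hxs⟩ := id h𝒳.atlas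
  obtain ⟨R, K, hK, t, s, ⟨jt⟩, ⟨js⟩, hlqf⟩ := exists_scheme_relation hsep hqf x
  have : Smooth t.left := prop_of_repWith_overMap H12AlgSp.etLocal_smooth
    (repWith_of_iso jt ((repWith_equiv_comp_iff hK).1 (repWith_fpFst x hx)))
  have : Smooth s.left := prop_of_repWith_overMap H12AlgSp.etLocal_smooth
    (repWith_of_iso js ((repWith_equiv_comp_iff hK).1 (repWith_fpSnd x hx)))
  have htsurj : Function.Surjective t.left := fun u => by
    obtain ⟨q, hq⟩ := surjective_of_repWith (fibGrpd_overCat U)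
      (repWith_of_iso jt ((repWith_equiv_comp_iff hK).1 (repWith_fpFst x hxs)))
      (AlgSt.Points.ofChart (BasedFunctor.id (FibCat.overCat U)) u)
    exact ⟨chartPoint q, by rw [← chartPoint_overMap, hq, chartPoint_ofChart]⟩
  have hsl : ∀ r : R.left, _ := fun r =>
    exists_qf_slice U.hom t.left s.left ((Over.w t).trans (Over.w s).symm) r
  choose U' T c j hj hc hm z hz using hsl
  let U₀ : Over S := Over.mk (Sigma.desc fun r => c r ≫ U.hom)
  let d : U₀ ⟶ U := Over.homMk (Sigma.desc c) (Sigma.hom_ext _ _ fun r => by simp [U₀])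
  have : LocallyOfFinitePresentation d.left :=
    IsZariskiLocalAtSource.sigmaDesc (P := @LocallyOfFinitePresentation) hc
  let R₀ := pullback d s
  let s₀ : R₀ ⟶ U₀ := pullback.fst d s
  let t₀ : R₀ ⟶ U := pullback.snd d s ≫ t
  have sq₀ : IsPullback s₀.left (pullback.snd d s).left d.left s.left :=
    (IsPullback.of_hasPullback d s).map (Over.forget S)
  have : Smooth s₀.left := MorphismProperty.of_isPullback (P := @Smooth) sq₀.flip ‹Smooth s.left›
  have : LocallyOfFinitePresentation (pullback.snd d s).left :=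
    MorphismProperty.of_isPullback (P := @LocallyOfFinitePresentation) sq₀ ‹LocallyOfFinitePresentation d.left›
  have : LocallyOfFinitePresentation t₀.left :=
    inferInstanceAs (LocallyOfFinitePresentation ((pullback.snd d s).left ≫ t.left))
  let L : R₀.left.Opens := ⟨{p | (t₀.left.stalkMap p).hom.Flat} ∩ {p | t₀.left.QuasiFiniteAt p},
    (H8Props.FlatLocus.isOpen_setOf_flat_stalkMap t₀.left).inter t₀.left.isOpen_quasiFiniteAt⟩
  let O : U₀.left.Opens := ⟨s₀.left '' L, s₀.left.isOpenMap _ L.2⟩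
  let W₀ : Over S := Over.mk (O.ι ≫ U₀.hom)
  let iW : W₀ ⟶ U₀ := Over.homMk O.ι rfl
  obtain ⟨K', hK', ⟨jt'⟩, ⟨js'⟩⟩ := exists_restricted_relation hK jt js d
  obtain ⟨K'', hK'', ⟨jt''⟩, ⟨js''⟩⟩ := exists_restricted_relation hK jt js (iW ≫ d)
  let R₁ := pullback (iW ≫ d) s
  let s₁ : R₁ ⟶ W₀ := pullback.fst (iW ≫ d) s
  let t₁ : R₁ ⟶ U := pullback.snd (iW ≫ d) s ≫ t
  let k : R₁ ⟶ R₀ := pullback.lift (s₁ ≫ iW) (pullback.snd (iW ≫ d) s)
    (by rw [Category.assoc]; exact pullback.condition)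
  have hk : k ≫ t₀ = t₁ := by simp [k, t₀, t₁]
  have sqk : IsPullback k s₁ s₀ iW :=
    (IsPullback.of_right (h₁₂ := pullback.snd d s) (h₂₂ := d) (v₁₃ := s)
      (by rw [pullback.lift_snd]; exact (IsPullback.of_hasPullback (iW ≫ d) s).flip)
      (pullback.lift_fst _ _ _) (IsPullback.of_hasPullback d s).flip)
  have sqk' := sqk.map (Over.forget S)
  have : IsOpenImmersion k.left := MorphismProperty.of_isPullback (P := @IsOpenImmersion) sqk'.flip
    (inferInstanceAs (IsOpenImmersion O.ι))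
  have : Smooth s₁.left := MorphismProperty.of_isPullback (P := @Smooth) sqk' ‹Smooth s₀.left›
  have : LocallyOfFinitePresentation t₁.left := by
    rw [← hk]; exact inferInstanceAs (LocallyOfFinitePresentation (k.left ≫ t₀.left))
  have hmem : ∀ p, s₀.left p ∈ O → ∃ q, k.left q = p := fun p hp => by
    obtain ⟨q, hq, -⟩ := Scheme.exists_preimage_of_isPullback sqk' p (⟨_, hp⟩ : O.toScheme) rfl
    exact ⟨q, hq⟩
  have : LocallyQuasiFinite t₁.left :=
    (t₁.left.quasiFiniteLocus_eq_top_iff).1 (top_unique fun q _ => by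
      have hq : s₀.left (k.left q) ∈ O := by
        rw [← Scheme.Hom.comp_apply, ← Over.comp_left, sqk.w, Over.comp_left, Scheme.Hom.comp_apply]
        exact O.range_ι.le ⟨_, rfl⟩
      obtain ⟨l, hl, el⟩ := hq
      have h1 : t₀.left.QuasiFiniteAt (k.left q) := quasiFiniteAt_saturated hK' jt' js' el hl.2
      have h2 := Scheme.Hom.quasiFiniteAt_comp_iff_of_isOpenImmersion (f := k.left) (g := t₀.left)
        (x := q) |>.2 h1
      rw [← Over.comp_left, hk] at h2
      exact h2)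
  -- each slice meets the good locus
  have hLne : ∀ r : R.left, ∃ l ∈ L, t₀.left l = t.left r := fun r => by
    let ιr : U' r ⟶ U₀.left := Sigma.ι U' r
    let emb : pullback s.left (c r) ⟶ R₀.left := sq₀.lift (pullback.snd _ _ ≫ ιr) (pullback.fst _ _)
      (by rw [Category.assoc, show ιr ≫ d.left = c r from Sigma.ι_desc _ _]; exact pullback.condition.symm)
    have sqe : IsPullback emb (pullback.snd s.left (c r)) s₀.left ιr :=
      IsPullback.of_right (h₁₂ := (pullback.snd d s).left) (h₂₂ := d.left) (v₁₃ := s.left)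
        (by
          rw [IsPullback.lift_snd, show ιr ≫ d.left = c r from Sigma.ι_desc _ _]
          exact IsPullback.of_hasPullback s.left (c r))
        (IsPullback.lift_fst _ _ _ _) sq₀.flip
    have : IsOpenImmersion emb := MorphismProperty.of_isPullback (P := @IsOpenImmersion) sqe.flip
      (inferInstanceAs (IsOpenImmersion (Sigma.ι U' r)))
    have := hj r
    have e : (j r ≫ emb) ≫ t₀.left = j r ≫ pullback.fst s.left (c r) ≫ t.left := by
      simp only [t₀, Over.comp_left, Category.assoc, emb]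
      rw [IsPullback.lift_snd_assoc]
    obtain ⟨hfl, -, hqf⟩ := hm r
    refine ⟨(j r ≫ emb) (z r), ⟨?_, ?_⟩, ?_⟩
    · have : Flat ((j r ≫ emb) ≫ t₀.left) := by rw [e]; exact hfl
      exact H12AlgSp.Slice.flat_stalkMap_of_comp (j r ≫ emb) t₀.left (z r)
    · refine Scheme.Hom.quasiFiniteAt_comp_iff_of_isOpenImmersion.1 ?_
      rw [e]
      exact Scheme.Hom.quasiFiniteAt _ (z r)
    · rw [← Scheme.Hom.comp_apply, e]
      exact hz r
  refine ⟨W₀, _, repWith_of_relation h𝒳 hx hxs hK'' jt'' js'' ?_ (k.left ⁻¹ᵁ L) ?_ ?_⟩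
  · intro u
    obtain ⟨r, rfl⟩ := htsurj u
    obtain ⟨l, hl, el⟩ := hLne r
    obtain ⟨q, rfl⟩ := hmem l ⟨l, hl, rfl⟩
    refine ⟨q, ?_⟩
    rw [← el, ← Scheme.Hom.comp_apply, ← Over.comp_left, hk]
  · refine (AlgebraicGeometry.Flat.iff_flat_stalkMap _).2 fun q => ?_
    have h1 : ((k.left ≫ t₀.left).stalkMap ((k.left ⁻¹ᵁ L).ι q)).hom.Flat := by
      rw [Scheme.Hom.stalkMap_comp]
      exact RingHom.Flat.comp ((show (k.left ⁻¹ᵁ L).ι q ∈ k.left ⁻¹ᵁ L from
        (k.left ⁻¹ᵁ L).range_ι.le ⟨q, rfl⟩).1)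
        (RingHom.Flat.of_bijective (ConcreteCategory.bijective_of_isIso (k.left.stalkMap _)))
    rw [← Over.comp_left, hk] at h1
    rw [Scheme.Hom.stalkMap_comp]
    exact RingHom.Flat.comp h1
      (RingHom.Flat.of_bijective (ConcreteCategory.bijective_of_isIso ((k.left ⁻¹ᵁ L).ι.stalkMap q)))
  · intro w
    obtain ⟨l, hl, el⟩ : iW.left w ∈ O := O.range_ι.le ⟨w, rfl⟩
    obtain ⟨q, hq, hq'⟩ := Scheme.exists_preimage_of_isPullback sqk' l w el
    exact ⟨q, (show k.left q ∈ L from (show k.left q = l from hq) ▸ hl), hq'⟩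

end Groth.Agent.H14AlgSt
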