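import Groth.Agent.H14Gerbe.LocLift
import Groth.Agent.H14AlgSt.LocQ5
import Groth.Agent.H14AlgSt.DiagDescent
import Groth.Agent.H14AlgSt.SourceDescent
import Groth.Agent.H14AlgSt.EtaleAtlas
import Groth.Agent.H14AlgSt.FieldPoint
import Groth.Agent.H14AlgSt.PointsMor
import Groth.Agent.H14AlgSt.DiagLFT
import Groth.Agent.H13AlgSp.ProperImage

/-!
# Separatedness descends along flat surjective morphisms with universally closed surjective diagonal
-/

set_option autoImplicit false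
set_option backward.isDefEq.respectTransparency false
set_option backward.isDefEq.respectTransparency.types false

universe u

open CategoryTheory CategoryTheory.Functor CategoryTheory.Limits AlgebraicGeometry

noncomputable section

namespace Groth.Agent.H14AlgSt

open H14Fib H14Stk

variable {S : Scheme.{u}} {P : MorphismProperty (AlgSp.Sp S)} {𝒳 𝒴 𝒵 : AlgSt.Cat S}

local notation "K₀" => Scheme.fppfPrecoverage

lemma testOnSchemes_univClosed : TestOnSchemes (S := S) AlgSp.IsUnivClosedMor := by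
  intro G F a hG hF h
  exact (H12AlgSp.isUnivClosedMor_iff_affine a).2 fun T hT g P fst snd sq =>
    h T g fst snd sq (AlgSp.IsAlgSpace.yon_obj T) (𝟙 _) (𝟙 _) snd (IsPullback.of_horiz_isIso ⟨by simp⟩)

/-- Properness passes through a universally closed surjection on the source. -/
lemma repWith_proper_of_comp (h𝒳 : FibCat.IsFibGrpd 𝒳.p) (h𝒴 : FibCat.IsFibGrpd 𝒴.p)
    {a : 𝒳 ⥤ᵇ 𝒴} {b : 𝒴 ⥤ᵇ 𝒵}
    (ha : AlgSt.RepByAlgSpWith AlgSp.IsUnivClosedMor a) (has : Function.Surjective (AlgSt.Points.map a))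
    (hb : AlgSt.RepByAlgSpWith (AlgSp.LocP @LocallyOfFiniteType) b)
    (hab : AlgSt.RepByAlgSpWith AlgSp.IsProperMor (BasedFunctor.comp a b)) :
    AlgSt.RepByAlgSpWith AlgSp.IsProperMor b := by
  have ha' := repWith_inf sourceIsoInv_surjective ha
    (repWith_surjective_of_points h𝒳 h𝒴 (repByAlgSp1_of_with ha) has)
  intro U y
  obtain ⟨F, e₀, he₀, hp₀⟩ := hb U y
  let z := BasedFunctor.comp e₀ (FibCat.fpSnd y b)
  obtain ⟨G, e, π, he, ⟨k⟩, hπ⟩ := exists_space_baseChange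
    (sourceIsoInv_inf sourceIsoInv_univClosed sourceIsoInv_surjective)
    (testOnSchemes_inf testOnSchemes_univClosed testOnSchemes_surjective) h𝒳 h𝒴 ha' F z
  obtain ⟨⟨_, _⟩, hs⟩ := (isEquivOver_iff _).1 he₀
  let M : FibCat.fp z a ⥤ᵇ FibCat.fp (FibCat.fpSnd y b) a :=
    fpMap (F := FibCat.fpSnd y b) (G := a) e₀ (BasedFunctor.id 𝒳) (BasedFunctor.id 𝒴)
      (Iso.refl z) (Iso.refl (BasedFunctor.comp a (BasedFunctor.id 𝒴)))
  have hM : FibCat.IsEquivOver M := fpMap_isEquivOver _ _ _ _ _ hs (essSurjOver_id _)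
  let E := BasedFunctor.comp (BasedFunctor.comp e M) (pasteComp y b a)
  have hE : FibCat.IsEquivOver E :=
    isEquivOver_comp (isEquivOver_comp he hM) (pasteComp_isEquivOver y b a)
  let σ := AlgSt.spMapOfOver (BasedFunctor.comp e₀ (FibCat.fpFst y b))
  have i : BasedFunctor.comp E (FibCat.fpFst y (BasedFunctor.comp a b)) ≅
      BasedFunctor.comp (AlgSt.ofSpMap π) (BasedFunctor.comp e₀ (FibCat.fpFst y b)) :=
    (post (AlgSt.ofSp G.obj) (BasedFunctor.comp e₀ (FibCat.fpFst y b))).mapIso k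
  obtain ⟨l⟩ := spMapOfOver_eq (BasedFunctor.comp E (FibCat.fpFst y (BasedFunctor.comp a b)))
  have h3 := prop_of_repData baseStable_proper.sourceIsoInv (hab U y) hE l
  rw [spMapOfOver_congr i, spMapOfOver_comp] at h3
  exact ⟨F, e₀, he₀, H13AlgSp.isProperMor_of_family (κ := Unit) (A := fun _ => G.obj) (fun _ => G.property)
    F.property (AlgSp.IsAlgSpace.yon_obj U) (fun _ => π)
    (fun w => ⟨(), hπ.2 w⟩) (fun _ => hπ.1) hp₀ (fun _ => h3)⟩

/-- Base change of the diagonal along the map of pairs of a composite. -/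
lemma repWith_fpDown_comp {𝒜 : AlgSt.Cat S} (a : 𝒜 ⥤ᵇ 𝒳) (f : 𝒳 ⥤ᵇ 𝒴) (g : 𝒴 ⥤ᵇ 𝒵)
    (h : AlgSt.RepByAlgSpWith P (fpDown f f g)) :
    AlgSt.RepByAlgSpWith P (fpDown (BasedFunctor.comp a f) (BasedFunctor.comp a f) g) := by
  let M := pairMap f f g
  let m := pairMap a a (BasedFunctor.comp f g)
  have h1 : AlgSt.RepByAlgSpWith P (FibCat.fpFst M (FibCat.diag g)) :=
    (repWith_equiv_comp_iff (magicFun_isEquivOver f f g)).2 h
  have h2 := repWith_fpFst m h1
  have h3 : AlgSt.RepByAlgSpWith P (FibCat.fpFst (BasedFunctor.comp m M) (FibCat.diag g)) :=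
    (repWith_equiv_comp_iff (pasteBase_isEquivOver M (FibCat.diag g) m)).2 (repWith_of_iso (Iso.refl _) h2)
  let M' := pairMap (BasedFunctor.comp a f) (BasedFunctor.comp a f) g
  let i : BasedFunctor.comp m M ≅ M' :=
    mkIso (fun x => fpIsoMk (Iso.refl _) (Iso.refl _) (by
      change g.map (𝟙 _) ≫ (𝟙 _ ≫ x.obj.iso.hom ≫ 𝟙 _) =
        (𝟙 _ ≫ (𝟙 _ ≫ x.obj.iso.hom ≫ 𝟙 _) ≫ 𝟙 _) ≫ g.map (𝟙 _)
      rw [g.toFunctor.map_id, g.toFunctor.map_id]
      simp only [Category.id_comp, Category.comp_id]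
      exact (Category.comp_id _).symm))
      (fun {_ _} φ => fp_hom_ext ((Category.comp_id _).trans (Category.id_comp _).symm)
        ((Category.comp_id _).trans (Category.id_comp _).symm))
      (fun x => (fp_isHomLift_iff _ _).2 (IsHomLift.id ((f.w_obj _).trans (a.w_obj _))))
  let E : FibCat.fp (BasedFunctor.comp m M) (FibCat.diag g) ⥤ᵇ FibCat.fp M' (FibCat.diag g) :=
    fpMap (BasedFunctor.id _) (BasedFunctor.id _) (BasedFunctor.id _) i (Iso.refl _)
  have hid : ∀ (𝒲 : AlgSt.Cat S), (BasedFunctor.id 𝒲).toFunctor.Full ∧ (BasedFunctor.id 𝒲).toFunctor.Faithful :=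
    fun 𝒲 => ⟨inferInstanceAs (Functor.id _).Full, inferInstanceAs (Functor.id _).Faithful⟩
  have hE : FibCat.IsEquivOver E := by
    have := (hid (FibCat.fp (BasedFunctor.comp a (BasedFunctor.comp f g)) (BasedFunctor.comp a (BasedFunctor.comp f g)))).1
    have := (hid (FibCat.fp (BasedFunctor.comp a (BasedFunctor.comp f g)) (BasedFunctor.comp a (BasedFunctor.comp f g)))).2
    have := (hid 𝒴).1
    have := (hid 𝒴).2
    have := (hid (FibCat.fp g g)).1
    have := (hid (FibCat.fp g g)).2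
    exact fpMap_isEquivOver _ _ _ _ _ (essSurjOver_id _) (essSurjOver_id _)
  have h4 : AlgSt.RepByAlgSpWith P (FibCat.fpFst M' (FibCat.diag g)) :=
    (repWith_equiv_comp_iff hE).2 (repWith_of_iso (Iso.refl _) h3)
  exact (repWith_equiv_comp_iff (magicFun_isEquivOver (BasedFunctor.comp a f) (BasedFunctor.comp a f) g)).1 h4

/-- Separatedness descends along flat, surjective, universally injective morphisms locally of finite
presentation with universally closed diagonal. -/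
theorem isSeparatedMor_of_comp (h𝒳 : AlgSt.IsAlgStack K₀ 𝒳) (h𝒴 : AlgSt.IsAlgStack K₀ 𝒴)
    (h𝒵 : AlgSt.IsAlgStack K₀ 𝒵) (f : 𝒳 ⥤ᵇ 𝒴) (g : 𝒴 ⥤ᵇ 𝒵)
    (hf₁ : AlgSt.IsSurjective f) (hf₂ : AlgSt.LocQ (AlgSp.LocP @Flat) f)
    (hf₃ : AlgSt.LocQ (AlgSp.LocP @LocallyOfFinitePresentation) f)
    (hf₄ : AlgSt.IsUnivInjective K₀ f)
    (hf₅ : AlgSt.RepByAlgSpWith AlgSp.IsUnivClosedMor (FibCat.diag f))
    (hh : AlgSt.IsSeparatedMor (BasedFunctor.comp f g)) :
    AlgSt.IsSeparatedMor g := by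
  have hX := h𝒳.isStack.1
  have hY := h𝒴.isStack.1
  have hlft := repWith_lft_diag h𝒴 h𝒵 g
  have hdown : AlgSt.RepByAlgSpWith AlgSp.IsProperMor (fpDown f f g) :=
    repWith_proper_of_comp hX (fp_fibGrpd hX hX hY) hf₅ (surjective_diag_of_isUnivInjective h𝒳 hf₄)
      (repWith_fpDown hlft f f) (repWith_of_iso (diagCompIso f g).symm hh)
  obtain ⟨V, y, hy, hys⟩ := h𝒴.atlas
  obtain ⟨A, a, h, ha, has, ⟨j⟩⟩ := exists_atlas_fp h𝒳 h𝒴 f y
  have hflat : Flat h.left :=
    (locP_yon_iff H12AlgSp.etLocal_flat h).1 (prop_of_locQ smLocal_flat hf₂ hy a ha j)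
  have hlfp : LocallyOfFinitePresentation h.left :=
    (locP_yon_iff H12AlgSp.etLocal_lfp h).1 (prop_of_locQ smLocal_lfp hf₃ hy a ha j)
  have hs : Function.Surjective h.left := ofChart_surjective_of_atlas h𝒳 h𝒴 hf₁ has j
  let a' := BasedFunctor.comp a (FibCat.fpFst f y)
  let α : BasedFunctor.comp a' f ≅ BasedFunctor.comp (AlgSt.overMap h) y :=
    (Stk.restr a 𝒴).mapIso (FibCat.fpIso f y) ≪≫ (post (FibCat.overCat A) y).mapIso j
  have hA := fibGrpd_overCat A
  have hV := fibGrpd_overCat V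
  have h1 : AlgSt.RepByAlgSpWith (AlgSp.LocP @Flat) (BasedFunctor.comp a' f) :=
    repWith_of_iso α.symm (repWith_locP_comp H12AlgSp.etLocal_flat hA hV
      (repWith_overMap H12AlgSp.etLocal_flat h hflat) (repWith_locP_mono smooth_le_flat hy))
  have h2 : AlgSt.RepByAlgSpWith (AlgSp.LocP @LocallyOfFinitePresentation) (BasedFunctor.comp a' f) :=
    repWith_of_iso α.symm (repWith_locP_comp H12AlgSp.etLocal_lfp hA hV
      (repWith_overMap H12AlgSp.etLocal_lfp h hlfp) (repWith_locP_mono smooth_le_lfp hy))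
  have h3 : AlgSt.RepByAlgSpWith AlgSp.IsSurjectiveMor (BasedFunctor.comp a' f) :=
    repWith_of_iso α.symm (repWith_comp_of sourceIsoInv_surjective testOnSchemes_surjective
      (fun _ _ _ _ _ _ p q hp hq => by
        intro w
        obtain ⟨v, rfl⟩ := hq w
        obtain ⟨t, rfl⟩ := hp v
        exact ⟨t, AlgSp.Points.map_comp _ _ _⟩) hA hV (repWith_overMap_surj h ⟨hs⟩) hys)
  exact repWith_diag_of_atlas' localFppf_proper baseStable_proper.sourceIsoInv g (repByAlgSp1_of_with hlft)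
    h1 h2 h3 (repWith_fpDown_comp a' f g hdown)

end Groth.Agent.H14AlgSt
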