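import Groth.Agent.H8Props.EtalePrescribedResidue
import Mathlib.RingTheory.Smooth.StandardSmoothOfFree
import Mathlib.RingTheory.Kaehler.Polynomial
import Mathlib.Algebra.MvPolynomial.Funext
import Mathlib.FieldTheory.IsSepClosed
import Mathlib.FieldTheory.IsAlgClosed.AlgebraicClosure

/-!
# Slicing smooth morphisms: ring level
-/

set_option autoImplicit false
set_option backward.isDefEq.respectTransparency false
set_option backward.isDefEq.respectTransparency.types false

universe u

open TensorProduct KaehlerDifferential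

noncomputable section

namespace Groth.Agent.H14AlgSt

variable {R B C A : Type u} [CommRing R] [CommRing B] [CommRing C] [CommRing A] [Algebra R B]
  [Algebra R C]

/-- If `A` is unramified over `B ⊗ C`, the differentials of `A` over `B` come from `C`. -/
lemma span_D_eq_top_of_unramified [Algebra B A] [Algebra C A]
    [Algebra R A] [IsScalarTower R B A] [IsScalarTower R C A]
    (h : (Algebra.TensorProduct.productMap (IsScalarTower.toAlgHom R B A)
      (IsScalarTower.toAlgHom R C A)).toRingHom.FormallyUnramified) :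
    Submodule.span A (Set.range fun c : C => D B A (algebraMap C A c)) = ⊤ := by
  set Φ := Algebra.TensorProduct.productMap (IsScalarTower.toAlgHom R B A)
    (IsScalarTower.toAlgHom R C A)
  let := Φ.toRingHom.toAlgebra
  have : IsScalarTower B (B ⊗[R] C) A := IsScalarTower.of_algebraMap_eq fun b => by
    simp [RingHom.algebraMap_toAlgebra, Φ]
  have : Algebra.FormallyUnramified (B ⊗[R] C) A := h
  set M := Submodule.span A (Set.range fun c : C => D B A (algebraMap C A c))
  have hD : ∀ y : B ⊗[R] C, D B A (algebraMap (B ⊗[R] C) A y) ∈ M := fun y => by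
    induction y with
    | zero => simp
    | tmul b c =>
      have : algebraMap (B ⊗[R] C) A (b ⊗ₜ c) = algebraMap B A b * algebraMap C A c := by
        simp [RingHom.algebraMap_toAlgebra, Φ]
      rw [this, Derivation.leibniz, Derivation.map_algebraMap, smul_zero, add_zero]
      exact M.smul_mem _ (Submodule.subset_span ⟨c, rfl⟩)
    | add a b ha hb => rw [map_add, map_add]; exact M.add_mem ha hb
  rw [eq_top_iff]
  rintro x -
  obtain ⟨z, rfl⟩ := (exact_mapBaseChange_map B (B ⊗[R] C) A x).1 (Subsingleton.elim _ _)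
  induction z with
  | zero => simp
  | tmul a ω =>
    rw [mapBaseChange_tmul]
    refine M.smul_mem _ ?_
    have hω : ω ∈ Submodule.span (B ⊗[R] C) (Set.range (D B (B ⊗[R] C))) := by
      rw [span_range_derivation]; trivial
    induction hω using Submodule.span_induction with
    | mem x hx =>
      obtain ⟨y, rfl⟩ := hx
      rw [map_D]
      exact hD y
    | zero => simp
    | add a b _ _ ha hb => rw [map_add]; exact M.add_mem ha hb
    | smul r a _ ha =>
      rw [map_smul, ← IsScalarTower.algebraMap_smul A r]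
      exact M.smul_mem _ ha
  | add a b ha hb => rw [map_add]; exact M.add_mem ha hb

/-- Near any prime, a smooth algebra is étale over a polynomial ring on variables taken from a set
whose differentials span. -/
lemma exists_etale_coordinates [Algebra B A] [Algebra.Smooth B A] {ι : Type u} (v : ι → A)
    (hv : Submodule.span A (Set.range fun c => D B A (v c)) = ⊤) (p : Ideal A) [p.IsPrime] :
    ∃ (κ : Type u) (_ : Finite κ) (f : κ → ι) (g : A), g ∉ p ∧
      (MvPolynomial.aeval (R := B)
        fun i => algebraMap A (Localization.Away g) (v (f i))).toRingHom.Etale := by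
  let Ap := Localization.AtPrime p
  let l : Ω[A⁄B] →ₗ[A] Ω[Ap⁄B] := map B B A Ap
  have hspan : Submodule.span Ap (Set.range fun c => D B Ap (algebraMap A Ap (v c))) = ⊤ := by
    rw [eq_top_iff, ← span_range_map_derivation_of_isLocalization B A Ap p.primeCompl,
      Submodule.span_le]
    rintro _ ⟨a, rfl⟩
    have ha : D B A a ∈ Submodule.span A (Set.range fun c => D B A (v c)) := by rw [hv]; trivial
    have : l (D B A a) ∈ (Submodule.span Ap (Set.range fun c => D B Ap (algebraMap A Ap (v c)))) := by
      generalize D B A a = w at ha ⊢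
      induction ha using Submodule.span_induction with
      | mem x hx =>
        obtain ⟨c, rfl⟩ := hx
        refine Submodule.subset_span ⟨c, ?_⟩
        simp [l]
      | zero => simp
      | add a b _ _ ha hb => rw [map_add]; exact Submodule.add_mem _ ha hb
      | smul r a _ ha =>
        rw [map_smul, ← IsScalarTower.algebraMap_smul Ap r]
        exact Submodule.smul_mem _ _ ha
    simpa [l] using this
  obtain ⟨κ, a, b, hb⟩ := Module.exists_basis_of_span_of_flat
    (fun c => D B Ap (algebraMap A Ap (v c))) hspan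
  let e : (κ →₀ A) →ₗ[A] Ω[A⁄B] := Finsupp.linearCombination A fun i : κ => D B A (v (a i))
  let l₁ : (κ →₀ A) →ₗ[A] (κ →₀ Ap) := Finsupp.mapRange.linearMap (Algebra.linearMap A Ap)
  let eₚ : (κ →₀ Ap) →ₗ[Ap] Ω[Ap⁄B] :=
    IsLocalizedModule.mapExtendScalars p.primeCompl l₁ l Ap e
  have : eₚ = b.repr.symm := by
    ext i
    trans IsLocalizedModule.map p.primeCompl l₁ l e <| l₁ <| Finsupp.single i 1
    · simp [eₚ, -IsLocalizedModule.map_apply, l₁]
    · simp [l, e, hb]
  have heₚ : Function.Bijective eₚ := this ▸ b.repr.symm.bijective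
  have : Finite κ := Module.Finite.finite_basis b
  obtain ⟨g, hg, h⟩ := Module.FinitePresentation.exists_notMem_bijective e p l₁ l heₚ
  let Ag := Localization.Away g
  let l₁ₜ : (κ →₀ A) →ₗ[A] (κ →₀ Ag) := Finsupp.mapRange.linearMap (Algebra.linearMap A _)
  let l₂ₜ : Ω[A⁄B] →ₗ[A] Ω[Ag⁄B] := map B B A Ag
  rw [← IsLocalizedModule.map_bijective_iff_localizedModuleMap_bijective l₁ₜ l₂ₜ] at h
  let eₜ : (κ →₀ Ag) →ₗ[Ag] Ω[Ag⁄B] :=
    IsLocalizedModule.mapExtendScalars (Submonoid.powers g) l₁ₜ l₂ₜ Ag e
  refine ⟨κ, inferInstance, a, g, hg, ?_⟩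
  let P := MvPolynomial κ B
  let φ : P →ₐ[B] Ag := MvPolynomial.aeval fun i => algebraMap A Ag (v (a i))
  let := φ.toRingHom.toAlgebra
  have : IsScalarTower B P Ag := IsScalarTower.of_algebraMap_eq fun x => (φ.commutes x).symm
  change Algebra.Etale P Ag
  have : Algebra.Smooth B Ag := Algebra.Smooth.comp B A Ag
  have heq : (mapBaseChange B P Ag) ∘ₗ
      ((mvPolynomialBasis B κ).baseChange Ag).repr.symm.toLinearMap = eₜ := by
    refine Finsupp.lhom_ext' fun i => LinearMap.ext_ring ?_
    trans IsLocalizedModule.map (Submonoid.powers g) l₁ₜ l₂ₜ e (l₁ₜ (Finsupp.single i 1))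
    swap
    · simp [eₜ, -IsLocalizedModule.map_apply, l₁ₜ]
    · simp [l₂ₜ, e, φ, RingHom.algebraMap_toAlgebra, P]
  have hbij : Function.Bijective (mapBaseChange B P Ag) := by
    have : Function.Bijective eₜ := h
    rw [← heq] at this
    exact (Function.Bijective.of_comp_iff _ (LinearEquiv.bijective _)).1 this
  have : Algebra.FormallyEtale P Ag := by
    refine ⟨subsingleton_of_forall_eq 0 fun x => ?_, subsingleton_of_forall_eq 0 fun x => ?_⟩
    · obtain ⟨y, rfl⟩ := KaehlerDifferential.map_surjective B P Ag x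
      obtain ⟨z, rfl⟩ := hbij.2 y
      exact (exact_mapBaseChange_map B P Ag _).2 ⟨z, rfl⟩
    · have h1 : Algebra.H1Cotangent.δ B P Ag x = 0 :=
        hbij.1 (by rw [map_zero]; exact (Algebra.H1Cotangent.exact_δ_mapBaseChange B P Ag _).2 ⟨x, rfl⟩)
      obtain ⟨y, rfl⟩ := (Algebra.H1Cotangent.exact_map_δ B P Ag x).1 h1
      rw [Subsingleton.elim y 0, map_zero]
  exact ⟨inferInstance, Algebra.FinitePresentation.of_restrict_scalars_finitePresentation B P Ag⟩

/-- Separable algebraic values avoiding a nonzero polynomial, realised by an étale algebra. -/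
lemma exists_etale_value {κ : Type u} [Finite κ] (u : Ideal B) [u.IsPrime]
    (q : MvPolynomial κ B) (hq : ∃ m, q.coeff m ∉ u) :
    ∃ (R' : Type u) (_ : CommRing R') (_ : Algebra R R') (_ : Algebra.Etale R R') (c : κ → R')
      (Ω : Type u) (_ : Field Ω) (β : B →+* Ω) (ψ : R' →+* Ω),
      RingHom.ker β = u ∧ ψ.comp (algebraMap R R') = β.comp (algebraMap R B) ∧
      MvPolynomial.eval₂ β (fun i => ψ (c i)) q ≠ 0 := by
  classical
  let p : Ideal R := u.comap (algebraMap R B)
  let F := p.ResidueField
  let Ω := AlgebraicClosure u.ResidueField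
  let β : B →+* Ω := algebraMap B Ω
  have hker : RingHom.ker β = u := by
    change RingHom.ker (algebraMap B Ω) = u
    rw [IsScalarTower.algebraMap_eq B u.ResidueField Ω,
      RingHom.ker_comp_of_injective _ (algebraMap u.ResidueField Ω).injective]
    exact Ideal.ker_algebraMap_residueField u
  let γ : F →+* Ω := (algebraMap u.ResidueField Ω).comp (Ideal.ResidueField.map p u _ rfl)
  let := γ.toAlgebra
  have hγ : ∀ r : R, algebraMap F Ω (algebraMap R F r) = β (algebraMap R B r) := fun r => by
    change algebraMap u.ResidueField Ω (Ideal.ResidueField.map p u _ rfl (algebraMap R _ r)) =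
      algebraMap B Ω _
    rw [IsScalarTower.algebraMap_apply B u.ResidueField Ω, Ideal.ResidueField.map_algebraMap]
  have : IsScalarTower R F Ω := IsScalarTower.of_algebraMap_eq fun r => by
    rw [hγ r]
    exact IsScalarTower.algebraMap_apply R B Ω r
  let Fs := separableClosure F Ω
  have : IsSepClosed Fs := IsSepClosure.sep_closed F
  have hinf : Infinite Fs := by
    by_contra hf
    rw [not_infinite_iff_finite] at hf
    exact not_finite Fs
  have hne : q.map β ≠ 0 := fun h0 => by
    obtain ⟨m, hm⟩ := hq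
    apply hm
    rw [← hker, RingHom.mem_ker, ← MvPolynomial.coeff_map, h0, MvPolynomial.coeff_zero]
  obtain ⟨x, hx, hxq⟩ : ∃ x : κ → Ω, (∀ i, x i ∈ Fs) ∧ MvPolynomial.eval x (q.map β) ≠ 0 := by
    by_contra! h
    refine hne (MvPolynomial.funext_set (fun _ => (Fs : Set Ω)) (fun _ =>
      Set.infinite_coe_iff.1 hinf) fun x hx => ?_)
    rw [h x fun i => hx i trivial, map_zero]
  rw [MvPolynomial.eval_map] at hxq
  let E := IntermediateField.adjoin F (Set.range x)
  have hsep : ∀ i, IsSeparable F (x i) := fun i => mem_separableClosure_iff.1 (hx i)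
  have : Algebra.IsSeparable F E := (IntermediateField.isSeparable_adjoin_iff_isSeparable F Ω).2
    fun y ⟨i, hi⟩ => hi ▸ hsep i
  have : FiniteDimensional F E := IntermediateField.finiteDimensional_adjoin
    fun y ⟨i, hi⟩ => hi ▸ (hsep i).isIntegral
  have hfrac : ∀ y : F, ∃ a b : R, algebraMap R F b ≠ 0 ∧
      algebraMap R F b * y = algebraMap R F a := fun y => by
    obtain ⟨a, b, hb, rfl⟩ := IsFractionRing.div_surjective (R ⧸ p) y
    obtain ⟨a, rfl⟩ := Ideal.Quotient.mk_surjective a
    obtain ⟨b, rfl⟩ := Ideal.Quotient.mk_surjective b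
    have hb' : algebraMap R F b ≠ 0 := fun h0 => nonZeroDivisors.ne_zero hb
      (IsFractionRing.injective (R ⧸ p) F (h0.trans (map_zero _).symm))
    exact ⟨a, b, hb', mul_div_cancel₀ _ hb'⟩
  obtain ⟨R₁, _, _, _, χ, hχ⟩ :=
    H8Props.EtalePrescribedResidue.exists_etale_generating (R := R) (K := F) (L := E) hfrac
  have hfield : ∀ y : E, ∃ a b : R₁, χ b ≠ 0 ∧ χ b * y = χ a := fun y => by
    have : y ∈ Subfield.closure (Set.range χ) := hχ ▸ Subfield.mem_top y
    rw [Subfield.mem_closure_iff] at this
    obtain ⟨a, ha, b, hb, rfl⟩ := this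
    have hsub : Subring.closure (Set.range χ) ≤ χ.toRingHom.range :=
      Subring.closure_le.2 fun _ ⟨r, hr⟩ => ⟨r, hr⟩
    obtain ⟨a, rfl⟩ := hsub ha
    obtain ⟨b, rfl⟩ := hsub hb
    by_cases hb0 : χ b = 0
    · exact ⟨0, 1, by simp, by simp [hb0]⟩
    · exact ⟨a, b, hb0, mul_div_cancel₀ _ hb0⟩
  choose num den hden hnum using fun i : κ =>
    hfield ⟨x i, IntermediateField.subset_adjoin F _ ⟨i, rfl⟩⟩
  have := Fintype.ofFinite κ
  let d := ∏ i, den i
  have hd : IsUnit (χ d) := by
    rw [map_prod]
    exact IsUnit.prod_iff.2 fun i _ => (hden i).isUnit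
  let R' := Localization.Away d
  let ψ₀ : R' →+* E := IsLocalization.Away.lift d hd
  have hψ₀ : ∀ r, ψ₀ (algebraMap R₁ R' r) = χ r := fun r =>
    IsLocalization.Away.lift_eq d hd r
  have hu : ∀ i, IsUnit (algebraMap R₁ R' (den i)) := fun i => by
    have h1 : IsUnit (algebraMap R₁ R' d) := IsLocalization.Away.algebraMap_isUnit d
    rw [map_prod, IsUnit.prod_iff] at h1
    exact h1 i (Finset.mem_univ i)
  let c : κ → R' := fun i => algebraMap R₁ R' (num i) * ↑(hu i).unit⁻¹
  have hc : ∀ i, (ψ₀ (c i) : Ω) = x i := fun i => by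
    have h1 : ψ₀ (algebraMap R₁ R' (den i)) * ψ₀ (c i) = χ (num i) := by
      rw [← map_mul, mul_left_comm, IsUnit.mul_val_inv, mul_one, hψ₀]
    rw [hψ₀, ← hnum i] at h1
    rw [mul_left_cancel₀ (hden i) h1]
  let ψ : R' →+* Ω := E.val.toRingHom.comp ψ₀
  have : Algebra.Etale R₁ R' := inferInstance
  refine ⟨R', inferInstance, inferInstance, Algebra.Etale.comp R R₁ R', c, Ω, inferInstance, β, ψ,
    hker, RingHom.ext fun r => ?_, ?_⟩
  · change (ψ₀ (algebraMap R R' r) : Ω) = β (algebraMap R B r)
    rw [IsScalarTower.algebraMap_apply R R₁ R', hψ₀, AlgHom.commutes, ← hγ r,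
      IsScalarTower.algebraMap_apply R F E]
    rfl
  · rwa [show (fun i => ψ (c i)) = x from funext hc]

end Groth.Agent.H14AlgSt
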