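import Groth.Agent.H14AlgSt.FieldChart
import Groth.Agent.H14AlgSt.PointFamily

/-!
# One small family of charts lifts all points with values in fields
-/

set_option autoImplicit false
set_option linter.unusedVariables false
set_option backward.isDefEq.respectTransparency false
set_option backward.isDefEq.respectTransparency.types false

universe u

open CategoryTheory CategoryTheory.Functor Opposite AlgebraicGeometry CategoryTheory.Limits

noncomputable section

namespace Groth.Agent.H14AlgSt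

open H14Fib H14Stk

variable {S : Scheme.{u}} {𝒳 : AlgSt.Cat S}

/-- The charts for extensions of a given degree. -/
theorem exists_fieldCharts_degree {K : Precoverage Scheme.{u}} (hK : Scheme.etalePrecoverage ≤ K)
    (hX : AlgSt.IsAlgStack K 𝒳) {W : Over S} (x : FibCat.overCat W ⥤ᵇ 𝒳)
    (hx : AlgSt.RepByAlgSpWith (AlgSp.LocP @Smooth) x) (n : ℕ) [Nontrivial (Univ.UR.{u} n)] :
    ∃ (ι : Type u) (U : ι → Over S) (p : ∀ i, FibCat.overCat (U i) ⥤ᵇ 𝒳),
      (∀ i, IsAffine (U i).left) ∧ (∀ i, AlgSt.RepByAlgSpWith (AlgSp.LocP @Smooth) (p i)) ∧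
        ∀ {k : Type u} [Field k] {L : Type u} [Field L] [Algebra k L]
          (sk : Spec (CommRingCat.of k) ⟶ S) (x₀ : FibCat.overCat (fldObj sk) ⥤ᵇ 𝒳)
          (u : extObj L sk ⟶ W)
          (β : BasedFunctor.comp (AlgSt.overMap u) x ≅ BasedFunctor.comp (AlgSt.overMap (extPr L sk)) x₀)
          (b : fldObj sk ⟶ absObj S (Spec (CommRingCat.of (Univ.UR.{u} n))))
          (u₁ : extObj L sk ⟶ absObj S (Spec (CommRingCat.of (Univ.UA.{u} n)))),
          (∀ {Z : Over S} (g : Z ⟶ fldObj sk) (a : Z ⟶ absObj S (Spec (CommRingCat.of (Univ.UA.{u} n)))),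
            a ≫ absMap S (Spec.map (CommRingCat.ofHom (algebraMap (Univ.UR.{u} n) (Univ.UA.{u} n)))) = g ≫ b →
              ∃! a' : Z ⟶ extObj L sk, a' ≫ extPr L sk = g ∧ a' ≫ u₁ = a) →
            ∃ (i : ι) (a : fldObj sk ⟶ U i),
              Nonempty (BasedFunctor.comp (AlgSt.overMap a) (p i) ≅ x₀) := by
  obtain ⟨T, _, _, _, _, ⟨e⟩⟩ := Univ.exists_split.{u} n
  letI : Algebra (ULift.{u} ℤ) T :=
    ((algebraMap (Univ.UR.{u} n) T).comp (algebraMap (ULift.{u} ℤ) (Univ.UR.{u} n))).toAlgebra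
  have : @IsScalarTower (ULift.{u} ℤ) (Univ.UR.{u} n) T Algebra.toSMul Algebra.toSMul Algebra.toSMul :=
    IsScalarTower.of_algebraMap_eq' rfl
  have : Algebra.Smooth (ULift.{u} ℤ) T := Algebra.Smooth.comp (ULift.{u} ℤ) (Univ.UR.{u} n) T
  let c := absMap S (specStr (Univ.UR.{u} n) (Univ.UA.{u} n))
  have := Univ.etale_UA.{u} n
  have := Univ.faithfullyFlat_UA.{u} n
  have : Etale c.left := absMap_prop _
    ((HasRingHomProperty.Spec_iff (P := @Etale)).2 (RingHom.etale_algebraMap.mpr inferInstance))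
  have : Surjective c.left := absMap_prop _ ⟨PrimeSpectrum.comap_surjective_of_faithfullyFlat⟩
  let π := absMap S (specStr (Univ.UR.{u} n) T)
  have hπe : Etale π.left := absMap_prop _
    ((HasRingHomProperty.Spec_iff (P := @Etale)).2 (RingHom.etale_algebraMap.mpr inferInstance))
  have hπs : Surjective π.left := absMap_prop _ ⟨PrimeSpectrum.comap_surjective_of_faithfullyFlat⟩
  have : Smooth (absObj S (Spec (CommRingCat.of T))).hom := smooth_absObj T
  obtain ⟨hQ, hQA, F, ν, hν, hνn, hF⟩ := exists_descChart c hK hX (splitBy_abs e) hπe hπs hx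
  obtain ⟨ι, A, m, hA, hm, hlift⟩ := exists_etale_family_fieldPoints hQA
  refine ⟨ι, A, fun i => BasedFunctor.comp (BasedFunctor.comp (AlgSt.ofOverCat (A i))
    (AlgSt.ofSpMap (m i))) F, hA, fun i => repWith_smooth_chart hQA (hm i) hF, ?_⟩
  intro k _ L _ _ sk x₀ u β b u₁ hpb
  obtain ⟨j⟩ := nonempty_iso_pointHom x x₀ β c hpb hK hX.isStack hQ F ν hν hνn
  obtain ⟨i, a, ha⟩ := hlift sk (pointHom x x₀ β c hpb hQ)
  refine ⟨i, a, ⟨(post _ (BasedFunctor.comp (BasedFunctor.comp (AlgSt.ofOverCat (A i))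
    (AlgSt.ofSpMap (m i))) F)).mapIso (yonMapIso a).symm ≪≫ ?_⟩⟩
  exact eqToIso (by
    change BasedFunctor.comp (BasedFunctor.comp (AlgSt.ofOverCat (fldObj sk))
      (AlgSt.ofSpMap ((AlgSp.yon S).map a ≫ m i))) F = _
    rw [ha]) ≪≫ j

/-- One small family of smooth affine charts lifts every point with values in a field. -/
theorem exists_fieldCharts {K : Precoverage Scheme.{u}} (hK : Scheme.etalePrecoverage ≤ K)
    (hX : AlgSt.IsAlgStack K 𝒳) :
    ∃ (ι : Type u) (U : ι → Over S) (p : ∀ i, FibCat.overCat (U i) ⥤ᵇ 𝒳),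
      (∀ i, IsAffine (U i).left) ∧ (∀ i, AlgSt.RepByAlgSpWith (AlgSp.LocP @Smooth) (p i)) ∧
        ∀ {k : Type u} [Field k] (sk : Spec (CommRingCat.of k) ⟶ S)
          (x₀ : FibCat.overCat (fldObj sk) ⥤ᵇ 𝒳),
          ∃ (i : ι) (a : fldObj sk ⟶ U i), Nonempty (BasedFunctor.comp (AlgSt.overMap a) (p i) ≅ x₀) := by
  obtain ⟨W, x, hx, hxs⟩ := hX.atlas
  choose ι U p hU hp hl using fun n : {n : ULift.{u} ℕ // Nontrivial (Univ.UR.{u} n.down)} =>
    @exists_fieldCharts_degree S 𝒳 K hK hX W x hx n.1.down n.2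
  refine ⟨Σ n, ι n, fun i => U i.1 i.2, fun i => p i.1 i.2, fun i => hU _ _, fun i => hp _ _, ?_⟩
  intro k _ sk x₀
  obtain ⟨L, _, _, _, _, u, ⟨β⟩⟩ := exists_ext_point x hx hxs sk x₀
  obtain ⟨n, hn, b, u₁, hpb⟩ := exists_fieldPullback (L := L) sk
  obtain ⟨i, a, ha⟩ := hl ⟨⟨n⟩, hn⟩ sk x₀ u β b u₁ hpb
  exact ⟨⟨_, i⟩, a, ha⟩

end Groth.Agent.H14AlgSt
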