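import Groth.Agent.H14AlgSt.SetoidSpace
import Groth.Agent.H14AlgSt.AlgFp
import Groth.Agent.S0412

/-!
# The smooth bootstrap
-/

set_option autoImplicit false
set_option backward.isDefEq.respectTransparency false
set_option backward.isDefEq.respectTransparency.types false

universe u

open CategoryTheory CategoryTheory.Functor Opposite AlgebraicGeometry CategoryTheory.Limits

noncomputable section

namespace Groth.Agent.H14AlgSt

open H14Fib H14Stk

variable {S : Scheme.{u}} {𝒰 𝒳 : AlgSt.Cat S} {U V V' : Over S}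

/-- Smooth surjections of schemes are refined by étale surjections. -/
lemma exists_etale_refinement (c : V' ⟶ V) [Smooth c.left] [Surjective c.left] :
    ∃ (V'' : Over S) (d : V'' ⟶ V) (h : V'' ⟶ V'),
      Etale d.left ∧ Surjective d.left ∧ h ≫ c = d := by
  have := fun t : V.left => Groth.Agent.S0412.result c.left t (c.left.surjective t)
  choose T g s hg hgs h hh using this
  let d₀ : (∐ T) ⟶ V.left := Sigma.desc g
  have hd : Etale d₀ := IsZariskiLocalAtSource.sigmaDesc (P := @Etale) hg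
  let W : Over S := Over.mk (d₀ ≫ V.hom)
  refine ⟨W, Over.homMk d₀ rfl, Over.homMk (Sigma.desc h) ?_, hd, ⟨fun t => ?_⟩,
    Over.OverMorphism.ext ?_⟩
  · refine Sigma.hom_ext _ _ fun t => ?_
    have hc : c.left ≫ V.hom = V'.hom := Over.w c
    simp only [W, d₀, Over.mk_hom, Sigma.ι_desc_assoc]
    rw [← hc, reassoc_of% (hh t)]
  · refine ⟨Sigma.ι T t (s t), ?_⟩
    change d₀ _ = t
    rw [← Scheme.Hom.comp_apply, Sigma.ι_desc]
    exact hgs t
  · exact Sigma.hom_ext _ _ fun t => by simp [W, d₀, hh t]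

/-- A sheaf over a scheme which becomes a space after a smooth surjective base change is a space. -/
theorem isAlgSpace_of_smooth_cover {G : AlgSp.Sp S} (π : G ⟶ (AlgSp.yon S).obj V) (c : V' ⟶ V)
    [Smooth c.left] [Surjective c.left]
    (h : AlgSp.IsAlgSpace (pullback π ((AlgSp.yon S).map c))) : AlgSp.IsAlgSpace G := by
  obtain ⟨W, d, k, hd, hds, hk⟩ := exists_etale_refinement c
  let σ := pullback.snd π ((AlgSp.yon S).map c)
  have hP := H12AlgSp.isAlgSpace_pullback (AlgSp.IsAlgSpace.yon_obj V').diag h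
    (AlgSp.IsAlgSpace.yon_obj W) σ ((AlgSp.yon S).map k)
  have sq' : IsPullback (pullback.fst σ ((AlgSp.yon S).map k) ≫ pullback.fst π _)
      (pullback.snd σ ((AlgSp.yon S).map k)) π ((AlgSp.yon S).map d) := by
    rw [← hk, Functor.map_comp]
    exact ((IsPullback.of_hasPullback σ ((AlgSp.yon S).map k)).flip.paste_vert
      (IsPullback.of_hasPullback π ((AlgSp.yon S).map c)).flip).flip
  exact H12AlgSp.isAlgSpace_of_repWith_etale_surjective hP _
    (H12AlgSp.repWith_of_isPullback sq'.flip ((AlgSp.repWith_yon_map_iff @Etale d).2 hd))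
    (H12AlgSp.repWith_of_isPullback sq'.flip ((AlgSp.repWith_yon_map_iff @Surjective d).2 hds))

lemma fp_overCat_overCat_fibSetoid (h𝒳 : FibCat.IsFibGrpd 𝒳.p) (y : FibCat.overCat V ⥤ᵇ 𝒳)
    (x : FibCat.overCat U ⥤ᵇ 𝒳) : FibCat.IsFibSetoid (FibCat.fp y x).p := by
  refine ⟨fp_fibGrpd (fibGrpd_overCat V) (fibGrpd_overCat U) h𝒳, fun T a b => ⟨fun m n => ?_⟩⟩
  have hm : (FibCat.fp y x).p.IsHomLift (𝟙 T) m.1 := m.2
  have hn : (FibCat.fp y x).p.IsHomLift (𝟙 T) n.1 := n.2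
  exact Subtype.ext (fp_hom_ext
    (overCat_hom_ext _ _ ((fp_isHomLift_iff _ _).1 hm) ((fp_isHomLift_iff _ _).1 hn))
    (overCat_hom_ext _ _ (@fp_isHomLift_snd' _ _ _ _ _ y x _ _ a.1 b.1 (𝟙 T) m.1 hm)
      (@fp_isHomLift_snd' _ _ _ _ _ y x _ _ a.1 b.1 (𝟙 T) n.1 hn)))

/-- Stacks with smooth surjective representable maps from spaces are algebraic. -/
theorem isAlgStack_of_smooth_cover (h𝒰g : FibCat.IsFibGrpd 𝒰.p)
    (h𝒳 : Stk.IsStack (AlgSp.J S) 𝒳) (hU : AlgSt.RepByAlgSp 𝒰) {u : 𝒰 ⥤ᵇ 𝒳}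
    (hsm : AlgSt.RepByAlgSpWith (AlgSp.LocP @Smooth) u)
    (hsurj : AlgSt.RepByAlgSpWith AlgSp.IsSurjectiveMor u) :
    AlgSt.IsAlgStack Scheme.fppfPrecoverage 𝒳 := by
  refine ⟨h𝒳, (repByAlgSp1_diag_iff h𝒳.1).2 fun U x V y => ?_,
    hasAtlas_of_space H12AlgSp.etLocal_smooth hU u hsm hsurj⟩
  obtain ⟨G₁, e, he⟩ := repByAlgSp1_of_with hsm V y
  obtain ⟨A, p, hp, hps⟩ := G₁.property.atlas
  let a := BasedFunctor.comp (BasedFunctor.comp (AlgSt.ofOverCat A) (AlgSt.ofSpMap p)) e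
  have hS := fp_fibGrpd (fibGrpd_overCat V) h𝒰g h𝒳.1 (F := y) (G := u)
  have hcs : AlgSt.RepByAlgSpWith (AlgSp.LocP @Smooth) (BasedFunctor.comp a (FibCat.fpFst y u)) :=
    repWith_locP_comp H12AlgSp.etLocal_smooth (fibGrpd_overCat A) hS
      ((repWith_comp_equiv_iff he).2 ((repWith_equiv_comp_iff (ofOverCat_isEquivOver A)).1
        (repWith_locP_mono (fun _ _ g (_ : Etale g) => (inferInstance : Smooth g))
          (repWith_locP_of_repWith H12AlgSp.etLocal_etale p hp)))) (repWith_fpFst y hsm)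
  have hcj : AlgSt.RepByAlgSpWith AlgSp.IsSurjectiveMor (BasedFunctor.comp a (FibCat.fpFst y u)) :=
    repWith_surjective_comp (fibGrpd_overCat A) hS
      ((repWith_comp_equiv_iff he).2 ((repWith_equiv_comp_iff (ofOverCat_isEquivOver A)).1
        (repWith_surjective_of_repWith p hps))) (repWith_fpFst y hsurj)
  obtain ⟨c, ⟨j⟩⟩ := exists_overMap_iso (BasedFunctor.comp a (FibCat.fpFst y u))
  have : Smooth c.left := by
    have hd := prop_of_repWith_spMap (sourceIsoInv_locP _)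
      (F := ⟨_, AlgSp.IsAlgSpace.yon_obj A⟩)
      ((repWith_equiv_comp_iff (toOverCat_isEquivOver A)).1 (repWith_of_iso j hcs))
    rw [spMapOfOver_overMap, spMapOfOver_toOverCat, Category.id_comp] at hd
    exact (locP_yon_iff H12AlgSp.etLocal_smooth c).1 hd
  have : Surjective c.left := ⟨fun t => by
    obtain ⟨s, hs⟩ := surjective_of_repWith (fibGrpd_overCat V) (repWith_of_iso j hcj)
      (AlgSt.Points.ofChart (BasedFunctor.id (FibCat.overCat V)) t)
    exact ⟨chartPoint s, by rw [← chartPoint_overMap, hs, chartPoint_ofChart]⟩⟩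
  let v := BasedFunctor.comp a (FibCat.fpSnd y u)
  let k : BasedFunctor.comp (AlgSt.overMap c) y ≅ BasedFunctor.comp v u :=
    (post (FibCat.overCat A) y).mapIso j.symm ≪≫ (Stk.restr a 𝒳).mapIso (FibCat.fpIso y u)
  have hux : AlgSt.RepByAlgSp (FibCat.fp u x) :=
    repByAlgSp_of_equiv' (fpSwap_isEquivOver u x) (repByAlgSp1_of_with hsm U x)
  have hvx : AlgSt.RepByAlgSp (FibCat.fp (BasedFunctor.comp v u) x) :=
    repByAlgSp_of_equiv (pasteBase_isEquivOver u x v)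
      (repByAlgSp_fp_of_rep (repByAlgSp_overCat A) hux hU v (FibCat.fpFst u x))
  let M : FibCat.fp (BasedFunctor.comp (AlgSt.overMap c) y) x ⥤ᵇ
      FibCat.fp (BasedFunctor.comp v u) x :=
    fpMap (F := BasedFunctor.comp v u) (G := x) (BasedFunctor.id _) (BasedFunctor.id _)
      (BasedFunctor.id 𝒳) k (Iso.refl (BasedFunctor.comp x (BasedFunctor.id 𝒳)))
  have hM : FibCat.IsEquivOver M :=
    fpMap_isEquivOver _ _ _ _ _ (essSurjOver_id _) (essSurjOver_id _)
  have hbc : AlgSt.RepByAlgSp (FibCat.fp (AlgSt.overMap c) (FibCat.fpFst y x)) :=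
    repByAlgSp_of_equiv' (pasteBase_isEquivOver y x (AlgSt.overMap c))
      (repByAlgSp_of_equiv' hM hvx)
  let 𝒢 := FibCat.fp y x
  have hs : FibCat.IsFibSetoid 𝒢.p := fp_overCat_overCat_fibSetoid h𝒳.1 y x
  have hGst : Stk.IsStack (AlgSp.J S) 𝒢 := isStack_fp _ _ (isAlgStack_overCat V).isStack
    (isAlgStack_overCat U).isStack (isPrestack_of_isStack h𝒳)
  let C := classFun hs.1
  have hC : FibCat.IsEquivOver C := classFun_isEquivOver hs.1 hs
  let F : AlgSp.Sp S := ⟨classPsh hs.1,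
    (isSheaf_iff_isSheaf_of_type _ _).2 ((isStack_ofPsh_iff _).1
      ((isStack_iff (AlgSp.J S) hC).1 hGst))⟩
  obtain ⟨C', ⟨iC⟩, ⟨iC'⟩⟩ := hC
  have hC' : FibCat.IsEquivOver C' := ⟨_, ⟨iC'⟩, ⟨iC⟩⟩
  let Φ : AlgSt.ofSp F ⥤ᵇ FibCat.overCat V := BasedFunctor.comp C' (FibCat.fpFst y x)
  let π := AlgSt.spMapOfOver Φ
  obtain ⟨kΦ⟩ := spMapOfOver_eq Φ
  obtain ⟨⟨_, _⟩, -⟩ := (isEquivOver_iff _).1 (toOverCat_isEquivOver V)
  obtain ⟨-, hsC⟩ := (isEquivOver_iff _).1 hC'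
  obtain ⟨⟨_, _⟩, hsA⟩ := (isEquivOver_iff _).1 (toOverCat_isEquivOver A)
  obtain ⟨⟨_, _⟩, -⟩ := (isEquivOver_iff _).1 hC'
  let mk' : BasedFunctor.comp (Stk.ofPshMap ((AlgSp.yon S).map c).hom) (AlgSt.toOverCat V) ≅
      BasedFunctor.comp (AlgSt.toOverCat A) (AlgSt.overMap c) :=
    mkIso (fun s => Iso.refl _)
      (fun {_ _} φ => (Category.comp_id _).trans ((Category.id_comp _).trans
        (Over.OverMorphism.ext rfl)).symm)
      (fun s => IsHomLift.id rfl)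
  let N : FibCat.fp (Stk.ofPshMap ((AlgSp.yon S).map c).hom) (AlgSt.ofSpMap π) ⥤ᵇ
      FibCat.fp (AlgSt.overMap c) (FibCat.fpFst y x) :=
    fpMap (F := AlgSt.overMap c) (G := FibCat.fpFst y x) (AlgSt.toOverCat A) C'
      (AlgSt.toOverCat V) mk' kΦ.symm
  have hN : FibCat.IsEquivOver N := fpMap_isEquivOver _ _ _ _ _ hsA hsC
  have sqp := ((IsPullback.of_hasPullback π ((AlgSp.yon S).map c)).flip).map
    (sheafToPresheaf (AlgSp.J S) (Type (u + 1)))
  have hP : AlgSp.IsAlgSpace (pullback π ((AlgSp.yon S).map c)) := by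
    obtain ⟨hs', hA⟩ := repByAlgSp_ofPsh_iff.1
      (repByAlgSp_of_equiv' (isEquivOver_comp (pshComparison_isEquivOver sqp) hN) hbc)
    exact hA
  exact repByAlgSp_of_equiv hC' ⟨⟨F, isAlgSpace_of_smooth_cover π c hP⟩, BasedFunctor.id _,
    isEquivOver_id _⟩

end Groth.Agent.H14AlgSt
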