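import Groth.Agent.H14IsoNat.QCPoints
import Groth.Agent.H14AlgSt.FieldPoint
import Groth.Agent.H14Top.SpectralQuotient

/-!
# Spectral spaces of points of algebraic stacks
-/

set_option autoImplicit false
set_option backward.isDefEq.respectTransparency false
set_option backward.isDefEq.respectTransparency.types false

universe u

open CategoryTheory Opposite AlgebraicGeometry CategoryTheory.Limits

noncomputable section

namespace Groth.Agent.H14AlgSt

open H14Fib H14Stk

variable {S : Scheme.{u}} {𝒳 : AlgSt.Cat S}

local notation "K₀" => Scheme.fppfPrecoverage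

lemma spectralSpace_affine (X : Scheme.{u}) [IsAffine X] : SpectralSpace X := {}

lemma continuous_chartPoint {A : Over S} : Continuous (chartPoint (S := S) (U := A)) := by
  refine continuous_def.2 fun O hO => ?_
  have e : chartPoint (S := S) (U := A) ⁻¹' O =
      AlgSt.Points.ofChart (BasedFunctor.id (FibCat.overCat A)) '' O := by
    ext q
    constructor
    · exact fun hq => ⟨_, hq, ofChart_chartPoint q⟩
    · rintro ⟨t, ht, rfl⟩
      change chartPoint _ ∈ O
      rwa [chartPoint_ofChart]
  rw [e]
  have hid : ∀ {Q : MorphismProperty Scheme.{u}}, H12AlgSp.EtLocal Q → Q (𝟙 A.left) →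
      AlgSt.RepByAlgSpWith (AlgSp.LocP Q) (BasedFunctor.id (FibCat.overCat A)) := fun hQ h =>
    repWith_of_iso (mkIso (fun s => Over.isoMk (Iso.refl _)
        ((Category.id_comp _).trans (Category.comp_id _).symm))
      (fun {_ _} φ => Over.OverMorphism.ext ((Category.comp_id _).trans (Category.id_comp _).symm))
      (fun s => IsHomLift.id rfl)) (repWith_overMap hQ (𝟙 A) h)
  exact isOpenMap_ofChart (fibGrpd_overCat A)
    (hid H12AlgSp.etLocal_flat (MorphismProperty.id_mem @Flat _))
    (hid H12AlgSp.etLocal_lfp (MorphismProperty.id_mem @LocallyOfFinitePresentation _)) O hO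

/-- The image of an affine chart is spectral when the diagonal is quasi-compact. -/
theorem spectralSpace_range [QuasiSeparatedSpace S] (hX : AlgSt.IsAlgStack K₀ 𝒳)
    (hΔ : AlgSt.RepByAlgSpWith AlgSp.IsQuasiCompactMor (FibCat.diag (FibCat.toSelf 𝒳)))
    {A : Over S} [IsAffine A.left] (x : FibCat.overCat A ⥤ᵇ 𝒳)
    (hop : IsOpenMap (AlgSt.Points.ofChart x)) :
    SpectralSpace ↥(Set.range (AlgSt.Points.ofChart x)) := by
  have hA := isAlgStack_overCat A
  have hq : AlgSt.IsQuasiCompactMor K₀ x :=
    isQCMor_cancel (g := FibCat.toSelf 𝒳) hA hX isAlgStack_selfOver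
      (by rw [comp_toSelf]; exact isQCMor_toSelf hA (isQuasiCompact_overCat A)) hΔ
  have := spectralSpace_affine A.left
  refine H14Top.spectralSpace_of_openQuotient (π := Set.rangeFactorization (AlgSt.Points.ofChart x))
    ((continuous_ofChart hX x).subtype_mk _) ?_ Set.rangeFactorization_surjective ?_ ?_
  · intro O hO
    refine ⟨AlgSt.Points.ofChart x '' O, hop O hO, ?_⟩
    ext ⟨y, hy⟩
    constructor
    · rintro ⟨t, ht, rfl⟩
      exact ⟨t, ht, rfl⟩
    · rintro ⟨t, ht, e⟩
      exact ⟨t, ht, congrArg Subtype.val e⟩
  · intro V hVo hVc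
    have hr : IsOpen (Set.range (AlgSt.Points.ofChart x)) := hop.isOpen_range
    have h := H14IsoNat.isCompact_preimage_of_isQCMor hA hX hq
      (hr.isOpenMap_subtype_val V hVo) (hVc.image continuous_subtype_val)
    have e : Set.rangeFactorization (AlgSt.Points.ofChart x) ⁻¹' V =
        chartPoint (S := S) (U := A) '' (AlgSt.Points.map x ⁻¹' (Subtype.val '' V)) := by
      ext t
      constructor
      · intro ht
        refine ⟨AlgSt.Points.ofChart (BasedFunctor.id _) t, ⟨_, ht, ?_⟩, chartPoint_ofChart t⟩
        rw [← ofChart_eq_map]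
        rfl
      · rintro ⟨q, ⟨v, hv, hvq⟩, rfl⟩
        rw [map_eq_ofChart] at hvq
        change Set.rangeFactorization (AlgSt.Points.ofChart x) (chartPoint q) ∈ V
        rwa [show Set.rangeFactorization (AlgSt.Points.ofChart x) (chartPoint q) = v from
          Subtype.ext hvq.symm]
    rw [e]
    exact h.image continuous_chartPoint
  · rintro ⟨_, u, rfl⟩ ι V hVo hVc hfip
    let K : Over S := Over.mk (A.left.fromSpecResidueField u ≫ A.hom)
    let c : K ⟶ A := Over.homMk (A.left.fromSpecResidueField u) rfl
    have hK := isAlgStack_overCat K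
    have : CompactSpace K.left :=
      inferInstanceAs (CompactSpace ↥(Spec (A.left.residueField u)))
    let a := BasedFunctor.comp (AlgSt.overMap c) x
    obtain ⟨W, w, hW, -, hws⟩ := hq _ hK (isQuasiCompact_overCat K) a
    have := hW
    have := spectralSpace_affine W.left
    obtain ⟨h, ⟨j⟩⟩ := exists_overMap_iso (BasedFunctor.comp w (FibCat.fpSnd a x))
    have hrange : ∀ t, AlgSt.Points.ofChart x t = AlgSt.Points.ofChart x u ↔
        t ∈ Set.range h.left := by
      have hc : ∀ k : K.left, c.left k = u := fun k =>
        Set.mem_singleton_iff.1 (Scheme.range_fromSpecResidueField u ▸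
          (⟨k, rfl⟩ : c.left k ∈ Set.range (A.left.fromSpecResidueField u)))
      intro t
      constructor
      · intro ht
        obtain ⟨k, -⟩ : ∃ k : K.left, c.left k = u :=
          (Set.mem_range (f := A.left.fromSpecResidueField u)).1
            (Scheme.range_fromSpecResidueField u ▸ rfl)
        have e : AlgSt.Points.map a (AlgSt.Points.ofChart (BasedFunctor.id _) k) =
            AlgSt.Points.map x (AlgSt.Points.ofChart (BasedFunctor.id _) t) := by
          rw [← ofChart_eq_map, ← ofChart_eq_map, ofChart_comp_overMap, hc, ht]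
        obtain ⟨v, -, hv⟩ := exists_points_fp hK.isStack.1 hA.isStack.1 hX.isStack.1
          (F := a) (G := x) e
        obtain ⟨s, rfl⟩ := surjective_of_repWith
          (fp_fibGrpd hK.isStack.1 hA.isStack.1 hX.isStack.1) hws v
        refine ⟨chartPoint s, ?_⟩
        rw [← chartPoint_overMap, ← points_map_iso j, points_map_comp, hv, chartPoint_ofChart]
      · rintro ⟨s, rfl⟩
        let q := AlgSt.Points.map w (AlgSt.Points.ofChart (BasedFunctor.id _) s)
        have h1 : AlgSt.Points.map (FibCat.fpSnd a x) q =
            AlgSt.Points.ofChart (BasedFunctor.id _) (h.left s) := by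
          rw [← points_map_comp, points_map_iso j, ← ofChart_eq_map,
            ← ofChart_comp_overMap]
          rfl
        have h2 := points_map_iso (FibCat.fpIso a x) q
        rw [points_map_comp (FibCat.fpFst a x) a, points_map_comp (FibCat.fpSnd a x) x, h1,
          ← ofChart_eq_map] at h2
        rw [← h2, map_eq_ofChart, ofChart_comp_overMap, hc]
    obtain ⟨s, -, hs⟩ := H14Top.exists_mem_closed_of_fip (W := (Set.univ : Set W.left)) isClosed_univ
      (fun i => h.left ⁻¹' V i) (fun i => (hVo i).preimage h.left.continuous)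
      (fun i => QuasiCompact.isCompact_preimage _ (hVo i) (hVc i)) fun t => by
        obtain ⟨a', ha', hat⟩ := hfip t
        obtain ⟨s, rfl⟩ := (hrange a').1 (congrArg Subtype.val ha')
        exact ⟨s, trivial, Set.mem_iInter₂.2 hat⟩
    exact ⟨h.left s, Subtype.ext ((hrange _).2 ⟨s, rfl⟩), fun i => Set.mem_iInter.1 hs i⟩

end Groth.Agent.H14AlgSt
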