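import Groth.Agent.H14AlgSt.ProdMap
import Groth.Agent.H14AlgSt.DiagGen
import Groth.Agent.H14AlgSt.AlgFp
import Groth.Agent.H14AlgSt.EtaleAtlas

/-!
# The square of a chart is a chart of the square of a stack
-/

set_option autoImplicit false
set_option linter.unusedVariables false
set_option backward.isDefEq.respectTransparency false
set_option backward.isDefEq.respectTransparency.types false

universe u

open CategoryTheory CategoryTheory.Functor AlgebraicGeometry CategoryTheory.Limits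

noncomputable section

namespace Groth.Agent.H14AlgSt

open H14Fib H14Stk

variable {S : Scheme.{u}} {𝒳 : AlgSt.Cat S} (W : Over S)

/-- The square of an object over the base. -/
abbrev sqObj : Over S := Over.mk (pullback.fst W.hom W.hom ≫ W.hom)

/-- The first projection. -/
abbrev sqFst : sqObj W ⟶ W := Over.homMk (pullback.fst W.hom W.hom) rfl

/-- The second projection. -/
abbrev sqSnd : sqObj W ⟶ W := Over.homMk (pullback.snd W.hom W.hom) pullback.condition.symm

/-- Two functors to the base are isomorphic. -/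
def selfIso {𝒜 : AlgSt.Cat S} (F G : 𝒜 ⥤ᵇ FibCat.selfOver (Over S)) : F ≅ G :=
  mkIso (fun a => eqToIso ((F.w_obj a).trans (G.w_obj a).symm))
    (fun {a b} φ => by
      have h1 : F.map φ = eqToHom (F.w_obj a) ≫ 𝒜.p.map φ ≫ eqToHom (F.w_obj b).symm :=
        Functor.congr_hom F.w φ
      have h2 : G.map φ = eqToHom (G.w_obj a) ≫ 𝒜.p.map φ ≫ eqToHom (G.w_obj b).symm :=
        Functor.congr_hom G.w φ
      change F.map φ ≫ eqToHom ((F.w_obj b).trans (G.w_obj b).symm) =
        eqToHom ((F.w_obj a).trans (G.w_obj a).symm) ≫ G.map φ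
      erw [h1, h2]
      simp)
    (fun a => IsHomLift.of_fac' _ _ _ (F.w_obj a) (G.w_obj a) (by simp; rfl))

/-- The functor of the two projections. -/
def sqFun : FibCat.overCat (sqObj W) ⥤ᵇ
    FibCat.fp (FibCat.toSelf (FibCat.overCat W)) (FibCat.toSelf (FibCat.overCat W)) :=
  FibCat.fpLift (AlgSt.overMap (sqFst W)) (AlgSt.overMap (sqSnd W)) (selfIso _ _)

theorem sqFun_isEquivOver : FibCat.IsEquivOver (sqFun W) := by
  refine (isEquivOver_iff _).2 ⟨⟨⟨fun {a b} m => ?_⟩, ⟨fun {a b} φ ψ h => ?_⟩⟩, fun p => ?_⟩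
  · have hw : m.hom.fst.left ≫ 𝟙 _ = 𝟙 _ ≫ m.hom.snd.left := m.hom.w
    rw [Category.id_comp, Category.comp_id] at hw
    have h1 : m.hom.fst.left ≫ b.hom ≫ sqFst W = a.hom ≫ sqFst W := Over.w m.hom.fst
    have h2 : m.hom.snd.left ≫ b.hom ≫ sqSnd W = a.hom ≫ sqSnd W := Over.w m.hom.snd
    rw [← hw] at h2
    refine ⟨Over.homMk m.hom.fst.left (Over.OverMorphism.ext (pullback.hom_ext ?_ ?_)),
      fp_hom_ext (Over.OverMorphism.ext rfl) (Over.OverMorphism.ext hw)⟩
    · have := congrArg (fun q : a.left ⟶ W => q.left) h1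
      simpa [Category.assoc] using this
    · have := congrArg (fun q : a.left ⟶ W => q.left) h2
      simpa [Category.assoc] using this
  · exact Over.OverMorphism.ext (congrArg (fun q => q.hom.fst.left) h)
  · obtain ⟨⟨a, b, i⟩, hp⟩ := p
    have hab : a.left = b.left :=
      (@IsHomLift.codomain_eq _ _ _ _ (FibCat.selfOver (Over S)).p _ _ _ _ (𝟙 a.left) i.hom hp).symm
    have hi : i.hom = eqToHom hab := by
      have := @IsHomLift.fac' _ _ _ _ (FibCat.selfOver (Over S)).p _ _ _ _ (𝟙 a.left) i.hom hp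
      exact this.trans (by simp)
    obtain ⟨B, bh, rfl⟩ : ∃ (B : Over S) (bh : B ⟶ W), Over.mk bh = b := ⟨b.left, b.hom, rfl⟩
    obtain ⟨A, ah, rfl⟩ : ∃ (A : Over S) (ah : A ⟶ W), Over.mk ah = a := ⟨a.left, a.hom, rfl⟩
    change A = B at hab
    subst hab
    let s : A ⟶ sqObj W := Over.homMk (pullback.lift ah.left bh.left ((Over.w ah).trans (Over.w bh).symm)) (by
      change pullback.lift _ _ _ ≫ pullback.fst _ _ ≫ W.hom = A.hom
      rw [pullback.lift_fst_assoc]
      exact Over.w ah)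
    have hs1 : s ≫ sqFst W = ah := Over.OverMorphism.ext (pullback.lift_fst _ _ _)
    have hs2 : s ≫ sqSnd W = bh := Over.OverMorphism.ext (pullback.lift_snd _ _ _)
    refine ⟨Over.mk s, fpIsoMk (Over.isoMk (Iso.refl A) ((Category.id_comp _).trans hs1.symm))
      (Over.isoMk (Iso.refl A) ((Category.id_comp _).trans hs2.symm)) ?_, ?_⟩
    · change 𝟙 A ≫ i.hom = 𝟙 A ≫ 𝟙 A
      rw [hi]
      simp
    · exact (fp_isHomLift_iff _ _).2 (IsHomLift.of_fac' _ _ _ rfl rfl (by simp; rfl))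

/-- A based functor commutes with the functors to the base. -/
lemma comp_toSelf' {𝒜 : AlgSt.Cat S} (F : 𝒜 ⥤ᵇ 𝒳) :
    BasedFunctor.comp F (FibCat.toSelf 𝒳) = FibCat.toSelf 𝒜 := by
  have h : (BasedFunctor.comp F (FibCat.toSelf 𝒳)).toFunctor = (FibCat.toSelf 𝒜).toFunctor := F.w
  revert h
  generalize BasedFunctor.comp F (FibCat.toSelf 𝒳) = A
  intro h
  cases A
  cases h
  rfl

/-- The pair of restrictions of a chart to the square. -/
def pairFun (x : FibCat.overCat W ⥤ᵇ 𝒳) :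
    FibCat.overCat (sqObj W) ⥤ᵇ FibCat.fp (FibCat.toSelf 𝒳) (FibCat.toSelf 𝒳) :=
  FibCat.fpLift (BasedFunctor.comp (AlgSt.overMap (sqFst W)) x)
    (BasedFunctor.comp (AlgSt.overMap (sqSnd W)) x) (selfIso _ _)

theorem repWith_pairFun {P : MorphismProperty (AlgSp.Sp S)} (h𝒳 : FibCat.IsFibGrpd 𝒳.p)
    (hiso : SourceIsoInv P) (hloc : TestOnSchemes P)
    (hc : ∀ ⦃A B C : AlgSp.Sp S⦄, AlgSp.IsAlgSpace A → AlgSp.IsAlgSpace B → AlgSp.IsAlgSpace C →
      ∀ (a : A ⟶ B) (b : B ⟶ C), P a → P b → P (a ≫ b))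
    {x : FibCat.overCat W ⥤ᵇ 𝒳} (hx : AlgSt.RepByAlgSpWith P x) :
    AlgSt.RepByAlgSpWith P (pairFun W x) := by
  let p' := FibCat.toSelf 𝒳
  let f := BasedFunctor.comp x p'
  let e := selfIso (BasedFunctor.comp (BasedFunctor.comp (FibCat.fpFst f f) x) p')
    (BasedFunctor.comp (BasedFunctor.comp (FibCat.fpSnd f f) x) p')
  let Pr := FibCat.fpLift (BasedFunctor.comp (FibCat.fpFst f f) x) (BasedFunctor.comp (FibCat.fpSnd f f) x) e
  have hPr : AlgSt.RepByAlgSpWith P Pr :=
    repWith_prodMap (p' := p') (q' := p') e hiso hloc hc (fibGrpd_overCat W) h𝒳 (fibGrpd_overCat W)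
      selfOver_fibGrpd hx hx fun q =>
        selfOver_hom_eq (𝟙 ((FibCat.overCat W).p.obj q.obj.fst)) _ _
          (BasedNatTrans.isHomLift e.hom rfl) q.property
  have ec : FibCat.toSelf (FibCat.overCat W) = f := (comp_toSelf' x).symm
  obtain ⟨sq, hsq, hsq1, hsq2⟩ : ∃ sq : FibCat.overCat (sqObj W) ⥤ᵇ FibCat.fp f f,
      FibCat.IsEquivOver sq ∧ BasedFunctor.comp sq (FibCat.fpFst f f) = AlgSt.overMap (sqFst W) ∧
        BasedFunctor.comp sq (FibCat.fpSnd f f) = AlgSt.overMap (sqSnd W) := by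
    rw [← ec]
    exact ⟨sqFun W, sqFun_isEquivOver W, rfl, rfl⟩
  have gen : ∀ (a b : FibCat.overCat (sqObj W) ⥤ᵇ FibCat.overCat W),
      BasedFunctor.comp sq (FibCat.fpFst f f) = a → BasedFunctor.comp sq (FibCat.fpSnd f f) = b →
        Nonempty (BasedFunctor.comp sq Pr ≅ (FibCat.fpLift (BasedFunctor.comp a x) (BasedFunctor.comp b x)
          (selfIso _ _) : FibCat.overCat (sqObj W) ⥤ᵇ FibCat.fp p' p')) := by
    rintro _ _ rfl rfl
    let G : FibCat.overCat (sqObj W) ⥤ᵇ FibCat.fp p' p' :=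
      FibCat.fpLift (BasedFunctor.comp (BasedFunctor.comp sq (FibCat.fpFst f f)) x)
        (BasedFunctor.comp (BasedFunctor.comp sq (FibCat.fpSnd f f)) x) (selfIso _ _)
    have hw : ∀ s, ((BasedFunctor.comp sq Pr).obj s).obj.iso.hom = (G.obj s).obj.iso.hom := fun s =>
      selfOver_hom_eq (𝟙 s.left) _ _ (BasedNatTrans.isHomLift e.hom (BasedFunctor.w_obj sq s))
        (BasedNatTrans.isHomLift (selfIso (BasedFunctor.comp (BasedFunctor.comp (BasedFunctor.comp sq (FibCat.fpFst f f)) x) p')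
          (BasedFunctor.comp (BasedFunctor.comp (BasedFunctor.comp sq (FibCat.fpSnd f f)) x) p')).hom rfl)
    let c : ∀ s, (BasedFunctor.comp sq Pr).obj s ≅ G.obj s := fun s =>
      fpIsoMk (Iso.refl _) (Iso.refl _) (by
        change p'.map (𝟙 (G.obj s).obj.fst) ≫ (G.obj s).obj.iso.hom =
          ((BasedFunctor.comp sq Pr).obj s).obj.iso.hom ≫ p'.map (𝟙 (G.obj s).obj.snd)
        erw [p'.toFunctor.map_id, p'.toFunctor.map_id]
        exact ((Category.id_comp _).trans (hw s).symm).trans (Category.comp_id _).symm)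
    exact ⟨mkIso c (fun {a b} φ => fp_hom_ext ((Category.comp_id _).trans (Category.id_comp _).symm)
        ((Category.comp_id _).trans (Category.id_comp _).symm))
      (fun s => (fp_isHomLift_iff _ _).2
        (IsHomLift.id (BasedFunctor.w_obj (BasedFunctor.comp sq (BasedFunctor.comp (FibCat.fpFst f f) x)) s)))⟩
  obtain ⟨i⟩ := gen _ _ hsq1 hsq2
  exact repWith_of_iso i ((repWith_equiv_comp_iff hsq).1 hPr)

end Groth.Agent.H14AlgSt
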