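import Groth.Agent.H14AlgSt.OpenCoverSpace
import Groth.Agent.H14AlgSt.Substack
import Groth.Agent.H14AlgSt.Bootstrap
import Groth.Agent.H14AlgSt.PointsSpace
import Groth.Agent.H14AlgSt.Diag2

/-!
# Algebraic stacks covered by open substacks which are algebraic spaces
-/

set_option autoImplicit false
set_option backward.isDefEq.respectTransparency false
set_option backward.isDefEq.respectTransparency.types false

universe w u

open CategoryTheory CategoryTheory.Functor Opposite AlgebraicGeometry CategoryTheory.Limits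

noncomputable section

namespace Groth.Agent.H14AlgSt

open H14Fib H14Stk

variable {S : Scheme.{u}} {𝒳 : AlgSt.Cat S}

local notation "K₀" => Scheme.fppfPrecoverage

lemma repWith_open_of_repBySpWith {G F : AlgSp.Sp S} {a : G ⟶ F}
    (h : AlgSp.RepBySpWith (AlgSp.RepWith @IsOpenImmersion) a.hom) :
    AlgSp.RepWith @IsOpenImmersion a := by
  refine MorphismProperty.relative.of_exists fun T x => ?_
  let P := pullback a x
  have sq := IsPullback.of_hasPullback a x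
  obtain ⟨_, -, hp⟩ := h x.hom (pullback.fst a x).hom (pullback.snd a x).hom
    (sq.map (sheafToPresheaf (AlgSp.J S) (Type (u + 1))))
  have hp' : AlgSp.RepWith @IsOpenImmersion (pullback.snd a x) := hp
  obtain ⟨V, v, fst, sqv⟩ := hp'.rep (𝟙 _)
  have hv := hp'.property (𝟙 _) fst v sqv
  exact ⟨V, fst ≫ pullback.fst a x, v, by simpa using sqv.paste_horiz sq, hv⟩

lemma fibSetoid_of_openCover (hX : AlgSt.IsAlgStack K₀ 𝒳) {ι : Type w} (Q : ι → 𝒳.obj → Prop)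
    (hQ : ∀ i, AlgSt.IsOpenSubstack 𝒳 (Q i) K₀)
    (hcov : ⋃ i, Set.range (AlgSt.Points.map (AlgSt.subIncl 𝒳 (Q i))) = Set.univ)
    (hs : ∀ i, FibCat.IsFibSetoid (AlgSt.fullSub 𝒳 (Q i)).p) : FibCat.IsFibSetoid 𝒳.p := by
  have h𝒳 := hX.isStack.1
  have := isFibered_of_fibGrpd h𝒳
  refine fibSetoid_iff_faithful.2 ⟨h𝒳, ?_⟩
  change (FibCat.toSelf 𝒳).toFunctor.Faithful
  refine faithful_of_vertFaithful (MapSC.of_fibGrpd _ selfOver_fibGrpd) ?_
  intro U a b φ ψ hφ hψ _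
  have ha : 𝒳.p.obj a = U := IsHomLift.domain_eq 𝒳.p (𝟙 U) φ
  have hb : 𝒳.p.obj b = U := IsHomLift.codomain_eq 𝒳.p (𝟙 U) φ
  obtain ⟨xa, ea, -, hea⟩ := exists_fromOver (x := a) ha
  obtain ⟨xb, eb, -, heb⟩ := exists_fromOver (x := b) hb
  have hebi : 𝒳.p.IsHomLift (𝟙 U) eb.inv := IsHomLift.lift_id_inv 𝒳.p U eb
  have hφ' : 𝒳.p.IsHomLift (𝟙 U) (ea.hom ≫ φ ≫ eb.inv) :=
    homLift_id_comp hea (homLift_id_comp hφ hebi)
  have hψ' : 𝒳.p.IsHomLift (𝟙 U) (ea.hom ≫ ψ ≫ eb.inv) :=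
    homLift_id_comp hea (homLift_id_comp hψ hebi)
  have hxb := topSC_of_fibGrpd h𝒳 xb
  let α := extendNatTrans hxb (ea.hom ≫ φ ≫ eb.inv)
  let β := extendNatTrans hxb (ea.hom ≫ ψ ≫ eb.inv)
  choose W hW using fun i => exists_subspace_open (hQ i).1 (hQ i).2.2 xb
  have ht : ∀ t : U.left, ∃ i, t ∈ W i := fun t => by
    obtain ⟨i, hi⟩ := Set.mem_iUnion.1 (hcov.ge (Set.mem_univ (AlgSt.Points.ofChart xb t)))
    exact ⟨i, (ofChart_mem_range_iff h𝒳 (hQ i) xb (hW i) t).1 hi⟩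
  choose k hk using ht
  let R : Sieve U := Sieve.ofArrows (fun t : U.left => subU (W (k t))) fun t => subUIncl (W (k t))
  have hR : R ∈ AlgSp.J S U := H13AlgSp.ofArrows_mem_J (fun t : U.left => subUIncl (W (k t)))
    (fun t => inferInstanceAs (Flat (W (k t)).ι))
    (fun t => inferInstanceAs (LocallyOfFinitePresentation (W (k t)).ι))
    (fun t => ⟨t, (W (k t)).range_ι.ge (hk t)⟩)
  have : (Stk.resSieve R 𝒳).Faithful := ((isPrestack_of_isStack hX.isStack).2 R hR).2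
  have key : α = β := by
    apply (Stk.resSieve R 𝒳).map_injective
    refine BasedNatTrans.homCategory.ext _ _ ?_
    ext s
    obtain ⟨_, g, f, ⟨t⟩, hgf⟩ := s.property
    change α.toNatTrans.app s.obj = β.toNatTrans.app s.obj
    have hb' : Q (k t) (xb.obj s.obj) := (hW (k t) s.obj).2 fun z => by
      rw [← hgf]
      exact (W (k t)).range_ι.le ⟨g.left z, rfl⟩
    have h1 : 𝒳.p.IsHomLift (𝟙 s.obj.left) (α.toNatTrans.app s.obj) :=
      BasedNatTrans.isHomLift α rfl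
    have h2 : 𝒳.p.IsHomLift (𝟙 s.obj.left) (β.toNatTrans.app s.obj) :=
      BasedNatTrans.isHomLift β rfl
    have := isIso_of_fibGrpd h𝒳 (𝟙 s.obj.left) (α.toNatTrans.app s.obj)
    have ha' : Q (k t) (xa.obj s.obj) :=
      (hQ (k t)).1.of_iso (asIso (α.toNatTrans.app s.obj)).symm hb'
    let A : (AlgSt.fullSub 𝒳 (Q (k t))).obj := ⟨xa.obj s.obj, ha'⟩
    let B : (AlgSt.fullSub 𝒳 (Q (k t))).obj := ⟨xb.obj s.obj, hb'⟩
    let m : A ⟶ B := ObjectProperty.homMk (α.toNatTrans.app s.obj)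
    let n : A ⟶ B := ObjectProperty.homMk (β.toNatTrans.app s.obj)
    have := faithful_of_fibSetoid (hs (k t))
    have h : m = n := by
      apply (AlgSt.fullSub 𝒳 (Q (k t))).p.map_injective
      change 𝒳.p.map (α.toNatTrans.app s.obj) = 𝒳.p.map (β.toNatTrans.app s.obj)
      rw [IsHomLift.fac' 𝒳.p (𝟙 s.obj.left) (α.toNatTrans.app s.obj),
        IsHomLift.fac' 𝒳.p (𝟙 s.obj.left) (β.toNatTrans.app s.obj)]
    exact congrArg (fun q => q.hom) h
  have h := congrArg (fun γ => γ.toNatTrans.app (topObj U)) key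
  simp only [α, β, extendNatTrans_top] at h
  rwa [cancel_epi, cancel_mono] at h

/-- An algebraic stack covered by open substacks equivalent to spaces is the category of a sheaf
covered by these spaces. -/
lemma exists_sheaf_openCover (hX : AlgSt.IsAlgStack K₀ 𝒳) {ι : Type w} (Q : ι → 𝒳.obj → Prop)
    (hQ : ∀ i, AlgSt.IsOpenSubstack 𝒳 (Q i) K₀)
    (hcov : ⋃ i, Set.range (AlgSt.Points.map (AlgSt.subIncl 𝒳 (Q i))) = Set.univ)
    (G : ι → AlgSp.Space S) (E : ∀ i, AlgSt.ofSp (G i).obj ⥤ᵇ AlgSt.fullSub 𝒳 (Q i))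
    (hE : ∀ i, FibCat.IsEquivOver (E i)) :
    ∃ (F : AlgSp.Sp S) (c : 𝒳 ⥤ᵇ AlgSt.ofSp F) (I : Type u) (k : I → ι)
      (a : ∀ t, (G (k t)).obj ⟶ F), FibCat.IsEquivOver c ∧
        (∀ t, AlgSp.RepWith @IsOpenImmersion (a t)) ∧
        ∀ z : AlgSp.Points F, ∃ t, z ∈ Set.range (AlgSp.Points.map (a t)) := by
  have hs := fibSetoid_of_openCover hX Q hQ hcov fun i =>
    isFibSetoid_of_rep ⟨G i, E i, hE i⟩
  let c₀ := classFun hX.isStack.1
  have hc : FibCat.IsEquivOver c₀ := classFun_isEquivOver hX.isStack.1 hs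
  let F : AlgSp.Sp S := ⟨classPsh hX.isStack.1,
    isStack_ofPsh.1 ((isStack_iff (F := c₀) _ hc).1 hX.isStack)⟩
  let c : 𝒳 ⥤ᵇ AlgSt.ofSp F := c₀
  obtain ⟨U, x, hx, hxs⟩ := hX.atlas
  have hk : ∀ t : U.left, ∃ i, AlgSt.Points.ofChart x t ∈
      Set.range (AlgSt.Points.map (AlgSt.subIncl 𝒳 (Q i))) := fun t =>
    Set.mem_iUnion.1 (hcov.ge (Set.mem_univ _))
  choose k hk using hk
  let Φ : ∀ t, AlgSt.ofSp (G (k t)).obj ⥤ᵇ AlgSt.ofSp F := fun t =>
    BasedFunctor.comp (BasedFunctor.comp (E (k t)) (AlgSt.subIncl 𝒳 (Q (k t)))) c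
  let a : ∀ t, (G (k t)).obj ⟶ F := fun t => ObjectProperty.homMk (mapOfFun (Φ t))
  have ei : ∀ t, Nonempty (Φ t ≅ AlgSt.ofSpMap (a t)) := fun t => ⟨isoOfPshMap (Φ t)⟩
  refine ⟨F, c, U.left, k, a, hc, fun t => repWith_open_of_repBySpWith ?_, fun z => ?_⟩
  · obtain ⟨e⟩ := ei t
    exact (repBySpWith_iff _ _).2 (repWith_of_iso e ((repWith_comp_equiv_iff hc).2
      ((repWith_equiv_comp_iff (hE (k t))).1 (hQ (k t)).2.2)))
  · obtain ⟨w, hw⟩ := (points_map_bijective hc).2 (spEquiv F z)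
    obtain ⟨t, rfl⟩ := ofChart_surjective hX.isStack.1 hxs w
    obtain ⟨v, hv⟩ := hk t
    obtain ⟨v', rfl⟩ := (points_map_bijective (hE (k t))).2 v
    obtain ⟨z', rfl⟩ := (spEquiv (G (k t)).obj).surjective v'
    obtain ⟨e⟩ := ei t
    refine ⟨t, z', (spEquiv F).injective ?_⟩
    rw [spEquiv_map, ← points_map_iso e, points_map_comp, points_map_comp, hv]
    exact hw

lemma repByAlgSp_of_openCover (hX : AlgSt.IsAlgStack K₀ 𝒳) {ι : Type w} (Q : ι → 𝒳.obj → Prop)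
    (hQ : ∀ i, AlgSt.IsOpenSubstack 𝒳 (Q i) K₀)
    (hcov : ⋃ i, Set.range (AlgSt.Points.map (AlgSt.subIncl 𝒳 (Q i))) = Set.univ)
    (hsp : ∀ i, AlgSt.RepByAlgSp (AlgSt.fullSub 𝒳 (Q i))) : AlgSt.RepByAlgSp 𝒳 := by
  choose G E hE using hsp
  obtain ⟨F, c, I, k, a, hc, ha, hz⟩ := exists_sheaf_openCover hX Q hQ hcov G E hE
  exact repByAlgSp_of_equiv' hc (repByAlgSp_ofSp
    ⟨F, isAlgSpace_of_openCover (fun t => (G (k t)).property) ha hz⟩)

lemma isRepresentable_of_openCover (hX : AlgSt.IsAlgStack K₀ 𝒳) {ι : Type w}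
    (Q : ι → 𝒳.obj → Prop) (hQ : ∀ i, AlgSt.IsOpenSubstack 𝒳 (Q i) K₀)
    (hcov : ⋃ i, Set.range (AlgSt.Points.map (AlgSt.subIncl 𝒳 (Q i))) = Set.univ)
    (hsch : ∀ i, FibCat.IsRepresentable (AlgSt.fullSub 𝒳 (Q i))) : FibCat.IsRepresentable 𝒳 := by
  choose V P hP using hsch
  have hP' : ∀ i, ∃ P' : FibCat.overCat (V i) ⥤ᵇ AlgSt.fullSub 𝒳 (Q i), FibCat.IsEquivOver P' :=
    fun i => by
      obtain ⟨P', ⟨j⟩, ⟨j'⟩⟩ := hP i
      exact ⟨P', P i, ⟨j'⟩, ⟨j⟩⟩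
  choose P' hP' using hP'
  obtain ⟨F, c, I, k, a, hc, ha, hz⟩ := exists_sheaf_openCover hX Q hQ hcov
    (fun i => ⟨(AlgSp.yon S).obj (V i), AlgSp.IsAlgSpace.yon_obj _⟩)
    (fun i => BasedFunctor.comp (AlgSt.toOverCat (V i)) (P' i))
    (fun i => isEquivOver_comp (toOverCat_isEquivOver _) (hP' i))
  obtain ⟨GT, μ, hμ⟩ := H12AlgSp.exists_iso_of_openCover (fun t => V (k t)) a ha
    fun T y s => hz (AlgSp.Points.ofPt y s)
  have : IsIso (inv μ).hom :=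
    inferInstanceAs (IsIso ((sheafToPresheaf (AlgSp.J S) (Type (u + 1))).map (inv μ)))
  exact ⟨GT, BasedFunctor.comp (BasedFunctor.comp c (AlgSt.ofSpMap (inv μ))) (AlgSt.toOverCat GT),
    isEquivOver_comp (isEquivOver_comp hc (isEquivOver_ofPshMap (inv μ).hom))
      (toOverCat_isEquivOver GT)⟩

end Groth.Agent.H14AlgSt
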