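import Groth.Agent.H14AlgSt.Substack

/-!
# Full subcategories of algebraic stacks cut out by subspaces of charts
-/

set_option autoImplicit false
set_option backward.isDefEq.respectTransparency false
set_option backward.isDefEq.respectTransparency.types false

universe u

open CategoryTheory CategoryTheory.Functor Opposite AlgebraicGeometry CategoryTheory.Limits

noncomputable section

namespace Groth.Agent.H14AlgSt

open H14Fib H14Stk

variable {S : Scheme.{u}} {𝒳 : AlgSt.Cat S} {Q : 𝒳.obj → Prop} {U : Over S}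

local notation "K₀" => Scheme.fppfPrecoverage

/-- A predicate stable under pullback gives a category fibred in groupoids. -/
lemma fullSub_fibGrpd_of_hom (hh : ∀ {a b : 𝒳.obj}, (b ⟶ a) → Q a → Q b)
    (hX : FibCat.IsFibGrpd 𝒳.p) : FibCat.IsFibGrpd (AlgSt.fullSub 𝒳 Q).p where
  exists_lift {a V} f := by
    obtain ⟨b, φ, hφ⟩ := hX.exists_lift (x := a.obj) f
    exact ⟨⟨b, hh φ a.property⟩, ObjectProperty.homMk φ,
      (BasedFunctor.isHomLift_iff (AlgSt.subIncl 𝒳 Q) f _).1 hφ⟩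
  isStronglyCartesian {b a} φ := by
    have := hX.isStronglyCartesian φ.hom
    refine ⟨fun {c} g ψ hψ => ?_⟩
    have hψ' : 𝒳.p.IsHomLift (g ≫ 𝒳.p.map φ.hom) ψ.hom :=
      (BasedFunctor.isHomLift_iff (AlgSt.subIncl 𝒳 Q) _ ψ).2 hψ
    obtain ⟨χ, ⟨hχ₁, hχ₂⟩, huniq⟩ := IsStronglyCartesian.universal_property 𝒳.p
      (𝒳.p.map φ.hom) φ.hom g _ rfl ψ.hom
    refine ⟨ObjectProperty.homMk χ,
      ⟨(BasedFunctor.isHomLift_iff (AlgSt.subIncl 𝒳 Q) g _).1 hχ₁,
        ObjectProperty.hom_ext _ hχ₂⟩, fun τ hτ => ObjectProperty.hom_ext _ (huniq τ.hom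
        ⟨(BasedFunctor.isHomLift_iff (AlgSt.subIncl 𝒳 Q) g τ).2 hτ.1,
          congrArg InducedCategory.Hom.hom hτ.2⟩)⟩

/-- `Q` is local for fppf coverings of charts. -/
def LocalPred (Q : 𝒳.obj → Prop) : Prop :=
  ∀ (U : Over S) (R : Sieve U), R ∈ QuotSh.J K₀ S U → ∀ H : FibCat.overCat U ⥤ᵇ 𝒳,
    (∀ s : (Stk.sieveCat R).obj, Q (H.obj s.obj)) → ∀ s, Q (H.obj s)

lemma fullSub_isStack_of_local (hh : ∀ {a b : 𝒳.obj}, (b ⟶ a) → Q a → Q b) (hl : LocalPred Q)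
    (hX : AlgSt.IsAlgStack K₀ 𝒳) : Stk.IsStack (QuotSh.J K₀ S) (AlgSt.fullSub 𝒳 Q) := by
  let i := AlgSt.subIncl 𝒳 Q
  refine ⟨fullSub_fibGrpd_of_hom hh hX.isStack.1, fun U R hR => ?_⟩
  have hp := isPrestackFor_of_fullyFaithful i
    ((isPrestack_of_isStack hX.isStack).2 R hR)
  have : (Stk.resSieve R (AlgSt.fullSub 𝒳 Q)).Full := hp.1
  have : (Stk.resSieve R (AlgSt.fullSub 𝒳 Q)).Faithful := hp.2
  have : (Stk.resSieve R 𝒳).IsEquivalence := hX.isStack.2 R hR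
  have : (Stk.resSieve R (AlgSt.fullSub 𝒳 Q)).EssSurj := ⟨fun G => by
    let G' := BasedFunctor.comp G i
    let H := (Stk.resSieve R 𝒳).objPreimage G'
    let eH : BasedFunctor.comp (Stk.sieveIncl R) H ≅ G' := (Stk.resSieve R 𝒳).objObjPreimageIso G'
    have hQ : ∀ s, Q (H.obj s) :=
      hl U R hR H fun a => hh (isoApp eH a).hom (G.obj a).property
    let H₀ := liftSub H hQ
    have : (post (Stk.sieveCat R) i).Full := post_full i
    have : (post (Stk.sieveCat R) i).Faithful := post_faithful i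
    exact ⟨H₀, ⟨(post (Stk.sieveCat R) i).preimageIso
      ((Stk.resSieve R 𝒳).mapIso (liftSubIso H hQ) ≪≫ eH)⟩⟩⟩
  exact { }

lemma fullSub_diag_of_hom (hh : ∀ {a b : 𝒳.obj}, (b ⟶ a) → Q a → Q b)
    (hX : AlgSt.IsAlgStack K₀ 𝒳) :
    AlgSt.RepByAlgSp1 (FibCat.diag (FibCat.toSelf (AlgSt.fullSub 𝒳 Q))) := by
  intro U y
  let 𝒰 := AlgSt.fullSub 𝒳 Q
  let i : 𝒰 ⥤ᵇ 𝒳 := AlgSt.subIncl 𝒳 Q
  let M : FibCat.fp (FibCat.toSelf 𝒰) (FibCat.toSelf 𝒰) ⥤ᵇ
      FibCat.fp (FibCat.toSelf 𝒳) (FibCat.toSelf 𝒳) :=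
    fpMap i i (BasedFunctor.id (FibCat.selfOver (Over S))) (Iso.refl _) (Iso.refl _)
  let e : BasedFunctor.comp (FibCat.diag (FibCat.toSelf 𝒰)) M ≅
      BasedFunctor.comp i (FibCat.diag (FibCat.toSelf 𝒳)) :=
    mkIso (fun a => fpIsoMk (Iso.refl _) (Iso.refl _) (by
        change 𝒳.p.map (𝟙 _) ≫ _ = _ ≫ 𝒳.p.map (𝟙 _)
        simp
        rfl))
      (fun {_ _} m => fp_hom_ext ((Category.comp_id _).trans (Category.id_comp _).symm)
        ((Category.comp_id _).trans (Category.id_comp _).symm))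
      (fun a => (fp_isHomLift_iff _ _).2 (IsHomLift.id rfl))
  let E : FibCat.fp y (FibCat.diag (FibCat.toSelf 𝒰)) ⥤ᵇ
      FibCat.fp (BasedFunctor.comp y M) (FibCat.diag (FibCat.toSelf 𝒳)) :=
    fpMap (BasedFunctor.id _) i M (Iso.refl _) e
  have hM : M.toFunctor.Faithful ∧ M.toFunctor.Full := by
    constructor
    · exact ⟨fun {a b} f g h => fp_hom_ext
        (ObjectProperty.hom_ext _ (congrArg (fun t => t.hom.fst) h))
        (ObjectProperty.hom_ext _ (congrArg (fun t => t.hom.snd) h))⟩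
    · refine ⟨fun {a b} f => ?_⟩
      refine ⟨ObjectProperty.homMk
        { fst := ObjectProperty.homMk f.hom.fst
          snd := ObjectProperty.homMk f.hom.snd
          w := ?_ }, fp_hom_ext rfl rfl⟩
      have hw := f.hom.w
      change 𝒳.p.map f.hom.fst ≫ _ = _ ≫ 𝒳.p.map f.hom.snd at hw
      change 𝒳.p.map f.hom.fst ≫ _ = _ ≫ 𝒳.p.map f.hom.snd
      simp only [M, fpMap, fpObj, fpMapIso, Iso.trans_hom, Iso.symm_hom, Functor.mapIso_hom] at hw
      erw [Category.id_comp, Category.id_comp, Category.comp_id] at hw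
      exact hw
  have := hM.1
  have := hM.2
  have hE : FibCat.IsEquivOver E :=
    fpMap_isEquivOver_of_lifts _ _ _ _ _ (essSurjOver_id _) fun z =>
      ⟨⟨z.obj.snd, hh z.obj.iso.inv.hom.fst (y.obj z.obj.fst).obj.fst.property⟩,
        Iso.refl _, IsHomLift.id rfl⟩
  exact repByAlgSp_of_equiv' hE (hX.diag U (BasedFunctor.comp y M))

variable {W : Over S} {x : FibCat.overCat U ⥤ᵇ 𝒳} {v : W ⟶ U}

lemma subspace_mem (hW : ∀ s : (FibCat.overCat U).obj,
      Q (x.obj s) ↔ ∃ g : s.left ⟶ W, g ≫ v = s.hom)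
    (s : (FibCat.overCat W).obj) : Q (x.obj ((AlgSt.overMap v).obj s)) :=
  (hW _).2 ⟨s.hom, rfl⟩

/-- A subspace of a chart as the fibre product with the substack. -/
def subspaceToFp (hW : ∀ s : (FibCat.overCat U).obj,
      Q (x.obj s) ↔ ∃ g : s.left ⟶ W, g ≫ v = s.hom) :
    FibCat.overCat W ⥤ᵇ FibCat.fp x (AlgSt.subIncl 𝒳 Q) :=
  FibCat.fpLift (AlgSt.overMap v)
    (liftSub (BasedFunctor.comp (AlgSt.overMap v) x) (subspace_mem hW)) (liftSubIso _ _).symm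

lemma subspaceToFp_isEquivOver [Mono v] (hc : ObjectProperty.IsClosedUnderIsomorphisms Q)
    (hW : ∀ s : (FibCat.overCat U).obj, Q (x.obj s) ↔ ∃ g : s.left ⟶ W, g ≫ v = s.hom) :
    FibCat.IsEquivOver (subspaceToFp hW) := by
  refine (isEquivOver_iff _).2 ⟨⟨⟨fun {a b} f => ?_⟩, ⟨fun {a b} f g e => ?_⟩⟩, fun z => ?_⟩
  · let φ₁ : (Over.map v).obj a ⟶ (Over.map v).obj b := f.hom.fst
    let φ : a ⟶ b := Over.homMk φ₁.left ((cancel_mono v).1
      ((Category.assoc _ _ _).trans (Over.w φ₁)))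
    refine ⟨φ, fp_hom_ext (Over.OverMorphism.ext rfl) ?_⟩
    apply ObjectProperty.hom_ext
    have hw := f.hom.w
    change x.map φ₁ ≫ 𝟙 _ = 𝟙 _ ≫ _ at hw
    rw [Category.comp_id, Category.id_comp] at hw
    exact hw
  · exact Over.OverMorphism.ext (congrArg (fun t => t.hom.fst.left) e)
  · obtain ⟨g', hg'⟩ := (hW z.obj.fst).1 (hc.of_iso z.obj.iso.symm z.obj.snd.property)
    let a : (FibCat.overCat W).obj := Over.mk g'
    let e₁ : (Over.map v).obj a ≅ z.obj.fst :=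
      Over.isoMk (Iso.refl _) ((Category.id_comp _).trans hg'.symm)
    let e₂ : x.obj ((Over.map v).obj a) ≅ z.obj.snd.obj :=
      x.toFunctor.mapIso e₁ ≪≫ z.obj.iso
    refine ⟨a, fpIsoMk e₁ (ObjectProperty.isoMk _ e₂) ?_, ?_⟩
    · exact (Category.id_comp _).symm
    · rw [fp_isHomLift_iff]
      exact IsHomLift.of_fac' _ _ _ rfl rfl ((Category.id_comp _).trans (Category.comp_id _)).symm

lemma repWith_subIncl_of_subspaces {P : MorphismProperty Scheme.{u}}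
    [P.IsStableUnderBaseChange] (hc : ObjectProperty.IsClosedUnderIsomorphisms Q)
    (hsub : ∀ (U : Over S) (x : FibCat.overCat U ⥤ᵇ 𝒳), ∃ (W : Over S) (v : W ⟶ U),
      P v.left ∧ Mono v ∧ ∀ s : (FibCat.overCat U).obj,
        Q (x.obj s) ↔ ∃ g : s.left ⟶ W, g ≫ v = s.hom) :
    AlgSt.RepByAlgSpWith (AlgSp.RepWith P) (AlgSt.subIncl 𝒳 Q) := by
  intro U x
  obtain ⟨W, v, hv, hm, hW⟩ := hsub U x
  refine ⟨⟨(AlgSp.yon S).obj W, AlgSp.IsAlgSpace.yon_obj _⟩,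
    BasedFunctor.comp (AlgSt.toOverCat _) (subspaceToFp hW),
    isEquivOver_comp (toOverCat_isEquivOver _) (subspaceToFp_isEquivOver hc hW), ?_⟩
  have h : AlgSt.spMapOfOver (BasedFunctor.comp (BasedFunctor.comp (AlgSt.toOverCat W)
      (subspaceToFp hW)) (FibCat.fpFst x (AlgSt.subIncl 𝒳 Q))) = (AlgSp.yon S).map v := by
    change AlgSt.spMapOfOver (BasedFunctor.comp (AlgSt.toOverCat W) (AlgSt.overMap v)) = _
    rw [spMapOfOver_overMap, spMapOfOver_toOverCat, Category.id_comp]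
  rw [h]
  exact (AlgSp.repWith_yon_map_iff _ _).2 hv

/-- The atlas of the substack induced by an atlas of the ambient stack. -/
lemma exists_atlas_sub [Mono v] (hc : ObjectProperty.IsClosedUnderIsomorphisms Q)
    (hW : ∀ s : (FibCat.overCat U).obj, Q (x.obj s) ↔ ∃ g : s.left ⟶ W, g ≫ v = s.hom)
    (hx : AlgSt.RepByAlgSpWith (AlgSp.LocP @Smooth) x)
    (hxs : AlgSt.RepByAlgSpWith AlgSp.IsSurjectiveMor x) :
    ∃ x' : FibCat.overCat W ⥤ᵇ AlgSt.fullSub 𝒳 Q,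
      AlgSt.RepByAlgSpWith (AlgSp.LocP @Smooth) x' ∧
        AlgSt.RepByAlgSpWith AlgSp.IsSurjectiveMor x' := by
  let i := AlgSt.subIncl 𝒳 Q
  let E := BasedFunctor.comp (subspaceToFp hW) (fpSwap x i)
  have hE : FibCat.IsEquivOver E :=
    isEquivOver_comp (subspaceToFp_isEquivOver hc hW) (fpSwap_isEquivOver _ _)
  exact ⟨BasedFunctor.comp E (FibCat.fpFst i x), (repWith_equiv_comp_iff hE).1 (repWith_fpFst i hx),
    (repWith_equiv_comp_iff hE).1 (repWith_fpFst i hxs)⟩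

end Groth.Agent.H14AlgSt
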