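import Groth.Agent.H14AlgSt.UCDvrBasic

/-!
# Charts of base changes of stacks over schemes
-/

set_option autoImplicit false
set_option backward.isDefEq.respectTransparency false
set_option backward.isDefEq.respectTransparency.types false

universe u

open CategoryTheory CategoryTheory.Functor Opposite AlgebraicGeometry CategoryTheory.Limits

noncomputable section

namespace Groth.Agent.H14AlgSt.UCDvr

open H14Fib H14Stk

variable {S : Scheme.{u}} {𝒵 : AlgSt.Cat S} {B V T Q : Over S}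

/-- Two morphisms of a slice over the same morphism are equal. -/
lemma overCat_lift_unique {R R' : Over S} (φ : R ⟶ R') {a b : (FibCat.overCat T).obj} (g g' : a ⟶ b)
    (hg : (FibCat.overCat T).p.IsHomLift φ g) (hg' : (FibCat.overCat T).p.IsHomLift φ g') : g = g' := by
  apply Over.OverMorphism.ext
  have h1 := @IsHomLift.fac' _ _ _ _ (FibCat.overCat T).p _ _ _ _ φ g hg
  have h2 := @IsHomLift.fac' _ _ _ _ (FibCat.overCat T).p _ _ _ _ φ g' hg'
  exact h1.trans h2.symm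

variable {p : 𝒵 ⥤ᵇ FibCat.overCat V} {a : FibCat.overCat B ⥤ᵇ 𝒵} {h : B ⟶ V}
  (j : BasedFunctor.comp a p ≅ AlgSt.overMap h) {m : T ⟶ V} {prT : Q ⟶ T} {prB : Q ⟶ B}
  (sq : IsPullback prT prB m h)

/-- The chart of a base change given by a cartesian square. -/
def cartFun : FibCat.overCat Q ⥤ᵇ FibCat.fp (AlgSt.overMap m) p :=
  FibCat.fpLift (AlgSt.overMap prT) (BasedFunctor.comp (AlgSt.overMap prB) a)
    (overMapCompIso prT m ≪≫ eqToIso (by rw [sq.w]) ≪≫ (overMapCompIso prB h).symm ≪≫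
      ((Stk.restr (AlgSt.overMap prB) _).mapIso j).symm)

lemma ofChart_cartFun_fst (z : Q.left) :
    chartPoint (AlgSt.Points.map (FibCat.fpFst (AlgSt.overMap m) p)
      (AlgSt.Points.ofChart (cartFun j sq) z)) = prT.left z := by
  rw [← ofChart_comp]
  change chartPoint (AlgSt.Points.ofChart (AlgSt.overMap prT) z) = _
  rw [ofChart_eq_map, chartPoint_overMap, chartPoint_ofChart]

/-- The chart of a base change of a smooth surjective chart is open and surjective on points. -/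
lemma cartFun_open_surjective (hZ : FibCat.IsFibGrpd 𝒵.p)
    (ha : AlgSt.RepByAlgSpWith (AlgSp.LocP @Smooth) a) (has : AlgSt.RepByAlgSpWith AlgSp.IsSurjectiveMor a) :
    IsOpenMap (AlgSt.Points.ofChart (cartFun j sq)) ∧
      Function.Surjective (AlgSt.Points.ofChart (cartFun j sq)) := by
  obtain ⟨b, hb, ⟨k₁⟩, ⟨k₂⟩⟩ := exists_pullback_chart a p h j m
  let e := sq.isoPullback
  let u₁ : BasedFunctor.comp (AlgSt.overMap e.hom) (BasedFunctor.comp b (FibCat.fpFst (AlgSt.overMap m) p)) ≅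
      AlgSt.overMap prT :=
    (Stk.restr (AlgSt.overMap e.hom) _).mapIso k₁ ≪≫ overMapCompIso e.hom (pullback.fst m h) ≪≫
      eqToIso (by rw [sq.isoPullback_hom_fst])
  let u₂ : BasedFunctor.comp (AlgSt.overMap e.hom) (BasedFunctor.comp b (FibCat.fpSnd (AlgSt.overMap m) p)) ≅
      BasedFunctor.comp (AlgSt.overMap prB) a :=
    (Stk.restr (AlgSt.overMap e.hom) _).mapIso k₂ ≪≫
      (post (FibCat.overCat Q) a).mapIso (overMapCompIso e.hom (pullback.snd m h) ≪≫
        eqToIso (by rw [sq.isoPullback_hom_snd]))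
  have iso : BasedFunctor.comp (AlgSt.overMap e.hom) b ≅ cartFun j sq :=
    mkIso (fun w => fpIsoMk (appIso u₁ w) (appIso u₂ w) (by
        refine overCat_lift_unique (𝟙 w.left) _ _ ?_ ?_
        · have h0 : (FibCat.overCat T).p.IsHomLift (𝟙 w.left) (app u₁.hom w) :=
            BasedNatTrans.isHomLift u₁.hom rfl
          have h1 := @BasedFunctor.preserves_isHomLift _ _ _ _ (AlgSt.overMap m) _ _ _ _ (𝟙 w.left) _ h0
          have h2 : (FibCat.overCat V).p.IsHomLift (𝟙 w.left) ((cartFun j sq).obj w).obj.iso.hom :=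
            fp_iso_isHomLift _ ((cartFun j sq).w_obj w)
          have h3 := homLift_comp' h1 h2
          rwa [Category.id_comp] at h3
        · have h1 : (FibCat.overCat V).p.IsHomLift (𝟙 w.left)
              ((BasedFunctor.comp (AlgSt.overMap e.hom) b).obj w).obj.iso.hom :=
            fp_iso_isHomLift _ ((BasedFunctor.comp (AlgSt.overMap e.hom) b).w_obj w)
          have h0 : 𝒵.p.IsHomLift (𝟙 w.left) (app u₂.hom w) := BasedNatTrans.isHomLift u₂.hom rfl
          have h2 := @BasedFunctor.preserves_isHomLift _ _ _ _ p _ _ _ _ (𝟙 w.left) _ h0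
          have h3 := homLift_comp' h1 h2
          rwa [Category.id_comp] at h3))
      (fun {v w} g => fp_hom_ext (u₁.hom.toNatTrans.naturality g) (u₂.hom.toNatTrans.naturality g))
      (fun w => (fp_isHomLift_iff _ _).2 (BasedNatTrans.isHomLift u₁.hom rfl))
  have hfun : AlgSt.Points.ofChart (cartFun j sq) = AlgSt.Points.ofChart b ∘ e.hom.left := funext fun z => by
    rw [← ofChart_iso iso, ofChart_comp_overMap]
    rfl
  let E : Q.left ≅ (pullback m h).left := (Over.forget S).mapIso e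
  have hP := fp_fibGrpd (F := AlgSt.overMap m) (G := p) (fibGrpd_overCat T) hZ (fibGrpd_overCat V)
  refine ⟨?_, ?_⟩
  · rw [hfun]
    exact (isOpenMap_ofChart hP (repWith_locP_mono smooth_le_flat (hb ha))
      (repWith_locP_mono smooth_le_lfp (hb ha))).comp (Scheme.homeoOfIso E).isOpenMap
  · rw [hfun]
    exact (ofChart_surjective hP (hb has)).comp (Scheme.homeoOfIso E).surjective

variable {T₀ Q₀ : Over S} (k : T ⟶ T₀) {m₀ : T₀ ⟶ V} (hm : k ≫ m₀ = m) {prT₀ : Q₀ ⟶ T₀} {prB₀ : Q₀ ⟶ B}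
  (sq₀ : IsPullback prT₀ prB₀ m₀ h) (π : Q ⟶ Q₀) (hπT : π ≫ prT₀ = prT ≫ k) (hπB : π ≫ prB₀ = prB)

/-- The map of base changes along a map of schemes. -/
def baseMap : FibCat.fp (AlgSt.overMap m) p ⥤ᵇ FibCat.fp (AlgSt.overMap m₀) p :=
  fpMap (F := AlgSt.overMap m₀) (G := p) (AlgSt.overMap k) (BasedFunctor.id 𝒵)
    (BasedFunctor.id (FibCat.overCat V))
    (eqToIso (by rw [hm]; rfl) ≪≫ (overMapCompIso k m₀).symm)
    (Iso.refl (BasedFunctor.comp p (BasedFunctor.id (FibCat.overCat V))))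

lemma baseMap_fst (q : AlgSt.Points (FibCat.fp (AlgSt.overMap m) p)) :
    chartPoint (AlgSt.Points.map (FibCat.fpFst (AlgSt.overMap m₀) p) (AlgSt.Points.map (baseMap k hm) q)) =
      k.left (chartPoint (AlgSt.Points.map (FibCat.fpFst (AlgSt.overMap m) p) q)) := by
  rw [← points_map_comp, ← chartPoint_overMap, ← points_map_comp]
  exact congrArg chartPoint (points_map_iso (mkIso (fun x => Iso.refl _)
    (fun {_ _} _ => (Category.comp_id _).trans (Category.id_comp _).symm)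
    (fun x => IsHomLift.id ((BasedFunctor.w_obj _ x)))) q)

include hπT hπB in
lemma exists_cart_obj (u : (FibCat.fp (AlgSt.overMap m) p).obj) (aQ : (FibCat.overCat Q₀).obj)
    (i : (baseMap k hm).obj u ≅ (cartFun j sq₀).obj aQ)
    (hi : (FibCat.fp (AlgSt.overMap m₀) p).p.IsHomLift (𝟙 u.obj.fst.left) i.hom) :
    ∃ l : u.obj.fst.left ⟶ Q, Nonempty ((cartFun j sq).obj (Over.mk l) ⟶ u) ∧
      Nonempty ((AlgSt.overMap π).obj (Over.mk l) ⟶ aQ) := by
  obtain ⟨A, ah, rfl⟩ : ∃ (A : Over S) (ah : A ⟶ Q₀), Over.mk ah = aQ := ⟨aQ.left, aQ.hom, rfl⟩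
  have hA : A = u.obj.fst.left :=
    @IsHomLift.codomain_eq _ _ _ _ (FibCat.fp (AlgSt.overMap m₀) p).p _ _ _ _ (𝟙 u.obj.fst.left) i.hom hi
  subst hA
  have hi1 := @fp_isHomLift_fst _ _ _ _ _ _ _ _ _ _ _ (𝟙 u.obj.fst.left) i.hom hi
  have hleft : i.hom.hom.fst.left = 𝟙 u.obj.fst.left := by
    have h0 := @IsHomLift.fac' _ _ _ _ (FibCat.overCat T₀).p _ _ _ _ (𝟙 u.obj.fst.left) i.hom.hom.fst hi1
    exact h0.trans (by simp; rfl)
  have h1 : ah ≫ prT₀ = u.obj.fst.hom ≫ k := by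
    have := Over.w i.hom.hom.fst
    exact (Category.id_comp _).symm.trans ((congrArg (· ≫ _) hleft.symm).trans this)
  have hc : u.obj.fst.hom ≫ m = (ah ≫ prB₀) ≫ h :=
    calc u.obj.fst.hom ≫ m = u.obj.fst.hom ≫ k ≫ m₀ := congrArg (u.obj.fst.hom ≫ ·) hm.symm
      _ = (u.obj.fst.hom ≫ k) ≫ m₀ := (Category.assoc _ _ _).symm
      _ = (ah ≫ prT₀) ≫ m₀ := congrArg (· ≫ m₀) h1.symm
      _ = (ah ≫ prB₀) ≫ h := by rw [Category.assoc, sq₀.w, ← Category.assoc]
  let l := sq.lift u.obj.fst.hom (ah ≫ prB₀) hc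
  have hlπ : l ≫ π = ah := by
    apply sq₀.hom_ext
    · rw [Category.assoc, hπT, ← Category.assoc, sq.lift_fst, h1]
    · rw [Category.assoc, hπB, sq.lift_snd]
  refine ⟨l, ⟨?_⟩, ⟨Over.homMk (𝟙 _) ((Category.id_comp _).trans hlπ.symm)⟩⟩
  let α : ((cartFun j sq).obj (Over.mk l)).obj.fst ⟶ u.obj.fst :=
    Over.homMk (𝟙 _) ((Category.id_comp _).trans (sq.lift_fst _ _ _).symm)
  let β₀ : (AlgSt.overMap prB).obj (Over.mk l) ⟶ (AlgSt.overMap prB₀).obj (Over.mk ah) :=
    Over.homMk (𝟙 _) ((Category.id_comp _).trans (sq.lift_snd _ _ _).symm)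
  let β : ((cartFun j sq).obj (Over.mk l)).obj.snd ⟶ u.obj.snd := a.map β₀ ≫ i.inv.hom.snd
  have hα : (FibCat.overCat T).p.IsHomLift (𝟙 u.obj.fst.left) α :=
    IsHomLift.map (FibCat.overCat T).p α
  have hβ₀ : (FibCat.overCat B).p.IsHomLift (𝟙 u.obj.fst.left) β₀ :=
    IsHomLift.map (FibCat.overCat B).p β₀
  have hinv : (FibCat.fp (AlgSt.overMap m₀) p).p.IsHomLift (𝟙 u.obj.fst.left) i.inv :=
    @IsHomLift.lift_id_inv _ _ _ _ (FibCat.fp (AlgSt.overMap m₀) p).p _ _ _ i hi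
  have hβ : 𝒵.p.IsHomLift (𝟙 u.obj.fst.left) β := by
    have h2 := homLift_comp' (@BasedFunctor.preserves_isHomLift _ _ _ _ a _ _ _ _ (𝟙 _) β₀ hβ₀)
      (@fp_isHomLift_snd' _ _ _ _ _ _ _ _ _ _ _ (𝟙 u.obj.fst.left) i.inv hinv)
    rw [Category.id_comp] at h2
    exact h2
  refine fpHom α β (overCat_lift_unique (𝟙 u.obj.fst.left) _ _ ?_ ?_)
  · have h2 := homLift_comp' (@BasedFunctor.preserves_isHomLift _ _ _ _ (AlgSt.overMap m) _ _ _ _ (𝟙 _) α hα)
      (fp_iso_isHomLift u rfl)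
    rw [Category.id_comp] at h2
    exact h2
  · have h2 := homLift_comp'
      (fp_iso_isHomLift ((cartFun j sq).obj (Over.mk l)) ((cartFun j sq).w_obj (Over.mk l)))
      (@BasedFunctor.preserves_isHomLift _ _ _ _ p _ _ _ _ (𝟙 _) β hβ)
    rw [Category.id_comp] at h2
    exact h2

include hπT hπB in
/-- Charts of base changes are cartesian on points. -/
lemma exists_cart_pt (hZ : FibCat.IsFibGrpd 𝒵.p) (q : AlgSt.Points (FibCat.fp (AlgSt.overMap m) p))
    (b₀ : Q₀.left) (e : AlgSt.Points.map (baseMap k hm) q = AlgSt.Points.ofChart (cartFun j sq₀) b₀) :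
    ∃ w, AlgSt.Points.ofChart (cartFun j sq) w = q ∧ π.left w = b₀ := by
  rw [ofChart_eq_map] at e
  obtain ⟨v, hv₁, hv₂⟩ := exists_points_fp (fp_fibGrpd (fibGrpd_overCat T) hZ (fibGrpd_overCat V))
    (fibGrpd_overCat Q₀) (fp_fibGrpd (fibGrpd_overCat T₀) hZ (fibGrpd_overCat V)) e
  obtain ⟨w₀, rfl⟩ := AlgSt.Points.mk_surjective v
  obtain ⟨l, ⟨hq⟩, ⟨hb⟩⟩ := exists_cart_obj j sq k hm sq₀ π hπT hπB w₀.obj.obj.fst w₀.obj.obj.snd
    w₀.obj.obj.iso (fp_iso_isHomLift w₀.obj rfl)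
  let L : AlgSt.FPt (FibCat.overCat Q) :=
    { K := w₀.K, str := w₀.str, obj := Over.mk l, lies := w₀.lies }
  refine ⟨chartPoint (AlgSt.Points.mk L), ?_, ?_⟩
  · rw [← map_eq_ofChart, ← hv₁]
    exact mk_eq_of_hom (p := L.map (cartFun j sq))
      (q := w₀.map (FibCat.fpFst (baseMap k hm) (cartFun j sq₀))) hq
  · have h2 : AlgSt.Points.map (AlgSt.overMap π) (AlgSt.Points.mk L) =
        AlgSt.Points.map (FibCat.fpSnd (baseMap k hm) (cartFun j sq₀)) (AlgSt.Points.mk w₀) :=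
      mk_eq_of_hom (p := L.map (AlgSt.overMap π))
        (q := w₀.map (FibCat.fpSnd (baseMap k hm) (cartFun j sq₀))) hb
    have h3 := congrArg chartPoint (h2.trans hv₂)
    rwa [chartPoint_overMap, chartPoint_ofChart] at h3

end Groth.Agent.H14AlgSt.UCDvr
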