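import Groth.Agent.H14AlgSt.UCDvrNoeth
import Groth.Agent.H14AlgSt.UCDvrCart
import Groth.Agent.H11Val.UCAffine
import Mathlib.AlgebraicGeometry.Morphisms.Smooth
import Mathlib.RingTheory.Smooth.Basic

/-!
# Closed images over affine schemes mapping to a Noetherian chart
-/

set_option autoImplicit false
set_option backward.isDefEq.respectTransparency false
set_option backward.isDefEq.respectTransparency.types false

universe u

open CategoryTheory CategoryTheory.Functor Opposite AlgebraicGeometry CategoryTheory.Limits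

noncomputable section

namespace Groth.Agent.H14AlgSt.UCDvr

open H14Fib H14Stk
open Groth.Agent.H11Val (strMap changeBase)

variable {S : Scheme.{u}} {𝒳 𝒴 : AlgSt.Cat S} {R : CommRingCat.{u}}

/-- The scheme of an algebra over an affine test scheme. -/
abbrev algObj (sV : Spec R ⟶ S) (A : Type u) [CommRing A] [Algebra R A] : Over S :=
  Over.mk (strMap (R := R) A ≫ sV)

/-- Its structure map. -/
abbrev algHom (sV : Spec R ⟶ S) (A : Type u) [CommRing A] [Algebra R A] : algObj sV A ⟶ Over.mk sV :=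
  Over.homMk (strMap (R := R) A) rfl

variable {sV : Spec R ⟶ S} {B : Over S} (h : B ⟶ Over.mk sV) (A : Type u) [CommRing A] [Algebra R A]

/-- The fibre product of a chart with the scheme of an algebra. -/
abbrev algPull : Over S := Over.mk (pullback.fst h.left (strMap (R := R) A) ≫ B.hom)

/-- The projection to the scheme of the algebra. -/
abbrev algPullT : algPull h A ⟶ algObj sV A :=
  Over.homMk (pullback.snd h.left (strMap (R := R) A)) (by
    change pullback.snd h.left (strMap (R := R) A) ≫ strMap (R := R) A ≫ sV = _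
    rw [← Category.assoc, ← pullback.condition, Category.assoc]
    exact congrArg (pullback.fst h.left (strMap (R := R) A) ≫ ·) (Over.w h))

/-- The projection to the chart. -/
abbrev algPullB : algPull h A ⟶ B := Over.homMk (pullback.fst h.left (strMap (R := R) A)) rfl

lemma algPull_sq : IsPullback (algPullT h A) (algPullB h A) (algHom sV A) h := by
  refine IsPullback.of_map (Over.forget S) (Over.OverMorphism.ext pullback.condition.symm) ?_
  exact (IsPullback.of_hasPullback h.left (strMap (R := R) A)).flip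

/-- Over an affine scheme mapping to a Noetherian affine chart, closed sets have closed images. -/
theorem isClosed_img_affine (h𝒳 : AlgSt.IsAlgStack Scheme.etalePrecoverage 𝒳)
    (h𝒴 : AlgSt.IsAlgStack Scheme.etalePrecoverage 𝒴)
    (hn : AlgSt.SmoothLocally (fun T => IsLocallyNoetherian T) 𝒴) {f : 𝒳 ⥤ᵇ 𝒴}
    (hqc : AlgSt.IsQuasiCompactMor Scheme.etalePrecoverage f)
    (hft : AlgSt.LocQ (AlgSp.LocP @LocallyOfFiniteType) f) (hval : DvrExtLifts f)
    {yV : FibCat.overCat (Over.mk sV) ⥤ᵇ 𝒴} (hyV : AlgSt.RepByAlgSpWith (AlgSp.LocP @Smooth) yV)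
    {D : Set (AlgSt.Points (FibCat.fp (BasedFunctor.comp (AlgSt.overMap (algHom sV A)) yV) f))}
    (hD : ChartClosed D) : IsClosed (img D) := by
  classical
  let V : Over S := Over.mk sV
  let p := FibCat.fpFst yV f
  let X := FibCat.fp yV f
  have hX := fp_fibGrpd (F := yV) (G := f) (fibGrpd_overCat V) h𝒳.isStack.1 h𝒴.isStack.1
  have : CompactSpace V.left := inferInstanceAs (CompactSpace ↥(Spec R))
  obtain ⟨B, Θ, hB, hΘ, hΘs⟩ := hqc _ (isAlgStack_etale_overCat V) (isQuasiCompact_overCat V) yV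
  have := hB
  obtain ⟨h, ⟨jΘ⟩⟩ := exists_overMap_iso (BasedFunctor.comp Θ p)
  let m := algHom sV A
  have hid : ∀ {𝒲 : AlgSt.Cat S} {𝒲' : AlgSt.Cat S} {F : 𝒲 ⥤ᵇ 𝒲'} {N : 𝒲' ⥤ᵇ 𝒲}
      (_ : BasedFunctor.comp F N ≅ BasedFunctor.id 𝒲) (v : AlgSt.Points 𝒲),
      AlgSt.Points.map N (AlgSt.Points.map F v) = v := fun {_ _ _ _} iN v => by
    rw [← points_map_comp, points_map_iso iN]
    obtain ⟨w, rfl⟩ := AlgSt.Points.mk_surjective v
    rfl
  let F := pasteBase yV f (AlgSt.overMap m)
  have hFfst : ∀ v, AlgSt.Points.map (FibCat.fpFst (BasedFunctor.comp (AlgSt.overMap m) yV) f)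
      (AlgSt.Points.map F v) = AlgSt.Points.map (FibCat.fpFst (AlgSt.overMap m) p) v := fun v => by
    rw [← points_map_comp]
    exact points_map_iso (mkIso (fun x => Iso.refl _)
      (fun {_ _} _ => (Category.comp_id _).trans (Category.id_comp _).symm)
      (fun x => IsHomLift.id rfl)) v
  let D₁ := AlgSt.Points.map F ⁻¹' D
  have himg : img D = (fun q => chartPoint (AlgSt.Points.map (FibCat.fpFst (AlgSt.overMap m) p) q)) '' D₁ := by
    ext t
    constructor
    · rintro ⟨q, hq, rfl⟩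
      obtain ⟨v, rfl⟩ := (points_map_bijective (pasteBase_isEquivOver yV f (AlgSt.overMap m))).2 q
      exact ⟨v, hq, congrArg chartPoint (hFfst v).symm⟩
    · rintro ⟨v, hv, rfl⟩
      exact ⟨_, hv, congrArg chartPoint (hFfst v)⟩
  let Λ := cartFun jΘ (algPull_sq h A)
  let W : Set ↥(pullback h.left (strMap (R := R) A)) := AlgSt.Points.ofChart Λ ⁻¹' D₁
  have hW : IsClosed W := chartClosed_preimage hD F _ Λ
  rw [himg, ← isOpen_compl_iff, isOpen_iff_forall_mem_open]
  intro 𝔮 h𝔮
  have h𝔮' : ∀ z ∈ W, pullback.snd h.left (strMap (R := R) A) z ≠ 𝔮 := fun z hz e =>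
    h𝔮 ⟨_, hz, (ofChart_cartFun_fst jΘ (algPull_sq h A) z).trans e⟩
  let v : Spec (CommRingCat.of Γ(B.left, ⊤)) ⟶ B.left := B.left.isoSpec.inv
  obtain ⟨ψ, hψ⟩ := Spec.map_surjective (v ≫ h.left)
  letI : Algebra R Γ(B.left, ⊤) := ψ.hom.toAlgebra
  obtain ⟨E, hE⟩ := H11Val.exists_finset_chart h.left W hW 𝔮 h𝔮' v hψ.symm
  let n := E.card
  let P := MvPolynomial (ULift.{u} (Fin n)) R
  let π : P →ₐ[R] A := MvPolynomial.aeval fun i => (E.equivFin.symm i.down : A)
  have hπ : (E : Set A) ⊆ Set.range π := fun b hb =>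
    ⟨MvPolynomial.X ⟨E.equivFin ⟨b, hb⟩⟩, by
      change MvPolynomial.aeval (fun i : ULift.{u} (Fin n) => (E.equivFin.symm i.down : A)) _ = _
      rw [MvPolynomial.aeval_X, Equiv.symm_apply_apply]⟩
  let T₀ := algObj sV P
  let m₀ := algHom sV P
  have hπs : Spec.map (CommRingCat.ofHom π.toRingHom) ≫ strMap (R := R) P = strMap (R := R) A := by
    rw [strMap, strMap, ← Spec.map_comp]
    congr 1
    ext r
    exact π.commutes r
  let k : algObj sV A ⟶ T₀ := Over.homMk (Spec.map (CommRingCat.ofHom π.toRingHom)) (by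
    change Spec.map _ ≫ strMap (R := R) P ≫ sV = strMap (R := R) A ≫ sV
    rw [← Category.assoc, hπs])
  have hk : k ≫ m₀ = m := Over.OverMorphism.ext hπs
  let ρ : algPull h A ⟶ algPull h P := Over.homMk (changeBase h.left π) (by
    change changeBase h.left π ≫ pullback.fst _ _ ≫ B.hom = pullback.fst _ _ ≫ B.hom
    rw [changeBase, ← Category.assoc, pullback.lift_fst, Category.comp_id])
  have hρT : ρ ≫ algPullT h P = algPullT h A ≫ k := Over.OverMorphism.ext (pullback.lift_snd _ _ _)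
  have hρB : ρ ≫ algPullB h P = algPullB h A :=
    Over.OverMorphism.ext ((pullback.lift_fst _ _ _).trans (Category.comp_id _))
  let Λ₀ := cartFun jΘ (algPull_sq h P)
  obtain ⟨hΛo, hΛs⟩ := cartFun_open_surjective jΘ (algPull_sq h P) hX hΘ hΘs
  let Rk := baseMap (p := p) k hk
  let C₀ := closure (AlgSt.Points.map Rk '' D₁)
  have hXa : AlgSt.IsAlgStack Scheme.etalePrecoverage X :=
    isAlgStack_fp Scheme.etalePrecoverage h𝒴.isStack h𝒴.diag (isAlgStack_etale_overCat V) h𝒳 yV f
  have hPm : AlgSt.IsAlgStack Scheme.etalePrecoverage (FibCat.fp (AlgSt.overMap m₀) p) :=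
    isAlgStack_fp Scheme.etalePrecoverage (isAlgStack_etale_overCat V).isStack (isAlgStack_etale_overCat V).diag
      (isAlgStack_etale_overCat T₀) hXa _ _
  have hsm : Algebra.Smooth R (MvPolynomial (ULift.{u} (Fin n)) R) := ⟨inferInstance, inferInstance⟩
  have : Smooth m₀.left :=
    (HasRingHomProperty.Spec_iff (P := @Smooth)).2 ((RingHom.smooth_algebraMap (R := R) (S := P)).2 hsm)
  let y₀ := BasedFunctor.comp (AlgSt.overMap m₀) yV
  have hy₀ : AlgSt.RepByAlgSpWith (AlgSp.LocP @Smooth) y₀ :=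
    repWith_locP_comp H12AlgSp.etLocal_smooth (fibGrpd_overCat T₀) (fibGrpd_overCat V)
      (repWith_overMap_smooth m₀) hyV
  haveI : IsAffine T₀.left := inferInstanceAs (IsAffine (Spec (CommRingCat.of P)))
  haveI : IsLocallyNoetherian T₀.left := hn T₀ y₀ hy₀
  let F₀ := pasteBase yV f (AlgSt.overMap m₀)
  have hF₀ := pasteBase_isEquivOver yV f (AlgSt.overMap m₀)
  have hF₀fst : ∀ v, AlgSt.Points.map (FibCat.fpFst y₀ f) (AlgSt.Points.map F₀ v) =
      AlgSt.Points.map (FibCat.fpFst (AlgSt.overMap m₀) p) v := fun v => by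
    rw [← points_map_comp]
    exact points_map_iso (mkIso (fun x => Iso.refl _)
      (fun {_ _} _ => (Category.comp_id _).trans (Category.id_comp _).symm)
      (fun x => IsHomLift.id rfl)) v
  obtain ⟨N, ⟨iN⟩, -⟩ := id hF₀
  have hclosed : IsClosed (img (y := y₀) (f := f) (AlgSt.Points.map N ⁻¹' C₀)) :=
    isClosed_img_noeth h𝒳 h𝒴 hqc hft hval hy₀
      (chartClosed_preimage (chartClosed_of_isClosed hPm isClosed_closure) N)
  refine ⟨k.left ⁻¹' (img (y := y₀) (f := f) (AlgSt.Points.map N ⁻¹' C₀))ᶜ, ?_,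
    hclosed.isOpen_compl.preimage k.left.continuous, ?_⟩
  · rintro t ht ⟨q, hq, rfl⟩
    refine ht ⟨AlgSt.Points.map F₀ (AlgSt.Points.map Rk q), ?_, ?_⟩
    · show AlgSt.Points.map N (AlgSt.Points.map F₀ _) ∈ C₀
      rw [hid iN]
      exact subset_closure ⟨q, hq, rfl⟩
    · simp only [hF₀fst]
      exact baseMap_fst k hk q
  · rintro ⟨q₀', hq₀, he⟩
    obtain ⟨q₀, rfl⟩ := (points_map_bijective hF₀).2 q₀'
    rw [Set.mem_preimage, hid iN] at hq₀
    replace he := (congrArg chartPoint (hF₀fst q₀)).symm.trans he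
    obtain ⟨b₀, rfl⟩ := hΛs q₀
    replace he := (ofChart_cartFun_fst jΘ (algPull_sq h P) b₀).symm.trans he
    have hb : b₀ ∈ closure (changeBase h.left π '' W) := by
      have h1 : b₀ ∈ closure (AlgSt.Points.ofChart Λ₀ ⁻¹' (AlgSt.Points.map Rk '' D₁)) := by
        rw [← hΛo.preimage_closure_eq_closure_preimage (continuous_chart hPm Λ₀)]
        exact hq₀
      refine closure_mono ?_ h1
      rintro b ⟨q, hq, e⟩
      obtain ⟨w, hw, hwb⟩ := exists_cart_pt jΘ (algPull_sq h A) k hk (algPull_sq h P) ρ hρT hρB hX q b e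
      exact ⟨w, show AlgSt.Points.ofChart Λ w ∈ D₁ by rw [hw]; exact hq, hwb⟩
    exact hE P π hπ b₀ ⟨B.left.isoSpec.hom (pullback.fst h.left (strMap (R := R) P) b₀),
      congrArg (fun g : B.left ⟶ B.left => g (pullback.fst h.left (strMap (R := R) P) b₀))
        B.left.isoSpec.hom_inv_id⟩ he hb

end Groth.Agent.H14AlgSt.UCDvr
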