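import Groth.Agent.H14AlgSt.PointsSpace

/-!
# Universal topological properties, descended along open surjections
-/

set_option autoImplicit false
set_option backward.isDefEq.respectTransparency false
set_option backward.isDefEq.respectTransparency.types false

universe u

open CategoryTheory Topology

noncomputable section

namespace Groth.Agent.H14AlgSt

/-- Open maps. -/
abbrev topOpen : TopProp.{u} := fun X Y _ _ f => IsOpenMap (X := X) (Y := Y) f

/-- Closed maps. -/
abbrev topClosed : TopProp.{u} := fun X Y _ _ f => IsClosedMap (X := X) (Y := Y) f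

/-- Injective maps. -/
abbrev topInjective : TopProp.{u} := fun _ _ _ _ f => Function.Injective f

/-- Homeomorphisms. -/
abbrev topHomeo : TopProp.{u} := fun X Y _ _ f => IsHomeomorph (X := X) (Y := Y) f

/-- Quotient maps. -/
abbrev topQuotient : TopProp.{u} := fun X Y _ _ f => IsQuotientMap (X := X) (Y := Y) f

lemma homeoInv_open : HomeoInv topOpen.{u} := fun e₁ e₂ _ h =>
  e₂.isOpenMap.comp (h.comp e₁.isOpenMap)

lemma homeoInv_closed : HomeoInv topClosed.{u} := fun e₁ e₂ _ h =>
  e₂.isClosedMap.comp (h.comp e₁.isClosedMap)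

lemma homeoInv_injective : HomeoInv topInjective.{u} := fun e₁ e₂ _ h =>
  e₂.injective.comp (Function.Injective.comp h e₁.injective)

lemma homeoInv_homeo : HomeoInv topHomeo.{u} := fun e₁ e₂ _ h =>
  e₂.isHomeomorph.comp (h.comp e₁.isHomeomorph)

lemma homeoInv_quotient : HomeoInv topQuotient.{u} := fun e₁ e₂ _ h =>
  e₂.isQuotientMap.comp (h.comp e₁.isQuotientMap)

lemma descendsOpen_open : DescendsOpen topOpen.{u} := by
  intro P' P U Z _ _ _ _ p π' π z hp hps _ _ hzo _ w _ h O hO
  have e : π '' O = z '' (π' '' (p ⁻¹' O)) := by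
    conv_lhs => rw [← Set.image_preimage_eq O hps]
    rw [Set.image_image, Set.image_image]
    exact Set.image_congr fun a _ => w a
  rw [e]
  exact hzo _ (h _ (hO.preimage hp))

lemma descendsOpen_closed : DescendsOpen topClosed.{u} := by
  intro P' P U Z _ _ _ _ p π' π z hp _ _ hzc hzo hzs w car h C hC
  have e : z ⁻¹' (π '' C) = π' '' (p ⁻¹' C) := by
    ext t
    constructor
    · rintro ⟨b, hb, hbt⟩
      obtain ⟨a, ha, rfl⟩ := car t b hbt.symm
      exact ⟨a, hb, ha⟩
    · rintro ⟨a, ha, rfl⟩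
      exact ⟨p a, ha, w a⟩
  rw [← (hzo.isQuotientMap hzc hzs).isClosed_preimage, e]
  exact h _ (hC.preimage hp)

lemma descendsOpen_injective : DescendsOpen topInjective.{u} := by
  intro P' P U Z _ _ _ _ p π' π z _ _ _ _ _ hzs w car h b₁ b₂ hb
  obtain ⟨t, ht⟩ := hzs (π b₁)
  obtain ⟨a₁, ha₁, rfl⟩ := car t b₁ ht
  obtain ⟨a₂, ha₂, rfl⟩ := car t b₂ (ht.trans hb)
  rw [h (ha₁.trans ha₂.symm)]

lemma descendsOpen_homeo : DescendsOpen topHomeo.{u} := by
  intro P' P U Z _ _ _ _ p π' π z hp hps hπ hzc hzo hzs w car h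
  refine ⟨hπ, descendsOpen_open p π' π z hp hps hπ hzc hzo hzs w car h.isOpenMap,
    descendsOpen_injective p π' π z hp hps hπ hzc hzo hzs w car h.bijective.1, fun b => ?_⟩
  obtain ⟨t, rfl⟩ := hzs b
  obtain ⟨a, rfl⟩ := h.bijective.2 t
  exact ⟨p a, w a⟩

lemma descendsOpen_quotient : DescendsOpen topQuotient.{u} := by
  intro P' P U Z _ _ _ _ p π' π z hp _ hπ hzc hzo hzs w _ h
  refine IsQuotientMap.of_comp hp hπ ?_
  rw [show π ∘ p = z ∘ π' from funext w]
  exact (hzo.isQuotientMap hzc hzs).comp h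

end Groth.Agent.H14AlgSt
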