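import Groth.Agent.H14AlgSt.DvrRealize
import Groth.Agent.H14AlgSt.PairChart
import Groth.Agent.H14AlgSt.EtaleStackDiag
import Groth.Agent.H14AlgSt.UnivTop

/-!
# Images of closed sets in base changes of a morphism of stacks
-/

set_option autoImplicit false
set_option backward.isDefEq.respectTransparency false
set_option backward.isDefEq.respectTransparency.types false

universe u

open CategoryTheory CategoryTheory.Functor Opposite AlgebraicGeometry CategoryTheory.Limits IsLocalRing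

noncomputable section

namespace Groth.Agent.H14AlgSt.UCDvr

open H14Fib H14Stk

variable {S : Scheme.{u}} {𝒳 𝒴 𝒵 : AlgSt.Cat S}

/-- Charts of an algebraic stack for any topology are continuous on points. -/
lemma continuous_chart {J : Precoverage Scheme.{u}} (h : AlgSt.IsAlgStack J 𝒳) {V : Over S}
    (z : FibCat.overCat V ⥤ᵇ 𝒳) : Continuous (AlgSt.Points.ofChart z) := by
  refine ⟨fun W hW => ?_⟩
  obtain ⟨U, x, hx, hxs⟩ := h.atlas
  have hWx : IsOpen (AlgSt.Points.ofChart x ⁻¹' W) := hW U x hx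
  obtain ⟨A, c, u, hc1, hc2, h3, h4⟩ := exists_fp_atlas h.isStack.1
    (repWith_locP_mono smooth_le_flat hx) (repWith_locP_mono smooth_le_lfp hx) z
  have hs : Function.Surjective c.left := fun t => by
    obtain ⟨a, ha⟩ := ofChart_surjective h.isStack.1 hxs (AlgSt.Points.ofChart z t)
    obtain ⟨s, hs, -⟩ := h4 t a ha.symm
    exact ⟨s, hs⟩
  rw [← Set.image_preimage_eq (AlgSt.Points.ofChart z ⁻¹' W) hs]
  refine c.left.isOpenMap _ ?_
  have : c.left ⁻¹' (AlgSt.Points.ofChart z ⁻¹' W) =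
      u.left ⁻¹' (AlgSt.Points.ofChart x ⁻¹' W) := by
    ext s
    simp only [Set.mem_preimage, h3 s]
  rw [this]
  exact hWx.preimage u.left.continuous

/-- Schemes are algebraic stacks for the étale topology. -/
lemma isAlgStack_etale_overCat (U : Over S) :
    AlgSt.IsAlgStack Scheme.etalePrecoverage (FibCat.overCat U) :=
  ⟨isStack_etale_overCat U, (isAlgStack_overCat U).diag, (isAlgStack_overCat U).atlas⟩

/-- A set of points which is closed on every chart. -/
def ChartClosed (D : Set (AlgSt.Points 𝒳)) : Prop :=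
  ∀ (U : Over S) (x : FibCat.overCat U ⥤ᵇ 𝒳), IsClosed (AlgSt.Points.ofChart x ⁻¹' D)

lemma chartClosed_preimage {D : Set (AlgSt.Points 𝒴)} (hD : ChartClosed D) (R : 𝒳 ⥤ᵇ 𝒴) :
    ChartClosed (AlgSt.Points.map R ⁻¹' D) := fun U x => hD U (BasedFunctor.comp x R)

lemma chartClosed_of_isClosed {J : Precoverage Scheme.{u}} (h : AlgSt.IsAlgStack J 𝒳)
    {D : Set (AlgSt.Points 𝒳)} (hD : IsClosed D) : ChartClosed D := fun _ x =>
  hD.preimage (continuous_chart h x)

/-- Base changes are compatible and cartesian on points. -/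
lemma exists_pull (hX : FibCat.IsFibGrpd 𝒳.p) (hY : FibCat.IsFibGrpd 𝒴.p) {𝒲' 𝒲 : AlgSt.Cat S}
    (hW' : FibCat.IsFibGrpd 𝒲'.p) (hW : FibCat.IsFibGrpd 𝒲.p)
    (f : 𝒳 ⥤ᵇ 𝒴) (g : 𝒲 ⥤ᵇ 𝒴) (j : 𝒲' ⥤ᵇ 𝒲) {y' : 𝒲' ⥤ᵇ 𝒴}
    (e : BasedFunctor.comp j g ≅ y') :
    ∃ R : FibCat.fp y' f ⥤ᵇ FibCat.fp g f,
      (∀ q, AlgSt.Points.map (FibCat.fpFst g f) (AlgSt.Points.map R q) =
        AlgSt.Points.map j (AlgSt.Points.map (FibCat.fpFst y' f) q)) ∧
      ∀ w q, AlgSt.Points.map j w = AlgSt.Points.map (FibCat.fpFst g f) q →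
        ∃ q', AlgSt.Points.map (FibCat.fpFst y' f) q' = w ∧ AlgSt.Points.map R q' = q := by
  let M : FibCat.fp (BasedFunctor.comp j g) f ⥤ᵇ FibCat.fp y' f :=
    fpMap (F := y') (G := f) (BasedFunctor.id 𝒲') (BasedFunctor.id 𝒳) (BasedFunctor.id 𝒴) e
      (Iso.refl (BasedFunctor.comp f (BasedFunctor.id 𝒴)))
  have : (BasedFunctor.id 𝒲').toFunctor.Full := inferInstanceAs (Functor.id _).Full
  have : (BasedFunctor.id 𝒲').toFunctor.Faithful := inferInstanceAs (Functor.id _).Faithful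
  have : (BasedFunctor.id 𝒳).toFunctor.Full := inferInstanceAs (Functor.id _).Full
  have : (BasedFunctor.id 𝒳).toFunctor.Faithful := inferInstanceAs (Functor.id _).Faithful
  have : (BasedFunctor.id 𝒴).toFunctor.Full := inferInstanceAs (Functor.id _).Full
  have : (BasedFunctor.id 𝒴).toFunctor.Faithful := inferInstanceAs (Functor.id _).Faithful
  have hM : FibCat.IsEquivOver M :=
    fpMap_isEquivOver _ _ _ _ _ (essSurjOver_id _) (essSurjOver_id _)
  let F := BasedFunctor.comp (pasteBase g f j) M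
  have hF : FibCat.IsEquivOver F := isEquivOver_comp (pasteBase_isEquivOver g f j) hM
  obtain ⟨N, ⟨iN⟩, -⟩ := id hF
  let P := FibCat.fp j (FibCat.fpFst g f)
  have hid : ∀ v : AlgSt.Points P, AlgSt.Points.map N (AlgSt.Points.map F v) = v := fun v => by
    rw [← points_map_comp, points_map_iso iN]
    obtain ⟨p, rfl⟩ := AlgSt.Points.mk_surjective v
    rfl
  have hfst : ∀ v : AlgSt.Points P, AlgSt.Points.map (FibCat.fpFst y' f) (AlgSt.Points.map F v) =
      AlgSt.Points.map (FibCat.fpFst j (FibCat.fpFst g f)) v := fun v => by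
    rw [← points_map_comp]
    exact points_map_iso (mkIso (fun x => Iso.refl _)
      (fun {_ _} _ => (Category.comp_id _).trans (Category.id_comp _).symm)
      (fun x => IsHomLift.id rfl)) v
  refine ⟨BasedFunctor.comp N (FibCat.fpSnd j (FibCat.fpFst g f)), fun q => ?_, fun w q hwq => ?_⟩
  · obtain ⟨v, rfl⟩ := (points_map_bijective hF).2 q
    rw [points_map_comp N, hid, hfst, ← points_map_comp, ← points_map_comp]
    exact (points_map_iso (FibCat.fpIso j (FibCat.fpFst g f)) v).symm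
  · obtain ⟨v, hv₁, hv₂⟩ := exists_points_fp hW' (fp_fibGrpd hW hX hY) hW hwq
    exact ⟨AlgSt.Points.map F v, (hfst v).trans hv₁, by rw [points_map_comp N, hid, hv₂]⟩

/-- The image of a set of points of a base change in the chart. -/
def img {T : Over S} {y : FibCat.overCat T ⥤ᵇ 𝒴} {f : 𝒳 ⥤ᵇ 𝒴}
    (D : Set (AlgSt.Points (FibCat.fp y f))) : Set T.left :=
  (fun q => chartPoint (AlgSt.Points.map (FibCat.fpFst y f) q)) '' D

/-- A pullback of a closed set has as image the preimage of the image. -/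
lemma exists_img_preimage (hX : FibCat.IsFibGrpd 𝒳.p) (hY : FibCat.IsFibGrpd 𝒴.p) {T' T : Over S}
    (f : 𝒳 ⥤ᵇ 𝒴) (y : FibCat.overCat T ⥤ᵇ 𝒴) (c : T' ⟶ T) {y' : FibCat.overCat T' ⥤ᵇ 𝒴}
    (e : BasedFunctor.comp (AlgSt.overMap c) y ≅ y') {D : Set (AlgSt.Points (FibCat.fp y f))}
    (hD : ChartClosed D) :
    ∃ D' : Set (AlgSt.Points (FibCat.fp y' f)), ChartClosed D' ∧ img D' = c.left ⁻¹' img D := by
  obtain ⟨R, h1, h2⟩ := exists_pull hX hY (fibGrpd_overCat T') (fibGrpd_overCat T) f y _ e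
  refine ⟨_, chartClosed_preimage hD R, ?_⟩
  ext t
  constructor
  · rintro ⟨q, hq, rfl⟩
    exact ⟨_, hq, by simp only [h1 q, chartPoint_overMap]⟩
  · rintro ⟨q, hq, hqt⟩
    obtain ⟨q', hq'₁, hq'₂⟩ := h2 (AlgSt.Points.ofChart (BasedFunctor.id _) t) q (by
      apply chartPoint_injective
      rw [chartPoint_overMap, chartPoint_ofChart]
      exact hqt.symm)
    exact ⟨q', show AlgSt.Points.map R q' ∈ D by rw [hq'₂]; exact hq, by
      simp only [hq'₁, chartPoint_ofChart]⟩

/-- A map of schemes underlying a chart of a slice is open. -/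
lemma isOpenMap_of_repWith {A T : Over S} {c : A ⟶ T} {z : FibCat.overCat A ⥤ᵇ FibCat.overCat T}
    (j : z ≅ AlgSt.overMap c) (h : AlgSt.RepByAlgSpWith (AlgSp.LocP @Smooth) z) :
    IsOpenMap c.left := by
  intro O hO
  have ho := isOpenMap_ofChart (fibGrpd_overCat T) (repWith_locP_mono smooth_le_flat h)
    (repWith_locP_mono smooth_le_lfp h) O hO
  have e : c.left '' O = AlgSt.Points.ofChart (BasedFunctor.id (FibCat.overCat T)) ⁻¹'
      (AlgSt.Points.ofChart z '' O) := by
    have key : ∀ a, AlgSt.Points.ofChart z a =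
        AlgSt.Points.ofChart (BasedFunctor.id (FibCat.overCat T)) (c.left a) := fun a => by
      rw [ofChart_iso j, ← ofChart_comp_overMap]
      rfl
    ext t
    constructor
    · rintro ⟨a, ha, rfl⟩
      exact ⟨a, ha, key a⟩
    · rintro ⟨a, ha, e⟩
      refine ⟨a, ha, ?_⟩
      have := congrArg chartPoint ((key a).symm.trans e)
      rwa [chartPoint_ofChart, chartPoint_ofChart] at this
  rw [e]
  exact ho.preimage (continuous_chart (isAlgStack_overCat T) _)

end Groth.Agent.H14AlgSt.UCDvr
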