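import Groth.Agent.H14AlgSt.UCDvrAffine

/-!
# Universal closedness from the valuative criterion with traits
-/

set_option autoImplicit false
set_option backward.isDefEq.respectTransparency false
set_option backward.isDefEq.respectTransparency.types false

universe u

open CategoryTheory CategoryTheory.Functor Opposite AlgebraicGeometry CategoryTheory.Limits

noncomputable section

namespace Groth.Agent.H14AlgSt.UCDvr

open H14Fib H14Stk

variable {S : Scheme.{u}} {𝒳 𝒴 : AlgSt.Cat S}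

/-- Closed sets of a base change to a scheme have closed images. -/
theorem isClosed_img (h𝒳 : AlgSt.IsAlgStack Scheme.etalePrecoverage 𝒳)
    (h𝒴 : AlgSt.IsAlgStack Scheme.etalePrecoverage 𝒴)
    (hn : AlgSt.SmoothLocally (fun T => IsLocallyNoetherian T) 𝒴) {f : 𝒳 ⥤ᵇ 𝒴}
    (hqc : AlgSt.IsQuasiCompactMor Scheme.etalePrecoverage f)
    (hft : AlgSt.LocQ (AlgSp.LocP @LocallyOfFiniteType) f) (hval : DvrExtLifts f)
    {T : Over S} (y : FibCat.overCat T ⥤ᵇ 𝒴)
    {D : Set (AlgSt.Points (FibCat.fp y f))} (hD : ChartClosed D) : IsClosed (img D) := by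
  rw [← isOpen_compl_iff, isOpen_iff_forall_mem_open]
  intro t ht
  obtain ⟨U, zU, hz, hzs⟩ := id h𝒴.atlas
  obtain ⟨A, a, ha, has⟩ := hasAtlas_fp H12AlgSp.etLocal_smooth (fibGrpd_overCat T) (fibGrpd_overCat U)
    h𝒴.diag (isAlgStack_overCat T).atlas (isAlgStack_overCat U).atlas y zU
  obtain ⟨c, ⟨jc⟩⟩ := exists_overMap_iso (BasedFunctor.comp a (FibCat.fpFst y zU))
  obtain ⟨uA, ⟨ju⟩⟩ := exists_overMap_iso (BasedFunctor.comp a (FibCat.fpSnd y zU))
  let e1 : BasedFunctor.comp (AlgSt.overMap c) y ≅ BasedFunctor.comp (AlgSt.overMap uA) zU :=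
    ((post (FibCat.overCat A) y).mapIso jc).symm ≪≫ (Stk.restr a 𝒴).mapIso (FibCat.fpIso y zU) ≪≫
      (post (FibCat.overCat A) zU).mapIso ju
  have hc : IsOpenMap c.left :=
    isOpenMap_of_repWith jc (repWith_locP_comp H12AlgSp.etLocal_smooth (fibGrpd_overCat A)
      (fp_fibGrpd (fibGrpd_overCat T) (fibGrpd_overCat U) h𝒴.isStack.1) ha (repWith_fpFst y hz))
  obtain ⟨α, hα⟩ : ∃ α, c.left α = t := by
    obtain ⟨u₁, hu₁⟩ := ofChart_surjective h𝒴.isStack.1 hzs (AlgSt.Points.ofChart y t)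
    rw [ofChart_eq_map zU, ofChart_eq_map y] at hu₁
    obtain ⟨v, hv, -⟩ := exists_points_fp (fibGrpd_overCat T) (fibGrpd_overCat U) h𝒴.isStack.1
      (F := y) (G := zU) hu₁.symm
    obtain ⟨α, rfl⟩ := ofChart_surjective
      (fp_fibGrpd (fibGrpd_overCat T) (fibGrpd_overCat U) h𝒴.isStack.1) has v
    rw [← ofChart_comp, ofChart_iso jc, ofChart_eq_map] at hv
    have := congrArg chartPoint hv
    rw [chartPoint_overMap, chartPoint_ofChart, chartPoint_ofChart] at this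
    exact ⟨α, this⟩
  obtain ⟨(Vo : U.left.Opens), (hVo : IsAffineOpen Vo), hVmem, -⟩ :=
    TopologicalSpace.Opens.isBasis_iff_nbhd.mp U.left.isBasis_affineOpens
      (TopologicalSpace.Opens.mem_top (uA.left α))
  obtain ⟨(To : A.left.Opens), (hTo : IsAffineOpen To), hTmem, hTle⟩ :=
    TopologicalSpace.Opens.isBasis_iff_nbhd.mp A.left.isBasis_affineOpens
      (show α ∈ uA.left ⁻¹ᵁ Vo from hVmem)
  let sV : Spec Γ(U.left, Vo) ⟶ S := hVo.fromSpec ≫ U.hom
  let iV : Over.mk sV ⟶ U := Over.homMk hVo.fromSpec rfl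
  let g := hTo.fromSpec ≫ uA.left
  have hg : Set.range g ⊆ Set.range hVo.fromSpec := by
    rintro _ ⟨z, rfl⟩
    rw [hVo.range_fromSpec, Scheme.Hom.comp_apply]
    exact hTle (show hTo.fromSpec z ∈ (To : Set A.left) from hTo.range_fromSpec ▸ ⟨z, rfl⟩)
  let g' := IsOpenImmersion.lift hVo.fromSpec g hg
  have hg' : g' ≫ hVo.fromSpec = g := IsOpenImmersion.lift_fac _ _ hg
  obtain ⟨φ, hφ⟩ := Spec.map_surjective g'
  letI : Algebra Γ(U.left, Vo) Γ(A.left, To) := φ.hom.toAlgebra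
  have hstr : H11Val.strMap (R := Γ(U.left, Vo)) Γ(A.left, To) ≫ hVo.fromSpec = hTo.fromSpec ≫ uA.left := by
    change Spec.map φ ≫ hVo.fromSpec = _
    rw [hφ, hg']
  let iT : algObj sV Γ(A.left, To) ⟶ A := Over.homMk hTo.fromSpec (by
    change hTo.fromSpec ≫ A.hom = H11Val.strMap (R := Γ(U.left, Vo)) Γ(A.left, To) ≫ hVo.fromSpec ≫ U.hom
    rw [← Category.assoc, hstr, Category.assoc, Over.w uA])
  have hsq : iT ≫ uA = algHom sV Γ(A.left, To) ≫ iV := Over.OverMorphism.ext hstr.symm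
  let yV := BasedFunctor.comp (AlgSt.overMap iV) zU
  have : IsOpenImmersion iV.left := inferInstanceAs (IsOpenImmersion hVo.fromSpec)
  have hyV : AlgSt.RepByAlgSpWith (AlgSp.LocP @Smooth) yV :=
    repWith_locP_comp H12AlgSp.etLocal_smooth (fibGrpd_overCat _) (fibGrpd_overCat U)
      (repWith_overMap_smooth iV) hz
  obtain ⟨k₁⟩ := overMap_comp_iso iT c y h𝒴.isStack.1
  obtain ⟨k₂⟩ := overMap_comp_iso iT uA zU h𝒴.isStack.1
  obtain ⟨k₃⟩ := overMap_comp_iso (algHom sV Γ(A.left, To)) iV zU h𝒴.isStack.1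
  let e : BasedFunctor.comp (AlgSt.overMap (iT ≫ c)) y ≅
      BasedFunctor.comp (AlgSt.overMap (algHom sV Γ(A.left, To))) yV :=
    k₁.symm ≪≫ (Stk.restr (AlgSt.overMap iT) 𝒴).mapIso e1 ≪≫ k₂ ≪≫ eqToIso (by rw [hsq]) ≪≫ k₃.symm
  obtain ⟨D', hD', hD'img⟩ := exists_img_preimage h𝒳.isStack.1 h𝒴.isStack.1 f y (iT ≫ c) e hD
  have hcl : IsClosed (img D') := isClosed_img_affine _ h𝒳 h𝒴 hn hqc hft hval hyV hD'
  have : IsOpenImmersion iT.left := inferInstanceAs (IsOpenImmersion hTo.fromSpec)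
  refine ⟨(iT ≫ c).left '' (img D')ᶜ, ?_, ?_, ?_⟩
  · rintro _ ⟨z, hz', rfl⟩ hmem
    exact hz' (hD'img ▸ hmem)
  · rw [Over.comp_left, Scheme.Hom.comp_base, TopCat.coe_comp]
    exact (hc.comp iT.left.isOpenEmbedding.isOpenMap) _ hcl.isOpen_compl
  · obtain ⟨z, hz'⟩ : α ∈ Set.range hTo.fromSpec := by
      rw [hTo.range_fromSpec]
      exact hTmem
    have hzt : (iT ≫ c).left z = t := by
      rw [Over.comp_left, Scheme.Hom.comp_apply]
      exact (congrArg c.left hz').trans hα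
    refine ⟨z, fun hmem => ht ?_, hzt⟩
    rw [hD'img] at hmem
    exact hzt ▸ hmem

/-- The valuative criterion with extensions of traits implies universal closedness. -/
theorem isUnivClosed_of_dvrExtLifts (h𝒳 : AlgSt.IsAlgStack Scheme.etalePrecoverage 𝒳)
    (h𝒴 : AlgSt.IsAlgStack Scheme.etalePrecoverage 𝒴)
    (hn : AlgSt.SmoothLocally (fun T => IsLocallyNoetherian T) 𝒴) {f : 𝒳 ⥤ᵇ 𝒴}
    (hqc : AlgSt.IsQuasiCompactMor Scheme.etalePrecoverage f)
    (hft : AlgSt.LocQ (AlgSp.LocP @LocallyOfFiniteType) f) (hval : DvrExtLifts f) :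
    AlgSt.IsUnivClosed Scheme.etalePrecoverage f := by
  intro 𝒲 hW g C hC
  have hP : AlgSt.IsAlgStack Scheme.etalePrecoverage (FibCat.fp g f) :=
    isAlgStack_fp Scheme.etalePrecoverage h𝒴.isStack h𝒴.diag hW h𝒳 g f
  rw [← isOpen_compl_iff]
  intro U z hz
  obtain ⟨R, h1, h2⟩ := exists_pull h𝒳.isStack.1 h𝒴.isStack.1 (fibGrpd_overCat U) hW.isStack.1 f g z
    (Iso.refl (BasedFunctor.comp z g))
  have hD : ChartClosed (AlgSt.Points.map R ⁻¹' C) := chartClosed_preimage (chartClosed_of_isClosed hP hC) R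
  have key : AlgSt.Points.ofChart z ⁻¹' (AlgSt.Points.map (FibCat.fpFst g f) '' C) =
      img (AlgSt.Points.map R ⁻¹' C) := by
    ext t
    constructor
    · rintro ⟨q, hq, hqt⟩
      obtain ⟨q', hq'₁, hq'₂⟩ := h2 (AlgSt.Points.ofChart (BasedFunctor.id _) t) q hqt.symm
      exact ⟨q', show AlgSt.Points.map R q' ∈ C by rw [hq'₂]; exact hq, by
        simp only [hq'₁, chartPoint_ofChart]⟩
    · rintro ⟨q', hq', rfl⟩
      exact ⟨_, hq', (h1 q').trans (map_eq_ofChart z _)⟩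
  rw [Set.preimage_compl, key]
  exact (isClosed_img h𝒳 h𝒴 hn hqc hft hval _ hD).isOpen_compl

end Groth.Agent.H14AlgSt.UCDvr
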