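import Groth.Agent.H14AlgSt.UCDvrBasic
import Groth.Agent.H12AlgSp.ValuativeClosed

/-!
# Closed images over Noetherian affine charts from the valuative criterion with traits
-/

set_option autoImplicit false
set_option backward.isDefEq.respectTransparency false
set_option backward.isDefEq.respectTransparency.types false

universe u

open CategoryTheory CategoryTheory.Functor Opposite AlgebraicGeometry CategoryTheory.Limits IsLocalRing

noncomputable section

namespace Groth.Agent.H14AlgSt.UCDvr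

open H14Fib H14Stk

variable {S : Scheme.{u}} {𝒳 𝒴 𝒵 : AlgSt.Cat S}

/-- The valuative criterion with extensions of traits. -/
def DvrExtLifts (f : 𝒳 ⥤ᵇ 𝒴) : Prop :=
  ∀ (R : Type u) [CommRing R] [IsDomain R] [IsDiscreteValuationRing R]
        (sR : Spec (CommRingCat.of R) ⟶ S)
        (a : FibCat.overCat (Over.mk (Spec.map (CommRingCat.ofHom (algebraMap R (FractionRing R))) ≫ sR)) ⥤ᵇ 𝒳)
        (b : FibCat.overCat (Over.mk sR) ⥤ᵇ 𝒴)
        (α : BasedFunctor.comp a f ≅
          BasedFunctor.comp (AlgSt.overMap (Over.homMk (Spec.map (CommRingCat.ofHom (algebraMap R (FractionRing R)))) rfl :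
            Over.mk (Spec.map (CommRingCat.ofHom (algebraMap R (FractionRing R))) ≫ sR) ⟶ Over.mk sR)) b),
        ∃ (R' : Type u) (_ : CommRing R') (_ : IsDomain R') (_ : IsDiscreteValuationRing R') (φ : R →+* R')
          (_ : Function.Injective φ) (_ : IsLocalHom φ)
          (gψ : (Over.mk (Spec.map (CommRingCat.ofHom (algebraMap R' (FractionRing R'))) ≫
                  Spec.map (CommRingCat.ofHom φ) ≫ sR) : Over S) ⟶
                Over.mk (Spec.map (CommRingCat.ofHom (algebraMap R (FractionRing R))) ≫ sR))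
          (c : FibCat.overCat (Over.mk (Spec.map (CommRingCat.ofHom φ) ≫ sR)) ⥤ᵇ FibCat.fp f b),
          gψ ≫ (Over.homMk (Spec.map (CommRingCat.ofHom (algebraMap R (FractionRing R)))) rfl :
              Over.mk (Spec.map (CommRingCat.ofHom (algebraMap R (FractionRing R))) ≫ sR) ⟶ Over.mk sR) =
            (Over.homMk (Spec.map (CommRingCat.ofHom (algebraMap R' (FractionRing R')))) rfl :
                Over.mk (Spec.map (CommRingCat.ofHom (algebraMap R' (FractionRing R'))) ≫
                  Spec.map (CommRingCat.ofHom φ) ≫ sR) ⟶ Over.mk (Spec.map (CommRingCat.ofHom φ) ≫ sR)) ≫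
              (Over.homMk (Spec.map (CommRingCat.ofHom φ)) rfl :
                Over.mk (Spec.map (CommRingCat.ofHom φ) ≫ sR) ⟶ Over.mk sR) ∧
          Nonempty (BasedFunctor.comp c (FibCat.fpSnd f b) ≅
            AlgSt.overMap (Over.homMk (Spec.map (CommRingCat.ofHom φ)) rfl :
              Over.mk (Spec.map (CommRingCat.ofHom φ) ≫ sR) ⟶ Over.mk sR)) ∧
          Nonempty (BasedFunctor.comp
              (AlgSt.overMap (Over.homMk (Spec.map (CommRingCat.ofHom (algebraMap R' (FractionRing R')))) rfl :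
                Over.mk (Spec.map (CommRingCat.ofHom (algebraMap R' (FractionRing R'))) ≫
                  Spec.map (CommRingCat.ofHom φ) ≫ sR) ⟶ Over.mk (Spec.map (CommRingCat.ofHom φ) ≫ sR))) c ≅
            BasedFunctor.comp (AlgSt.overMap gψ)
              (FibCat.fpLift a
                (AlgSt.overMap (Over.homMk (Spec.map (CommRingCat.ofHom (algebraMap R (FractionRing R)))) rfl :
                  Over.mk (Spec.map (CommRingCat.ofHom (algebraMap R (FractionRing R))) ≫ sR) ⟶ Over.mk sR)) α))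

/-- From lifts to points of the base change. -/
def swapDown (f : 𝒳 ⥤ᵇ 𝒴) {T V : Over S} (y : FibCat.overCat T ⥤ᵇ 𝒴) (k : V ⟶ T) :
    FibCat.fp f (BasedFunctor.comp (AlgSt.overMap k) y) ⥤ᵇ FibCat.fp y f :=
  FibCat.fpLift (BasedFunctor.comp (FibCat.fpSnd f (BasedFunctor.comp (AlgSt.overMap k) y)) (AlgSt.overMap k))
    (FibCat.fpFst f (BasedFunctor.comp (AlgSt.overMap k) y))
    (FibCat.fpIso f (BasedFunctor.comp (AlgSt.overMap k) y)).symm

/-- A functor to a base change, rebuilt from its components. -/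
def swapDownIso (f : 𝒳 ⥤ᵇ 𝒴) {T V K : Over S} (y : FibCat.overCat T ⥤ᵇ 𝒴) (k : V ⟶ T) (ι : K ⟶ V)
    (P : FibCat.overCat K ⥤ᵇ FibCat.fp y f)
    (j : BasedFunctor.comp P (FibCat.fpFst y f) ≅ BasedFunctor.comp (AlgSt.overMap ι) (AlgSt.overMap k)) :
    BasedFunctor.comp (FibCat.fpLift (F := f) (G := BasedFunctor.comp (AlgSt.overMap k) y)
      (BasedFunctor.comp P (FibCat.fpSnd y f)) (AlgSt.overMap ι)
      (((Stk.restr P 𝒴).mapIso (FibCat.fpIso y f)).symm ≪≫ (post (FibCat.overCat K) y).mapIso j))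
      (swapDown f y k) ≅ P :=
  mkIso (fun w => fpIsoMk (appIso j w).symm (Iso.refl _) (by
      change y.map (app j.inv w) ≫ (P.obj w).obj.iso.hom =
        (y.map (app j.inv w) ≫ (P.obj w).obj.iso.hom) ≫ f.map (𝟙 _)
      erw [f.toFunctor.map_id, Category.comp_id]))
    (fun {v w} m => fp_hom_ext (j.inv.toNatTrans.naturality m)
      ((Category.comp_id _).trans (Category.id_comp _).symm))
    (fun w => (fp_isHomLift_iff _ _).2 (BasedNatTrans.isHomLift j.inv rfl))

/-- Over a Noetherian affine smooth chart, closed sets have closed images. -/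
theorem isClosed_img_noeth (h𝒳 : AlgSt.IsAlgStack Scheme.etalePrecoverage 𝒳)
    (h𝒴 : AlgSt.IsAlgStack Scheme.etalePrecoverage 𝒴) {f : 𝒳 ⥤ᵇ 𝒴}
    (hqc : AlgSt.IsQuasiCompactMor Scheme.etalePrecoverage f)
    (hft : AlgSt.LocQ (AlgSp.LocP @LocallyOfFiniteType) f) (hval : DvrExtLifts f)
    {T : Over S} [IsAffine T.left] [IsLocallyNoetherian T.left] {y : FibCat.overCat T ⥤ᵇ 𝒴}
    (hy : AlgSt.RepByAlgSpWith (AlgSp.LocP @Smooth) y)
    {D : Set (AlgSt.Points (FibCat.fp y f))} (hD : ChartClosed D) : IsClosed (img D) := by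
  obtain ⟨B, Θ, hB, hΘ, hΘs⟩ := hqc _ (isAlgStack_etale_overCat T) (isQuasiCompact_overCat T) y
  have := hB
  obtain ⟨h, ⟨jΘ⟩⟩ := exists_overMap_iso (BasedFunctor.comp Θ (FibCat.fpFst y f))
  have hsurj : Function.Surjective (AlgSt.Points.ofChart Θ) :=
    ofChart_surjective (fp_fibGrpd (fibGrpd_overCat T) h𝒳.isStack.1 h𝒴.isStack.1) hΘs
  have hfst : ∀ b, chartPoint (AlgSt.Points.map (FibCat.fpFst y f) (AlgSt.Points.ofChart Θ b)) = h.left b :=
    fun b => by
      rw [← ofChart_comp, ofChart_iso jΘ, ofChart_eq_map, chartPoint_overMap, chartPoint_ofChart]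
  have : LocallyOfFiniteType h.left := by
    refine AlgSp.locP_yon_map (prop_of_locQ smLocal_lft hft hy (BasedFunctor.comp Θ (fpSwap y f))
      ((repWith_comp_equiv_iff (fpSwap_isEquivOver y f)).2 hΘ) ?_)
    exact jΘ
  have e : img D = h.left '' (AlgSt.Points.ofChart Θ ⁻¹' D) := by
    ext t
    constructor
    · rintro ⟨q, hq, rfl⟩
      obtain ⟨b, rfl⟩ := hsurj q
      exact ⟨b, hq, (hfst b).symm⟩
    · rintro ⟨b, hb, rfl⟩
      exact ⟨_, hb, hfst b⟩
  rw [e]
  refine H12AlgSp.isClosed_image_of_affine h.left (hD B Θ) ?_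
  rintro _ t hs ⟨b, hb, rfl⟩
  rw [← e]
  obtain ⟨R, iR, iD, iV, k, l, hk, hl, hsq⟩ := exists_dvr_square_through h.left b t hs
  let sR := k ≫ T.hom
  let bk : Over.mk sR ⟶ T := Over.homMk k rfl
  let ι : Over.mk (Spec.map (CommRingCat.ofHom (algebraMap R (FractionRing R))) ≫ sR) ⟶ Over.mk sR :=
    Over.homMk (Spec.map (CommRingCat.ofHom (algebraMap R (FractionRing R)))) rfl
  let d : Over.mk (Spec.map (CommRingCat.ofHom (algebraMap R (FractionRing R))) ≫ sR) ⟶ B :=
    Over.homMk l (by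
      change l ≫ B.hom = _
      rw [← Over.w h, ← Category.assoc, hsq, Category.assoc]
      rfl)
  have hd : d ≫ h = ι ≫ bk := Over.OverMorphism.ext hsq
  let P := BasedFunctor.comp (AlgSt.overMap d) Θ
  let j : BasedFunctor.comp P (FibCat.fpFst y f) ≅
      BasedFunctor.comp (AlgSt.overMap ι) (AlgSt.overMap bk) :=
    (Stk.restr (AlgSt.overMap d) _).mapIso jΘ ≪≫ overMapCompIso d h ≪≫
      eqToIso (by rw [hd]) ≪≫ (overMapCompIso ι bk).symm
  obtain ⟨R', iR', iD', iV', φ, -, hφ, gψ, c, -, ⟨ic⟩, ⟨iK⟩⟩ := hval R sR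
    (BasedFunctor.comp P (FibCat.fpSnd y f)) (BasedFunctor.comp (AlgSt.overMap bk) y)
    (((Stk.restr P 𝒴).mapIso (FibCat.fpIso y f)).symm ≪≫ (post (FibCat.overCat _) y).mapIso j)
  let ι' : Over.mk (Spec.map (CommRingCat.ofHom (algebraMap R' (FractionRing R'))) ≫
      Spec.map (CommRingCat.ofHom φ) ≫ sR) ⟶ Over.mk (Spec.map (CommRingCat.ofHom φ) ≫ sR) :=
    Over.homMk (Spec.map (CommRingCat.ofHom (algebraMap R' (FractionRing R')))) rfl
  let cL := BasedFunctor.comp c (swapDown f y bk)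
  have hgen : ∀ p, AlgSt.Points.ofChart cL (ι'.left p) ∈ D := fun p => by
    rw [← ofChart_comp_overMap,
      ofChart_iso (show BasedFunctor.comp (AlgSt.overMap ι') cL ≅ BasedFunctor.comp (AlgSt.overMap gψ) P from
        (post (FibCat.overCat _) (swapDown f y bk)).mapIso iK ≪≫
          (Stk.restr (AlgSt.overMap gψ) _).mapIso (swapDownIso f y bk ι P j)),
      ofChart_comp_overMap]
    show AlgSt.Points.ofChart P (gψ.left p) ∈ D
    rw [ofChart_comp_overMap, show d.left (gψ.left p) = b from hl _]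
    exact hb
  have hcl : AlgSt.Points.ofChart cL (closedPoint R') ∈ D :=
    (IsLocalRing.specializes_closedPoint (ι'.left (closedPoint (FractionRing R')))).mem_closed
      (hD _ cL) (hgen _)
  refine ⟨_, hcl, ?_⟩
  change chartPoint (AlgSt.Points.map (FibCat.fpFst y f) (AlgSt.Points.ofChart cL (closedPoint R'))) = t
  rw [← ofChart_comp,
    ofChart_iso (show BasedFunctor.comp cL (FibCat.fpFst y f) ≅
        BasedFunctor.comp (AlgSt.overMap (Over.homMk (Spec.map (CommRingCat.ofHom φ)) rfl :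
          Over.mk (Spec.map (CommRingCat.ofHom φ) ≫ sR) ⟶ Over.mk sR)) (AlgSt.overMap bk) from
      (post (FibCat.overCat _) (AlgSt.overMap bk)).mapIso ic),
    ofChart_comp_overMap, ofChart_eq_map, chartPoint_overMap, chartPoint_ofChart]
  change k (Spec.map (CommRingCat.ofHom φ) (closedPoint R')) = t
  rw [← hk]
  exact congrArg _ (IsLocalRing.comap_closedPoint (S := R') φ)

end Groth.Agent.H14AlgSt.UCDvr
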