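import Groth.Agent.H12AlgSp.DvrSquare
import Groth.Agent.H05EGA4.Topo
import Groth.Agent.H8Props.FiniteFactor
import Mathlib.AlgebraicGeometry.Morphisms.Finite

/-!
# The valuative criterion for quasi-compact monomorphisms to be immersions
-/

set_option autoImplicit false
set_option linter.unusedVariables false
set_option backward.isDefEq.respectTransparency false
set_option backward.isDefEq.respectTransparency.types false

universe u

open CategoryTheory CategoryTheory.Limits AlgebraicGeometry IsLocalRing

noncomputable section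

namespace Groth.Agent.H14AlgSt

/-- Traits with both points in the image lift. -/
def TraitLift {G U : Scheme.{u}} (g : G ⟶ U) : Prop :=
  ∀ (A : Type u) [CommRing A] [IsDomain A] [IsDiscreteValuationRing A] (i : Spec (CommRingCat.of A) ⟶ U)
    (t : Spec (CommRingCat.of (FractionRing A)) ⟶ G),
    t ≫ g = Spec.map (CommRingCat.ofHom (algebraMap A (FractionRing A))) ≫ i →
      i (closedPoint A) ∈ Set.range g → ∃ s, s ≫ g = i

theorem isImmersion_of_traitLift_affine {G U : Scheme.{u}} (g : G ⟶ U) [Mono g] [QuasiCompact g]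
    [LocallyOfFiniteType g] [IsLocallyNoetherian U] [CompactSpace U] [QuasiSeparatedSpace U]
    (H : TraitLift g) : IsImmersion g := by
  have : LocallyOfFinitePresentation g := inferInstance
  have : LocallyQuasiFinite g := inferInstance
  obtain ⟨Y', j, h, hj, hjq, hh, -, hjh⟩ := H8Props.FiniteFactor.exists_openImmersion_finite_fp g
  have : IsLocallyNoetherian Y' := LocallyOfFiniteType.isLocallyNoetherian h
  let C : Set Y' := closure (Set.range j) \ Set.range j
  have hC : IsClosed C := isClosed_closure.sdiff j.isOpenEmbedding.isOpen_range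
  let T : U.Opens := ⟨(h '' C)ᶜ, (h.isClosedMap _ hC).isOpen_compl⟩
  have hgT : ∀ y : G, g y ∈ T := by
    rintro y ⟨b, ⟨hb, hbj⟩, hby⟩
    obtain ⟨η, hη⟩ := H05EGA4.exists_specializes_of_mem_closure_range j hb
    obtain ⟨A, _, _, _, r, l, hr, hl⟩ := H12AlgSp.exists_dvr_square j η b hη
    obtain ⟨s, hs⟩ := H A (r ≫ h) l (by rw [← hjh, reassoc_of% hl]) ⟨y, by
      rw [Scheme.Hom.comp_apply, hr, hby]⟩
    let κ : Spec (CommRingCat.of (FractionRing A)) ⟶ Spec (CommRingCat.of A) :=
      Spec.map (CommRingCat.ofHom (algebraMap A (FractionRing A)))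
    have : IsDominant κ :=
      ⟨(PrimeSpectrum.denseRange_comap_iff_ker_le_nilRadical _).2 fun a ha => by
        rw [RingHom.mem_ker, CommRingCat.hom_ofHom] at ha
        have : a = 0 := IsFractionRing.injective A (FractionRing A) (ha.trans (map_zero _).symm)
        exact this ▸ zero_mem _⟩
    have hκ : κ ≫ s = l := by
      rw [← cancel_mono g, Category.assoc, hs, ← hjh, reassoc_of% hl]
    have hsj : s ≫ j = r := ext_of_isDominant_of_isSeparated h (by rw [Category.assoc, hjh, hs]) κ
      (by rw [← Category.assoc, hκ, hl])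
    exact hbj ⟨s (closedPoint A), by rw [← Scheme.Hom.comp_apply, hsj, hr]⟩
  let g' : G ⟶ T.toScheme := IsOpenImmersion.lift T.ι g (by
    rw [Scheme.Opens.range_ι]
    rintro _ ⟨y, rfl⟩
    exact hgT y)
  have hg' : g' ≫ T.ι = g := IsOpenImmersion.lift_fac _ _ _
  let V : Y'.Opens := h ⁻¹ᵁ T
  let j' : G ⟶ V.toScheme := IsOpenImmersion.lift V.ι j (by
    rw [Scheme.Opens.range_ι]
    rintro _ ⟨y, rfl⟩
    change h (j y) ∈ T
    rw [← Scheme.Hom.comp_apply, hjh]
    exact hgT y)
  have hj' : j' ≫ V.ι = j := IsOpenImmersion.lift_fac _ _ _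
  have : IsImmersion (j' ≫ V.ι) := by rw [hj']; infer_instance
  have : IsImmersion j' := IsImmersion.of_comp j' V.ι
  have hj'c : IsClosedImmersion j' := by
    refine IsClosedImmersion.of_isPreimmersion j' ?_
    have e : Set.range j' = V.ι ⁻¹' Set.range j := by
      ext v
      constructor
      · rintro ⟨y, rfl⟩
        exact ⟨y, by rw [← Scheme.Hom.comp_apply, hj']⟩
      · rintro ⟨y, hy⟩
        refine ⟨y, V.ι.isOpenEmbedding.injective ?_⟩
        rw [← Scheme.Hom.comp_apply, hj', hy]
    have e' : V.ι ⁻¹' Set.range j = V.ι ⁻¹' closure (Set.range j) := by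
      ext v
      refine ⟨fun hv => subset_closure hv, fun hv => ?_⟩
      by_contra hn
      exact v.2 ⟨v.1, ⟨hv, hn⟩, rfl⟩
    rw [e, e']
    exact isClosed_closure.preimage V.ι.continuous
  have : IsFinite (h ∣_ T) := inferInstance
  have hg'e : g' = j' ≫ (h ∣_ T) := by
    rw [← cancel_mono T.ι, hg', Category.assoc, morphismRestrict_ι, ← Category.assoc, hj', hjh]
  have : IsFinite g' := by rw [hg'e]; infer_instance
  have : Mono g' := mono_of_mono_fac hg'
  have : IsClosedImmersion g' := (IsClosedImmersion.iff_isFinite_and_mono g').2 ⟨inferInstance, inferInstance⟩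
  rw [← hg']
  infer_instance

/-- A quasi-compact monomorphism locally of finite type to a locally Noetherian scheme along which
traits lift is an immersion. -/
theorem isImmersion_of_traitLift {G U : Scheme.{u}} (g : G ⟶ U) [Mono g] [QuasiCompact g]
    [LocallyOfFiniteType g] [IsLocallyNoetherian U] (H : TraitLift g) : IsImmersion g := by
  refine (IsZariskiLocalAtTarget.iff_of_iSup_eq_top (P := @IsImmersion) _ (iSup_affineOpens_eq_top U)).2
    fun W => ?_
  have : IsAffine W.1.toScheme := W.2
  have : CompactSpace W.1.toScheme := inferInstance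
  have : Mono (g ∣_ W.1) := MorphismProperty.of_isPullback (P := MorphismProperty.monomorphisms Scheme.{u})
    (isPullback_morphismRestrict g W.1).flip ‹Mono g›
  refine isImmersion_of_traitLift_affine _ fun A _ _ _ i t hit hc => ?_
  obtain ⟨s, hs⟩ := H A (i ≫ W.1.ι) (t ≫ (g ⁻¹ᵁ W.1).ι) (by
    rw [Category.assoc, ← morphismRestrict_ι, reassoc_of% hit]) (by
    obtain ⟨y, hy⟩ := hc
    refine ⟨(g ⁻¹ᵁ W.1).ι y, ?_⟩
    rw [← Scheme.Hom.comp_apply, ← morphismRestrict_ι, Scheme.Hom.comp_apply, hy, Scheme.Hom.comp_apply])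
  exact ⟨(isPullback_morphismRestrict g W.1).lift i s hs.symm,
    (isPullback_morphismRestrict g W.1).lift_fst _ _ _⟩

end Groth.Agent.H14AlgSt
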