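import Groth.Agent.H14AlgSt.FieldPoint
import Groth.Agent.H14AlgSt.Descent
import Groth.Agent.H12AlgSp.RepBySp2
import Groth.Agent.H12AlgSp.LQFScheme2
import Groth.Agent.H12AlgSp.Unramified
import Groth.Agent.H13AlgSp.DecentCriteria
import Groth.Agent.S10519
import Groth.Agent.S10538
import Groth.Agent.H14AlgSt.MonoQC
import Groth.Agent.H14AlgSt.ValImmersion
import Groth.Agent.H14AlgSt.Diag2

/-!
# Quasi-compactness of monomorphisms which lift generically
-/

set_option autoImplicit false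
set_option backward.isDefEq.respectTransparency false
set_option backward.isDefEq.respectTransparency.types false

universe u

open CategoryTheory CategoryTheory.Functor Opposite AlgebraicGeometry CategoryTheory.Limits
open TopologicalSpace

noncomputable section

namespace Groth.Agent.H14AlgSt

open H14Fib H14Stk

/-- Quasi-compactness passes to a representing scheme. -/
theorem quasiCompact_of_isQCMor {S : Scheme.{u}} {U W : Over S} {G : AlgSp.Sp S} (hG : AlgSp.IsAlgSpace G)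
    (π : G ⟶ (AlgSp.yon S).obj U) (μ : (AlgSp.yon S).obj W ⟶ G) [IsIso μ] (γ : W ⟶ U)
    (hγ : μ ≫ π = (AlgSp.yon S).map γ) (h : AlgSp.IsQuasiCompactMor π) : QuasiCompact γ.left := by
  have sq : IsPullback μ ((AlgSp.yon S).map γ) π (𝟙 _) :=
    IsPullback.of_horiz_isIso ⟨by rw [hγ, Category.comp_id]⟩
  exact (isQuasiCompactMor_yon_iff γ).1 (H12AlgSp.isQuasiCompactMor_of_isPullback sq h)

/-- Local finite type passes to a representing scheme. -/
theorem lft_of_locP {S : Scheme.{u}} {U W : Over S} {G : AlgSp.Sp S} (hG : AlgSp.IsAlgSpace G)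
    (π : G ⟶ (AlgSp.yon S).obj U) (μ : (AlgSp.yon S).obj W ⟶ G) [IsIso μ] (γ : W ⟶ U)
    (hγ : μ ≫ π = (AlgSp.yon S).map γ) (h : AlgSp.LocP @LocallyOfFiniteType π) :
    LocallyOfFiniteType γ.left :=
  h μ (𝟙 _) γ (H12AlgSp.repWith_of_isIso μ) (AlgSp.repWith_id _ U) (by rw [Category.comp_id]; exact hγ)

variable {S : Scheme.{u}} {𝒳 𝒴 : AlgSt.Cat S}

local notation "K₀" => Scheme.fppfPrecoverage

/-- A quasi-compact monomorphism of stacks along which traits lift is an immersion. -/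
theorem repWith_immersion_of_traitLift (h𝒳 : AlgSt.IsAlgStack K₀ 𝒳)
    (hn : AlgSt.SmoothLocally (fun X => IsLocallyNoetherian X) 𝒳) {f : 𝒴 ⥤ᵇ 𝒳}
    (hlfp : AlgSt.RepByAlgSpWith (AlgSp.LocP @LocallyOfFinitePresentation) f)
    (ha : AlgSt.IsMono f)
    (hb : ∀ (A : Type u) [CommRing A] [IsDomain A] [IsDiscreteValuationRing A] (sA : Spec (CommRingCat.of A) ⟶ S)
      (a : FibCat.overCat (Over.mk sA) ⥤ᵇ 𝒳),
      (∃ yK : FibCat.overCat (Over.mk (Spec.map (CommRingCat.ofHom (algebraMap A (FractionRing A))) ≫ sA)) ⥤ᵇ 𝒴,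
          Nonempty (BasedFunctor.comp yK f ≅ BasedFunctor.comp (AlgSt.overMap (Over.homMk (Spec.map (CommRingCat.ofHom (algebraMap A (FractionRing A)))) rfl : Over.mk ((Spec.map (CommRingCat.ofHom (algebraMap A (FractionRing A)))) ≫ sA) ⟶ Over.mk sA)) a)) →
      (∃ yk : FibCat.overCat (Over.mk (Spec.map (CommRingCat.ofHom (IsLocalRing.residue A)) ≫ sA)) ⥤ᵇ 𝒴,
          Nonempty (BasedFunctor.comp yk f ≅ BasedFunctor.comp (AlgSt.overMap (Over.homMk (Spec.map (CommRingCat.ofHom (IsLocalRing.residue A))) rfl : Over.mk ((Spec.map (CommRingCat.ofHom (IsLocalRing.residue A))) ≫ sA) ⟶ Over.mk sA)) a)) →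
      ∃ y : FibCat.overCat (Over.mk sA) ⥤ᵇ 𝒴, Nonempty (BasedFunctor.comp y f ≅ a))
    (hqcf : AlgSt.RepByAlgSpWith AlgSp.IsQuasiCompactMor f) :
    AlgSt.RepByAlgSpWith (AlgSp.RepWith (@IsImmersion ⊓ @QuasiCompact)) f := by
  obtain ⟨U, x, hx, hxs⟩ := id h𝒳.atlas
  have := hn U x hx
  obtain ⟨G, e, he, hσ⟩ := hlfp U x
  let q := BasedFunctor.comp e (FibCat.fpFst x f)
  let π : G.obj ⟶ (AlgSp.yon S).obj U := AlgSt.spMapOfOver q
  obtain ⟨kq⟩ := spMapOfOver_eq q
  have hmono : Mono π :=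
    prop_of_repData (sourceIsoInv_of_respectsIso (MorphismProperty.monomorphisms (AlgSp.Sp S)))
      (ha U x) he kq
  have hl : AlgSp.LocP @LocallyOfFiniteType π :=
    H12AlgSp.locP_mono (fun _ _ g (_ : LocallyOfFinitePresentation g) =>
      (inferInstance : LocallyOfFiniteType g)) hσ
  obtain ⟨W, γ, μ, hμ, hγ⟩ := H12AlgSp.exists_iso_of_lqf_separated G.property
    (H12AlgSp.isSeparatedMor_of_mono π) (H12AlgSp.locP_lqf_of_mono G.property π hl)
  have : Mono γ := (AlgSp.yon S).mono_of_mono_map (show Mono ((AlgSp.yon S).map γ) by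
    rw [← hγ]; exact mono_comp _ _)
  have : Mono ((AlgSp.yon S).map γ) := by rw [← hγ]; exact mono_comp _ _
  let E := BasedFunctor.comp (BasedFunctor.comp (AlgSt.ofOverCat W) (AlgSt.ofSpMap μ)) e
  have : IsIso μ.hom := inferInstanceAs (IsIso ((sheafToPresheaf _ _).map μ))
  have hE : FibCat.IsEquivOver E := isEquivOver_comp (isEquivOver_comp (ofOverCat_isEquivOver W)
    (isEquivOver_ofPshMap μ.hom)) he
  let mγ : BasedFunctor.comp (BasedFunctor.comp (AlgSt.ofOverCat W) (AlgSt.ofSpMap (μ ≫ π)))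
      (AlgSt.toOverCat U) ≅ AlgSt.overMap γ := by
    rw [hγ]
    exact mkIso (fun s => Iso.refl _)
      (fun {_ _} φ => (Category.comp_id _).trans ((Category.id_comp _).trans
        (Over.OverMorphism.ext rfl)).symm)
      (fun s => IsHomLift.id rfl)
  let iE : BasedFunctor.comp E (FibCat.fpFst x f) ≅ AlgSt.overMap γ :=
    (Stk.restr (BasedFunctor.comp (AlgSt.ofOverCat W) (AlgSt.ofSpMap μ)) _).mapIso kq ≪≫ mγ
  let iW : BasedFunctor.comp (BasedFunctor.comp E (FibCat.fpSnd x f)) f ≅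
      BasedFunctor.comp (AlgSt.overMap γ) x :=
    ((Stk.restr E 𝒳).mapIso (FibCat.fpIso x f)).symm ≪≫ (post _ x).mapIso iE
  have hqc : QuasiCompact γ.left := by
    have h1 : AlgSp.IsQuasiCompactMor π :=
      prop_of_repData (BaseStable.sourceIsoInv fun _ _ _ _ _ _ _ _ _ _ _ _ sq h =>
        H12AlgSp.isQuasiCompactMor_of_isPullback sq h) (hqcf U x) he kq
    exact quasiCompact_of_isQCMor G.property π μ γ hγ h1
  have hlft : LocallyOfFiniteType γ.left := lft_of_locP G.property π μ γ hγ hl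
  have hlift : TraitLift γ.left := fun A _ _ _ i t hit hcl => by
    obtain ⟨w, hw⟩ := hcl
    let sA := i ≫ U.hom
    let c : Over.mk sA ⟶ U := Over.homMk i rfl
    let ρ := Spec.map (CommRingCat.ofHom (IsLocalRing.residue A))
    have hρ : ∀ z, ρ z = IsLocalRing.closedPoint A := fun z => by
      rw [Subsingleton.elim (α := PrimeSpectrum (IsLocalRing.ResidueField A)) z (IsLocalRing.closedPoint _)]
      exact IsLocalRing.comap_closedPoint (S := IsLocalRing.ResidueField A) (IsLocalRing.residue A)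
    let P := pullback γ.left (ρ ≫ i)
    have : Nonempty P := by
      obtain ⟨z, -⟩ := Scheme.Pullback.exists_preimage_pullback (f := γ.left) (g := ρ ≫ i) w
        (IsLocalRing.closedPoint _) (by
          rw [Scheme.Hom.comp_apply, hρ]
          exact hw)
      exact ⟨z⟩
    have : IsIso (pullback.snd γ.left (ρ ≫ i)) := H13AlgSp.isIso_of_mono_nonempty _
    let t' := inv (pullback.snd γ.left (ρ ≫ i)) ≫ pullback.fst γ.left (ρ ≫ i)
    have ht' : t' ≫ γ.left = ρ ≫ i := by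
      rw [Category.assoc, pullback.condition, IsIso.inv_hom_id_assoc]
    have key₀ : ∀ {B : Type u} [CommRing B] (q : Spec (CommRingCat.of B) ⟶ Spec (CommRingCat.of A))
        (l₀ : Spec (CommRingCat.of B) ⟶ W.left) (hl₀ : l₀ ≫ γ.left = q ≫ i),
        ∃ yp : FibCat.overCat (Over.mk (q ≫ sA)) ⥤ᵇ 𝒴, Nonempty (BasedFunctor.comp yp f ≅
          BasedFunctor.comp (AlgSt.overMap (Over.homMk q rfl : Over.mk (q ≫ sA) ⟶ Over.mk sA))
            (BasedFunctor.comp (AlgSt.overMap c) x)) := by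
      intro B _ q l₀ hl₀
      let l : Over.mk (q ≫ sA) ⟶ W := Over.homMk l₀ (by
        change l₀ ≫ W.hom = q ≫ i ≫ U.hom
        rw [← Over.w γ, ← Category.assoc, hl₀, Category.assoc])
      let r : Over.mk (q ≫ sA) ⟶ Over.mk sA := Over.homMk q rfl
      have hr : l ≫ γ = r ≫ c := Over.OverMorphism.ext hl₀
      exact ⟨BasedFunctor.comp (AlgSt.overMap l) (BasedFunctor.comp E (FibCat.fpSnd x f)),
        ⟨(Stk.restr (AlgSt.overMap l) 𝒳).mapIso iW ≪≫ (post _ x).mapIso
          (overMapCompIso l γ ≪≫ eqToIso (congrArg AlgSt.overMap hr) ≪≫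
            (overMapCompIso r c).symm)⟩⟩
    obtain ⟨y, ⟨j⟩⟩ := hb A sA (BasedFunctor.comp (AlgSt.overMap c) x) (key₀ _ t hit) (key₀ _ t' ht')
    let F : FibCat.overCat (Over.mk sA) ⥤ᵇ FibCat.fp x f :=
      FibCat.fpLift (AlgSt.overMap c) y j.symm
    obtain ⟨N, ⟨iN⟩, ⟨iN'⟩⟩ := id hE
    obtain ⟨l, ⟨jl⟩⟩ := exists_overMap_iso (BasedFunctor.comp F N)
    have key : l ≫ γ = c := overMap_injective ((overMapCompIso l γ).symm ≪≫
      (Stk.restr (AlgSt.overMap l) _).mapIso iE.symm ≪≫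
        (post _ (BasedFunctor.comp E (FibCat.fpFst x f))).mapIso jl.symm ≪≫
          (Stk.restr F _).mapIso ((post _ (FibCat.fpFst x f)).mapIso iN') ≪≫ Iso.refl _)
    exact ⟨l.left, congrArg (fun m : Over.mk sA ⟶ U => m.left) key⟩
  have himm : IsImmersion γ.left := isImmersion_of_traitLift _ hlift
  have hπq : AlgSp.RepWith (@IsImmersion ⊓ @QuasiCompact) π := by
    rw [show π = inv μ ≫ (AlgSp.yon S).map γ by rw [← hγ, IsIso.inv_hom_id_assoc]]
    exact H12AlgSp.repWith_comp (H12AlgSp.repWith_of_isIso _)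
      ((AlgSp.repWith_yon_map_iff _ _).2 ⟨himm, hqc⟩)
  let V : AlgSp.Space S := ⟨(AlgSp.yon S).obj U, AlgSp.IsAlgSpace.yon_obj U⟩
  let w : AlgSt.ofSp V.obj ⥤ᵇ 𝒳 := BasedFunctor.comp (AlgSt.toOverCat U) x
  obtain ⟨⟨_, _⟩, hUs⟩ := (isEquivOver_iff _).1 (toOverCat_isEquivOver U)
  have : (BasedFunctor.id 𝒴).toFunctor.Full := inferInstanceAs (Functor.id _).Full
  have : (BasedFunctor.id 𝒴).toFunctor.Faithful := inferInstanceAs (Functor.id _).Faithful
  have : (BasedFunctor.id 𝒳).toFunctor.Full := inferInstanceAs (Functor.id _).Full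
  have : (BasedFunctor.id 𝒳).toFunctor.Faithful := inferInstanceAs (Functor.id _).Faithful
  let M : FibCat.fp w f ⥤ᵇ FibCat.fp x f :=
    fpMap (F := x) (G := f) (AlgSt.toOverCat U) (BasedFunctor.id 𝒴) (BasedFunctor.id 𝒳)
      (Iso.refl _) (Iso.refl _)
  have hM : FibCat.IsEquivOver M := fpMap_isEquivOver _ _ _ _ _ hUs (essSurjOver_id _)
  obtain ⟨N, ⟨iN⟩, ⟨iN'⟩⟩ := id hM
  let e' := BasedFunctor.comp e N
  have : (post (AlgSt.ofSp G.obj) (AlgSt.toOverCat U)).Full := post_full _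
  have : (post (AlgSt.ofSp G.obj) (AlgSt.toOverCat U)).Faithful := post_faithful _
  let k : BasedFunctor.comp e' (FibCat.fpFst w f) ≅ AlgSt.ofSpMap π :=
    (post (AlgSt.ofSp G.obj) (AlgSt.toOverCat U)).preimageIso
      ((Stk.restr e _).mapIso ((post _ (FibCat.fpFst x f)).mapIso iN') ≪≫ kq)
  have hbase : BaseStable (S := S) (AlgSp.RepWith (@IsImmersion ⊓ @QuasiCompact)) :=
    fun _ _ _ _ _ _ _ _ _ _ _ _ sq h => H12AlgSp.repWith_of_isPullback sq h
  refine repWith_of_fppf (localFppf_of_fpqc (S10538.result S)) hbase.sourceIsoInv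
    (repByAlgSp1_of_with hlfp) ?_ ?_ ?_
    (repWith_fpFst_of_space hbase (isEquivOver_comp he ⟨M, ⟨iN'⟩, ⟨iN⟩⟩) k hπq)
  · exact (repWith_equiv_comp_iff (toOverCat_isEquivOver U)).1
      (repWith_locP_mono smooth_le_flat hx)
  · exact (repWith_equiv_comp_iff (toOverCat_isEquivOver U)).1
      (repWith_locP_mono smooth_le_lfp hx)
  · exact (repWith_equiv_comp_iff (toOverCat_isEquivOver U)).1 hxs

end Groth.Agent.H14AlgSt
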