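import Groth.Agent.H14AlgSt.DiagDescent
import Groth.Agent.H14AlgSt.Noeth
import Groth.Agent.H14AlgSt.QC
import Groth.Agent.H12AlgSp.AffineMor
import Groth.Agent.H13AlgSp.AffineLocal
import Groth.Prelude.Def_W4stkstmodspWNA

/-!
# Well-nigh affine stacks are quasi-compact, quasi-DM and separated
-/

set_option autoImplicit false
set_option backward.isDefEq.respectTransparency false
set_option backward.isDefEq.respectTransparency.types false

universe u

open CategoryTheory CategoryTheory.Limits AlgebraicGeometry Opposite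

noncomputable section

namespace Groth.Agent.H14AlgSt

open H14Fib H14Stk

variable {S : Scheme.{u}} {𝒳 : AlgSt.Cat S}

local notation "K₀" => Scheme.fppfPrecoverage

/-- A finite morphism of algebraic spaces is proper. -/
lemma isProperMor_of_isFiniteMor {F G : AlgSp.Sp S} (hF : AlgSp.IsAlgSpace F)
    (hG : AlgSp.IsAlgSpace G) {f : F ⟶ G} (hf : AlgSp.IsFiniteMor f) : AlgSp.IsProperMor f := by
  have h := H13AlgSp.isFiniteMor_iff.1 hf
  exact ⟨H12AlgSp.isSeparatedMor_of_repWith
      (H12AlgSp.repWith_le (fun _ _ j (_ : IsFinite j) => inferInstanceAs (IsSeparated j)) h),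
    ⟨H12AlgSp.locP_of_repWith H12AlgSp.etLocal_lft
      (H12AlgSp.repWith_le (fun _ _ j (_ : IsFinite j) => inferInstanceAs (LocallyOfFiniteType j)) h),
    H12AlgSp.isQuasiCompactMor_of_repWith hF hG
      (H12AlgSp.repWith_le (fun _ _ j (_ : IsFinite j) => inferInstanceAs (QuasiCompact j)) h)⟩,
    (H12AlgSp.repWith_universallyClosed_iff h.rep).1
      (H12AlgSp.repWith_le (fun _ _ j (_ : IsFinite j) => inferInstanceAs (UniversallyClosed j)) h)⟩

/-- A finite morphism of algebraic spaces is locally quasi-finite. -/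
lemma locP_quasiFinite_of_isFiniteMor {F G : AlgSp.Sp S} {f : F ⟶ G} (hf : AlgSp.IsFiniteMor f) :
    AlgSp.LocP (@LocallyQuasiFinite ⊓ @LocallyOfFiniteType) f :=
  H12AlgSp.locP_of_repWith etLocal_quasiFinite
    (H12AlgSp.repWith_le (fun _ _ j (_ : IsFinite j) =>
      ⟨inferInstanceAs (LocallyQuasiFinite j), inferInstanceAs (LocallyOfFiniteType j)⟩)
      (H13AlgSp.isFiniteMor_iff.1 hf))

lemma repWith_separated_toSelf_overCat (U : Over S) [IsSeparated U.hom] :
    AlgSt.RepByAlgSpWith AlgSp.IsSeparatedMor (FibCat.toSelf (FibCat.overCat U)) := by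
  let c : U ⟶ Over.mk (𝟙 S) := Over.homMk U.hom (Category.comp_id _)
  have hr : AlgSp.RepWith @IsSeparated ((AlgSp.yon S).map c) :=
    (AlgSp.repWith_yon_map_iff @IsSeparated c).2 (inferInstanceAs (IsSeparated U.hom))
  have h : AlgSt.RepByAlgSpWith AlgSp.IsSeparatedMor (AlgSt.ofSpMap ((AlgSp.yon S).map c)) :=
    repWith_ofSpMap_of_representable _ _ hr.rep fun _ _ _ _ _ sq =>
      H12AlgSp.isSeparatedMor_of_repWith (H12AlgSp.repWith_of_isPullback sq hr)
  have h' : AlgSt.RepByAlgSpWith AlgSp.IsSeparatedMor (AlgSt.overMap c) := by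
    refine repWith_of_iso (mkIso (fun s => Iso.refl _)
        (fun {_ _} φ => (Category.comp_id _).trans ((Category.id_comp _).trans
          (Over.OverMorphism.ext rfl)).symm)
        (fun s => IsHomLift.id rfl) :
      BasedFunctor.comp (BasedFunctor.comp (AlgSt.ofOverCat U) (AlgSt.ofSpMap ((AlgSp.yon S).map c)))
        (AlgSt.toOverCat (Over.mk (𝟙 S))) ≅ AlgSt.overMap c) ?_
    exact (repWith_comp_equiv_iff (toOverCat_isEquivOver _)).2
      ((repWith_equiv_comp_iff (ofOverCat_isEquivOver U)).1 h)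
  rw [← comp_toSelf (AlgSt.overMap c)]
  exact (repWith_comp_equiv_iff toSelf_final_isEquivOver).2 h'

lemma cancelsLeft_proper : CancelsLeft (S := S) AlgSp.IsProperMor AlgSp.IsSeparatedMor :=
  fun _ _ _ hA hB hC _ _ hb h => H12AlgSp.isProperMor_of_comp hA hB hC h hb

/-- A finite, flat, locally finitely presented chart by a scheme separated over the base makes the
stack separated. -/
theorem isSeparatedOver_of_finite_chart (hX : AlgSt.IsAlgStack K₀ 𝒳) {U : Over S}
    [IsSeparated U.hom] {x : FibCat.overCat U ⥤ᵇ 𝒳}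
    (h1 : AlgSt.RepByAlgSpWith (AlgSp.LocP @Flat) x)
    (h2 : AlgSt.RepByAlgSpWith (AlgSp.LocP @LocallyOfFinitePresentation) x)
    (h3 : AlgSt.RepByAlgSpWith AlgSp.IsSurjectiveMor x)
    (h4 : AlgSt.RepByAlgSpWith AlgSp.IsFiniteMor x) : AlgSt.IsSeparatedOver 𝒳 := by
  let H := FibCat.toSelf 𝒳
  have hU := repByAlgSp_overCat U
  have hR : AlgSt.RepByAlgSp (FibCat.fp x x) := repByAlgSp1_of_with h4 U x
  have hQ : AlgSt.RepByAlgSp (FibCat.fp (BasedFunctor.comp x H) (BasedFunctor.comp x H)) := by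
    rw [comp_toSelf]
    exact repByAlgSp_prod hU hU
  have hp : AlgSt.RepByAlgSpWith AlgSp.IsProperMor x :=
    repWith_mono (fun _ hF hG h => isProperMor_of_isFiniteMor hF hG h) h4
  refine repWith_diag_of_atlas localFppf_proper baseStable_proper.sourceIsoInv hX.diag h1 h2 h3 ?_
  refine repWith_cancel baseStable_proper cancelsLeft_proper
    (isFibSetoid_of_rep hR).1 (isFibSetoid_of_rep hQ).1
    (g := FibCat.fpFst (BasedFunctor.comp x H) (BasedFunctor.comp x H))
    (repByAlgSp1_of_rep hR hQ _) (repWith_fpFst x hp) (repWith_fpFst _ ?_)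
  rw [comp_toSelf]
  exact repWith_separated_toSelf_overCat U

end Groth.Agent.H14AlgSt
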