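import Groth.Agent.H14AlgSt.Rep
import Groth.Agent.H14AlgSt.Invariance
import Groth.Agent.H12AlgSp.FinLocFreeQuot
import Groth.Agent.H12AlgSp.HilbQuot
import Groth.Agent.H12AlgSp.AffineMor
import Groth.Agent.H12AlgSp.RepBySp
import Groth.Agent.H7Lim.Chevalley

/-!
# An algebraic space with a finite locally free cover by an affine scheme is affine
-/

set_option autoImplicit false
set_option backward.isDefEq.respectTransparency false
set_option backward.isDefEq.respectTransparency.types false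

universe u

open CategoryTheory CategoryTheory.Limits AlgebraicGeometry Opposite
open Groth.Agent.H13AlgSp

noncomputable section

namespace Groth.Agent.H14AlgSt

variable {S : Scheme.{u}}

lemma exists_affine_of_finLocFree_cover {F : AlgSp.Sp S} {U : Over S} [IsAffine U.left]
    {e : (AlgSp.yon S).obj U ⟶ F} (hfin : AlgSp.RepWith @IsFinite e) (hflat : AlgSp.RepWith @Flat e)
    (hfp : AlgSp.RepWith @LocallyOfFinitePresentation e) (hsur : AlgSp.RepWith @Surjective e) :
    ∃ M : Over S, IsAffine M.left ∧ Nonempty ((AlgSp.yon S).obj M ≅ F) := by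
  obtain ⟨R, s, t', sq⟩ := hfin.rep e
  obtain ⟨t, rfl⟩ := (AlgSp.yon S).map_surjective t'
  have hsfin : IsFinite s.left := hfin.property _ _ s sq
  have hsflat : Flat s.left := hflat.property _ _ s sq
  have hsfp : LocallyOfFinitePresentation s.left := hfp.property _ _ s sq
  obtain ⟨Γ, hΓU, hΓR, hpU, hs, ht, hj⟩ := H12AlgSp.Hilb.exists_groupoid sq
  obtain ⟨U₀, R₀, pU, pR, s₀, t₀, e₀, i₀, c₀, sO, tO, cs, ct, as, es, et, ce, ec, is', it', ci, ic⟩ := Γ
  dsimp only at hΓU hΓR hpU hs ht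
  subst hΓU hΓR
  simp only [eqToHom_refl, Category.id_comp, Category.comp_id] at hpU hs ht
  subst hpU hs ht
  let Γ : Grpd.GroupoidScheme S := ⟨U.left, R.left, U.hom, pR, s.left, t.left, e₀, i₀, c₀, sO, tO, cs, ct, as, es, et,
    ce, ec, is', it', ci, ic⟩
  have : IsFinite Γ.s := hsfin
  have : Flat Γ.s := hsflat
  have : LocallyOfFinitePresentation Γ.s := hsfp
  have : Mono Γ.j := hj
  have hb : ∀ x : Γ.U, ∃ V : Γ.U.Opens, IsAffineOpen V ∧ Γ.t.base '' (Γ.s.base ⁻¹' {x}) ⊆ (V : Set Γ.U) :=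
    fun x => ⟨⊤, isAffineOpen_top U.left, fun _ _ => trivial⟩
  obtain ⟨M, m, hm1, hm2, hm3, sqm, hq⟩ := H12AlgSp.exists_finLocFree_quotient (G := Γ) hb
  let m' : U ⟶ M := m
  have hms : Surjective m'.left := H12AlgSp.surjective_of_isQuotient hq
  have : IsFinite m'.left := hm1
  have hM : IsAffine M.left := H7Lim.Chevalley.isAffine_of_universallyClosed_surjective m'.left
  refine ⟨M, hM, ?_⟩
  have sqo : IsPullback t s m' m' := IsPullback.of_map_of_faithful (Over.forget S) sqm
  have sqy := sqo.map (AlgSp.yon S)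
  have hepiM : Epi ((AlgSp.yon S).map m') := epi_of_local_lifts _ fun T y => by
    obtain ⟨y, rfl⟩ := (AlgSp.yon S).map_surjective y
    refine ⟨PUnit.{u + 1}, fun _ => pullback m' y, fun _ => pullback.snd m' y, ?_,
      fun _ => ⟨(AlgSp.yon S).map (pullback.fst m' y), by
        rw [← Functor.map_comp, ← Functor.map_comp, pullback.condition]⟩⟩
    have sqT : IsPullback (pullback.fst m' y).left (pullback.snd m' y).left m'.left y.left :=
      (IsPullback.of_hasPullback m' y).map (Over.forget S)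
    have hS : Surjective (pullback.snd m' y).left := MorphismProperty.of_isPullback sqT hms
    exact ofArrows_mem_J _ (fun _ => MorphismProperty.of_isPullback sqT hm2)
      (fun _ => MorphismProperty.of_isPullback sqT hm3) fun w => ⟨⟨⟩, hS.surj w⟩
  have hepiF : Epi e := epi_of_local_lifts _ fun T y => by
    obtain ⟨P, c, v, sqP⟩ := hfin.rep y
    exact ⟨PUnit.{u + 1}, fun _ => P, fun _ => c, ofArrows_mem_J _ (fun _ => hflat.property _ _ c sqP)
      (fun _ => hfp.property _ _ c sqP) (fun w => ⟨⟨⟩, (hsur.property _ _ c sqP).surj w⟩),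
      fun _ => ⟨v, sqP.w⟩⟩
  have r1 : IsRegularEpi ((AlgSp.yon S).map m') := IsRegularEpiCategory.regularEpiOfEpi _
  have r2 : IsRegularEpi e := IsRegularEpiCategory.regularEpiOfEpi _
  let h1 := IsKernelPair.toCoequalizer' sqy
  let h2 := IsKernelPair.toCoequalizer' sq
  exact ⟨h1.coconePointUniqueUpToIso h2⟩

/-- Representability by spaces with finite flat properties gives it by schemes. -/
lemma repWith_of_repBySpWith_finite {F G : AlgSp.Sp S} (q : F ⟶ G)
    (h : AlgSp.RepBySpWith (AlgSp.IsSurjectiveMor ⊓ AlgSp.LocP @Flat ⊓ AlgSp.IsFiniteMor ⊓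
      AlgSp.LocP @LocallyOfFinitePresentation) q.hom) :
    AlgSp.RepWith @IsFinite q ∧ AlgSp.RepWith @Flat q ∧
      AlgSp.RepWith @LocallyOfFinitePresentation q ∧ AlgSp.RepWith @Surjective q := by
  have key : ∀ {T : Over S} (x : (AlgSp.yon S).obj T ⟶ G), ∃ (W : Over S) (v : (AlgSp.yon S).obj W ⟶ F)
      (c : W ⟶ T), IsPullback v ((AlgSp.yon S).map c) q x ∧ IsFinite c.left ∧ Flat c.left ∧
        LocallyOfFinitePresentation c.left ∧ Surjective c.left := by
    intro T x
    have sqP := IsPullback.of_hasPullback q x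
    obtain ⟨hP, hA, ⟨⟨⟨hs, hfl⟩, hfi⟩, hfp⟩⟩ := h x.hom _ _ (sqP.map (sheafToPresheaf _ _))
    have hfi' : AlgSp.IsFiniteMor (pullback.snd q x) := hfi
    have hfin := H13AlgSp.isFiniteMor_iff.1 hfi'
    have hflat : AlgSp.RepWith @Flat (pullback.snd q x) :=
      H12AlgSp.repWith_of_locP H12AlgSp.etLocal_flat (AlgSp.IsAlgSpace.yon_obj T) hfin.1 hfl
    have hlfp : AlgSp.RepWith @LocallyOfFinitePresentation (pullback.snd q x) :=
      H12AlgSp.repWith_of_locP H12AlgSp.etLocal_lfp (AlgSp.IsAlgSpace.yon_obj T) hfin.1 hfp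
    have hsurj : AlgSp.RepWith @Surjective (pullback.snd q x) :=
      H12AlgSp.repWith_surjective_of_map hfin.1 hs
    obtain ⟨W, c, v, sqW⟩ := hfin.rep (𝟙 ((AlgSp.yon S).obj T))
    refine ⟨W, v ≫ pullback.fst q x, c, ?_, hfin.property _ _ c sqW, hflat.property _ _ c sqW,
      hlfp.property _ _ c sqW, hsurj.property _ _ c sqW⟩
    have := sqW.paste_horiz sqP
    rwa [Category.id_comp] at this
  refine ⟨?_, ?_, ?_, ?_⟩ <;> refine MorphismProperty.relative.of_exists fun T x => ?_
  · obtain ⟨W, v, c, sqc, h1, -, -, -⟩ := key x; exact ⟨W, v, c, sqc, h1⟩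
  · obtain ⟨W, v, c, sqc, -, h1, -, -⟩ := key x; exact ⟨W, v, c, sqc, h1⟩
  · obtain ⟨W, v, c, sqc, -, -, h1, -⟩ := key x; exact ⟨W, v, c, sqc, h1⟩
  · obtain ⟨W, v, c, sqc, -, -, -, h1⟩ := key x; exact ⟨W, v, c, sqc, h1⟩

end Groth.Agent.H14AlgSt
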